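import Mathlib
import Cfsg.Prelude.Def_Characters

/-!
# Permutation characters `indFun U (fun _ => 1)`: fixed-point formula

`indFun U 1 g` is the number of cosets of `U` fixed by `g`.
-/

set_option autoImplicit false

namespace Cfsg.Agent.Lib.Helper15

open Cfsg

/-- Value of `extendByZero` of the constant function `1`. -/
theorem extendByZero_one_apply {G : Type*} [Group G] (U : Subgroup G) [DecidablePred (· ∈ U)] (y : G) :
    extendByZero U (fun _ => (1 : ℂ)) y = if y ∈ U then 1 else 0 := by
  unfold extendByZero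
  by_cases hy : y ∈ U
  · rw [if_pos hy]
    have : y = ((⟨y, hy⟩ : U) : G) := rfl
    rw [this, Subtype.val_injective.extend_apply]
  · rw [if_neg hy]
    apply Function.extend_apply'
    rintro ⟨a, ha⟩
    exact hy (ha ▸ a.2)

/-- `indFun U 1 g` counts the elements `x` with `x⁻¹ g x ∈ U`, divided by `|U|`. -/
theorem indFun_one_apply {G : Type*} [Group G] [Fintype G] (U : Subgroup G) (g : G) :
    indFun U (fun _ => (1 : ℂ)) g
      = (Nat.card U : ℂ)⁻¹ * (Nat.card {x : G // x⁻¹ * g * x ∈ U} : ℂ) := by
  classical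
  unfold indFun
  congr 1
  simp only [extendByZero_one_apply]
  rw [Finset.sum_ite, Finset.sum_const_zero, add_zero, Finset.sum_const, nsmul_eq_mul, mul_one,
    Nat.card_eq_fintype_card, Fintype.card_subtype]

/-- The elements `x` with `x⁻¹ g x ∈ U` form the preimage of the set of fixed cosets. -/
theorem conj_mem_iff_smul_mk_eq {G : Type*} [Group G] (U : Subgroup G) (g x : G) :
    x⁻¹ * g * x ∈ U ↔ g • (x : G ⧸ U) = (x : G ⧸ U) := by
  rw [MulAction.Quotient.smul_mk, eq_comm, QuotientGroup.eq, smul_eq_mul, mul_assoc]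

theorem card_conj_mem {G : Type*} [Group G] [Finite G] (U : Subgroup G) (g : G) :
    Nat.card {x : G // x⁻¹ * g * x ∈ U}
      = Nat.card U * Nat.card {q : G ⧸ U // g • q = q} := by
  have e := QuotientGroup.preimageMkEquivSubgroupProdSet U {q : G ⧸ U | g • q = q}
  have h1 : Nat.card {x : G // x⁻¹ * g * x ∈ U}
      = Nat.card ((QuotientGroup.mk : G → G ⧸ U) ⁻¹' {q : G ⧸ U | g • q = q}) := by
    apply Nat.card_congr
    apply Equiv.subtypeEquivRight
    intro x
    rw [conj_mem_iff_smul_mk_eq]
    rfl
  rw [h1, Nat.card_congr e, Nat.card_prod]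
  rfl

/-- **Fixed point formula**: the permutation character counts fixed cosets. -/
theorem indFun_one_eq_card_fixed {G : Type*} [Group G] [Fintype G] (U : Subgroup G) (g : G) :
    indFun U (fun _ => (1 : ℂ)) g = (Nat.card {q : G ⧸ U // g • q = q} : ℂ) := by
  rw [indFun_one_apply, card_conj_mem, Nat.cast_mul, ← mul_assoc, inv_mul_cancel₀, one_mul]
  have : Nat.card U ≠ 0 := Nat.card_pos.ne'
  exact_mod_cast this

end Cfsg.Agent.Lib.Helper15
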