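import Mathlib
import Cfsg.Prelude.Def_CharExt
import Cfsg.Agent.Lib.Helper3.CharValues
import Cfsg.Agent.Lib.Helper80.CharBasic

/-!
# Determinantal characters (helper15)

Foundations for `Cfsg.detChar` (Def_CharExt), for a finite group `G`.

* `prod_eq_of_psum_eq`: families of complex numbers with equal positive power sums have equal products
  (Newton's identities).
* `det_eq_of_character_eq`: representations with the same character have the same determinant.
* `detChar_eq_det`: `detChar ρ.character g = det (ρ g)` for ANY finite-dimensional representation.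
* `detHom`, `exists_detHom`: `detChar χ` is given by a homomorphism `G →* ℂˣ`.
* `detChar_res`: `detChar` commutes with restriction to subgroups.
* `twistRep`, `detChar_linear_mul`: `det (β η) = β ^ η(1) * det η` for linear `β`.
-/

set_option autoImplicit false

namespace Cfsg.Agent.Lib.Helper15

open Cfsg Module

/-- Two finite families of complex numbers with the same positive power sums have the same
product (Newton's identities). -/
theorem prod_eq_of_psum_eq {σ : Type*} [Fintype σ] (μ μ' : σ → ℂ)
    (h : ∀ k : ℕ, 0 < k → ∑ i, μ i ^ k = ∑ i, μ' i ^ k) : ∏ i, μ i = ∏ i, μ' i := by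
  classical
  have hP : ∀ (ν : σ → ℂ) (k : ℕ), MvPolynomial.aeval ν (MvPolynomial.psum σ ℂ k) = ∑ i, ν i ^ k := by
    intro ν k
    simp [MvPolynomial.psum]
  have hN : ∀ (ν : σ → ℂ) (k : ℕ), (k : ℂ) * MvPolynomial.aeval ν (MvPolynomial.esymm σ ℂ k) =
      (-1) ^ (k + 1) * ∑ a ∈ (Finset.HasAntidiagonal.antidiagonal k).filter (fun a : ℕ × ℕ => a.1 < k),
        (-1) ^ a.1 * MvPolynomial.aeval ν (MvPolynomial.esymm σ ℂ a.1) * ∑ i, ν i ^ a.2 := by
    intro ν k
    have := congrArg (MvPolynomial.aeval ν) (MvPolynomial.mul_esymm_eq_sum σ ℂ k)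
    simp only [map_mul, map_natCast, map_pow, map_neg, map_one, map_sum, hP] at this
    exact this
  have hE : ∀ k : ℕ, MvPolynomial.aeval μ (MvPolynomial.esymm σ ℂ k) =
      MvPolynomial.aeval μ' (MvPolynomial.esymm σ ℂ k) := by
    intro k
    induction k using Nat.strong_induction_on with
    | _ k ih =>
      rcases Nat.eq_zero_or_pos k with hk | hk
      · subst hk
        simp
      · have hk0 : (k : ℂ) ≠ 0 := by exact_mod_cast hk.ne'
        apply mul_left_cancel₀ hk0
        rw [hN μ k, hN μ' k]
        congr 1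
        apply Finset.sum_congr rfl
        intro a ha
        rw [Finset.mem_filter, Finset.HasAntidiagonal.mem_antidiagonal] at ha
        rw [ih a.1 ha.2, h a.2 (by omega)]
  have hprod : ∀ ν : σ → ℂ,
      MvPolynomial.aeval ν (MvPolynomial.esymm σ ℂ (Fintype.card σ)) = ∏ i, ν i := by
    intro ν
    rw [MvPolynomial.esymm, ← Finset.card_univ, Finset.powersetCard_self]
    simp
  rw [← hprod μ, ← hprod μ', hE]

section Det

variable {G : Type*} [Group G] [Finite G]

/-- The determinant of an endomorphism in an eigenbasis. -/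
theorem det_eq_prod_of_eigenbasis {V : Type*} [AddCommGroup V] [Module ℂ V] {ι : Type*} [Fintype ι]
    [DecidableEq ι] (f : Module.End ℂ V) (b : Basis ι ℂ V) (μ : ι → ℂ)
    (hb : ∀ i, f (b i) = μ i • b i) : LinearMap.det f = ∏ i, μ i := by
  rw [← LinearMap.det_toMatrix b]
  have : LinearMap.toMatrix b b f = Matrix.diagonal μ := by
    ext i j
    rw [LinearMap.toMatrix_apply, hb j, Matrix.diagonal_apply]
    simp only [map_smul, Finsupp.smul_apply, smul_eq_mul, Basis.repr_self]
    rw [Finsupp.single_apply]
    split_ifs with h1 h2 h2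
    · subst h1; simp
    · exact absurd h1.symm h2
    · exact absurd h2.symm h1
    · simp
  rw [this, Matrix.det_diagonal]

/-- Representations of a finite group with the same character have the same determinant. -/
theorem det_eq_of_character_eq {V V' : Type*} [AddCommGroup V] [Module ℂ V] [FiniteDimensional ℂ V]
    [AddCommGroup V'] [Module ℂ V'] [FiniteDimensional ℂ V'] (ρ : Representation ℂ G V)
    (ρ' : Representation ℂ G V') (h : ρ.character = ρ'.character) (g : G) :
    LinearMap.det (ρ g) = LinearMap.det (ρ' g) := by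
  classical
  obtain ⟨b, μ, hb, -⟩ := Cfsg.Agent.Lib.Helper3.exists_eigenbasis ρ g
  obtain ⟨b', μ', hb', -⟩ := Cfsg.Agent.Lib.Helper3.exists_eigenbasis ρ' g
  have hdim : finrank ℂ V = finrank ℂ V' := by
    have := congrFun h 1
    rw [Representation.char_one, Representation.char_one] at this
    exact_mod_cast this
  have hpow : ∀ (k : ℕ) (i), ρ (g ^ k) (b i) = μ i ^ k • b i := by
    intro k i
    induction k with
    | zero => simp
    | succ k ih =>
      rw [pow_succ', map_mul, Module.End.mul_apply, ih, map_smul, hb i, smul_smul, pow_succ]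
  have hpow' : ∀ (k : ℕ) (i), ρ' (g ^ k) (b' i) = μ' i ^ k • b' i := by
    intro k i
    induction k with
    | zero => simp
    | succ k ih =>
      rw [pow_succ', map_mul, Module.End.mul_apply, ih, map_smul, hb' i, smul_smul, pow_succ]
  rw [det_eq_prod_of_eigenbasis (ρ g) b μ hb, det_eq_prod_of_eigenbasis (ρ' g) b' μ' hb']
  let e : Fin (finrank ℂ V) ≃ Fin (finrank ℂ V') := finCongr hdim
  have hre : ∏ i, μ' i = ∏ i, μ' (e i) := (Equiv.prod_comp e μ').symm
  rw [hre]
  apply prod_eq_of_psum_eq
  intro k _
  rw [Equiv.sum_comp e (fun j => μ' j ^ k)]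
  rw [← Cfsg.Agent.Lib.Helper3.character_eq_sum_of_eigenbasis ρ (g ^ k) b (fun i => μ i ^ k)
      (hpow k),
    ← Cfsg.Agent.Lib.Helper3.character_eq_sum_of_eigenbasis ρ' (g ^ k) b' (fun i => μ' i ^ k)
      (hpow' k), h]

/-- The determinantal character can be computed in any representation affording the
character. -/
theorem detChar_eq_det {V : Type*} [AddCommGroup V] [Module ℂ V] [FiniteDimensional ℂ V]
    (ρ : Representation ℂ G V) (g : G) :
    Cfsg.detChar ρ.character g = LinearMap.det (ρ g) := by
  have hc : IsCharacter G ρ.character := Cfsg.Agent.Lib.Helper80.isCharacter_of_rep ρ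
  unfold Cfsg.detChar
  rw [dif_pos hc]
  exact det_eq_of_character_eq _ ρ (Classical.choose_spec (Classical.choose_spec hc)) g

end Det

section API

variable {G : Type*} [Group G] [Finite G]

/-- The determinant of a representation as a homomorphism to `ℂˣ`. -/
noncomputable def detHom {V : Type*} [AddCommGroup V] [Module ℂ V] (ρ : Representation ℂ G V) :
    G →* ℂˣ :=
  ((LinearMap.det : (V →ₗ[ℂ] V) →* ℂ).comp ρ).toHomUnits

omit [Finite G] in
theorem detHom_apply {V : Type*} [AddCommGroup V] [Module ℂ V] (ρ : Representation ℂ G V) (g : G) :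
    ((detHom ρ g : ℂˣ) : ℂ) = LinearMap.det (ρ g) := rfl

/-- The determinantal character of a character is given by a homomorphism to `ℂˣ`. -/
theorem exists_detHom {χ : G → ℂ} (hχ : IsCharacter G χ) :
    ∃ δ : G →* ℂˣ, ∀ g, Cfsg.detChar χ g = ((δ g : ℂˣ) : ℂ) := by
  obtain ⟨n, ρ, rfl⟩ := hχ
  exact ⟨detHom ρ, fun g => by rw [detChar_eq_det ρ g, detHom_apply]⟩

/-- The determinantal character commutes with restriction to a subgroup. -/
theorem detChar_res (H : Subgroup G) {χ : G → ℂ} (hχ : IsCharacter G χ) (h : H) :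
    Cfsg.detChar (fun x : H => χ x) h = Cfsg.detChar χ h := by
  obtain ⟨n, ρ, rfl⟩ := hχ
  let ρH : Representation ℂ H (Fin n → ℂ) := MonoidHom.comp ρ H.subtype
  have h1 : (fun x : H => ρ.character x) = ρH.character := by
    funext x
    rfl
  rw [h1, detChar_eq_det, detChar_eq_det]
  rfl

/-- The twist of a representation by a homomorphism to `ℂˣ`. -/
noncomputable def twistRep {V : Type*} [AddCommGroup V] [Module ℂ V] (β : G →* ℂˣ)
    (ρ : Representation ℂ G V) : Representation ℂ G V where
  toFun g := ((β g : ℂˣ) : ℂ) • ρ g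
  map_one' := by simp
  map_mul' a b := by
    rw [map_mul, map_mul, Units.val_mul]
    ext v
    simp [mul_smul, smul_comm ((β b : ℂˣ) : ℂ) ((β a : ℂˣ) : ℂ)]

omit [Finite G] in
theorem twistRep_character {V : Type*} [AddCommGroup V] [Module ℂ V] (β : G →* ℂˣ)
    (ρ : Representation ℂ G V) (g : G) :
    (twistRep β ρ).character g = ((β g : ℂˣ) : ℂ) * ρ.character g := by
  unfold Representation.character twistRep
  simp

/-- The determinantal character of the product of a linear character and a character. -/
theorem detChar_linear_mul (β : G →* ℂˣ) {η : G → ℂ} (hη : IsCharacter G η) (d : ℕ)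
    (hd : η 1 = d) (g : G) :
    Cfsg.detChar ((fun x => ((β x : ℂˣ) : ℂ)) * η) g =
      ((β g : ℂˣ) : ℂ) ^ d * Cfsg.detChar η g := by
  obtain ⟨n, ρ, rfl⟩ := hη
  have hn : n = d := by
    rw [Representation.char_one] at hd
    have : ((n : ℕ) : ℂ) = d := by simpa using hd
    exact_mod_cast this
  have h1 : (fun x => ((β x : ℂˣ) : ℂ)) * ρ.character = (twistRep β ρ).character := by
    funext x
    rw [Pi.mul_apply, twistRep_character]
  rw [h1, detChar_eq_det, detChar_eq_det]
  show LinearMap.det (((β g : ℂˣ) : ℂ) • ρ g) = _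
  rw [LinearMap.det_smul]
  simp [hn]

end API

end Cfsg.Agent.Lib.Helper15
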