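import Mathlib
import Cfsg.Agent.Lib.Helper15.DetChar
import Cfsg.Agent.Lib.Helper33.NormalIndexP

/-!
# More on determinantal characters (helper15)

* `detChar_comp_hom`: `detChar (χ ∘ f) = detChar χ ∘ f` for a homomorphism `f` of finite groups.
* `exists_normal_prime_index_of_solvable_quotient`: `N ⊲ G` proper with `G ⧸ N` solvable: there is a
  normal subgroup of prime index containing `N`.
-/

set_option autoImplicit false

namespace Cfsg.Agent.Lib.Helper15

open Cfsg

/-- The determinantal character commutes with composition with a homomorphism. -/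
theorem detChar_comp_hom {H G : Type*} [Group H] [Finite H] [Group G] [Finite G] (f : H →* G)
    {χ : G → ℂ} (hχ : IsCharacter G χ) (h : H) :
    Cfsg.detChar (fun x : H => χ (f x)) h = Cfsg.detChar χ (f h) := by
  obtain ⟨n, ρ, rfl⟩ := hχ
  let ρH : Representation ℂ H (Fin n → ℂ) := MonoidHom.comp ρ f
  have h1 : (fun x : H => ρ.character (f x)) = ρH.character := by
    funext x
    rfl
  rw [h1, detChar_eq_det, detChar_eq_det]
  rfl

/-- A finite group with a proper normal subgroup `N` and solvable quotient `G ⧸ N` has a normal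
subgroup of prime index containing `N`. -/
theorem exists_normal_prime_index_of_solvable_quotient {G : Type*} [Group G] [Finite G]
    (N : Subgroup G) [N.Normal] (hsolv : Group.IsSolvable (G ⧸ N)) (hN : N ≠ ⊤) :
    ∃ M : Subgroup G, M.Normal ∧ N ≤ M ∧ M.index.Prime := by
  have hnt : Nontrivial (G ⧸ N) := by
    rw [← Finite.one_lt_card_iff_nontrivial, ← Subgroup.index_eq_card]
    have h1 : N.index ≠ 1 := fun h => hN (Subgroup.index_eq_one.mp h)
    have h0 : N.index ≠ 0 := Subgroup.index_ne_zero_of_finite
    omega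
  have hlt : commutator (G ⧸ N) < ⊤ := Group.IsSolvable.commutator_lt_top_of_nontrivial (G ⧸ N)
  have hA : 1 < Nat.card (Abelianization (G ⧸ N)) := by
    show 1 < Nat.card ((G ⧸ N) ⧸ commutator (G ⧸ N))
    rw [← Subgroup.index_eq_card]
    have h1 : (commutator (G ⧸ N)).index ≠ 1 := fun h => hlt.ne (Subgroup.index_eq_one.mp h)
    have h0 : (commutator (G ⧸ N)).index ≠ 0 := Subgroup.index_ne_zero_of_finite
    omega
  obtain ⟨p, hp, hpd⟩ := Nat.exists_prime_and_dvd hA.ne'
  have : Fact p.Prime := ⟨hp⟩
  obtain ⟨H, hH⟩ := Cfsg.Agent.Lib.Helper33.exists_index_eq_prime_of_comm hpd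
  have hHn : H.Normal := Subgroup.normal_of_isMulCommutative H
  refine ⟨(H.comap Abelianization.of).comap (QuotientGroup.mk' N), ?_, ?_, ?_⟩
  · exact (hHn.comap _).comap _
  · intro x hx
    rw [Subgroup.mem_comap, Subgroup.mem_comap]
    have : QuotientGroup.mk' N x = 1 := (QuotientGroup.eq_one_iff x).mpr hx
    rw [this, map_one]
    exact H.one_mem
  · rw [Subgroup.index_comap_of_surjective _ (QuotientGroup.mk'_surjective N),
      Subgroup.index_comap_of_surjective _ (QuotientGroup.mk_surjective (s := commutator (G ⧸ N))), hH]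
    exact hp

end Cfsg.Agent.Lib.Helper15
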