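import Mathlib
import Cfsg.Agent.Lib.Helper75.Clifford2
import Cfsg.Agent.Lib.Helper79.Integrality
import Cfsg.Agent.Lib.Helper80.CharBasic
import Cfsg.Agent.S0148

/-!
# Gallagher-type correspondence (Isaacs 6.16 / 6.17) (helper15)

* `nat_matrix_rigidity`: combinatorial rigidity lemma for natural matrices.
* `indFun_mul_res`: `(φ · χ|_H)^G = φ^G · χ`.
* `indFun_apply_of_invariant`, `classInner_indFun_self_of_invariant`: for an invariant `φ ∈ Irr(N)`,
  `N ⊲ G`: `φ^G = |G:N| φ` on `N` and `[φ^G, φ^G] = |G:N|`.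
* `gallagher_core`: `N ⊲ G`, `φ, ϑ ∈ Irr(N)` invariant, `φ ϑ` irreducible, `χ ∈ Irr(G)` extending `ϑ`:
  `β ↦ β χ` is a bijection `Irr(G | φ) → Irr(G | φ ϑ)` (three components).
-/

set_option autoImplicit false

namespace Cfsg.Agent.Lib.Helper15

open Cfsg Cfsg.Agent.Lib.Helper75 Cfsg.Agent.Lib.Helper78
open scoped ComplexConjugate

universe u

/-- A rigidity lemma on matrices of natural numbers: if every row of `m` is nonzero and
`∑ⱼ (∑ᵢ eᵢ mᵢⱼ)² = ∑ᵢ eᵢ²`, then every row `i` with `eᵢ ≠ 0` is a standard basis vector, and these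
rows are pairwise distinct. -/
theorem nat_matrix_rigidity {I J : Type*} [Fintype I] [Fintype J] [DecidableEq I] [DecidableEq J]
    (e : I → ℕ) (m : I → J → ℕ) (h1 : ∀ i, ∃ j, m i j ≠ 0)
    (h2 : ∑ j, (∑ i, e i * m i j) ^ 2 = ∑ i, e i ^ 2) :
    (∀ i, e i ≠ 0 → ∃ j₀, m i j₀ = 1 ∧ ∀ j, j ≠ j₀ → m i j = 0) ∧
    (∀ j i i', e i ≠ 0 → e i' ≠ 0 → m i j ≠ 0 → m i' j ≠ 0 → i = i') := by
  have hST : ∀ j ∈ Finset.univ, ∑ i, (e i * m i j) ^ 2 ≤ (∑ i, e i * m i j) ^ 2 :=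
    fun j _ => sq_sum_ge_sum_sq (fun i => e i * m i j)
  have hswap : ∑ j, ∑ i, (e i * m i j) ^ 2 = ∑ i, e i ^ 2 * ∑ j, m i j ^ 2 := by
    rw [Finset.sum_comm]
    apply Finset.sum_congr rfl
    intro i _
    rw [Finset.mul_sum]
    apply Finset.sum_congr rfl
    intro j _
    rw [mul_pow]
  have hrow : ∀ i, 1 ≤ ∑ j, m i j ^ 2 := by
    intro i
    obtain ⟨j, hj⟩ := h1 i
    calc 1 ≤ m i j ^ 2 := Nat.one_le_pow _ _ (Nat.pos_of_ne_zero hj)
      _ ≤ ∑ j, m i j ^ 2 :=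
        Finset.single_le_sum (f := fun j => m i j ^ 2) (fun _ _ => Nat.zero_le _)
          (Finset.mem_univ j)
  have hU : ∀ i ∈ Finset.univ, e i ^ 2 ≤ e i ^ 2 * ∑ j, m i j ^ 2 :=
    fun i _ => Nat.le_mul_of_pos_right _ (hrow i)
  have hle1 : ∑ i, e i ^ 2 ≤ ∑ i, e i ^ 2 * ∑ j, m i j ^ 2 := Finset.sum_le_sum hU
  have hle2 : ∑ j, ∑ i, (e i * m i j) ^ 2 ≤ ∑ j, (∑ i, e i * m i j) ^ 2 := Finset.sum_le_sum hST
  have heq1 : ∑ i, e i ^ 2 = ∑ i, e i ^ 2 * ∑ j, m i j ^ 2 := by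
    apply le_antisymm hle1
    rw [← hswap, ← h2]
    exact hle2
  have heq2 : ∑ j, ∑ i, (e i * m i j) ^ 2 = ∑ j, (∑ i, e i * m i j) ^ 2 := by
    apply le_antisymm hle2
    rw [h2, hswap]
    exact hle1
  have hU' := (Finset.sum_eq_sum_iff_of_le hU).mp heq1
  have hST' := (Finset.sum_eq_sum_iff_of_le hST).mp heq2
  constructor
  · intro i hi
    have h3 : ∑ j, m i j ^ 2 = 1 := by
      have := hU' i (Finset.mem_univ i)
      have hpos : 0 < e i ^ 2 := pow_pos (Nat.pos_of_ne_zero hi) 2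
      have h4 : e i ^ 2 * 1 = e i ^ 2 * ∑ j, m i j ^ 2 := by rw [mul_one]; exact this
      exact (Nat.eq_of_mul_eq_mul_left hpos h4).symm
    obtain ⟨j₀, hj₀⟩ := h1 i
    have h5 : m i j₀ ^ 2 + ∑ j ∈ Finset.univ.erase j₀, m i j ^ 2 = 1 := by
      rw [Finset.add_sum_erase Finset.univ (fun j => m i j ^ 2) (Finset.mem_univ j₀)]
      exact h3
    have h6 : 1 ≤ m i j₀ ^ 2 := Nat.one_le_pow _ _ (Nat.pos_of_ne_zero hj₀)
    have h7 : m i j₀ ^ 2 = 1 := by omega
    have h8 : ∑ j ∈ Finset.univ.erase j₀, m i j ^ 2 = 0 := by omega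
    refine ⟨j₀, ?_, ?_⟩
    · have : m i j₀ ^ 2 = 1 ^ 2 := by simpa using h7
      exact Nat.pow_left_injective two_ne_zero this
    · intro j hj
      have := (Finset.sum_eq_zero_iff.mp h8) j (Finset.mem_erase.mpr ⟨hj, Finset.mem_univ j⟩)
      exact pow_eq_zero_iff two_ne_zero |>.mp this
  · intro j i i' hi hi' hm hm'
    by_contra hne
    have := mul_eq_zero_of_sq_sum_eq (fun i => e i * m i j) (hST' j (Finset.mem_univ j)).symm hne
    rcases Nat.mul_eq_zero.mp this with h | h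
    · rcases Nat.mul_eq_zero.mp h with h | h
      · exact hi h
      · exact hm h
    · rcases Nat.mul_eq_zero.mp h with h | h
      · exact hi' h
      · exact hm' h

section Ind

variable {G : Type u} [Group G] [Fintype G]

/-- `(φ · χ|_H)^G = φ^G · χ` for a class function `χ` of `G`. -/
theorem indFun_mul_res (H : Subgroup G) (φ : H → ℂ) {χ : G → ℂ} (hχ : IsClassFunction G χ) :
    indFun H (fun h : H => φ h * χ h) = indFun H φ * χ := by
  funext g
  rw [Pi.mul_apply]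
  unfold indFun
  rw [mul_assoc, Finset.sum_mul]
  congr 1
  apply Finset.sum_congr rfl
  intro x _
  by_cases hx : x⁻¹ * g * x ∈ H
  · rw [extendByZero_of_mem H _ hx, extendByZero_of_mem H _ hx]
    have h1 : χ (x⁻¹ * g * x) = χ g := by
      have := hχ g x⁻¹
      rwa [inv_inv] at this
    simp only [h1]
  · rw [extendByZero_of_not_mem H _ hx, extendByZero_of_not_mem H _ hx, zero_mul]

/-- The function induced from an invariant function on a normal subgroup, evaluated on the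
subgroup. -/
theorem indFun_apply_of_invariant (N : Subgroup G) [hN : N.Normal] (φ : N → ℂ)
    (hinv : ∀ (g : G) (n : N), φ ⟨g * n * g⁻¹, hN.conj_mem (n : G) n.2 g⟩ = φ n) (n : N) :
    indFun N φ n = (N.index : ℂ) * φ n := by
  rw [indFun_res_normal N φ n]
  have h1 : ∀ x : G, conjFun N x⁻¹ φ n = φ n := fun x => hinv x⁻¹ n
  simp only [h1, Finset.sum_const, Finset.card_univ, nsmul_eq_mul]
  have hidx : (Fintype.card G : ℂ) = (Nat.card N : ℂ) * (N.index : ℂ) := by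
    rw [← Nat.card_eq_fintype_card, ← Subgroup.card_mul_index N]
    push_cast
    ring
  have hN0 : (Nat.card N : ℂ) ≠ 0 := by
    have : Nat.card N ≠ 0 := Nat.card_pos.ne'
    exact_mod_cast this
  rw [hidx]
  field_simp

/-- `[φ^G, φ^G] = |G : N|` for an invariant irreducible character `φ` of the normal subgroup `N`. -/
theorem classInner_indFun_self_of_invariant (N : Subgroup G) [hN : N.Normal] [Fintype N] (φ : N → ℂ)
    (hφ : IsIrrCharacter N φ)
    (hinv : ∀ (g : G) (n : N), φ ⟨g * n * g⁻¹, hN.conj_mem (n : G) n.2 g⟩ = φ n) :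
    classInner (indFun N φ) (indFun N φ) = (N.index : ℂ) := by
  rw [frobenius_reciprocity N φ (isClassFunction_indFun N φ)]
  have h1 : (fun h : N => indFun N φ h) = (N.index : ℂ) • φ := by
    funext n
    rw [indFun_apply_of_invariant N φ hinv n, Pi.smul_apply, smul_eq_mul]
  rw [h1, classInner_smul_right, classInner_irr_self hφ, mul_one, Complex.conj_natCast]

end Ind

section Core

variable {G : Type u} [Group G] [Fintype G]

/-- Norm of a natural combination of irreducible characters. -/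
theorem classInner_self_nat_combination (d : IrrCharacter G → ℕ) :
    classInner (∑ ψ : IrrCharacter G, (d ψ : ℂ) • (ψ : G → ℂ))
      (∑ ψ : IrrCharacter G, (d ψ : ℂ) • (ψ : G → ℂ)) = ((∑ ψ, d ψ ^ 2 : ℕ) : ℂ) := by
  have hcl : IsClassFunction G (∑ ψ : IrrCharacter G, (d ψ : ℂ) • (ψ : G → ℂ)) :=
    isClassFunction_sum _ _ (fun ψ _ => isClassFunction_smul _ (isClassFunction_irr ψ))
  rw [classInner_eq_sum_mul_conj _ hcl]
  push_cast
  apply Finset.sum_congr rfl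
  intro ψ _
  rw [classInner_nat_combination (fun ψ => (d ψ : ℂ)) ψ, Complex.conj_natCast, sq]

/-- **Isaacs (6.16), core.** Let `N ⊲ G`, `φ, ϑ ∈ Irr(N)` invariant in `G` with `φ ϑ` irreducible, and
`χ ∈ Irr(G)` extending `ϑ`.  Then `β ↦ β χ` maps `Irr(G | φ)` injectively onto `Irr(G | φ ϑ)`. -/
theorem gallagher_core (N : Subgroup G) [hN : N.Normal] (φ ϑ : N → ℂ)
    (hφ : IsIrrCharacter N φ)
    (hφinv : ∀ (g : G) (n : N), φ ⟨g * n * g⁻¹, hN.conj_mem (n : G) n.2 g⟩ = φ n)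
    (hϑinv : ∀ (g : G) (n : N), ϑ ⟨g * n * g⁻¹, hN.conj_mem (n : G) n.2 g⟩ = ϑ n)
    (hprod : IsIrrCharacter N (φ * ϑ)) (χ : G → ℂ) (hχ : IsIrrCharacter G χ)
    (hext : ∀ n : N, χ n = ϑ n) :
    (∀ β : IrrCharacter G, classInner (indFun N φ) (β : G → ℂ) ≠ 0 →
      IsIrrCharacter G ((β : G → ℂ) * χ) ∧
        classInner (indFun N (φ * ϑ)) ((β : G → ℂ) * χ) ≠ 0) ∧
    (∀ β β' : IrrCharacter G, classInner (indFun N φ) (β : G → ℂ) ≠ 0 →
      classInner (indFun N φ) (β' : G → ℂ) ≠ 0 → (β : G → ℂ) * χ = (β' : G → ℂ) * χ → β = β') ∧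
    (∀ ψ : IrrCharacter G, classInner (indFun N (φ * ϑ)) (ψ : G → ℂ) ≠ 0 →
      ∃ β : IrrCharacter G, classInner (indFun N φ) (β : G → ℂ) ≠ 0 ∧
        (β : G → ℂ) * χ = (ψ : G → ℂ)) := by
  classical
  have : Fintype N := Fintype.ofFinite N
  have hχc : IsCharacter G χ := IsIrrCharacter.isCharacter hχ
  have hχcl : IsClassFunction G χ := IsCharacter.isClassFunction hχc
  have hprodinv : ∀ (g : G) (n : N),
      (φ * ϑ) ⟨g * n * g⁻¹, hN.conj_mem (n : G) n.2 g⟩ = (φ * ϑ) n := by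
    intro g n
    rw [Pi.mul_apply, Pi.mul_apply, hφinv, hϑinv]
  -- expansions
  obtain ⟨e, he⟩ := (isCharacter_iff_exists_nat_combination _).mp
    (Cfsg.Agent.S0148.result N φ (IsIrrCharacter.isCharacter hφ))
  have hmul : ∀ β : IrrCharacter G, IsCharacter G ((β : G → ℂ) * χ) :=
    fun β => Cfsg.Agent.Lib.Helper80.isCharacter_mul (IsIrrCharacter.isCharacter β.2) hχc
  choose m hm using fun β => (isCharacter_iff_exists_nat_combination _).mp (hmul β)
  have hind : indFun N (φ * ϑ) = indFun N φ * χ := by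
    have h1 : φ * ϑ = fun n : N => φ n * χ n := by
      funext n
      rw [Pi.mul_apply, hext]
    rw [h1, indFun_mul_res N φ hχcl]
  have hexp : indFun N (φ * ϑ) =
      ∑ ψ : IrrCharacter G, ((∑ β, e β * m β ψ : ℕ) : ℂ) • (ψ : G → ℂ) := by
    rw [hind, he, Finset.sum_mul]
    have h1 : ∀ β : IrrCharacter G, ((e β : ℂ) • (β : G → ℂ)) * χ =
        ∑ ψ : IrrCharacter G, ((e β * m β ψ : ℕ) : ℂ) • (ψ : G → ℂ) := by
      intro β
      rw [smul_mul_assoc, hm β, Finset.smul_sum]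
      apply Finset.sum_congr rfl
      intro ψ _
      rw [smul_smul]
      push_cast
      rfl
    simp only [h1]
    rw [Finset.sum_comm]
    apply Finset.sum_congr rfl
    intro ψ _
    rw [← Finset.sum_smul]
    push_cast
    rfl
  have he_coeff : ∀ β : IrrCharacter G, classInner (indFun N φ) (β : G → ℂ) = (e β : ℂ) := by
    intro β
    rw [he]
    exact classInner_nat_combination (fun β => (e β : ℂ)) β
  have hd_coeff : ∀ ψ : IrrCharacter G,
      classInner (indFun N (φ * ϑ)) (ψ : G → ℂ) = ((∑ β, e β * m β ψ : ℕ) : ℂ) := by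
    intro ψ
    rw [hexp]
    exact classInner_nat_combination (fun ψ => ((∑ β, e β * m β ψ : ℕ) : ℂ)) ψ
  have hm_coeff : ∀ β ψ : IrrCharacter G,
      classInner ((β : G → ℂ) * χ) (ψ : G → ℂ) = (m β ψ : ℂ) := by
    intro β ψ
    rw [hm β]
    exact classInner_nat_combination (fun ψ => (m β ψ : ℂ)) ψ
  -- norms
  have hn1 : ((∑ β, e β ^ 2 : ℕ) : ℂ) = (N.index : ℂ) := by
    rw [← classInner_self_nat_combination e, ← he]
    exact classInner_indFun_self_of_invariant N φ hφ hφinv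
  have hn2 : ((∑ ψ, (∑ β, e β * m β ψ) ^ 2 : ℕ) : ℂ) = (N.index : ℂ) := by
    rw [← classInner_self_nat_combination (fun ψ => ∑ β, e β * m β ψ), ← hexp]
    exact classInner_indFun_self_of_invariant N (φ * ϑ) hprod hprodinv
  have h2 : ∑ ψ, (∑ β, e β * m β ψ) ^ 2 = ∑ β, e β ^ 2 := by
    have := hn2.trans hn1.symm
    exact_mod_cast this
  have h1 : ∀ β : IrrCharacter G, ∃ ψ, m β ψ ≠ 0 := by
    intro β
    by_contra hcon
    push Not at hcon
    have h0 : (β : G → ℂ) * χ = 0 := by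
      rw [hm β]
      apply Finset.sum_eq_zero
      intro ψ _
      rw [hcon ψ]
      simp
    have h01 := congrFun h0 1
    rw [Pi.mul_apply, Pi.zero_apply] at h01
    have hβ1 : (β : G → ℂ) 1 ≠ 0 := by
      rw [Cfsg.Agent.Lib.Helper79.irr_apply_one_eq_charDegree β]
      exact_mod_cast (Cfsg.Agent.Lib.Helper79.irr_charDegree_pos β).ne'
    have hχ1 : χ 1 ≠ 0 := by
      have h3 : χ 1 = (Cfsg.charDegree χ : ℂ) :=
        Cfsg.Agent.Lib.Helper79.irr_apply_one_eq_charDegree ⟨χ, hχ⟩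
      have h4 : 0 < Cfsg.charDegree χ := Cfsg.Agent.Lib.Helper79.irr_charDegree_pos ⟨χ, hχ⟩
      rw [h3]
      exact_mod_cast h4.ne'
    exact (mul_ne_zero hβ1 hχ1) h01
  obtain ⟨ha, hb⟩ := nat_matrix_rigidity e m h1 h2
  -- `β χ` for `e β ≠ 0`
  have hirr : ∀ β : IrrCharacter G, e β ≠ 0 →
      ∃ ψ₀ : IrrCharacter G, (β : G → ℂ) * χ = (ψ₀ : G → ℂ) ∧ m β ψ₀ = 1 := by
    intro β hβ
    obtain ⟨ψ₀, h1ψ, h0ψ⟩ := ha β hβ
    refine ⟨ψ₀, ?_, h1ψ⟩
    rw [hm β, Finset.sum_eq_single ψ₀]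
    · rw [h1ψ]; simp
    · intro ψ _ hne
      rw [h0ψ ψ hne]; simp
    · intro h; exact absurd (Finset.mem_univ _) h
  have hne_of : ∀ β : IrrCharacter G, classInner (indFun N φ) (β : G → ℂ) ≠ 0 → e β ≠ 0 := by
    intro β h h0
    apply h
    rw [he_coeff, h0]
    simp
  refine ⟨?_, ?_, ?_⟩
  · intro β hβ
    obtain ⟨ψ₀, hψ₀, hmψ₀⟩ := hirr β (hne_of β hβ)
    rw [hψ₀]
    refine ⟨ψ₀.2, ?_⟩
    rw [hd_coeff ψ₀]
    have hpos : 0 < ∑ β, e β * m β ψ₀ := by
      apply lt_of_lt_of_le _ (Finset.single_le_sum (f := fun β => e β * m β ψ₀)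
        (fun _ _ => Nat.zero_le _) (Finset.mem_univ β))
      rw [hmψ₀, mul_one]
      exact Nat.pos_of_ne_zero (hne_of β hβ)
    exact_mod_cast hpos.ne'
  · intro β β' hβ hβ' heq
    obtain ⟨ψ₀, hψ₀, hmψ₀⟩ := hirr β (hne_of β hβ)
    obtain ⟨ψ₁, hψ₁, hmψ₁⟩ := hirr β' (hne_of β' hβ')
    have h01 : ψ₀ = ψ₁ := Subtype.ext (hψ₀.symm.trans (heq.trans hψ₁))
    subst h01
    exact hb ψ₀ β β' (hne_of β hβ) (hne_of β' hβ') (by rw [hmψ₀]; exact one_ne_zero)
      (by rw [hmψ₁]; exact one_ne_zero)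
  · intro ψ hψ
    rw [hd_coeff ψ] at hψ
    have hψ' : ∑ β, e β * m β ψ ≠ 0 := by
      intro h
      apply hψ
      rw [h]
      simp
    obtain ⟨β, _, hβ⟩ := Finset.exists_ne_zero_of_sum_ne_zero hψ'
    have he0 : e β ≠ 0 := fun h => hβ (by rw [h, zero_mul])
    have hm0 : m β ψ ≠ 0 := fun h => hβ (by rw [h, mul_zero])
    refine ⟨β, ?_, ?_⟩
    · rw [he_coeff]
      exact_mod_cast he0
    · obtain ⟨ψ₀, hψ₀, _⟩ := hirr β he0
      obtain ⟨ψ₁, _, h0ψ⟩ := ha β he0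
      have e1 : ψ = ψ₁ := by
        by_contra hne
        exact hm0 (h0ψ ψ hne)
      have e2 : ψ₀ = ψ₁ := by
        by_contra hne
        have := h0ψ ψ₀ hne
        omega
      rw [hψ₀, e2, ← e1]

end Core

end Cfsg.Agent.Lib.Helper15
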