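import Mathlib
import Cfsg.Agent.S0863
import Cfsg.Agent.S0164
import Cfsg.Agent.Lib.Helper26.IrrFactsInst

/-!
# Gallagher's extension theorem (Isaacs 8.15/8.16) via Brauer's characterization of characters

Let `N ⊲ G`, `ϑ ∈ Irr(N)` invariant in `G` with `(|G : N|, ϑ(1)) = 1`, and suppose `det ϑ` extends to a
linear character `μ` of `G`.  Then `ϑ` extends to `G`.

* `isIrrCharacter_of_res`: a character with irreducible restriction is irreducible.
* `coset_sum`: Isaacs (8.14).
* `exists_extension_of_det_extends_general`: the extension theorem.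
-/

set_option autoImplicit false
set_option linter.unusedSectionVars false
open Cfsg

namespace Cfsg.Agent.Lib.Helper15

open Cfsg.Agent.Lib.Helper75 Cfsg.Agent.Lib.Helper78
open scoped ComplexConjugate

universe u

section ResIrr

variable {K : Type u} [Group K]

/-- A character of degree zero is zero. -/
theorem isCharacter_eq_zero_of_apply_one {σ : K → ℂ} (h : IsCharacter K σ) (h1 : σ 1 = 0) :
    σ = 0 := by
  obtain ⟨n, ρ, rfl⟩ := h
  apply character_eq_zero_of_finrank_eq_zero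
  rw [Representation.char_one] at h1
  exact_mod_cast h1

/-- If a sum of two characters is irreducible, one of them vanishes. -/
theorem add_irr_eq_zero [Fintype K] {a b : K → ℂ} (ha : IsCharacter K a)
    (hb : IsCharacter K b) (hab : IsIrrCharacter K (a + b)) : a = 0 ∨ b = 0 := by
  classical
  obtain ⟨m, hm⟩ := (isCharacter_iff_exists_nat_combination a).mp ha
  obtain ⟨m', hm'⟩ := (isCharacter_iff_exists_nat_combination b).mp hb
  have hcoef : ∀ ψ : IrrCharacter K,
      classInner (a + b) (ψ : K → ℂ) = (m ψ : ℂ) + (m' ψ : ℂ) := by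
    intro ψ
    rw [classInner_add_left]
    conv_lhs => rw [hm, hm']
    rw [classInner_nat_combination (fun φ => (m φ : ℂ)) ψ,
      classInner_nat_combination (fun φ => (m' φ : ℂ)) ψ]
  have hsum : ∀ ψ : IrrCharacter K, m ψ + m' ψ = if a + b = (ψ : K → ℂ) then 1 else 0 := by
    intro ψ
    have h1 := hcoef ψ
    rw [classInner_irr hab ψ.2] at h1
    split_ifs at h1 ⊢ with h
    · exact_mod_cast h1.symm
    · exact_mod_cast h1.symm
  by_cases h0 : m ⟨a + b, hab⟩ = 0
  · left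
    rw [hm]
    apply Finset.sum_eq_zero
    intro ψ _
    have h2 := hsum ψ
    by_cases h : a + b = (ψ : K → ℂ)
    · have h3 : ψ = ⟨a + b, hab⟩ := Subtype.ext h.symm
      rw [h3, h0]; simp
    · rw [if_neg h] at h2
      have h3 : m ψ = 0 := by omega
      rw [h3]; simp
  · right
    rw [hm']
    apply Finset.sum_eq_zero
    intro ψ _
    have h2 := hsum ψ
    by_cases h : a + b = (ψ : K → ℂ)
    · have h3 : ψ = ⟨a + b, hab⟩ := Subtype.ext h.symm
      rw [if_pos h, h3] at h2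
      have h4 : m' ⟨a + b, hab⟩ = 0 := by omega
      rw [h3, h4]; simp
    · rw [if_neg h] at h2
      have h3 : m' ψ = 0 := by omega
      rw [h3]; simp

/-- A character whose restriction to a subgroup is irreducible is irreducible. -/
theorem isIrrCharacter_of_res [Finite K] (N' : Subgroup K) {χ : K → ℂ} (hχ : IsCharacter K χ)
    (hres : IsIrrCharacter N' (fun n : N' => χ n)) : IsIrrCharacter K χ := by
  classical
  have := Fintype.ofFinite K
  have := Fintype.ofFinite N'
  obtain ⟨n, ρ, rfl⟩ := hχ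
  obtain ⟨l, hl⟩ := exists_irr_list ρ
  cases l with
  | nil =>
    exfalso
    have h0 : (fun n : N' => ρ.character n) = 0 := by
      funext x
      rw [hl]
      simp
    rw [h0] at hres
    exact Cfsg.Agent.Lib.Helper80.char_one_ne_zero_of_isIrr hres rfl
  | cons ψ l' =>
    rw [List.map_cons, List.sum_cons] at hl
    set σ : K → ℂ := (l'.map (fun χ : IrrCharacter K => χ.1)).sum with hσ
    have hσc : IsCharacter K σ := by
      apply isCharacter_list_sum
      intro χ hχ
      obtain ⟨φ, -, rfl⟩ := List.mem_map.mp hχ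
      exact IsIrrCharacter.isCharacter φ.2
    have hsplit : (fun n : N' => ρ.character n) = (fun n : N' => ψ.1 n) + (fun n : N' => σ n) := by
      funext x
      rw [hl]
      rfl
    rw [hsplit] at hres
    rcases add_irr_eq_zero (isCharacter_res N' (IsIrrCharacter.isCharacter ψ.2))
      (isCharacter_res N' hσc) hres with h | h
    · exfalso
      have h1 := congrFun h 1
      exact Cfsg.Agent.Lib.Helper80.char_one_ne_zero_of_isIrr ψ.2 h1
    · have h1 : σ 1 = 0 := congrFun h 1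
      have h2 := isCharacter_eq_zero_of_apply_one hσc h1
      rw [hl, h2, add_zero]
      exact ψ.2

end ResIrr

theorem sum_monoidHom_apply_one {Q : Type*} [CommGroup Q] [Finite Q] [Fintype (Q →* ℂˣ)] :
    ∑ β : Q →* ℂˣ, ((β (1 : Q) : ℂˣ) : ℂ) = (Nat.card Q : ℂ) := by
  classical
  have hne : NeZero (Monoid.exponent Q) := ⟨Monoid.exponent_ne_zero_of_finite⟩
  have : HasEnoughRootsOfUnity ℂ (Monoid.exponent Q) := inferInstance
  simp only [map_one, Units.val_one, Finset.sum_const, Finset.card_univ, nsmul_eq_mul, mul_one]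
  rw [← Nat.card_eq_fintype_card, CommGroup.card_monoidHom_of_hasEnoughRootsOfUnity Q ℂ]

theorem sum_monoidHom_apply_ne {Q : Type*} [CommGroup Q] [Finite Q] [Fintype (Q →* ℂˣ)] {q : Q}
    (h : q ≠ 1) : ∑ β : Q →* ℂˣ, ((β q : ℂˣ) : ℂ) = 0 := by
  classical
  have hne : NeZero (Monoid.exponent Q) := ⟨Monoid.exponent_ne_zero_of_finite⟩
  have : HasEnoughRootsOfUnity ℂ (Monoid.exponent Q) := inferInstance
  obtain ⟨β₀, hβ₀⟩ := CommGroup.exists_apply_ne_one_of_hasEnoughRootsOfUnity Q ℂ h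
  have h1 : ((β₀ q : ℂˣ) : ℂ) * ∑ β : Q →* ℂˣ, ((β q : ℂˣ) : ℂ) = ∑ β : Q →* ℂˣ, ((β q : ℂˣ) : ℂ) := by
    rw [Finset.mul_sum]
    apply Fintype.sum_equiv (Equiv.mulLeft β₀)
    intro β
    simp
  have h2 : (((β₀ q : ℂˣ) : ℂ) - 1) * ∑ β : Q →* ℂˣ, ((β q : ℂˣ) : ℂ) = 0 := by
    rw [sub_mul, h1, one_mul, sub_self]
  rcases mul_eq_zero.mp h2 with h3 | h3
  · exfalso
    apply hβ₀
    apply Units.ext
    rw [sub_eq_zero] at h3
    exact h3
  · exact h3

section Twist

variable {G : Type u} [Group G] [Fintype G] (N : Subgroup G) [hN : N.Normal]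

/-- Twisting an extension by linear characters of `G / N` is injective. -/
theorem twist_injective (η : G → ℂ) (hη : IsIrrCharacter G η)
    (hres : IsIrrCharacter N (fun n : N => η n)) (β β' : G →* ℂˣ) (hβ : ∀ n : N, β n = 1)
    (hβ' : ∀ n : N, β' n = 1)
    (h : (fun g => ((β g : ℂˣ) : ℂ)) * η = (fun g => ((β' g : ℂˣ) : ℂ)) * η) : β = β' := by
  have hηcl : IsClassFunction G η := IsCharacter.isClassFunction (IsIrrCharacter.isCharacter hη)
  set ϑ : N → ℂ := fun n : N => η n with hϑdef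
  have hϑinv : ∀ (g : G) (n : N), ϑ ⟨g * n * g⁻¹, hN.conj_mem (n : G) n.2 g⟩ = ϑ n := by
    intro g n
    exact hηcl n g
  have hprod : IsIrrCharacter N ((fun _ => (1 : ℂ)) * ϑ) := by
    have : (fun _ : N => (1 : ℂ)) * ϑ = ϑ := by funext n; simp
    rw [this]; exact hres
  obtain ⟨-, h2, -⟩ := gallagher_core N (fun _ => (1 : ℂ)) ϑ isIrrCharacter_one
    (fun _ _ => rfl) hϑinv hprod η hη (fun _ => rfl)
  have h3 := h2 ⟨_, Cfsg.Agent.Lib.Helper77.isIrrCharacter_of_monoidHom β⟩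
    ⟨_, Cfsg.Agent.Lib.Helper77.isIrrCharacter_of_monoidHom β'⟩
    (by rw [Cfsg.Agent.S0862.classInner_indFun_one_hom N β hβ]; exact one_ne_zero)
    (by rw [Cfsg.Agent.S0862.classInner_indFun_one_hom N β' hβ']; exact one_ne_zero) h
  have h4 : (fun g => ((β g : ℂˣ) : ℂ)) = fun g => ((β' g : ℂˣ) : ℂ) := congrArg Subtype.val h3
  ext g
  exact congrFun h4 g

end Twist

section Coset

variable {K : Type u} [Group K] [Fintype K] (N' : Subgroup K) [hN' : N'.Normal]

/-- Isaacs (8.14): if `ψ ∈ Irr(K)` restricts irreducibly to `N' ⊲ K` with `K / N'` abelian, then the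
sum of `|ψ|²` over each coset of `N'` is `|N'|`. -/
theorem coset_sum [Fintype N'] (hab : ∀ a b : K, a * b * a⁻¹ * b⁻¹ ∈ N')
    (ψ : K → ℂ) (hψ : IsIrrCharacter K ψ) (hres : IsIrrCharacter N' (fun n : N' => ψ n)) (g : K) :
    ∑ n : N', ψ (n * g) * conj (ψ (n * g)) = (Nat.card N' : ℂ) := by
  classical
  let _ : CommGroup (K ⧸ N') :=
    { (inferInstance : Group (K ⧸ N')) with
      mul_comm := by
        intro a b
        induction a using QuotientGroup.induction_on with
        | H a =>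
        induction b using QuotientGroup.induction_on with
        | H b =>
        rw [← QuotientGroup.mk_mul, ← QuotientGroup.mk_mul]
        apply QuotientGroup.eq.mpr
        have := hab b⁻¹ a⁻¹
        simpa [mul_assoc] using this }
  have : Fintype ((K ⧸ N') →* ℂˣ) := Fintype.ofFinite _
  set F : K → ℂ := fun x => ψ x * conj (ψ x) with hF
  -- the twisted sums
  have hT : ∀ β' : (K ⧸ N') →* ℂˣ,
      ∑ x : K, ((β' (x : K ⧸ N') : ℂˣ) : ℂ) * F x = if β' = 1 then (Nat.card K : ℂ) else 0 := by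
    intro β'
    set β : K →* ℂˣ := β'.comp (QuotientGroup.mk' N') with hβdef
    have hβ : ∀ n : N', β n = 1 := by
      intro n
      rw [hβdef, MonoidHom.comp_apply, QuotientGroup.mk'_apply,
        (QuotientGroup.eq_one_iff (n : K)).mpr n.2, map_one]
    have h1 := (Cfsg.Agent.S0862.twist_extension N' (fun n : N' => ψ n) hres ψ hψ (fun _ => rfl)
      β hβ).1
    have h2 := classInner_irr h1 hψ
    have hK0 : (Nat.card K : ℂ) ≠ 0 := by
      have : Nat.card K ≠ 0 := Nat.card_pos.ne'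
      exact_mod_cast this
    have h3 : ∑ x : K, ((β' (x : K ⧸ N') : ℂˣ) : ℂ) * F x =
        (Nat.card K : ℂ) * classInner ((fun g => ((β g : ℂˣ) : ℂ)) * ψ) ψ := by
      unfold classInner
      rw [← mul_assoc, mul_inv_cancel₀ hK0, one_mul]
      apply Finset.sum_congr rfl
      intro x _
      rw [Pi.mul_apply, hF]
      simp only [hβdef, MonoidHom.comp_apply, QuotientGroup.mk'_apply]
      ring
    rw [h3, h2]
    by_cases hb : β' = 1
    · rw [if_pos hb, if_pos, mul_one]
      funext x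
      rw [Pi.mul_apply, hβdef, hb]
      simp
    · rw [if_neg hb, if_neg, mul_zero]
      intro hcon
      apply hb
      have h4 : β = 1 := by
        apply twist_injective N' ψ hψ hres β 1 hβ (fun _ => rfl)
        rw [hcon]
        funext x
        simp
      apply MonoidHom.ext
      intro q
      induction q using QuotientGroup.induction_on with
      | H x =>
      have := congrArg (fun f : K →* ℂˣ => f x) h4
      simpa [hβdef] using this
  -- sum over all `β'`
  have hsum1 : ∑ β' : (K ⧸ N') →* ℂˣ, ((β' ((g : K ⧸ N')⁻¹) : ℂˣ) : ℂ) *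
      ∑ x : K, ((β' (x : K ⧸ N') : ℂˣ) : ℂ) * F x = (Nat.card K : ℂ) := by
    simp only [hT]
    rw [Finset.sum_eq_single (1 : (K ⧸ N') →* ℂˣ)]
    · simp
    · intro b _ hb
      rw [if_neg hb, mul_zero]
    · intro h
      exact absurd (Finset.mem_univ _) h
  have hsum2 : ∑ β' : (K ⧸ N') →* ℂˣ, ((β' ((g : K ⧸ N')⁻¹) : ℂˣ) : ℂ) *
      ∑ x : K, ((β' (x : K ⧸ N') : ℂˣ) : ℂ) * F x =
      ∑ x : K, F x * ∑ β' : (K ⧸ N') →* ℂˣ, ((β' ((x : K ⧸ N') * (g : K ⧸ N')⁻¹) : ℂˣ) : ℂ) := by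
    simp only [Finset.mul_sum]
    rw [Finset.sum_comm]
    apply Finset.sum_congr rfl
    intro x _
    apply Finset.sum_congr rfl
    intro β' _
    rw [map_mul, Units.val_mul]
    ring
  have hsum3 : ∑ x : K, F x * ∑ β' : (K ⧸ N') →* ℂˣ,
      ((β' ((x : K ⧸ N') * (g : K ⧸ N')⁻¹) : ℂˣ) : ℂ) =
      ∑ x : K, if x * g⁻¹ ∈ N' then F x * (N'.index : ℂ) else 0 := by
    apply Finset.sum_congr rfl
    intro x _
    by_cases hx : x * g⁻¹ ∈ N'
    · rw [if_pos hx]
      have : (x : K ⧸ N') * (g : K ⧸ N')⁻¹ = 1 := by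
        rw [← QuotientGroup.mk_inv, ← QuotientGroup.mk_mul]
        exact (QuotientGroup.eq_one_iff _).mpr hx
      rw [this, sum_monoidHom_apply_one, Subgroup.index_eq_card]
    · rw [if_neg hx]
      have : (x : K ⧸ N') * (g : K ⧸ N')⁻¹ ≠ 1 := by
        rw [← QuotientGroup.mk_inv, ← QuotientGroup.mk_mul]
        intro h
        exact hx ((QuotientGroup.eq_one_iff _).mp h)
      rw [sum_monoidHom_apply_ne this, mul_zero]
  have hsum4 : ∑ x : K, (if x * g⁻¹ ∈ N' then F x * (N'.index : ℂ) else 0) =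
      (∑ n : N', F (n * g)) * (N'.index : ℂ) := by
    rw [Finset.sum_mul]
    have h1 : ∑ x : K, (if x * g⁻¹ ∈ N' then F x * (N'.index : ℂ) else 0) =
        ∑ y : K, (if y ∈ N' then F (y * g) * (N'.index : ℂ) else 0) := by
      apply Fintype.sum_equiv (Equiv.mulRight g⁻¹)
      intro x
      simp
    rw [h1]
    rw [← Finset.sum_filter]
    symm
    apply Finset.sum_bij (fun (n : N') _ => (n : K))
    · intro n _
      simp
    · intro a _ b _ hab
      exact Subtype.ext hab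
    · intro y hy
      rw [Finset.mem_filter] at hy
      exact ⟨⟨y, hy.2⟩, Finset.mem_univ _, rfl⟩
    · intro n _
      rfl
  have hfinal : (∑ n : N', F (n * g)) * (N'.index : ℂ) = (Nat.card K : ℂ) := by
    rw [← hsum4, ← hsum3, ← hsum2, hsum1]
  have hidx : (Nat.card K : ℂ) = (Nat.card N' : ℂ) * (N'.index : ℂ) := by
    rw [← Subgroup.card_mul_index N']
    push_cast
    ring
  have hi0 : (N'.index : ℂ) ≠ 0 := by
    have : N'.index ≠ 0 := Subgroup.index_ne_zero_of_finite
    exact_mod_cast this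
  rw [hidx] at hfinal
  exact mul_right_cancel₀ hi0 hfinal

end Coset

section Glue

variable {G : Type u} [Group G] [Finite G] (N : Subgroup G) [hN : N.Normal] (ϑ : N → ℂ) (μ : G → ℂ)

/-- The standing hypotheses of Gallagher's extension theorem. -/
structure ExtSetup : Prop where
  irr : IsIrrCharacter N ϑ
  inv : ∀ (g : G) (n : N), ϑ ⟨g * n * g⁻¹, hN.conj_mem (n : G) n.2 g⟩ = ϑ n
  cop : ∃ d : ℕ, ϑ 1 = d ∧ Nat.Coprime N.index d
  lin : IsCharacter G μ
  lin1 : μ 1 = 1
  linN : ∀ n : N, μ n = Cfsg.detChar ϑ n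

/-- `η` is the extension of `ϑ` to `M ≥ N` with determinant `μ|_M`. -/
def GoodExt (M : Subgroup G) (η : M → ℂ) : Prop :=
  IsIrrCharacter M η ∧ (∀ (n : N) (h : (n : G) ∈ M), η ⟨n, h⟩ = ϑ n) ∧
    Cfsg.detChar η = fun x : M => μ x

variable {N ϑ μ}

theorem existsUnique_goodExt (S : ExtSetup N ϑ μ) {M : Subgroup G} (hNM : N ≤ M)
    (hsolv : Group.IsSolvable (M ⧸ N.subgroupOf M)) : ∃! η : M → ℂ, GoodExt N ϑ μ M η := by
  obtain ⟨d, hd, hcop⟩ := S.cop
  let N' : Subgroup M := N.subgroupOf M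
  have hN'n : N'.Normal := Subgroup.normal_subgroupOf
  let e : N' ≃* N := Subgroup.subgroupOfEquivOfLe hNM
  let ϑ' : N' → ℂ := ϑ ∘ e
  have hϑ' : IsIrrCharacter N' ϑ' := Cfsg.Agent.Lib.Helper81.isIrrCharacter_comp_mulEquiv S.irr e
  have hinv' : ∀ (m : M) (x : N'),
      ϑ' ⟨m * x * m⁻¹, hN'n.conj_mem (x : M) x.2 m⟩ = ϑ' x := by
    intro m x
    have := S.inv (m : G) (e x)
    exact this
  have hd' : ϑ' 1 = d := by
    show ϑ (e 1) = d
    rw [map_one, hd]
  have hcop' : Nat.Coprime N'.index d := by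
    apply Nat.Coprime.coprime_dvd_left _ hcop
    exact Subgroup.relIndex_dvd_index_of_le hNM
  let μM : M → ℂ := fun x => μ x
  have hμM : IsCharacter M μM := isCharacter_res M S.lin
  have hμM1 : μM 1 = 1 := S.lin1
  have hμMN : ∀ x : N', μM x = Cfsg.detChar ϑ' x := by
    intro x
    have h1 : Cfsg.detChar ϑ' x = Cfsg.detChar ϑ (e x) :=
      detChar_comp_hom e.toMonoidHom (IsIrrCharacter.isCharacter S.irr) x
    rw [h1, ← S.linN]
    rfl
  obtain ⟨η₀, hη₀, hη₀ext⟩ := Cfsg.Agent.S0863.exists_extension_of_det_extends N'.index M N' rfl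
    hsolv ϑ' hϑ' hinv' d hd' hcop' μM hμM hμM1 hμMN
  obtain ⟨η, ⟨hη, hηext, hηdet⟩, hηuniq⟩ := Cfsg.Agent.S0862.result N' ϑ' hϑ' d hd' hcop'
    ⟨η₀, hη₀, hη₀ext⟩ μM ⟨hμM, hμM1⟩ hμMN
  refine ⟨η, ⟨hη, ?_, hηdet⟩, ?_⟩
  · intro n h
    have := hηext ⟨⟨n, h⟩, Subgroup.mem_subgroupOf.mpr n.2⟩
    exact this
  · intro η' hη'
    apply hηuniq
    refine ⟨hη'.1, ?_, hη'.2.2⟩
    intro x
    exact hη'.2.1 (e x) _

theorem GoodExt.restrict (S : ExtSetup N ϑ μ) {K M : Subgroup G} (hNK : N ≤ K) (hKM : K ≤ M)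
    {η : M → ℂ} (hη : GoodExt N ϑ μ M η) : GoodExt N ϑ μ K (fun x : K => η ⟨x, hKM x.2⟩) := by
  have hηc := IsIrrCharacter.isCharacter hη.1
  have hc : IsCharacter K (fun x : K => η ⟨x, hKM x.2⟩) :=
    Cfsg.Agent.Lib.Helper81.isCharacter_comp hηc (Subgroup.inclusion hKM)
  refine ⟨?_, ?_, ?_⟩
  · apply isIrrCharacter_of_res (N.subgroupOf K) hc
    let e : N.subgroupOf K ≃* N := Subgroup.subgroupOfEquivOfLe hNK
    have h1 : (fun n : N.subgroupOf K => (fun x : K => η ⟨x, hKM x.2⟩) n) = ϑ ∘ e := by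
      funext n
      exact hη.2.1 (e n) _
    rw [h1]
    exact Cfsg.Agent.Lib.Helper81.isIrrCharacter_comp_mulEquiv S.irr e
  · intro n h
    exact hη.2.1 n (hKM h)
  · funext x
    have h1 := detChar_comp_hom (Subgroup.inclusion hKM) hηc x
    have h2 : (fun x : K => η ⟨x, hKM x.2⟩) = fun x : K => η (Subgroup.inclusion hKM x) := rfl
    rw [h2, h1, hη.2.2]
    rfl

/-- Conjugation by `g` as an isomorphism between conjugate subgroups. -/
def conjSubgroupEquiv (g : G) {M M' : Subgroup G} (h1 : ∀ y ∈ M', g⁻¹ * y * g ∈ M)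
    (h2 : ∀ x ∈ M, g * x * g⁻¹ ∈ M') : M' ≃* M where
  toFun y := ⟨g⁻¹ * y * g, h1 y y.2⟩
  invFun x := ⟨g * x * g⁻¹, h2 x x.2⟩
  left_inv y := by
    apply Subtype.ext
    simp [mul_assoc]
  right_inv x := by
    apply Subtype.ext
    simp [mul_assoc]
  map_mul' a b := by
    apply Subtype.ext
    simp [mul_assoc]

theorem GoodExt.conj (S : ExtSetup N ϑ μ) {M M' : Subgroup G} (g : G)
    (h1 : ∀ y ∈ M', g⁻¹ * y * g ∈ M) (h2 : ∀ x ∈ M, g * x * g⁻¹ ∈ M') {η : M → ℂ}
    (hη : GoodExt N ϑ μ M η) :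
    GoodExt N ϑ μ M' (fun y : M' => η ⟨g⁻¹ * y * g, h1 y y.2⟩) := by
  let c : M' ≃* M := conjSubgroupEquiv g h1 h2
  refine ⟨Cfsg.Agent.Lib.Helper81.isIrrCharacter_comp_mulEquiv hη.1 c, ?_, ?_⟩
  · intro n h
    have hmem : g⁻¹ * (n : G) * g ∈ N := by
      have := hN.conj_mem n n.2 g⁻¹
      simpa using this
    have h3 := hη.2.1 ⟨g⁻¹ * n * g, hmem⟩ (h1 n h)
    refine h3.trans ?_
    have h4 := S.inv g⁻¹ n
    refine Eq.trans ?_ h4
    congr 1
    apply Subtype.ext
    simp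
  · funext y
    have h3 := detChar_comp_hom c.toMonoidHom (IsIrrCharacter.isCharacter hη.1) y
    have h4 : (fun y : M' => η ⟨g⁻¹ * y * g, h1 y y.2⟩) = fun y : M' => η (c.toMonoidHom y) := rfl
    rw [h4, h3, hη.2.2]
    show μ (g⁻¹ * y * g) = μ y
    have := IsCharacter.isClassFunction S.lin y g⁻¹
    simpa using this


variable (N) in
theorem isSolvable_sup_quotient (H : Subgroup G) [hH : Group.IsSolvable H] :
    Group.IsSolvable ((H ⊔ N : Subgroup G) ⧸ N.subgroupOf (H ⊔ N)) := by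
  let f : H →* (H ⊔ N : Subgroup G) ⧸ N.subgroupOf (H ⊔ N) :=
    (QuotientGroup.quotientInfEquivProdNormalQuotient H N).toMonoidHom.comp
      (QuotientGroup.mk' (N.subgroupOf H))
  have hf : Function.Surjective f := by
    intro y
    obtain ⟨q, rfl⟩ := (QuotientGroup.quotientInfEquivProdNormalQuotient H N).surjective y
    obtain ⟨h, rfl⟩ := QuotientGroup.mk'_surjective (N.subgroupOf H) q
    exact ⟨h, rfl⟩
  exact Group.isSolvable_of_surjective hf

variable (N) in
theorem comm_mod_of_sup (H : Subgroup G) (hH : ∀ a ∈ H, ∀ b ∈ H, a * b = b * a) {a b : G}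
    (ha : a ∈ H ⊔ N) (hb : b ∈ H ⊔ N) : a * b * a⁻¹ * b⁻¹ ∈ N := by
  obtain ⟨h₁, hh₁, n₁, hn₁, rfl⟩ := Subgroup.mem_sup_of_normal_right.mp ha
  obtain ⟨h₂, hh₂, n₂, hn₂, rfl⟩ := Subgroup.mem_sup_of_normal_right.mp hb
  rw [← QuotientGroup.eq_one_iff]
  have e1 : ((n₁ : G) : G ⧸ N) = 1 := (QuotientGroup.eq_one_iff _).mpr hn₁
  have e2 : ((n₂ : G) : G ⧸ N) = 1 := (QuotientGroup.eq_one_iff _).mpr hn₂
  simp only [QuotientGroup.mk_mul, QuotientGroup.mk_inv, e1, e2, mul_one]
  rw [← QuotientGroup.mk_mul, hH h₁ hh₁ h₂ hh₂, QuotientGroup.mk_mul]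
  group

instance isSolvable_zpowers (x : G) : Group.IsSolvable (Subgroup.zpowers x) := by
  apply Group.isSolvable_of_comm
  intro a b
  obtain ⟨a, ha⟩ := a
  obtain ⟨b, hb⟩ := b
  apply Subtype.ext
  obtain ⟨i, rfl⟩ := Subgroup.mem_zpowers_iff.mp ha
  obtain ⟨j, rfl⟩ := Subgroup.mem_zpowers_iff.mp hb
  show x ^ i * x ^ j = x ^ j * x ^ i
  rw [← zpow_add, ← zpow_add, add_comm]

/-- The glued function: at `x`, the value of the canonical extension to `⟨x⟩N`. -/
noncomputable def glueExt (S : ExtSetup N ϑ μ) : G → ℂ := fun x =>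
  Classical.choose (existsUnique_goodExt S (le_sup_right : N ≤ Subgroup.zpowers x ⊔ N)
    (isSolvable_sup_quotient N (Subgroup.zpowers x))).exists
    ⟨x, Subgroup.mem_sup_left (Subgroup.mem_zpowers x)⟩

theorem glueExt_eq (S : ExtSetup N ϑ μ) {M : Subgroup G} (hNM : N ≤ M) {η : M → ℂ}
    (hη : GoodExt N ϑ μ M η) (x : M) : glueExt S (x : G) = η x := by
  have hKM : Subgroup.zpowers (x : G) ⊔ N ≤ M :=
    sup_le (by rw [Subgroup.zpowers_le]; exact x.2) hNM
  have h1 := hη.restrict S le_sup_right hKM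
  have hex := existsUnique_goodExt S (le_sup_right : N ≤ Subgroup.zpowers (x : G) ⊔ N)
    (isSolvable_sup_quotient N (Subgroup.zpowers (x : G)))
  have hu := hex.unique (Classical.choose_spec hex.exists) h1
  unfold glueExt
  rw [hu]


theorem glueExt_res (S : ExtSetup N ϑ μ) (n : N) : glueExt S (n : G) = ϑ n := by
  have hex := existsUnique_goodExt S (le_sup_right : N ≤ Subgroup.zpowers (n : G) ⊔ N)
    (isSolvable_sup_quotient N (Subgroup.zpowers (n : G)))
  exact (Classical.choose_spec hex.exists).2.1 n _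

theorem glueExt_isClassFunction (S : ExtSetup N ϑ μ) : IsClassFunction G (glueExt S) := by
  intro g h
  set K : Subgroup G := Subgroup.zpowers g ⊔ N with hK
  have hex := existsUnique_goodExt S (le_sup_right : N ≤ K) (isSolvable_sup_quotient N _)
  obtain ⟨η, hη, -⟩ := hex
  have hgK : g ∈ K := Subgroup.mem_sup_left (Subgroup.mem_zpowers g)
  let M' : Subgroup G := K.map (MulAut.conj h).toMonoidHom
  have h1 : ∀ y ∈ M', h⁻¹ * y * h ∈ K := by
    intro y hy
    obtain ⟨k, hk, rfl⟩ := Subgroup.mem_map.mp hy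
    have : h⁻¹ * (MulAut.conj h).toMonoidHom k * h = k := by
      simp [MulAut.conj_apply, mul_assoc]
    rw [this]
    exact hk
  have h2 : ∀ x ∈ K, h * x * h⁻¹ ∈ M' := by
    intro x hx
    exact Subgroup.mem_map.mpr ⟨x, hx, by simp [MulAut.conj_apply]⟩
  have hNM' : N ≤ M' := by
    intro n hn
    have hmem : h⁻¹ * n * h ∈ N := by
      have := hN.conj_mem n hn h⁻¹
      simpa using this
    have := h2 _ ((le_sup_right : N ≤ K) hmem)
    simpa [mul_assoc] using this
  have hη' := hη.conj S h h1 h2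
  have e1 := glueExt_eq S hNM' hη' ⟨h * g * h⁻¹, h2 g hgK⟩
  have e2 := glueExt_eq S (le_sup_right : N ≤ K) hη ⟨g, hgK⟩
  rw [e1, e2]
  congr 1
  apply Subtype.ext
  simp [mul_assoc]

theorem glueExt_coset_sum [Fintype N] (S : ExtSetup N ϑ μ) (g : G) :
    ∑ n : N, glueExt S ((n : G) * g) * conj (glueExt S ((n : G) * g)) = (Nat.card N : ℂ) := by
  classical
  set K : Subgroup G := Subgroup.zpowers g ⊔ N with hK
  have hNK : N ≤ K := le_sup_right
  have hex := existsUnique_goodExt S hNK (isSolvable_sup_quotient N _)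
  obtain ⟨η, hη, -⟩ := hex
  have hgK : g ∈ K := Subgroup.mem_sup_left (Subgroup.mem_zpowers g)
  have : Fintype K := Fintype.ofFinite K
  let N' : Subgroup K := N.subgroupOf K
  have hN'n : N'.Normal := Subgroup.normal_subgroupOf
  have : Fintype N' := Fintype.ofFinite N'
  let e : N' ≃* N := Subgroup.subgroupOfEquivOfLe hNK
  have hab : ∀ a b : K, a * b * a⁻¹ * b⁻¹ ∈ N' := by
    intro a b
    apply Subgroup.mem_subgroupOf.mpr
    have := comm_mod_of_sup N (Subgroup.zpowers g) ?_ a.2 b.2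
    · simpa using this
    · intro a ha b hb
      obtain ⟨i, rfl⟩ := Subgroup.mem_zpowers_iff.mp ha
      obtain ⟨j, rfl⟩ := Subgroup.mem_zpowers_iff.mp hb
      rw [← zpow_add, ← zpow_add, add_comm]
  have hres : IsIrrCharacter N' (fun n : N' => η n) := by
    have h1 : (fun n : N' => η n) = ϑ ∘ e := by
      funext n
      exact hη.2.1 (e n) _
    rw [h1]
    exact Cfsg.Agent.Lib.Helper81.isIrrCharacter_comp_mulEquiv S.irr e
  have hcs := coset_sum N' hab η hη.1 hres ⟨g, hgK⟩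
  have hcard : Nat.card N' = Nat.card N := Nat.card_congr e.toEquiv
  rw [← hcard, ← hcs]
  symm
  apply Fintype.sum_equiv e.toEquiv
  intro n'
  have e1 := glueExt_eq S hNK hη ((n' : K) * ⟨g, hgK⟩)
  have e2 : (((n' : K) * ⟨g, hgK⟩ : K) : G) = ((e.toEquiv n' : N) : G) * g := rfl
  rw [← e2, e1]

/-- **Gallagher's extension theorem** (Isaacs 8.15/8.16): an invariant irreducible character of a
normal subgroup `N`, of degree prime to `|G : N|`, whose determinant extends to `G`, extends to `G`. -/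
theorem exists_extension_of_det_extends_general (hϑ : IsIrrCharacter N ϑ)
    (hinv : ∀ (g : G) (n : N), ϑ ⟨g * n * g⁻¹, hN.conj_mem (n : G) n.2 g⟩ = ϑ n)
    (d : ℕ) (hd : ϑ 1 = d) (hcop : Nat.Coprime N.index d)
    (hμ : IsCharacter G μ) (hμ1 : μ 1 = 1) (hμN : ∀ n : N, μ n = Cfsg.detChar ϑ n) :
    ∃ χ : G → ℂ, IsIrrCharacter G χ ∧ ∀ n : N, χ n = ϑ n := by
  classical
  have : Fintype G := Fintype.ofFinite G
  have : Fintype N := Fintype.ofFinite N
  have S : ExtSetup N ϑ μ := ⟨hϑ, hinv, ⟨d, hd, hcop⟩, hμ, hμ1, hμN⟩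
  set χ : G → ℂ := glueExt S with hχdef
  have hcl : IsClassFunction G χ := glueExt_isClassFunction S
  have hgen : IsGeneralizedCharacter G χ := by
    apply Cfsg.Agent.S0164.result χ hcl
    intro E p hp hE
    have : Group.IsNilpotent E := Cfsg.Agent.Lib.Helper3.isNilpotent_of_isElementary hp hE
    have : Group.IsSolvable E := inferInstance
    obtain ⟨η, hη, -⟩ := existsUnique_goodExt S (le_sup_right : N ≤ E ⊔ N)
      (isSolvable_sup_quotient N E)
    have h1 : (fun e : E => χ e) = fun e : E => η (Subgroup.inclusion (le_sup_left : E ≤ E ⊔ N) e) := by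
      funext e
      exact glueExt_eq S (le_sup_right : N ≤ E ⊔ N) hη (Subgroup.inclusion le_sup_left e)
    rw [h1]
    exact Cfsg.Agent.Lib.Helper26.isGeneralizedCharacter_of_isCharacter
      (Cfsg.Agent.Lib.Helper81.isCharacter_comp (IsIrrCharacter.isCharacter hη.1) _)
  have hnorm : classInner χ χ = 1 := by
    unfold classInner
    have hN0 : (Nat.card N : ℂ) ≠ 0 := by
      have : Nat.card N ≠ 0 := Nat.card_pos.ne'
      exact_mod_cast this
    have hG0 : (Nat.card G : ℂ) ≠ 0 := by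
      have : Nat.card G ≠ 0 := Nat.card_pos.ne'
      exact_mod_cast this
    have h1 : (Nat.card N : ℂ) * ∑ g : G, χ g * conj (χ g) = (Nat.card G : ℂ) * (Nat.card N : ℂ) := by
      have h2 : (Nat.card N : ℂ) * ∑ g : G, χ g * conj (χ g) =
          ∑ n : N, ∑ g : G, χ ((n : G) * g) * conj (χ ((n : G) * g)) := by
        have h4 : ∀ n : N, ∑ g : G, χ ((n : G) * g) * conj (χ ((n : G) * g)) =
            ∑ g : G, χ g * conj (χ g) := by
          intro n
          exact Fintype.sum_equiv (Equiv.mulLeft (n : G)) _ _ (fun g => rfl)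
        simp only [h4, Finset.sum_const, Finset.card_univ, nsmul_eq_mul, Nat.card_eq_fintype_card]
      rw [h2, Finset.sum_comm]
      simp only [hχdef, glueExt_coset_sum S]
      simp [Nat.card_eq_fintype_card]
    have h3 : ∑ g : G, χ g * conj (χ g) = (Nat.card G : ℂ) := by
      have : (Nat.card N : ℂ) * ∑ g : G, χ g * conj (χ g) = (Nat.card N : ℂ) * (Nat.card G : ℂ) := by
        rw [h1, mul_comm]
      exact mul_left_cancel₀ hN0 this
    rw [h3, inv_mul_cancel₀ hG0]
  obtain ⟨ψ, hψ, h | h⟩ := (Cfsg.Agent.Lib.Helper26.irrFacts G).norm_one hgen hnorm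
  · refine ⟨χ, h ▸ hψ, ?_⟩
    intro n
    exact glueExt_res S n
  · exfalso
    have h1 : χ 1 = d := by
      have := glueExt_res S (1 : N)
      rw [hd] at this
      exact this
    have h2 : ψ 1 = (Cfsg.charDegree ψ : ℂ) :=
      Cfsg.Agent.Lib.Helper79.irr_apply_one_eq_charDegree ⟨ψ, hψ⟩
    have h3 : 0 < Cfsg.charDegree ψ := Cfsg.Agent.Lib.Helper79.irr_charDegree_pos ⟨ψ, hψ⟩
    have h4 : χ 1 = -ψ 1 := by rw [h]; rfl
    rw [h1, h2] at h4
    have h5 : ((d + Cfsg.charDegree ψ : ℕ) : ℂ) = 0 := by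
      push_cast
      rw [h4]; ring
    have h6 : d + Cfsg.charDegree ψ = 0 := by exact_mod_cast h5
    omega

end Glue

end Cfsg.Agent.Lib.Helper15
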