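import Mathlib
import Cfsg.Prelude.Def_GeometricClasses
import Cfsg.Agent.Lib.Helper99.AschDefs
import Cfsg.Agent.Lib.Helper70.AschU.Defs
import Cfsg.Agent.Lib.Helper37.Asch.FormKit2

/-!
# Project ASCHU, module [SLOT-INV] (helper15): a slot-invariant form on a tensor power restricts to
an invertible invariant form on the slot
-/

set_option autoImplicit false

namespace Cfsg.Agent.Lib.Helper15.AschUSlotInv

open Cfsg Cfsg.Geo Cfsg.Agent.Lib.Helper99.Asch
open scoped MatrixGroups Matrix Kronecker

variable {F : Type*} [Field F] {k d : ℕ}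

/-- summing against a slot pattern -/
theorem sum_slot (i : Fin k) (x : Fin k → Fin d) (g : Fin d → F) (f : (Fin k → Fin d) → F) :
    ∑ x' : Fin k → Fin d, (if ∀ j, j ≠ i → x' j = x j then g (x' i) else 0) * f x' =
      ∑ α, g α * f (Function.update x i α) := by
  have hinj : Function.Injective (fun α : Fin d => Function.update x i α) := by
    intro α β h
    have := congrFun h i
    simpa using this
  have h1 : ∑ x' : Fin k → Fin d, (if ∀ j, j ≠ i → x' j = x j then g (x' i) else 0) * f x' =
      ∑ x' ∈ Finset.univ.image (fun α : Fin d => Function.update x i α),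
        (if ∀ j, j ≠ i → x' j = x j then g (x' i) else 0) * f x' := by
    symm
    apply Finset.sum_subset (Finset.subset_univ _)
    intro x' _ hx'
    rw [if_neg, zero_mul]
    intro hc
    apply hx'
    rw [Finset.mem_image]
    refine ⟨x' i, Finset.mem_univ _, ?_⟩
    funext j
    by_cases hj : j = i
    · subst hj; rw [Function.update_self]
    · rw [Function.update_of_ne hj, hc j hj]
  rw [h1, Finset.sum_image (fun a _ b _ h => hinj h)]
  refine Finset.sum_congr rfl fun α _ => ?_
  rw [if_pos, Function.update_self]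
  intro j hj
  rw [Function.update_of_ne hj]

theorem slot_form_apply (τ : F ≃+* F) (i : Fin k) (a : Matrix (Fin d) (Fin d) F)
    (J : Matrix (Fin k → Fin d) (Fin k → Fin d) F) (x y : Fin k → Fin d) :
    ((slotMatrix i a)ᵀ * J * (slotMatrix i a).map τ) x y =
      ∑ β, (∑ α, a α (x i) * J (Function.update x i α) (Function.update y i β)) * τ (a β (y i)) := by
  have h1 : ∀ y' : Fin k → Fin d, ((slotMatrix i a)ᵀ * J) x y' =
      ∑ α, a α (x i) * J (Function.update x i α) y' := by
    intro y'
    rw [Matrix.mul_apply]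
    simp only [Matrix.transpose_apply, slotMatrix]
    exact sum_slot i x (fun α => a α (x i)) (fun x' => J x' y')
  rw [Matrix.mul_apply]
  have h2 : ∀ y' : Fin k → Fin d, ((slotMatrix i a)ᵀ * J) x y' * (slotMatrix i a).map τ y' y =
      (if ∀ j, j ≠ i → y' j = y j then τ (a (y' i) (y i)) else 0) *
        ∑ α, a α (x i) * J (Function.update x i α) y' := by
    intro y'
    rw [h1 y', Matrix.map_apply, mul_comm]
    congr 1
    simp only [slotMatrix]
    split_ifs
    · rfl
    · exact map_zero τ
  rw [Finset.sum_congr rfl (fun y' _ => h2 y'),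
    sum_slot i y (fun β => τ (a β (y i))) (fun y' => ∑ α, a α (x i) * J (Function.update x i α) y')]
  refine Finset.sum_congr rfl fun β _ => ?_
  rw [mul_comm]

theorem isUnit_map (τ : F ≃+* F) (a : Matrix (Fin d) (Fin d) F) (ha : IsUnit a) : IsUnit (a.map τ) := by
  rw [Matrix.isUnit_iff_isUnit_det] at ha ⊢
  have h := RingEquiv.map_det τ a
  have h2 : τ.mapMatrix a = a.map τ := rfl
  rw [h2] at h
  rw [← h]
  exact ha.map τ

/-- an invariant non-zero form of a spanning set of invertible matrices is invertible -/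
theorem isUnit_of_invariant (τ : F ≃+* F) (A : Set (Matrix (Fin d) (Fin d) F))
    (hA : Submodule.span F A = ⊤) (hAu : ∀ a ∈ A, IsUnit a) (G : Matrix (Fin d) (Fin d) F) (hG : G ≠ 0)
    (hinv : ∀ a ∈ A, aᵀ * G * a.map τ = G) : IsUnit G := by
  rw [← Matrix.isUnit_transpose, ← Matrix.mulVec_injective_iff_isUnit]
  -- the kernel of `Gᵀ` is invariant under `A`, hence under all matrices
  let S : Submodule F (Matrix (Fin d) (Fin d) F) :=
    { carrier := {M | ∀ w : Fin d → F, Gᵀ *ᵥ w = 0 → Gᵀ *ᵥ (M *ᵥ w) = 0}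
      add_mem' := by
        intro M N hM hN w hw
        rw [Matrix.add_mulVec, Matrix.mulVec_add, hM w hw, hN w hw, add_zero]
      zero_mem' := by
        intro w _
        rw [Matrix.zero_mulVec, Matrix.mulVec_zero]
      smul_mem' := by
        intro c M hM w hw
        rw [Matrix.smul_mulVec, Matrix.mulVec_smul, hM w hw, smul_zero] }
  have hAS : A ⊆ S := by
    intro a ha w hw
    have h1 := hinv a ha
    have h2 : (a.map τ)ᵀ * Gᵀ * a = Gᵀ := by
      have := congrArg Matrix.transpose h1
      rw [Matrix.transpose_mul, Matrix.transpose_mul, Matrix.transpose_transpose, ← mul_assoc] at this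
      exact this
    have h3 : (a.map τ)ᵀ *ᵥ (Gᵀ *ᵥ (a *ᵥ w)) = 0 := by
      rw [Matrix.mulVec_mulVec, Matrix.mulVec_mulVec, h2, hw]
    have hu : IsUnit (a.map τ)ᵀ := by
      rw [Matrix.isUnit_transpose]; exact isUnit_map τ a (hAu a ha)
    have hinj := Matrix.mulVec_injective_iff_isUnit.mpr hu
    apply hinj
    rw [h3, Matrix.mulVec_zero]
  have hS : S = ⊤ := by
    rw [eq_top_iff, ← hA]
    exact Submodule.span_le.mpr hAS
  have hker : ∀ w : Fin d → F, Gᵀ *ᵥ w = 0 → w = 0 := by
    intro w hw
    by_contra hw0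
    obtain ⟨j, hj⟩ : ∃ j, w j ≠ 0 := by
      by_contra hc
      push Not at hc
      exact hw0 (funext hc)
    apply hG
    have hall : ∀ v : Fin d → F, Gᵀ *ᵥ v = 0 := by
      intro v
      have hM : (Matrix.of fun r c => if c = j then v r * (w j)⁻¹ else 0 : Matrix (Fin d) (Fin d) F) ∈ S := by
        rw [hS]; trivial
      have h1 := hM w hw
      have h2 : (Matrix.of fun r c => if c = j then v r * (w j)⁻¹ else 0 : Matrix (Fin d) (Fin d) F) *ᵥ w
          = v := by
        funext r
        simp only [Matrix.mulVec, dotProduct, Matrix.of_apply]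
        rw [Finset.sum_eq_single j]
        · rw [if_pos rfl, mul_assoc, inv_mul_cancel₀ hj, mul_one]
        · intro c _ hc
          rw [if_neg hc, zero_mul]
        · intro h; exact absurd (Finset.mem_univ _) h
      rwa [h2] at h1
    ext r c
    have := congrFun (hall (Pi.single r 1)) c
    rw [Matrix.mulVec_single_one] at this
    simpa using this
  intro u v huv
  have h1 : Gᵀ *ᵥ (u - v) = 0 := by
    rw [Matrix.mulVec_sub]
    exact sub_eq_zero.mpr huv
  exact sub_eq_zero.mp (hker _ h1)

end Cfsg.Agent.Lib.Helper15.AschUSlotInv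

namespace Cfsg.Agent.Lib.Helper70.AschU

open Cfsg Cfsg.Geo Cfsg.Agent.Lib.Helper99.Asch Cfsg.Agent.Lib.Helper37.Asch
open Cfsg.Agent.Lib.Helper15.AschUSlotInv
open scoped MatrixGroups Matrix Kronecker

variable {n : ℕ} {F : Type*} [Field F] [Fintype F] {q : ℕ} {σ : F ≃+* F}

/-- ASCHU-[SLOT-INV]. -/
theorem exists_slot_form {k d : ℕ} (τ : F ≃+* F) (i : Fin k) (A : Set (Matrix (Fin d) (Fin d) F))
    (hA : Submodule.span F A = ⊤) (hAu : ∀ a ∈ A, IsUnit a)
    (J : Matrix (Fin k → Fin d) (Fin k → Fin d) F) (hJ : J ≠ 0)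
    (hfix : ∀ a ∈ A, (slotMatrix i a)ᵀ * J * (slotMatrix i a).map τ = J) :
    ∃ G : Matrix (Fin d) (Fin d) F, IsUnit G ∧ ∀ a ∈ A, aᵀ * G * a.map τ = G := by
  obtain ⟨x₀, y₀, hxy⟩ : ∃ x₀ y₀, J x₀ y₀ ≠ 0 := by
    by_contra hc
    push Not at hc
    apply hJ
    ext x y
    exact hc x y
  set G : Matrix (Fin d) (Fin d) F :=
    Matrix.of fun α β => J (Function.update x₀ i α) (Function.update y₀ i β) with hGdef
  have hinv : ∀ a ∈ A, aᵀ * G * a.map τ = G := by
    intro a ha
    ext α₀ β₀
    have h1 := congrFun (congrFun (hfix a ha) (Function.update x₀ i α₀)) (Function.update y₀ i β₀)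
    rw [slot_form_apply] at h1
    simp only [Function.update_self, Function.update_idem] at h1
    rw [Matrix.mul_apply]
    simp only [Matrix.mul_apply, Matrix.transpose_apply, Matrix.map_apply]
    exact h1
  have hG0 : G ≠ 0 := by
    intro h
    apply hxy
    have := congrFun (congrFun h (x₀ i)) (y₀ i)
    simpa [hGdef, Function.update_eq_self] using this
  exact ⟨G, isUnit_of_invariant τ A hA hAu G hG0 hinv, hinv⟩

end Cfsg.Agent.Lib.Helper70.AschU
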