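import Mathlib
import Cfsg.Prelude.Def_GeometricClasses
import Cfsg.Agent.Lib.Helper99.AschDefs
import Cfsg.Agent.Lib.Helper54.AschSN

/-!
# Project ASCH, module [SLOTNORM] (hedge by helper15): library part

`PT as` = generalized pure tensor of arbitrary `d × d` matrices, `PM τ` = factor permutation matrix,
`slotMatrix i a = PT (update 1 i a)`, multiplicativity, and the main theorem
`mem_tensorWreathStandard_of_permutes_slots_pos` (sheet statement plus the necessary hypothesis `0 < k`;
for `k = 0` the sheet statement is false when `F` has more than two elements).  No `Fintype F` needed.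
-/

set_option autoImplicit false

namespace Cfsg.Agent.Lib.Helper15.AschSlotNorm

open Cfsg Cfsg.Geo Cfsg.Agent.Lib.Helper99.Asch
open scoped MatrixGroups Matrix Kronecker

variable {F : Type*} [Field F] {k d : ℕ}

/-- generalized pure tensor of arbitrary matrices -/
def PT (as : Fin k → Matrix (Fin d) (Fin d) F) : Matrix (Fin k → Fin d) (Fin k → Fin d) F :=
  fun x y => ∏ i, as i (x i) (y i)

theorem PT_mul (as bs : Fin k → Matrix (Fin d) (Fin d) F) :
    PT as * PT bs = PT (fun i => as i * bs i) := by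
  ext x z
  simp only [Matrix.mul_apply, PT]
  rw [Finset.prod_univ_sum]
  simp only [Fintype.piFinset_univ, Finset.prod_mul_distrib]

theorem PT_one : PT (fun _ : Fin k => (1 : Matrix (Fin d) (Fin d) F)) = 1 := by
  ext x y
  simp only [PT, Matrix.one_apply]
  rw [Fintype.prod_boole]
  simp [funext_iff]

theorem slot_eq_PT (i : Fin k) (a : Matrix (Fin d) (Fin d) F) :
    slotMatrix i a = PT (Function.update (fun _ => (1 : Matrix (Fin d) (Fin d) F)) i a) := by
  ext x y
  simp only [slotMatrix, PT]
  rw [← Finset.mul_prod_erase Finset.univ _ (Finset.mem_univ i)]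
  simp only [Function.update_self]
  have : ∏ j ∈ Finset.univ.erase i,
      (Function.update (fun _ => (1 : Matrix (Fin d) (Fin d) F)) i a j) (x j) (y j)
      = if ∀ j, j ≠ i → x j = y j then 1 else 0 := by
    rw [Finset.prod_congr rfl (g := fun j => if x j = y j then (1 : F) else 0)]
    · rw [Finset.prod_boole]; simp [Finset.mem_erase]
    · intro j hj
      rw [Function.update_of_ne (Finset.ne_of_mem_erase hj)]
      simp [Matrix.one_apply]
  rw [this]
  split_ifs <;> simp

/-- factor permutation matrix -/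
def PM (τ : Equiv.Perm (Fin k)) : Matrix (Fin k → Fin d) (Fin k → Fin d) F :=
  fun x y => if y = x ∘ τ then 1 else 0

theorem PM_mul (τ τ' : Equiv.Perm (Fin k)) :
    (PM τ : Matrix (Fin k → Fin d) (Fin k → Fin d) F) * PM τ' = PM (τ * τ') := by
  ext x z
  simp only [Matrix.mul_apply, PM]
  rw [Finset.sum_eq_single (x ∘ τ)]
  · have h1 : (x ∘ τ) ∘ τ' = x ∘ ⇑(τ * τ') := by funext j; simp
    rw [if_pos rfl, one_mul, h1]
  · intro y _ hy; simp [hy]
  · simp

theorem PM_one : (PM (1 : Equiv.Perm (Fin k)) : Matrix (Fin k → Fin d) (Fin k → Fin d) F) = 1 := by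
  ext x y; simp [PM, Matrix.one_apply, eq_comm]

theorem PM_slot (τ : Equiv.Perm (Fin k)) (i : Fin k) (a : Matrix (Fin d) (Fin d) F) :
    PM τ * slotMatrix i a = slotMatrix (τ i) a * PM τ := by
  ext x z
  simp only [Matrix.mul_apply, PM, slotMatrix]
  rw [Finset.sum_eq_single (x ∘ τ), Finset.sum_eq_single (z ∘ τ.symm)]
  · have hz : z = (z ∘ τ.symm) ∘ τ := by funext j; simp
    rw [if_pos rfl, if_pos hz, one_mul, mul_one]
    have hiff : (∀ j, j ≠ i → (x ∘ τ) j = z j) ↔ (∀ j, j ≠ τ i → x j = (z ∘ τ.symm) j) := by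
      constructor
      · intro h j hj
        have := h (τ.symm j) (by intro hc; apply hj; rw [← hc]; simp)
        simpa using this
      · intro h j hj
        have := h (τ j) (by intro hc; exact hj (τ.injective hc))
        simpa using this
    by_cases hc : ∀ j, j ≠ i → (x ∘ τ) j = z j
    · rw [if_pos hc, if_pos (hiff.mp hc)]; simp
    · rw [if_neg hc, if_neg (fun h => hc (hiff.mpr h))]
  · intro w _ hw
    have : ¬ z = w ∘ τ := by
      intro hc; apply hw; rw [hc]; funext j; simp
    simp [this]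
  · simp
  · intro y _ hy; simp [hy]
  · simp


theorem slot_one (i : Fin k) : slotMatrix i (1 : Matrix (Fin d) (Fin d) F) = 1 := by
  ext x y
  simp only [slotMatrix, Matrix.one_apply]
  by_cases hxy : x = y
  · subst hxy; simp
  · rw [if_neg hxy]
    by_cases hc : ∀ j, j ≠ i → x j = y j
    · rw [if_pos hc]
      have : x i ≠ y i := by
        intro h; apply hxy; funext j
        by_cases hj : j = i
        · subst hj; exact h
        · exact hc j hj
      rw [if_neg this]
    · rw [if_neg hc]

theorem slot_mul (i : Fin k) (a b : Matrix (Fin d) (Fin d) F) :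
    slotMatrix i (a * b) = slotMatrix i a * slotMatrix i b := by
  rw [slot_eq_PT, slot_eq_PT, slot_eq_PT, PT_mul]
  congr 1
  funext j
  by_cases hj : j = i
  · subst hj; simp
  · simp [Function.update_of_ne hj]

theorem slot_add (i : Fin k) (a b : Matrix (Fin d) (Fin d) F) :
    slotMatrix i (a + b) = slotMatrix i a + slotMatrix i b := by
  ext x y
  simp only [slotMatrix, Matrix.add_apply]
  split_ifs <;> simp

theorem slot_smul (i : Fin k) (c : F) (a : Matrix (Fin d) (Fin d) F) :
    slotMatrix i (c • a) = c • slotMatrix i a := by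
  ext x y
  simp only [slotMatrix, Matrix.smul_apply]
  split_ifs <;> simp

theorem slot_zero (i : Fin k) : slotMatrix i (0 : Matrix (Fin d) (Fin d) F) = 0 := by
  ext x y
  simp [slotMatrix]

theorem slot_injective (hd : 0 < d) (i : Fin k) :
    Function.Injective (slotMatrix (F := F) (k := k) (d := d) i) := by
  intro a b hab
  ext p q
  have h := congrFun (congrFun hab (Function.update (fun _ => (⟨0, hd⟩ : Fin d)) i p))
    (Function.update (fun _ => (⟨0, hd⟩ : Fin d)) i q)
  simp only [slotMatrix] at h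
  have hc : ∀ j, j ≠ i → Function.update (fun _ => (⟨0, hd⟩ : Fin d)) i p j =
      Function.update (fun _ => (⟨0, hd⟩ : Fin d)) i q j := by
    intro j hj; simp [Function.update_of_ne hj]
  rw [if_pos hc, if_pos hc] at h
  simpa using h

/-- conjugation by an invertible matrix preserving the slot algebra is inner on the slot -/
theorem exists_conj_of_slot (hd : 0 < d) (i : Fin k)
    (G Ginv : Matrix (Fin k → Fin d) (Fin k → Fin d) F) (h1 : G * Ginv = 1) (h2 : Ginv * G = 1)
    (h : ∀ a : Matrix (Fin d) (Fin d) F, ∃ a' : Matrix (Fin d) (Fin d) F,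
      G * slotMatrix i a * Ginv = slotMatrix i a') :
    ∃ b : GL (Fin d) F, ∀ a : Matrix (Fin d) (Fin d) F,
      G * slotMatrix i a * Ginv =
        slotMatrix i ((b : Matrix (Fin d) (Fin d) F) * a * ((b⁻¹ : GL (Fin d) F) : Matrix (Fin d) (Fin d) F)) := by
  choose ψ hψ using h
  have inj := slot_injective (F := F) (k := k) hd i
  let φ : Matrix (Fin d) (Fin d) F →ₐ[F] Matrix (Fin d) (Fin d) F :=
    { toFun := ψ
      map_one' := by
        apply inj
        rw [← hψ, slot_one, Matrix.mul_one, h1]
      map_mul' := by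
        intro a b
        apply inj
        rw [← hψ, slot_mul, slot_mul, ← hψ, ← hψ]
        calc G * (slotMatrix i a * slotMatrix i b) * Ginv
            = G * slotMatrix i a * 1 * slotMatrix i b * Ginv := by
              rw [Matrix.mul_one]; simp only [Matrix.mul_assoc]
          _ = G * slotMatrix i a * (Ginv * G) * slotMatrix i b * Ginv := by rw [h2]
          _ = G * slotMatrix i a * Ginv * (G * slotMatrix i b * Ginv) := by
              simp only [Matrix.mul_assoc]
      map_zero' := by
        apply inj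
        rw [← hψ, slot_zero]; simp
      map_add' := by
        intro a b
        apply inj
        rw [← hψ, slot_add, slot_add, ← hψ, ← hψ, Matrix.mul_add, Matrix.add_mul]
      commutes' := by
        intro c
        apply inj
        rw [← hψ, Algebra.algebraMap_eq_smul_one, slot_smul, slot_one]
        rw [Matrix.mul_smul, Matrix.smul_mul, Matrix.mul_one, h1] }
  obtain ⟨b, hb⟩ := Cfsg.Agent.Lib.Helper99.Asch.skolem_noether φ
  refine ⟨b, fun a => ?_⟩
  rw [hψ a]
  congr 1
  exact hb a


/-- a matrix commuting with all slot matrices commutes with all generalized pure tensors -/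
theorem commute_PT (U : Matrix (Fin k → Fin d) (Fin k → Fin d) F)
    (hU : ∀ i (a : Matrix (Fin d) (Fin d) F), Commute U (slotMatrix i a))
    (as : Fin k → Matrix (Fin d) (Fin d) F) : Commute U (PT as) := by
  classical
  have key : ∀ S : Finset (Fin k), Commute U (PT (fun j => if j ∈ S then as j else 1)) := by
    intro S
    induction S using Finset.induction_on with
    | empty =>
      have : (fun j : Fin k => if j ∈ (∅ : Finset (Fin k)) then as j else (1 : Matrix (Fin d) (Fin d) F))
          = fun _ => 1 := by funext j; simp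
      rw [this, PT_one]
      exact Commute.one_right U
    | insert i S hi ih =>
      have : PT (fun j => if j ∈ insert i S then as j else (1 : Matrix (Fin d) (Fin d) F))
          = slotMatrix i (as i) * PT (fun j => if j ∈ S then as j else 1) := by
        rw [slot_eq_PT, PT_mul]
        congr 1
        funext j
        by_cases hj : j = i
        · subst hj; simp [hi]
        · simp [hj]
      rw [this]
      exact (hU i (as i)).mul_right ih
  have := key Finset.univ
  simpa using this

theorem single_eq_PT (x y : Fin k → Fin d) :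
    Matrix.single x y (1 : F) = PT (fun i => Matrix.single (x i) (y i) (1 : F)) := by
  ext x' y'
  simp only [PT, Matrix.single_apply]
  rw [Fintype.prod_boole]
  congr 1
  simp only [funext_iff, eq_iff_iff]
  constructor
  · rintro ⟨h1, h2⟩ i; exact ⟨h1 i, h2 i⟩
  · intro h; exact ⟨fun i => (h i).1, fun i => (h i).2⟩


theorem mem_tensorWreathStandard_of_permutes_slots_pos (hk : 0 < k)
    (g : GL (Fin k → Fin d) F) (σ : Equiv.Perm (Fin k))
    (hg : ∀ i (a : Matrix (Fin d) (Fin d) F), ∃ a' : Matrix (Fin d) (Fin d) F,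
      (g : Matrix (Fin k → Fin d) (Fin k → Fin d) F) * slotMatrix i a *
        ((g⁻¹ : GL (Fin k → Fin d) F) : Matrix (Fin k → Fin d) (Fin k → Fin d) F) =
        slotMatrix (σ i) a') :
    g ∈ tensorWreathStandard d k F := by
  classical
  rcases Nat.eq_zero_or_pos d with hd | hd
  · subst hd
    have : IsEmpty (Fin k → Fin 0) := ⟨fun x => (x ⟨0, hk⟩).elim0⟩
    have : g = 1 := Units.ext (Subsingleton.elim _ _)
    rw [this]; exact Subgroup.one_mem _
  -- main case
  have hPP : (PM σ : Matrix (Fin k → Fin d) (Fin k → Fin d) F) * PM σ⁻¹ = 1 := by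
    rw [PM_mul, mul_inv_cancel, PM_one]
  have hPP' : (PM σ⁻¹ : Matrix (Fin k → Fin d) (Fin k → Fin d) F) * PM σ = 1 := by
    rw [PM_mul, inv_mul_cancel, PM_one]
  have hgg : (g : Matrix (Fin k → Fin d) (Fin k → Fin d) F) *
      ((g⁻¹ : GL (Fin k → Fin d) F) : Matrix (Fin k → Fin d) (Fin k → Fin d) F) = 1 := by
    rw [← Units.val_mul, mul_inv_cancel, Units.val_one]
  have hgg' : ((g⁻¹ : GL (Fin k → Fin d) F) : Matrix (Fin k → Fin d) (Fin k → Fin d) F) *
      (g : Matrix (Fin k → Fin d) (Fin k → Fin d) F) = 1 := by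
    rw [← Units.val_mul, inv_mul_cancel, Units.val_one]
  obtain ⟨G, hG⟩ : ∃ G : Matrix (Fin k → Fin d) (Fin k → Fin d) F,
      G = PM σ⁻¹ * (g : Matrix (Fin k → Fin d) (Fin k → Fin d) F) := ⟨_, rfl⟩
  obtain ⟨Ginv, hGinv⟩ : ∃ Ginv : Matrix (Fin k → Fin d) (Fin k → Fin d) F,
      Ginv = ((g⁻¹ : GL (Fin k → Fin d) F) : Matrix (Fin k → Fin d) (Fin k → Fin d) F) * PM σ :=
    ⟨_, rfl⟩
  have h1 : G * Ginv = 1 := by
    rw [hG, hGinv]
    calc PM σ⁻¹ * (g : Matrix (Fin k → Fin d) (Fin k → Fin d) F) *
          (((g⁻¹ : GL (Fin k → Fin d) F) : Matrix (Fin k → Fin d) (Fin k → Fin d) F) * PM σ)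
        = PM σ⁻¹ * ((g : Matrix (Fin k → Fin d) (Fin k → Fin d) F) *
          ((g⁻¹ : GL (Fin k → Fin d) F) : Matrix (Fin k → Fin d) (Fin k → Fin d) F)) * PM σ := by
          simp only [Matrix.mul_assoc]
      _ = 1 := by rw [hgg, Matrix.mul_one, hPP']
  have h2 : Ginv * G = 1 := by
    rw [hG, hGinv]
    calc ((g⁻¹ : GL (Fin k → Fin d) F) : Matrix (Fin k → Fin d) (Fin k → Fin d) F) * PM σ *
          (PM σ⁻¹ * (g : Matrix (Fin k → Fin d) (Fin k → Fin d) F))
        = ((g⁻¹ : GL (Fin k → Fin d) F) : Matrix (Fin k → Fin d) (Fin k → Fin d) F) *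
          (PM σ * PM σ⁻¹) * (g : Matrix (Fin k → Fin d) (Fin k → Fin d) F) := by
          simp only [Matrix.mul_assoc]
      _ = 1 := by rw [hPP, Matrix.mul_one, hgg']
  have hconj : ∀ i (a : Matrix (Fin d) (Fin d) F), ∃ a' : Matrix (Fin d) (Fin d) F,
      G * slotMatrix i a * Ginv = slotMatrix i a' := by
    intro i a
    obtain ⟨a', ha'⟩ := hg i a
    refine ⟨a', ?_⟩
    rw [hG, hGinv]
    calc PM σ⁻¹ * (g : Matrix (Fin k → Fin d) (Fin k → Fin d) F) * slotMatrix i a *
          (((g⁻¹ : GL (Fin k → Fin d) F) : Matrix (Fin k → Fin d) (Fin k → Fin d) F) * PM σ)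
        = PM σ⁻¹ * ((g : Matrix (Fin k → Fin d) (Fin k → Fin d) F) * slotMatrix i a *
          ((g⁻¹ : GL (Fin k → Fin d) F) : Matrix (Fin k → Fin d) (Fin k → Fin d) F)) * PM σ := by
          simp only [Matrix.mul_assoc]
      _ = PM σ⁻¹ * (slotMatrix (σ i) a' * PM σ) := by rw [ha', Matrix.mul_assoc]
      _ = PM σ⁻¹ * (PM σ * slotMatrix i a') := by rw [PM_slot]
      _ = slotMatrix i a' := by rw [← Matrix.mul_assoc, hPP', Matrix.one_mul]
  choose b hb using fun i => exists_conj_of_slot hd i G Ginv h1 h2 (hconj i)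
  obtain ⟨T, hT⟩ : ∃ T : Matrix (Fin k → Fin d) (Fin k → Fin d) F,
      T = PT (fun i => ((b i : GL (Fin d) F) : Matrix (Fin d) (Fin d) F)) := ⟨_, rfl⟩
  obtain ⟨Tinv, hTinv⟩ : ∃ Tinv : Matrix (Fin k → Fin d) (Fin k → Fin d) F,
      Tinv = PT (fun i => (((b i)⁻¹ : GL (Fin d) F) : Matrix (Fin d) (Fin d) F)) := ⟨_, rfl⟩
  have hTT : T * Tinv = 1 := by
    rw [hT, hTinv, PT_mul]
    have : (fun i => ((b i : GL (Fin d) F) : Matrix (Fin d) (Fin d) F) *
        (((b i)⁻¹ : GL (Fin d) F) : Matrix (Fin d) (Fin d) F)) = fun _ => 1 := by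
      funext i; rw [← Units.val_mul, mul_inv_cancel, Units.val_one]
    rw [this, PT_one]
  have hTT' : Tinv * T = 1 := by
    rw [hT, hTinv, PT_mul]
    have : (fun i => (((b i)⁻¹ : GL (Fin d) F) : Matrix (Fin d) (Fin d) F) *
        ((b i : GL (Fin d) F) : Matrix (Fin d) (Fin d) F)) = fun _ => 1 := by
      funext i; rw [← Units.val_mul, inv_mul_cancel, Units.val_one]
    rw [this, PT_one]
  have hTslot : ∀ i (a : Matrix (Fin d) (Fin d) F), T * slotMatrix i a * Tinv =
      slotMatrix i (((b i : GL (Fin d) F) : Matrix (Fin d) (Fin d) F) * a *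
        (((b i)⁻¹ : GL (Fin d) F) : Matrix (Fin d) (Fin d) F)) := by
    intro i a
    rw [hT, hTinv, slot_eq_PT, slot_eq_PT, PT_mul, PT_mul]
    congr 1
    funext j
    by_cases hj : j = i
    · subst hj; simp
    · simp only [Function.update_of_ne hj, Matrix.mul_one]
      rw [← Units.val_mul, mul_inv_cancel, Units.val_one]
  obtain ⟨U, hU⟩ : ∃ U : Matrix (Fin k → Fin d) (Fin k → Fin d) F, U = Tinv * G := ⟨_, rfl⟩
  have hUcomm : ∀ i (a : Matrix (Fin d) (Fin d) F), Commute U (slotMatrix i a) := by
    intro i a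
    show U * slotMatrix i a = slotMatrix i a * U
    calc U * slotMatrix i a = Tinv * (G * slotMatrix i a * Ginv) * G := by
          rw [hU]
          calc Tinv * G * slotMatrix i a = Tinv * (G * slotMatrix i a * 1) := by
                rw [Matrix.mul_one]; simp only [Matrix.mul_assoc]
            _ = Tinv * (G * slotMatrix i a * (Ginv * G)) := by rw [h2]
            _ = Tinv * (G * slotMatrix i a * Ginv) * G := by simp only [Matrix.mul_assoc]
      _ = Tinv * (T * slotMatrix i a * Tinv) * G := by rw [hb, hTslot]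
      _ = slotMatrix i a * U := by
          rw [hU]
          calc Tinv * (T * slotMatrix i a * Tinv) * G
              = (Tinv * T) * slotMatrix i a * (Tinv * G) := by simp only [Matrix.mul_assoc]
            _ = slotMatrix i a * (Tinv * G) := by rw [hTT', Matrix.one_mul]
  have hUscalar : U ∈ Set.range (Matrix.scalar (Fin k → Fin d)) := by
    apply Matrix.mem_range_scalar_of_commute_single
    intro x y _
    rw [single_eq_PT]
    exact (commute_PT U hUcomm _).symm
  obtain ⟨c, hc⟩ := hUscalar
  have hUinv : U * (Ginv * T) = 1 := by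
    rw [hU]
    calc Tinv * G * (Ginv * T) = Tinv * (G * Ginv) * T := by simp only [Matrix.mul_assoc]
      _ = 1 := by rw [h1, Matrix.mul_one, hTT']
  have hUinv' : (Ginv * T) * U = 1 := by
    rw [hU]
    calc Ginv * T * (Tinv * G) = Ginv * (T * Tinv) * G := by simp only [Matrix.mul_assoc]
      _ = 1 := by rw [hTT, Matrix.mul_one, h2]
  have hne : Nonempty (Fin k → Fin d) := ⟨fun _ => ⟨0, hd⟩⟩
  have hc0 : c ≠ 0 := by
    intro h0
    rw [h0, map_zero] at hc
    rw [← hc, Matrix.zero_mul] at hUinv
    obtain ⟨x⟩ := hne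
    have := congrFun (congrFun hUinv x) x
    simp at this
  -- the three factors as elements of GL
  let P : GL (Fin k → Fin d) F := ⟨PM σ, PM σ⁻¹, hPP, hPP'⟩
  let t : GL (Fin k → Fin d) F := ⟨T, Tinv, hTT, hTT'⟩
  let u : GL (Fin k → Fin d) F := ⟨U, Ginv * T, hUinv, hUinv'⟩
  let cgl : GL (Fin d) F := ⟨c • 1, c⁻¹ • 1,
    by rw [Matrix.smul_mul, Matrix.mul_smul, Matrix.one_mul, smul_smul, mul_inv_cancel₀ hc0, one_smul],
    by rw [Matrix.smul_mul, Matrix.mul_smul, Matrix.one_mul, smul_smul, inv_mul_cancel₀ hc0, one_smul]⟩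
  have hg_eq : g = P * t * u := by
    apply Units.ext
    show (g : Matrix (Fin k → Fin d) (Fin k → Fin d) F) = PM σ * T * U
    rw [hU, hG]
    calc (g : Matrix (Fin k → Fin d) (Fin k → Fin d) F)
        = (PM σ * PM σ⁻¹) * (g : Matrix (Fin k → Fin d) (Fin k → Fin d) F) := by
          rw [hPP, Matrix.one_mul]
      _ = PM σ * (T * Tinv) * (PM σ⁻¹ * (g : Matrix (Fin k → Fin d) (Fin k → Fin d) F)) := by
          rw [hTT, Matrix.mul_one]; simp only [Matrix.mul_assoc]
      _ = PM σ * T * (Tinv * (PM σ⁻¹ * (g : Matrix (Fin k → Fin d) (Fin k → Fin d) F))) := by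
          simp only [Matrix.mul_assoc]
  rw [hg_eq]
  refine Subgroup.mul_mem _ (Subgroup.mul_mem _ ?_ ?_) ?_
  · apply Subgroup.subset_closure
    right
    exact ⟨σ, fun x y => rfl⟩
  · apply Subgroup.subset_closure
    left
    refine ⟨b, fun x y => ?_⟩
    show T x y = _
    rw [hT]; rfl
  · apply Subgroup.subset_closure
    left
    refine ⟨Function.update (fun _ => 1) (⟨0, hk⟩ : Fin k) cgl, fun x y => ?_⟩
    show U x y = _
    have hfun : (fun i => ((Function.update (fun _ => (1 : GL (Fin d) F)) (⟨0, hk⟩ : Fin k) cgl i : GL (Fin d) F) :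
          Matrix (Fin d) (Fin d) F)) =
        Function.update (fun _ => (1 : Matrix (Fin d) (Fin d) F)) (⟨0, hk⟩ : Fin k) (c • 1) := by
      funext j
      by_cases hj : j = (⟨0, hk⟩ : Fin k)
      · subst hj; simp [cgl]
      · simp [Function.update_of_ne hj]
    have hPTc : PT (fun i => ((Function.update (fun _ => (1 : GL (Fin d) F)) (⟨0, hk⟩ : Fin k) cgl i : GL (Fin d) F) :
          Matrix (Fin d) (Fin d) F)) = c • (1 : Matrix (Fin k → Fin d) (Fin k → Fin d) F) := by
      rw [hfun, ← slot_eq_PT, slot_smul, slot_one]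
    have hUc : U = c • (1 : Matrix (Fin k → Fin d) (Fin k → Fin d) F) := by
      rw [← hc, Matrix.scalar_apply, Matrix.smul_one_eq_diagonal]
    rw [hUc, ← hPTc]
    rfl

end Cfsg.Agent.Lib.Helper15.AschSlotNorm
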