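import Mathlib
import Cfsg.Prelude.Def_GeometricClasses
import Cfsg.Agent.Lib.Helper99.AschDefs
import Cfsg.Agent.Lib.Helper70.AschU.Defs
import Cfsg.Agent.Lib.Helper37.Asch.FormKit2
import Cfsg.Agent.Lib.Helper15.AschSlotNormLib

/-!
# Project ASCHU, module [PURE] (helper15): pure tensors in `tensorWreathStandard` and product forms
-/

set_option autoImplicit false

namespace Cfsg.Agent.Lib.Helper15.AschUPure

open Cfsg Cfsg.Geo Cfsg.Agent.Lib.Helper99.Asch Cfsg.Agent.Lib.Helper15.AschSlotNorm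
open scoped MatrixGroups Matrix Kronecker

variable {F : Type*} [Field F] {k d : ℕ}

theorem PT_transpose (as : Fin k → Matrix (Fin d) (Fin d) F) :
    (PT as)ᵀ = PT (fun i => (as i)ᵀ) := by
  ext x y
  simp [PT, Matrix.transpose_apply]

theorem PT_map (τ : F ≃+* F) (as : Fin k → Matrix (Fin d) (Fin d) F) :
    (PT as).map τ = PT (fun i => (as i).map τ) := by
  ext x y
  simp [PT, Matrix.map_apply, map_prod]

/-- the pure tensor of invertible matrices as an element of `GL`. -/
def ptGL (C : Fin k → GL (Fin d) F) : GL (Fin k → Fin d) F where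
  val := PT (fun i => (C i : Matrix (Fin d) (Fin d) F))
  inv := PT (fun i => ((C i)⁻¹ : GL (Fin d) F))
  val_inv := by
    rw [PT_mul, ← PT_one]
    congr 1
    funext i
    rw [← Units.val_mul, mul_inv_cancel, Units.val_one]
  inv_val := by
    rw [PT_mul, ← PT_one]
    congr 1
    funext i
    rw [← Units.val_mul, inv_mul_cancel, Units.val_one]

end Cfsg.Agent.Lib.Helper15.AschUPure

namespace Cfsg.Agent.Lib.Helper70.AschU

open Cfsg Cfsg.Geo Cfsg.Agent.Lib.Helper99.Asch Cfsg.Agent.Lib.Helper37.Asch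
open Cfsg.Agent.Lib.Helper15.AschSlotNorm Cfsg.Agent.Lib.Helper15.AschUPure
open scoped MatrixGroups Matrix Kronecker

variable {n : ℕ} {F : Type*} [Field F] [Fintype F] {q : ℕ} {σ : F ≃+* F}

/-- ASCHU-[PURE]. -/
theorem exists_pureTensor {k d : ℕ} (C : Fin k → GL (Fin d) F) :
    ∃ T : GL (Fin k → Fin d) F, T ∈ tensorWreathStandard d k F ∧
      (∀ x y, (T : Matrix (Fin k → Fin d) (Fin k → Fin d) F) x y = ∏ i, (C i : Matrix (Fin d) (Fin d) F) (x i) (y i)) ∧
      ∀ (τ : F ≃+* F) (G : Fin k → Matrix (Fin d) (Fin d) F),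
        (T : Matrix (Fin k → Fin d) (Fin k → Fin d) F)ᵀ *
          Matrix.of (fun x y : Fin k → Fin d => ∏ i, G i (x i) (y i)) *
          (T : Matrix (Fin k → Fin d) (Fin k → Fin d) F).map τ =
        Matrix.of (fun x y : Fin k → Fin d =>
          ∏ i, ((C i : Matrix (Fin d) (Fin d) F)ᵀ * G i * (C i : Matrix (Fin d) (Fin d) F).map τ) (x i) (y i)) := by
  refine ⟨ptGL C, Subgroup.subset_closure (Or.inl ⟨C, fun x y => rfl⟩), fun x y => rfl, fun τ G => ?_⟩
  show (PT (fun i => (C i : Matrix (Fin d) (Fin d) F)))ᵀ * PT G *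
      (PT (fun i => (C i : Matrix (Fin d) (Fin d) F))).map τ =
    PT (fun i => (C i : Matrix (Fin d) (Fin d) F)ᵀ * G i * (C i : Matrix (Fin d) (Fin d) F).map τ)
  rw [PT_transpose, PT_map, PT_mul, PT_mul]

end Cfsg.Agent.Lib.Helper70.AschU
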