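import Mathlib

/-!
# S3385/S3685 front end (helper59's project), module [BASIC] (helper15)
-/

set_option autoImplicit false

namespace Cfsg.Agent.Lib.Helper15.SimsFront

theorem basic {G : Type*} [Group G] [Finite G] {Ω : Type*} [MulAction G Ω] [FaithfulSMul G Ω]
    (hprim : MulAction.IsPreprimitive G Ω) (a b : Ω)
    (h3 : Nat.card (MulAction.orbit (MulAction.stabilizer G a) b) = 3) :
    MulAction.stabilizer G a ⊔ MulAction.stabilizer G b = ⊤ ∧
    (MulAction.stabilizer G a ⊓ MulAction.stabilizer G b).relIndex (MulAction.stabilizer G a) = 3 ∧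
    (MulAction.stabilizer G a ⊓ MulAction.stabilizer G b).relIndex (MulAction.stabilizer G b) = 3 ∧
    (∀ N : Subgroup G, N.Normal →
      N ≤ MulAction.stabilizer G a ⊓ MulAction.stabilizer G b → N = ⊥) ∧
    ∃ g : G, MulAction.stabilizer G b =
      (MulAction.stabilizer G a).map (MulAut.conj g).toMonoidHom := by
  classical
  have htr : MulAction.IsPretransitive G Ω := hprim.toIsPretransitive
  -- (5)
  obtain ⟨g, hg⟩ := MulAction.exists_smul_eq G a b
  have h5 : MulAction.stabilizer G b =
      (MulAction.stabilizer G a).map (MulAut.conj g).toMonoidHom := by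
    rw [← hg]
    exact MulAction.stabilizer_smul_eq_stabilizer_map_conj g a
  -- (2)
  have hstab : MulAction.stabilizer (MulAction.stabilizer G a) b =
      (MulAction.stabilizer G b).subgroupOf (MulAction.stabilizer G a) := by
    ext x
    simp [Subgroup.mem_subgroupOf, MulAction.mem_stabilizer_iff, Subgroup.smul_def]
  have h2 : (MulAction.stabilizer G a ⊓ MulAction.stabilizer G b).relIndex
      (MulAction.stabilizer G a) = 3 := by
    rw [Subgroup.inf_relIndex_left, Subgroup.relIndex, ← hstab,
      MulAction.index_stabilizer, ← Nat.card_coe_set_eq]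
    exact h3
  -- (3)
  have hcard : Nat.card (MulAction.stabilizer G b) = Nat.card (MulAction.stabilizer G a) := by
    rw [h5]
    exact Subgroup.card_map_of_injective (MulAut.conj g).injective
  have hpos : 0 < Nat.card ↥(MulAction.stabilizer G a ⊓ MulAction.stabilizer G b) := Nat.card_pos
  have h3' : (MulAction.stabilizer G a ⊓ MulAction.stabilizer G b).relIndex
      (MulAction.stabilizer G b) = 3 := by
    have e1 := Subgroup.relIndex_mul_relIndex ⊥
      (MulAction.stabilizer G a ⊓ MulAction.stabilizer G b) (MulAction.stabilizer G a)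
      bot_le inf_le_left
    have e2 := Subgroup.relIndex_mul_relIndex ⊥
      (MulAction.stabilizer G a ⊓ MulAction.stabilizer G b) (MulAction.stabilizer G b)
      bot_le inf_le_right
    rw [Subgroup.relIndex_bot_left, Subgroup.relIndex_bot_left] at e1 e2
    rw [hcard, ← e1, h2] at e2
    exact Nat.eq_of_mul_eq_mul_left hpos e2
  -- nontrivial
  have hnt : Nontrivial Ω := by
    by_contra hnt
    rw [not_nontrivial_iff_subsingleton] at hnt
    have : Nat.card (MulAction.orbit (MulAction.stabilizer G a) b) ≤ 1 :=
      Finite.card_le_one_iff_subsingleton.mpr inferInstance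
    omega
  -- (1)
  have hco : IsCoatom (MulAction.stabilizer G a) :=
    MulAction.IsPreprimitive.isCoatom_stabilizer_of_isPreprimitive G a
  have h1 : MulAction.stabilizer G a ⊔ MulAction.stabilizer G b = ⊤ := by
    by_contra hne
    have hle : MulAction.stabilizer G a ≤ MulAction.stabilizer G a ⊔ MulAction.stabilizer G b :=
      le_sup_left
    rcases hle.lt_or_eq with hlt | heq
    · exact hne (hco.2 _ hlt)
    · have hba : MulAction.stabilizer G b ≤ MulAction.stabilizer G a := by
        rw [heq]; exact le_sup_right
      have : (MulAction.stabilizer G a ⊓ MulAction.stabilizer G b).relIndex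
          (MulAction.stabilizer G b) = 1 := by
        rw [Subgroup.relIndex_eq_one]
        exact le_inf hba le_rfl
      omega
  refine ⟨h1, h2, h3', ?_, g, h5⟩
  -- (4)
  intro N hN hNle
  rw [Subgroup.eq_bot_iff_forall]
  intro n hn
  apply FaithfulSMul.eq_of_smul_eq_smul (α := Ω)
  intro ω
  obtain ⟨k, rfl⟩ := MulAction.exists_smul_eq G a ω
  have hmem : k⁻¹ * n * k ∈ MulAction.stabilizer G a := by
    apply (hNle _).1
    have := hN.conj_mem n hn k⁻¹
    simpa using this
  rw [MulAction.mem_stabilizer_iff] at hmem
  rw [one_smul]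
  calc n • k • a = k • (k⁻¹ * n * k) • a := by simp [mul_smul]
    _ = k • a := by rw [hmem]

end Cfsg.Agent.Lib.Helper15.SimsFront
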