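import Mathlib

/-!
# S3385/S3685 front end (helper59's project), module [TWO] (helper15)
-/

set_option autoImplicit false

namespace Cfsg.Agent.Lib.Helper15.SimsFront

/-- An element acting on a set with three elements, fixing a point and of odd order, acts trivially. -/
theorem smul_eq_of_odd_of_card_three {A X : Type*} [Group A] [MulAction A X] [Finite X]
    (hX : Nat.card X = 3) (g : A) (m : ℕ) (hm : Odd m) (hgm : g ^ m = 1) (x₀ : X)
    (h₀ : g • x₀ = x₀) (x : X) : g • x = x := by
  by_contra hx
  have hx0 : x ≠ x₀ := by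
    rintro rfl
    exact hx h₀
  have hx'0 : g • x ≠ x₀ := by
    intro h
    apply hx0
    exact MulAction.injective g (h.trans h₀.symm)
  have hf : Function.Injective ![x₀, x, g • x] := by
    have h01 : x₀ ≠ x := hx0.symm
    have h02 : x₀ ≠ g • x := hx'0.symm
    have h12 : x ≠ g • x := fun h => hx h.symm
    intro i j hij
    fin_cases i <;> fin_cases j <;>
      first
      | rfl
      | (exfalso
         simp at hij
         first
         | exact h01 hij
         | exact h02 hij
         | exact h12 hij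
         | exact h01 hij.symm
         | exact h02 hij.symm
         | exact h12 hij.symm)
  have hb := hf.bijective_of_nat_card_le (by simp [hX])
  obtain ⟨i, hi⟩ := hb.2 (g • g • x)
  have h2 : g • g • x = x := by
    fin_cases i
    · exfalso
      apply hx'0
      exact MulAction.injective g ((hi.symm.trans (by simp)).trans h₀.symm)
    · simpa using hi.symm
    · exfalso
      apply hx
      have : g • g • x = g • x := by simpa using hi.symm
      exact MulAction.injective g this
  obtain ⟨j, rfl⟩ := hm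
  have hj : ∀ j : ℕ, g ^ (2 * j) • x = x := by
    intro j
    induction j with
    | zero => simp
    | succ n ih =>
      rw [show 2 * (n + 1) = 2 * n + 2 by ring, pow_add, mul_smul, pow_two, mul_smul, h2, ih]
  have : g ^ (2 * j + 1) • x = g • x := by
    rw [pow_succ', mul_smul, hj]
  rw [hgm, one_smul] at this
  exact hx this.symm

/-- Key lemma: an element of odd order of a subgroup `T` of index 3 in `P` lies in every `P`-conjugate
of `T`. -/
theorem conj_mem_of_odd {G : Type*} [Group G] [Finite G] (P T : Subgroup G) (hTP : T ≤ P)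
    (idx : T.relIndex P = 3) (g : G) (hg : g ∈ T) (hodd : Odd (orderOf g)) (y : G) (hy : y ∈ P) :
    y * g * y⁻¹ ∈ T := by
  have hX : Nat.card (↥P ⧸ T.subgroupOf P) = 3 := idx
  set g' : ↥P := ⟨g, hTP hg⟩ with hg'
  have hgm : g' ^ orderOf g = 1 := by
    apply Subtype.ext
    simp [hg', pow_orderOf_eq_one]
  have h₀ : g' • (QuotientGroup.mk (1 : ↥P) : ↥P ⧸ T.subgroupOf P) = QuotientGroup.mk (1 : ↥P) := by
    rw [MulAction.Quotient.smul_mk, QuotientGroup.eq]
    simp [Subgroup.mem_subgroupOf, hg', hg]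
  have := smul_eq_of_odd_of_card_three hX g' (orderOf g) hodd hgm _ h₀
    (QuotientGroup.mk (⟨y, hy⟩⁻¹ : ↥P))
  rw [MulAction.Quotient.smul_mk, QuotientGroup.eq] at this
  have h2 : (y * g * y⁻¹)⁻¹ ∈ T := by
    simpa [Subgroup.mem_subgroupOf, hg', mul_assoc] using this
  simpa using T.inv_mem h2

theorem isPGroup_two {G : Type*} [Group G] [Finite G] (P₁ P₂ T : Subgroup G)
    (hT₁ : T ≤ P₁) (hT₂ : T ≤ P₂) (hgen : P₁ ⊔ P₂ = ⊤)
    (idx₁ : T.relIndex P₁ = 3) (idx₂ : T.relIndex P₂ = 3)
    (core : ∀ N : Subgroup G, N.Normal → N ≤ T → N = ⊥) : IsPGroup 2 ↥T := by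
  classical
  set S : Set G := {g | g ∈ T ∧ Odd (orderOf g)} with hS
  have hSconj : ∀ P : Subgroup G, T ≤ P → T.relIndex P = 3 → ∀ y ∈ P, ∀ s ∈ S,
      y * s * y⁻¹ ∈ S := by
    intro P hTP idx y hy s hs
    refine ⟨conj_mem_of_odd P T hTP idx s hs.1 hs.2 y hy, ?_⟩
    have : orderOf (y * s * y⁻¹) = orderOf s := by
      have := orderOf_injective (MulAut.conj y).toMonoidHom (MulAut.conj y).injective s
      simpa using this
    rw [this]
    exact hs.2
  have hNle : Subgroup.closure S ≤ T := by
    rw [Subgroup.closure_le]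
    intro s hs
    exact hs.1
  have hNconj : ∀ P : Subgroup G, T ≤ P → T.relIndex P = 3 → ∀ y ∈ P,
      ∀ n ∈ Subgroup.closure S, y * n * y⁻¹ ∈ Subgroup.closure S := by
    intro P hTP idx y hy n hn
    induction hn using Subgroup.closure_induction with
    | mem s hs => exact Subgroup.subset_closure (hSconj P hTP idx y hy s hs)
    | one => simp
    | mul a b _ _ ha hb =>
      have : y * (a * b) * y⁻¹ = (y * a * y⁻¹) * (y * b * y⁻¹) := by group
      rw [this]
      exact mul_mem ha hb
    | inv a _ ha =>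
      have : y * a⁻¹ * y⁻¹ = (y * a * y⁻¹)⁻¹ := by group
      rw [this]
      exact inv_mem ha
  have hnorm : ∀ P : Subgroup G, T ≤ P → T.relIndex P = 3 →
      P ≤ Subgroup.normalizer (Subgroup.closure S : Set G) := by
    intro P hTP idx y hy
    rw [Subgroup.mem_normalizer_iff]
    intro h
    refine ⟨hNconj P hTP idx y hy h, fun hh => ?_⟩
    have := hNconj P hTP idx y⁻¹ (inv_mem hy) _ hh
    simpa [mul_assoc] using this
  have hN : (Subgroup.closure S).Normal := by
    rw [← Subgroup.normalizer_eq_top_iff, eq_top_iff, ← hgen]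
    exact sup_le (hnorm P₁ hT₁ idx₁) (hnorm P₂ hT₂ idx₂)
  have hbot : Subgroup.closure S = ⊥ := core _ hN hNle
  have hodd1 : ∀ g ∈ T, Odd (orderOf g) → g = 1 := by
    intro g hg hodd
    have : g ∈ Subgroup.closure S := Subgroup.subset_closure ⟨hg, hodd⟩
    rw [hbot] at this
    simpa using this
  intro g
  have hpos : orderOf (g : G) ≠ 0 := (orderOf_pos (g : G)).ne'
  obtain ⟨k, m, hm, hkm⟩ := Nat.exists_eq_two_pow_mul_odd hpos
  refine ⟨k, ?_⟩
  have h1 : orderOf ((g : G) ^ 2 ^ k) = m := by
    rw [orderOf_pow_of_dvd (by positivity) ⟨m, hkm⟩, hkm, Nat.mul_div_cancel_left _ (by positivity)]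
  have := hodd1 ((g : G) ^ 2 ^ k) (T.pow_mem g.2 _) (h1 ▸ hm)
  apply Subtype.ext
  simpa using this

end Cfsg.Agent.Lib.Helper15.SimsFront
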