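import Mathlib

/-!
# Nilpotent kernels of group algebra maps in characteristic `p` (helper15)

`F` is a field of characteristic `p`.

* `isNilpotent_of_mapDomain_mk_eq_zero`: for a finite normal commutative `p`-subgroup `E` of `G`, every
  element of the kernel of `F[G] → F[G ⧸ E]` is nilpotent.
* `isNilpotent_of_mapDomain_eq_zero`: for `f : G →* H` with `G` finite and `f.ker` a `p`-group, every
  element of the kernel of `F[G] → F[H]` is nilpotent.
* `isNilpotent_classSum_of_normal_pGroup`: if no conjugate of `g` centralizes the normal `p`-subgroup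
  `Q`, the class sum of `g` in `F[G]` is nilpotent.
-/

set_option autoImplicit false

namespace Cfsg.Agent.Lib.Helper15

universe u v

open MonoidAlgebra

/-- In the group algebra of a finite commutative `p`-group over a field of characteristic `p`, long
products of elements `z - 1` vanish. -/
theorem exists_forall_list_prod_sub_one_eq_zero (F : Type*) [Field F] (p : ℕ) [Fact p.Prime]
    [CharP F p] (E : Type*) [CommGroup E] [Finite E] (hE : IsPGroup p E) :
    ∃ n : ℕ, ∀ l : List E, l.length = n →
      (l.map (fun z => MonoidAlgebra.of F E z - 1)).prod = 0 := by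
  have : CharP (MonoidAlgebra F E) p :=
    charP_of_injective_algebraMap (algebraMap F (MonoidAlgebra F E)).injective p
  obtain ⟨e, he⟩ := hE.exists_card_eq
  let J : Ideal (MonoidAlgebra F E) :=
    Ideal.span (Set.range fun z : E => MonoidAlgebra.of F E z - 1)
  have hJfg : J.FG := Submodule.fg_span (Set.finite_range _)
  have hJnil : J ≤ nilradical (MonoidAlgebra F E) := by
    rw [Ideal.span_le]
    rintro _ ⟨z, rfl⟩
    refine ⟨p ^ e, ?_⟩
    rw [sub_pow_char_pow_of_commute _ _ (Commute.one_right _), one_pow, ← map_pow, ← he,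
      pow_card_eq_one', map_one, sub_self]
    exact zero_mem _
  obtain ⟨n, hn⟩ := (Ideal.FG.isNilpotent_iff_le_nilradical hJfg).mpr hJnil
  refine ⟨n, fun l hl => ?_⟩
  have hmem : ∀ l : List E, (l.map (fun z => MonoidAlgebra.of F E z - 1)).prod ∈ J ^ l.length := by
    intro l
    induction l with
    | nil => simp
    | cons a l ih =>
      rw [List.map_cons, List.prod_cons, List.length_cons, pow_succ']
      exact Ideal.mul_mem_mul (Ideal.subset_span ⟨a, rfl⟩) ih
  have := hmem l
  rw [hl, hn] at this
  exact this

/-- The same inside a bigger group. -/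
theorem exists_forall_list_prod_sub_one_eq_zero' (F : Type*) [Field F] (p : ℕ) [Fact p.Prime]
    [CharP F p] {G : Type*} [Group G] (E : Subgroup G) [Finite E] (hE : IsPGroup p E)
    (hab : ∀ a ∈ E, ∀ b ∈ E, a * b = b * a) :
    ∃ n : ℕ, ∀ l : List E, l.length = n →
      (l.map (fun z : E => MonoidAlgebra.of F G (z : G) - 1)).prod = 0 := by
  let _ : CommGroup E :=
    { (inferInstance : Group E) with mul_comm := fun a b => Subtype.ext (hab a a.2 b b.2) }
  obtain ⟨n, hn⟩ := exists_forall_list_prod_sub_one_eq_zero F p E hE
  refine ⟨n, fun l hl => ?_⟩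
  have h := congrArg (mapDomainRingHom F E.subtype) (hn l hl)
  rw [map_list_prod, List.map_map, map_zero] at h
  rw [← h]
  congr 1
  apply List.map_congr_left
  intro z _
  rw [Function.comp_apply, map_sub, map_one]
  simp [mapDomainRingHom_apply, of_apply]

/-- **Key step.** Let `E` be a finite normal commutative `p`-subgroup of `G` and `F` a field of
characteristic `p`. Every element of the kernel of `F[G] → F[G ⧸ E]` is nilpotent. -/
theorem isNilpotent_of_mapDomain_mk_eq_zero (F : Type*) [Field F] (p : ℕ) [Fact p.Prime]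
    [CharP F p] {G : Type*} [Group G] (E : Subgroup G) [hEn : E.Normal] [Finite E]
    (hE : IsPGroup p E) (hab : ∀ a ∈ E, ∀ b ∈ E, a * b = b * a) (y : MonoidAlgebra F G)
    (hy : mapDomainRingHom F (QuotientGroup.mk' E) y = 0) : IsNilpotent y := by
  classical
  obtain ⟨n, hn⟩ := exists_forall_list_prod_sub_one_eq_zero' F p E hE hab
  let P : List E → MonoidAlgebra F G :=
    fun l => (l.map (fun z : E => MonoidAlgebra.of F G (z : G) - 1)).prod
  let S : ℕ → Set (MonoidAlgebra F G) :=
    fun m => {w | ∃ (h : G) (l : List E), l.length = m ∧ w = MonoidAlgebra.of F G h * P l}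
  let W : ℕ → Submodule F (MonoidAlgebra F G) := fun m => Submodule.span F (S m)
  -- (1) the kernel lies in `W 1`
  let s : G ⧸ E → G := Function.surjInv (QuotientGroup.mk'_surjective E)
  have hs : ∀ c, QuotientGroup.mk' E (s c) = c := Function.surjInv_eq _
  have h1' : ∀ v : MonoidAlgebra F G,
      v - mapDomain s (mapDomain (QuotientGroup.mk' E) v) ∈ W 1 := by
    intro v
    induction v using MonoidAlgebra.induction_linear with
    | zero => simp
    | add x y hx hy =>
      have e : x + y - mapDomain s (mapDomain (QuotientGroup.mk' E) (x + y)) =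
          (x - mapDomain s (mapDomain (QuotientGroup.mk' E) x)) +
          (y - mapDomain s (mapDomain (QuotientGroup.mk' E) y)) := by
        rw [mapDomain_add, mapDomain_add]; abel
      rw [e]
      exact Submodule.add_mem _ hx hy
    | single g r =>
      rw [mapDomain_single, mapDomain_single]
      set t := s (QuotientGroup.mk' E g) with ht
      have hmem : t⁻¹ * g ∈ E := by
        rw [← QuotientGroup.eq]
        exact hs _
      have e : single g r - single t r =
          r • (MonoidAlgebra.of F G t * P [⟨t⁻¹ * g, hmem⟩]) := by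
        simp only [P, List.map_cons, List.map_nil, List.prod_cons, List.prod_nil, mul_one,
          of_apply, mul_sub, single_mul_single]
        rw [mul_inv_cancel_left, smul_sub, smul_single, smul_single]
        simp
      rw [e]
      exact Submodule.smul_mem _ _ (Submodule.subset_span ⟨t, _, rfl, rfl⟩)
  have h1 : y ∈ W 1 := by
    have := h1' y
    rw [mapDomainRingHom_apply] at hy
    rwa [hy, mapDomain_zero, sub_zero] at this
  -- (2) multiplication raises the degree
  have h2 : ∀ m, W 1 * W m ≤ W (m + 1) := by
    intro m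
    rw [Submodule.span_mul_span, Submodule.span_le]
    rintro _ ⟨a, ⟨h, l, hl, rfl⟩, b, ⟨h', l', hl', rfl⟩, rfl⟩
    obtain ⟨z, rfl⟩ := List.length_eq_one_iff.mp hl
    apply Submodule.subset_span
    have hz' : h'⁻¹ * (z : G) * h' ∈ E := by
      have := hEn.conj_mem (z : G) z.2 h'⁻¹
      simpa using this
    refine ⟨h * h', ⟨h'⁻¹ * (z : G) * h', hz'⟩ :: l', by simp [hl'], ?_⟩
    have hcomm : (MonoidAlgebra.of F G (z : G) - 1) * MonoidAlgebra.of F G h' =
        MonoidAlgebra.of F G h' * (MonoidAlgebra.of F G (h'⁻¹ * (z : G) * h') - 1) := by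
      rw [sub_mul, mul_sub, one_mul, mul_one, ← map_mul, ← map_mul]
      congr 2
      group
    have hP1 : P [z] = MonoidAlgebra.of F G (z : G) - 1 := by simp [P]
    have hP2 : P (⟨h'⁻¹ * (z : G) * h', hz'⟩ :: l') =
        (MonoidAlgebra.of F G (h'⁻¹ * (z : G) * h') - 1) * P l' := by simp [P]
    rw [hP1, hP2, map_mul]
    calc MonoidAlgebra.of F G h * (MonoidAlgebra.of F G (z : G) - 1) *
          (MonoidAlgebra.of F G h' * P l')
        = MonoidAlgebra.of F G h * ((MonoidAlgebra.of F G (z : G) - 1) * MonoidAlgebra.of F G h')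
          * P l' := by simp only [mul_assoc]
      _ = _ := by rw [hcomm]; simp only [mul_assoc]
  -- (3) `W n` is zero
  have h3 : ∀ w ∈ W n, w = 0 := by
    intro w hw
    have : W n ≤ ⊥ := by
      rw [Submodule.span_le]
      rintro _ ⟨h, l, hl, rfl⟩
      simp only [P, hn l hl, mul_zero]
      exact Submodule.zero_mem _
    exact (Submodule.mem_bot F).mp (this hw)
  have h4 : ∀ m, y ^ (m + 1) ∈ W (m + 1) := by
    intro m
    induction m with
    | zero => simpa using h1
    | succ m ih =>
      rw [pow_succ']
      exact h2 _ (Submodule.mul_mem_mul h1 ih)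
  refine ⟨n, ?_⟩
  cases n with
  | zero =>
    apply h3
    exact Submodule.subset_span ⟨1, [], rfl, by simp [P, MonoidAlgebra.one_def]⟩
  | succ k => exact h3 _ (h4 k)

/-- Let `f : G →* H` be a homomorphism of groups, `G` finite, whose kernel is a `p`-group, and let
`F` be a field of characteristic `p`. Every element of the kernel of `F[G] → F[H]` is
nilpotent. -/
theorem isNilpotent_of_mapDomain_eq_zero (F : Type*) [Field F] (p : ℕ) [Fact p.Prime]
    [CharP F p] : ∀ (n : ℕ) (G : Type u) [Group G] [Finite G] (H : Type v) [Group H] (f : G →* H),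
    Nat.card G = n → IsPGroup p f.ker → ∀ x : MonoidAlgebra F G,
      mapDomainRingHom F f x = 0 → IsNilpotent x := by
  intro n
  induction n using Nat.strong_induction_on with
  | _ n ih =>
    intro G _ _ H _ f hn hker x hx
    by_cases hbot : f.ker = ⊥
    · have hinj : Function.Injective f := (MonoidHom.ker_eq_bot_iff f).mp hbot
      have h0 : x = 0 := by
        apply mapDomain_injective hinj
        rw [mapDomainRingHom_apply] at hx
        rw [hx, mapDomain_zero]
      rw [h0]
      exact IsNilpotent.zero
    · have hNnt : Nontrivial f.ker := (Subgroup.nontrivial_iff_ne_bot f.ker).mpr hbot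
      have hcnt : Nontrivial (Subgroup.center f.ker) := hker.center_nontrivial
      let E : Subgroup G := (Subgroup.center f.ker).map f.ker.subtype
      have hEn : E.Normal := ConjAct.normal_of_characteristic_of_normal
      have hEle : E ≤ f.ker := Subgroup.map_subtype_le _
      have hEp : IsPGroup p E := hker.to_le hEle
      have hEab : ∀ a ∈ E, ∀ b ∈ E, a * b = b * a := by
        rintro _ ⟨a, ha, rfl⟩ _ ⟨b, hb, rfl⟩
        have := Subgroup.mem_center_iff.mp ha b
        have h2 := congrArg (fun t : f.ker => (t : G)) this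
        simpa using h2.symm
      have hEnt : Nontrivial E := by
        obtain ⟨⟨a, ha⟩, hane⟩ := exists_ne (1 : Subgroup.center f.ker)
        refine ⟨⟨⟨(a : G), Subgroup.mem_map_of_mem _ ha⟩, 1, ?_⟩⟩
        intro h
        apply hane
        apply Subtype.ext
        apply Subtype.ext
        have h2 := congrArg (fun t : E => (t : G)) h
        simpa using h2
      let f' : G ⧸ E →* H := QuotientGroup.lift E f hEle
      have hcard : Nat.card (G ⧸ E) < n := by
        rw [← hn, ← Subgroup.index_eq_card, ← Subgroup.card_mul_index E]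
        have h1 : 1 < Nat.card E := Finite.one_lt_card
        have h2 : 0 < E.index := Nat.pos_of_ne_zero Subgroup.index_ne_zero_of_finite
        nlinarith
      have hker' : IsPGroup p f'.ker := by
        rintro ⟨q, hq⟩
        obtain ⟨g, rfl⟩ := QuotientGroup.mk_surjective q
        have hg : g ∈ f.ker := by
          rw [MonoidHom.mem_ker] at hq ⊢
          rw [← hq]
          rfl
        obtain ⟨k, hk⟩ := hker ⟨g, hg⟩
        refine ⟨k, Subtype.ext ?_⟩
        have h2 := congrArg (fun t : f.ker => (QuotientGroup.mk (t : G) : G ⧸ E)) hk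
        simpa using h2
      have hcomp : f'.comp (QuotientGroup.mk' E) = f := by
        ext g
        rfl
      have hx' : mapDomainRingHom F f' (mapDomainRingHom F (QuotientGroup.mk' E) x) = 0 := by
        rw [← RingHom.comp_apply, ← mapDomainRingHom_comp, hcomp]
        exact hx
      obtain ⟨N', hN'⟩ := ih _ hcard (G ⧸ E) H f' rfl hker' _ hx'
      have hy : mapDomainRingHom F (QuotientGroup.mk' E) (x ^ N') = 0 := by rw [map_pow, hN']
      obtain ⟨M, hM⟩ := isNilpotent_of_mapDomain_mk_eq_zero F p E hEp hEab _ hy
      exact ⟨N' * M, by rw [pow_mul, hM]⟩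

/-- Let `Q` be a normal `p`-subgroup of the finite group `G`, `F` a field of characteristic `p`,
and `g` an element of `G` no conjugate of which centralizes `Q`.  Then the class sum of `g` is
nilpotent in `F[G]`. -/
theorem isNilpotent_classSum_of_normal_pGroup (F : Type*) [Field F] (p : ℕ) [Fact p.Prime]
    [CharP F p] {G : Type u} [Group G] [Finite G] (Q : Subgroup G) [hQn : Q.Normal]
    (hQ : IsPGroup p Q) (g : G)
    (hg : ∀ x : G, IsConj g x → x ∉ Subgroup.centralizer (Q : Set G)) :
    IsNilpotent (∑ᶠ x ∈ ConjClasses.carrier (ConjClasses.mk g),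
      MonoidAlgebra.single x (1 : F) : MonoidAlgebra F G) := by
  classical
  have := Fintype.ofFinite G
  apply isNilpotent_of_mapDomain_eq_zero F p (Nat.card G) G (G ⧸ Q) (QuotientGroup.mk' Q) rfl
    (by rw [QuotientGroup.ker_mk']; exact hQ)
  have hfin : (ConjClasses.carrier (ConjClasses.mk g)).Finite := Set.toFinite _
  rw [finsum_mem_eq_finite_toFinset_sum _ hfin, map_sum]
  simp only [mapDomainRingHom_apply, mapDomain_single]
  ext c
  rw [coeff_sum, Finset.sum_apply']
  simp only [coeff_single, Finsupp.single_apply, coeff_zero, Finsupp.coe_zero, Pi.zero_apply]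
  rw [Finset.sum_boole]
  rw [CharP.cast_eq_zero_iff F p]
  -- the action of `Q` on the fibre
  let T := {x : G // IsConj g x ∧ QuotientGroup.mk' Q x = c}
  have hT : (Finset.filter (fun x => QuotientGroup.mk' Q x = c) hfin.toFinset).card =
      Nat.card T := by
    rw [Nat.card_eq_fintype_card]
    symm
    apply Fintype.card_of_subtype
    intro x
    rw [Finset.mem_filter, Set.Finite.mem_toFinset, ConjClasses.mem_carrier_iff_mk_eq,
      eq_comm, ConjClasses.mk_eq_mk_iff_isConj]
  rw [hT]
  let act : MulAction Q T :=
    { smul := fun q x => ⟨(q : G) * x.1 * (q : G)⁻¹, x.2.1.trans (isConj_iff.mpr ⟨q, rfl⟩), by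
        have h1 : (QuotientGroup.mk' Q) (q : G) = 1 := (QuotientGroup.eq_one_iff _).mpr q.2
        rw [map_mul, map_mul, map_inv, h1, x.2.2]
        simp⟩
      one_smul := fun x => Subtype.ext (by show ((1 : Q) : G) * x.1 * ((1 : Q) : G)⁻¹ = x.1; simp)
      mul_smul := fun a b x => Subtype.ext (by
        show ((a * b : Q) : G) * x.1 * ((a * b : Q) : G)⁻¹ =
          (a : G) * ((b : G) * x.1 * (b : G)⁻¹) * (a : G)⁻¹
        simp only [Subgroup.coe_mul, mul_inv_rev, mul_assoc]) }
  have hmod := hQ.card_modEq_card_fixedPoints T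
  have hempty : IsEmpty (MulAction.fixedPoints Q T) := by
    constructor
    rintro ⟨x, hx⟩
    apply hg x.1 x.2.1
    rw [Subgroup.mem_centralizer_iff]
    intro q hq
    have := congrArg Subtype.val (hx ⟨q, hq⟩)
    have h2 : q * x.1 * q⁻¹ = x.1 := this
    calc q * x.1 = q * x.1 * q⁻¹ * q := by group
      _ = x.1 * q := by rw [h2]
  have h0 : Nat.card (MulAction.fixedPoints Q T) = 0 := Nat.card_of_isEmpty
  rw [h0] at hmod
  exact (Nat.modEq_zero_iff_dvd).mp hmod

end Cfsg.Agent.Lib.Helper15
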