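import Mathlib
import Cfsg.Agent.Lib.Helper77.DefOneDefs

set_option autoImplicit false
set_option linter.unusedSectionVars false

/-!
PROJECT BC, defect-one stage, MODULE M1 (helper15):
for a Sylow `p`-subgroup `P` of order `p` (automatically TI) and an `F[G]`-module `W` in
characteristic `p`, every `N_G(P)`-fixed vector is a `G`-fixed vector plus an `N_G(P)`-trace.
-/

namespace Cfsg.Agent.Lib.Helper15.DefOne

open Cfsg.Agent.Lib.Helper77.DefOne

/-- Orbit-sum lemma: an equivariant function summed over an invariant finite set all of whose point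
stabilizers have order invertible in `F` is a trace. -/
theorem orbit_sum_lemma {F : Type*} [Field F] {H : Type*} [Group H] [Fintype H] {V : Type*}
    [AddCommGroup V] [Module F V] (σ : Representation F H V) {Ω : Type*} [DecidableEq Ω]
    [MulAction H Ω] (f : Ω → V) (hf : ∀ (h : H) (q : Ω), f (h • q) = σ h (f q)) :
    ∀ (n : ℕ) (S : Finset Ω), S.card = n → (∀ (h : H), ∀ q ∈ S, h • q ∈ S) →
      (∀ q ∈ S, ((Finset.univ.filter (fun h : H => h • q = q)).card : F) ≠ 0) →
      ∃ y : V, ∑ q ∈ S, f q = ∑ h : H, σ h y := by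
  classical
  intro n
  induction n using Nat.strong_induction_on with
  | _ n ih =>
    intro S hcard hS hstab
    by_cases hne : S = ∅
    · refine ⟨0, ?_⟩
      rw [hne]
      simp
    · obtain ⟨q, hq⟩ := Finset.nonempty_iff_ne_empty.mpr hne
      obtain ⟨O, hO⟩ : ∃ O : Finset Ω, O = Finset.univ.image (fun h : H => h • q) := ⟨_, rfl⟩
      have hOS : O ⊆ S := by
        intro q' hq'
        rw [hO, Finset.mem_image] at hq'
        obtain ⟨h, _, rfl⟩ := hq'
        exact hS h q hq
      have hqO : q ∈ O := by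
        rw [hO, Finset.mem_image]
        exact ⟨1, Finset.mem_univ _, one_smul _ _⟩
      have hS'inv : ∀ (h : H), ∀ q' ∈ S \ O, h • q' ∈ S \ O := by
        intro h q' hq'
        rw [Finset.mem_sdiff] at hq' ⊢
        refine ⟨hS h q' hq'.1, ?_⟩
        intro hmem
        apply hq'.2
        rw [hO, Finset.mem_image] at hmem ⊢
        obtain ⟨m, _, hm⟩ := hmem
        refine ⟨h⁻¹ * m, Finset.mem_univ _, ?_⟩
        rw [mul_smul, hm, inv_smul_smul]
      have hlt : (S \ O).card < n := by
        rw [← hcard]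
        apply Finset.card_lt_card
        constructor
        · exact Finset.sdiff_subset
        · intro hsub
          have := hsub hq
          rw [Finset.mem_sdiff] at this
          exact this.2 hqO
      obtain ⟨y', hy'⟩ := ih (S \ O).card hlt (S \ O) rfl hS'inv
        (fun q' hq' => hstab q' (Finset.mem_sdiff.mp hq').1)
      -- the orbit sum
      obtain ⟨c, hc⟩ : ∃ c : ℕ, c = (Finset.univ.filter (fun h : H => h • q = q)).card := ⟨_, rfl⟩
      have hcF : (c : F) ≠ 0 := by rw [hc]; exact hstab q hq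
      have hfib : ∀ q' ∈ O, (Finset.univ.filter (fun h : H => h • q = q')).card = c := by
        intro q' hq'
        rw [hO, Finset.mem_image] at hq'
        obtain ⟨m, _, rfl⟩ := hq'
        rw [hc]
        apply Finset.card_bij (fun h _ => m⁻¹ * h)
        · intro h hh
          rw [Finset.mem_filter] at hh ⊢
          refine ⟨Finset.mem_univ _, ?_⟩
          rw [mul_smul, hh.2, inv_smul_smul]
        · intro a _ b _ hab
          exact mul_left_cancel hab
        · intro s hs
          rw [Finset.mem_filter] at hs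
          refine ⟨m * s, ?_, by rw [inv_mul_cancel_left]⟩
          rw [Finset.mem_filter]
          refine ⟨Finset.mem_univ _, ?_⟩
          rw [mul_smul, hs.2]
      have hcomp : ∑ h : H, f (h • q) = (c : F) • ∑ q' ∈ O, f q' := by
        rw [Finset.sum_comp f (fun h : H => h • q), ← hO, Finset.smul_sum]
        apply Finset.sum_congr rfl
        intro q' hq'
        rw [hfib q' hq', Nat.cast_smul_eq_nsmul]
      have hOsum : ∑ q' ∈ O, f q' = ∑ h : H, σ h ((c : F)⁻¹ • f q) := by
        have h1 : ∑ h : H, σ h ((c : F)⁻¹ • f q) = (c : F)⁻¹ • ∑ h : H, f (h • q) := by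
          rw [Finset.smul_sum]
          apply Finset.sum_congr rfl
          intro h _
          rw [map_smul, hf]
        rw [h1, hcomp, smul_smul, inv_mul_cancel₀ hcF, one_smul]
      refine ⟨y' + (c : F)⁻¹ • f q, ?_⟩
      rw [← Finset.sum_sdiff hOS, hy', hOsum, ← Finset.sum_add_distrib]
      apply Finset.sum_congr rfl
      intro h _
      rw [map_add]

variable {F : Type*} [Field F] {G : Type*} [Group G] [Fintype G]
  {V : Type*} [AddCommGroup V] [Module F V] {p : ℕ} [Fact p.Prime] [CharP F p]

/-- A `p`-element of the normalizer of a Sylow `p`-subgroup lies in it. -/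
theorem mem_sylow_of_mem_normalizer (P : Sylow p G) (x : G)
    (hx : x ∈ Subgroup.normalizer ((P : Subgroup G) : Set G)) (hxp : x ^ p = 1) :
    x ∈ (P : Subgroup G) := by
  have hz : IsPGroup p (Subgroup.zpowers x) := by
    intro y
    obtain ⟨k, hk⟩ := Subgroup.mem_zpowers_iff.mp y.2
    refine ⟨1, ?_⟩
    rw [pow_one]
    apply Subtype.ext
    rw [Subgroup.coe_pow, ← hk, ← zpow_natCast, ← zpow_mul, mul_comm, zpow_mul, zpow_natCast, hxp,
      one_zpow]
    rfl
  have hle : Subgroup.zpowers x ≤ Subgroup.normalizer ((P : Subgroup G) : Set G) := by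
    rw [Subgroup.zpowers_le]; exact hx
  have hsup := IsPGroup.to_sup_of_normal_right' hz P.isPGroup' hle
  have heq := P.is_maximal' hsup le_sup_right
  have : Subgroup.zpowers x ≤ (P : Subgroup G) := by
    rw [← heq]; exact le_sup_left
  exact this (Subgroup.mem_zpowers x)

/-- The TI core: if a nontrivial `p`-element `u` of `N_G(P)` has `g⁻¹ u g ∈ N_G(P)` then
`g ∈ N_G(P)` (here `|P| = p`). -/
theorem mem_normalizer_of_conj_mem (P : Sylow p G) (hP : Nat.card P = p) (u g : G)
    (hu : u ∈ Subgroup.normalizer ((P : Subgroup G) : Set G)) (hup : u ^ p = 1) (hu1 : u ≠ 1)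
    (hv : g⁻¹ * u * g ∈ Subgroup.normalizer ((P : Subgroup G) : Set G)) :
    g ∈ Subgroup.normalizer ((P : Subgroup G) : Set G) := by
  have hp : p.Prime := Fact.out
  have huP : u ∈ (P : Subgroup G) := mem_sylow_of_mem_normalizer P u hu hup
  have hvp : (g⁻¹ * u * g) ^ p = 1 := by
    have : g⁻¹ * u * g = g⁻¹ * u * g⁻¹⁻¹ := by rw [inv_inv]
    rw [this, conj_pow, hup, mul_one, mul_inv_cancel]
  have hvP : g⁻¹ * u * g ∈ (P : Subgroup G) := mem_sylow_of_mem_normalizer P _ hv hvp
  -- P = zpowers u
  have hordu : orderOf u = p := by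
    have h1 : orderOf u ∣ p := orderOf_dvd_of_pow_eq_one hup
    rcases (Nat.dvd_prime hp).mp h1 with h | h
    · exact absurd (orderOf_eq_one_iff.mp h) hu1
    · exact h
  have hPu : Subgroup.zpowers u = (P : Subgroup G) := by
    apply Subgroup.eq_of_le_of_card_ge
    · rw [Subgroup.zpowers_le]; exact huP
    · rw [Nat.card_zpowers, hordu]; exact hP.le
  -- conjugation by g⁻¹ maps P into P
  have hconj : ∀ n, n ∈ ((P : Subgroup G) : Set G) → g⁻¹ * n * g⁻¹⁻¹ ∈ ((P : Subgroup G) : Set G) := by
    intro n hn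
    have hn' : n ∈ Subgroup.zpowers u := by rw [hPu]; exact hn
    obtain ⟨k, rfl⟩ := Subgroup.mem_zpowers_iff.mp hn'
    rw [← conj_zpow]
    apply Subgroup.zpow_mem
    rw [inv_inv]
    exact hvP
  have h1 : g⁻¹ ∈ Subgroup.normalizer ((P : Subgroup G) : Set G) :=
    Subgroup.mem_normalizer_fintype hconj
  have := Subgroup.inv_mem _ h1
  rwa [inv_inv] at this

/-- **MODULE M1.** -/
theorem M1 (P : Sylow p G) (hP : Nat.card P = p) (ρ : Representation F G V) (w : V)
    (hw : ∀ n ∈ Subgroup.normalizer ((P : Subgroup G) : Set G), ρ n w = w) :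
    ∃ w₀ y : V, (∀ g : G, ρ g w₀ = w₀) ∧
      w = w₀ + trOne ρ (Subgroup.normalizer ((P : Subgroup G) : Set G)) y := by
  classical
  have hp : p.Prime := Fact.out
  obtain ⟨N, hN⟩ : ∃ N : Subgroup G, N = Subgroup.normalizer ((P : Subgroup G) : Set G) := ⟨_, rfl⟩
  rw [← hN] at hw ⊢
  -- the equivariant function on G ⧸ N
  let f : G ⧸ N → V := fun q => Quotient.liftOn' q (fun g => ρ g w) (by
    intro a b hab
    rw [QuotientGroup.leftRel_apply] at hab
    have : b = a * (a⁻¹ * b) := by rw [mul_inv_cancel_left]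
    show ρ a w = ρ b w
    rw [this, map_mul, Module.End.mul_apply, hw _ hab])
  have hfmk : ∀ g : G, f (QuotientGroup.mk g) = ρ g w := fun g => rfl
  have hfG : ∀ (g : G) (q : G ⧸ N), f (g • q) = ρ g (f q) := by
    intro g q
    induction q using QuotientGroup.induction_on with
    | H a =>
      rw [hfmk]
      show f (QuotientGroup.mk (g * a)) = _
      rw [hfmk, map_mul, Module.End.mul_apply]
  -- w₀
  obtain ⟨w₀, hw₀⟩ : ∃ w₀ : V, w₀ = ∑ q : G ⧸ N, f q := ⟨_, rfl⟩
  have hw₀G : ∀ g : G, ρ g w₀ = w₀ := by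
    intro g
    rw [hw₀, map_sum]
    rw [← Equiv.sum_comp (MulAction.toPerm g : Equiv.Perm (G ⧸ N)) f]
    apply Finset.sum_congr rfl
    intro q _
    rw [MulAction.toPerm_apply, hfG]
  -- apply the orbit-sum lemma with H = N acting on (G ⧸ N) minus the base point
  let σ : Representation F N V := ρ.comp N.subtype
  have hfN : ∀ (h : N) (q : G ⧸ N), f (h • q) = σ h (f q) := by
    intro h q
    exact hfG (h : G) q
  obtain ⟨pt, hpt⟩ : ∃ pt : G ⧸ N, pt = QuotientGroup.mk (1 : G) := ⟨_, rfl⟩
  have hSinv : ∀ (h : N), ∀ q ∈ (Finset.univ.erase pt : Finset (G ⧸ N)),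
      h • q ∈ (Finset.univ.erase pt : Finset (G ⧸ N)) := by
    intro h q hq
    rw [Finset.mem_erase] at hq ⊢
    refine ⟨?_, Finset.mem_univ _⟩
    intro heq
    apply hq.1
    have : q = h⁻¹ • pt := by rw [← heq, inv_smul_smul]
    rw [this, hpt]
    show QuotientGroup.mk (((h⁻¹ : N) : G) * 1) = QuotientGroup.mk (1 : G)
    rw [mul_one, QuotientGroup.eq]
    simp only [InvMemClass.coe_inv, inv_inv, mul_one]
    exact h.2
  have hstab : ∀ q ∈ (Finset.univ.erase pt : Finset (G ⧸ N)),
      ((Finset.univ.filter (fun h : N => h • q = q)).card : F) ≠ 0 := by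
    intro q hq
    rw [Finset.mem_erase] at hq
    intro h0
    rw [CharP.cast_eq_zero_iff F p] at h0
    -- the stabilizer subgroup
    have hcardstab : Nat.card (MulAction.stabilizer N q) =
        (Finset.univ.filter (fun h : N => h • q = q)).card := by
      rw [Nat.card_eq_fintype_card, Fintype.card_subtype]
      rfl
    rw [← hcardstab] at h0
    obtain ⟨s, hs⟩ := exists_prime_orderOf_dvd_card' (G := MulAction.stabilizer N q) p h0
    apply hq.1
    induction q using QuotientGroup.induction_on with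
    | H g =>
      have hsfix : (s : N) • (QuotientGroup.mk g : G ⧸ N) = QuotientGroup.mk g := s.2
      have hsfix' : (QuotientGroup.mk (((s : N) : G) * g) : G ⧸ N) = QuotientGroup.mk g := hsfix
      rw [QuotientGroup.eq] at hsfix'
      -- g⁻¹ * s⁻¹ * g ∈ N
      have hu : (((s : N) : G))⁻¹ ∈ N := N.inv_mem (s : N).2
      have hord : orderOf (((s : N) : G)) = p := by
        rw [Subgroup.orderOf_coe, Subgroup.orderOf_coe]; exact hs
      have hup : ((((s : N) : G))⁻¹) ^ p = 1 := by
        rw [inv_pow, ← hord, pow_orderOf_eq_one, inv_one]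
      have hu1 : (((s : N) : G))⁻¹ ≠ 1 := by
        intro h1
        rw [inv_eq_one] at h1
        rw [h1, orderOf_one] at hord
        exact hp.one_lt.ne hord
      have hv : g⁻¹ * (((s : N) : G))⁻¹ * g ∈ N := by
        have : g⁻¹ * (((s : N) : G))⁻¹ * g = (((s : N) : G) * g)⁻¹ * g := by
          rw [mul_inv_rev]
        rw [this]; exact hsfix'
      have hmem : ∀ x : G, x ∈ N → x ∈ Subgroup.normalizer ((P : Subgroup G) : Set G) :=
        fun x hx => hN ▸ hx
      have hmem' : ∀ x : G, x ∈ Subgroup.normalizer ((P : Subgroup G) : Set G) → x ∈ N :=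
        fun x hx => hN ▸ hx
      have hgN := hmem' _ (mem_normalizer_of_conj_mem P hP _ g (hmem _ hu) hup hu1 (hmem _ hv))
      rw [hpt]
      exact QuotientGroup.eq.mpr (by rw [mul_one]; exact N.inv_mem hgN)
  obtain ⟨y, hy⟩ := orbit_sum_lemma σ f hfN _ (Finset.univ.erase pt) rfl hSinv hstab
  refine ⟨w₀, -y, hw₀G, ?_⟩
  -- Σ_{h : N} σ h y = trOne ρ N y
  have htr : trOne ρ N y = ∑ h : N, σ h y := by
    rw [trOne_apply]
    rw [Finset.sum_subtype (Finset.univ.filter (fun g : G => g ∈ N)) (p := fun g => g ∈ N)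
      (by intro x; simp) (fun g => ρ g y)]
    rfl
  have hfpt : f pt = w := by
    rw [hpt, hfmk, map_one, Module.End.one_apply]
  have hsum : w₀ = w + ∑ h : N, σ h y := by
    rw [hw₀, ← Finset.add_sum_erase Finset.univ f (Finset.mem_univ pt), hfpt, hy]
  rw [map_neg, htr, hsum]
  abel

end Cfsg.Agent.Lib.Helper15.DefOne
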