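import Mathlib

set_option autoImplicit false
set_option linter.unusedSectionVars false

/-!
PROJECT BC, defect-one stage, MODULE M2 (helper15), part a: pure linear algebra.
For an endomorphism `ν`, a functional `lam` killing `range (ν ^ (h+1))` and a vector `u` with
`ν ^ (h+1) u = 0`, the map `phiLam ν lam u h v = ∑_{i+j=h} lam (ν^i v) • ν^j u` commutes with `ν`
and sends every `z ∈ ker ν` to `lam z • ν^h u`.
-/

namespace Cfsg.Agent.Lib.Helper15.DefOne

variable {F : Type*} [Field F] {V : Type*} [AddCommGroup V] [Module F V]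

/-- the endomorphism `φ_λ` -/
noncomputable def phiLam (ν : V →ₗ[F] V) (lam : V →ₗ[F] F) (u : V) (h : ℕ) : V →ₗ[F] V :=
  ∑ x ∈ Finset.HasAntidiagonal.antidiagonal h, (lam ∘ₗ (ν ^ x.1)).smulRight ((ν ^ x.2) u)

theorem phiLam_apply (ν : V →ₗ[F] V) (lam : V →ₗ[F] F) (u : V) (h : ℕ) (v : V) :
    phiLam ν lam u h v = ∑ x ∈ Finset.HasAntidiagonal.antidiagonal h, lam ((ν ^ x.1) v) • (ν ^ x.2) u := by
  unfold phiLam
  rw [LinearMap.sum_apply]
  rfl

theorem phiLam_comm (ν : V →ₗ[F] V) (lam : V →ₗ[F] F) (u : V) (h : ℕ)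
    (hlam : ∀ v, lam ((ν ^ (h + 1)) v) = 0) (hu : (ν ^ (h + 1)) u = 0) (v : V) :
    phiLam ν lam u h (ν v) = ν (phiLam ν lam u h v) := by
  have h1 : ∑ x ∈ Finset.HasAntidiagonal.antidiagonal (h + 1), lam ((ν ^ x.1) v) • (ν ^ x.2) u =
      phiLam ν lam u h (ν v) := by
    rw [Finset.Nat.sum_antidiagonal_succ, phiLam_apply]
    simp only [hu, smul_zero, zero_add]
    apply Finset.sum_congr rfl
    intro x _
    rw [pow_succ, Module.End.mul_apply]
  have h2 : ∑ x ∈ Finset.HasAntidiagonal.antidiagonal (h + 1), lam ((ν ^ x.1) v) • (ν ^ x.2) u =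
      ν (phiLam ν lam u h v) := by
    rw [Finset.Nat.sum_antidiagonal_succ', phiLam_apply, map_sum]
    simp only [hlam, zero_smul, zero_add]
    apply Finset.sum_congr rfl
    intro x _
    rw [pow_succ', Module.End.mul_apply, map_smul]
  rw [← h1, h2]

theorem phiLam_of_ker (ν : V →ₗ[F] V) (lam : V →ₗ[F] F) (u : V) (h : ℕ) (z : V) (hz : ν z = 0) :
    phiLam ν lam u h z = lam z • (ν ^ h) u := by
  rw [phiLam_apply, Finset.sum_eq_single (0, h)]
  · simp
  · intro x hx hne
    have hx1 : x.1 ≠ 0 := by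
      intro h0
      apply hne
      rw [Finset.HasAntidiagonal.mem_antidiagonal] at hx
      ext
      · exact h0
      · simp only; omega
    obtain ⟨k, hk⟩ := Nat.exists_eq_succ_of_ne_zero hx1
    rw [hk, pow_succ, Module.End.mul_apply, hz, map_zero, map_zero, zero_smul]
  · intro hx
    exfalso
    apply hx
    rw [Finset.HasAntidiagonal.mem_antidiagonal]
    simp

/-- `phiLam` commutes with every power of `1 + ν`. -/
theorem phiLam_comm_pow (ν : V →ₗ[F] V) (lam : V →ₗ[F] F) (u : V) (h : ℕ)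
    (hlam : ∀ v, lam ((ν ^ (h + 1)) v) = 0) (hu : (ν ^ (h + 1)) u = 0) (k : ℕ) :
    Commute (phiLam ν lam u h) ((ν + 1) ^ k) := by
  apply Commute.pow_right
  apply Commute.add_right
  · show phiLam ν lam u h * ν = ν * phiLam ν lam u h
    ext v
    rw [Module.End.mul_apply, Module.End.mul_apply]
    exact phiLam_comm ν lam u h hlam hu v
  · exact Commute.one_right _

/-- height of a nonzero vector with respect to a nilpotent endomorphism -/
theorem exists_height (ν : V →ₗ[F] V) (n : ℕ) (hν : ν ^ n = 0) (z : V) (hz : z ≠ 0) :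
    ∃ (h : ℕ) (u : V), (ν ^ h) u = z ∧ z ∉ LinearMap.range (ν ^ (h + 1)) := by
  classical
  have hex : ∃ k, z ∉ LinearMap.range (ν ^ k) := by
    refine ⟨n, ?_⟩
    rw [hν]
    rintro ⟨w, hw⟩
    exact hz (by rw [← hw]; rfl)
  have hk0 : Nat.find hex ≠ 0 := by
    intro h0
    have := Nat.find_spec hex
    rw [h0, pow_zero] at this
    exact this ⟨z, rfl⟩
  obtain ⟨h, hh⟩ := Nat.exists_eq_succ_of_ne_zero hk0
  have hmin : ¬ (z ∉ LinearMap.range (ν ^ h)) := Nat.find_min hex (by rw [hh]; exact Nat.lt_succ_self h)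
  push Not at hmin
  obtain ⟨u, hu⟩ := hmin
  refine ⟨h, u, hu, ?_⟩
  have := Nat.find_spec hex
  rw [hh] at this
  exact this

/-- a functional vanishing on a subspace and equal to one at a vector outside it -/
theorem exists_functional (W : Submodule F V) (z : V) (hz : z ∉ W) :
    ∃ lam : V →ₗ[F] F, (∀ w ∈ W, lam w = 0) ∧ lam z = 1 := by
  obtain ⟨f, hfz, hWf⟩ := Submodule.exists_le_ker_of_notMem hz
  refine ⟨(f z)⁻¹ • f, ?_, ?_⟩
  · intro w hw
    have : f w = 0 := hWf hw
    rw [LinearMap.smul_apply, this, smul_zero]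
  · rw [LinearMap.smul_apply, smul_eq_mul, inv_mul_cancel₀ hfz]

end Cfsg.Agent.Lib.Helper15.DefOne
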