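import Mathlib
import Cfsg.Agent.Lib.Helper77.DefOneDefs
import Cfsg.Agent.Lib.Helper15.DefOneM1

set_option autoImplicit false
set_option linter.unusedSectionVars false

/-!
PROJECT BC, defect-one stage, MODULE M4 (helper15), part 1: everything except the call of M2.

* `schur_scalar`: Schur's lemma over an algebraically closed field.
* `trOne_res`: the `P`-trace of the restriction to a subgroup `N ≥ P` is the `P`-trace.
* `M4_core`: if `β` commutes with `N = N_G(P)` and `β`, `id` are independent modulo
  `Tr_1^N (End V)` (the conclusion of M2), contradiction (uses M1 for `End V` and Schur).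
* `M4_hyps_*`: the hypotheses of M2 for the restriction of `ρ` to `N_G(P)`.
-/

namespace Cfsg.Agent.Lib.Helper15.DefOne

open Cfsg.Agent.Lib.Helper77.DefOne

variable {F : Type*} [Field F] {G : Type*} [Group G] [Fintype G]
  {V : Type*} [AddCommGroup V] [Module F V] {p : ℕ} [Fact p.Prime] [CharP F p]

/-- Schur's lemma: an endomorphism commuting with an irreducible representation over an
algebraically closed field is a scalar. -/
theorem schur_scalar [IsAlgClosed F] [FiniteDimensional F V] (ρ : Representation F G V)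
    [ρ.IsIrreducible] (f : V →ₗ[F] V) (hf : ∀ g, f ∘ₗ ρ g = ρ g ∘ₗ f) :
    ∃ c : F, f = c • LinearMap.id := by
  obtain ⟨c, hc⟩ :=
    (Representation.IsIrreducible.algebraMap_intertwiningMap_bijective_of_isAlgClosed
      (ρ := ρ)).2 ⟨f, hf⟩
  refine ⟨c, ?_⟩
  have h := congrArg Representation.IntertwiningMap.toLinearMap hc
  rw [Algebra.algebraMap_eq_smul_one, Representation.IntertwiningMap.toLinearMap_smul] at h
  exact h.symm

/-- The trace over `P ≤ N` computed in the restriction to `N`. -/
theorem trOne_res (ρ : Representation F G V) (N P : Subgroup G) [Fintype N] (hPN : P ≤ N) :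
    trOne (ρ.comp N.subtype) (P.subgroupOf N) = trOne ρ P := by
  classical
  ext v
  rw [trOne_apply, trOne_apply]
  apply Finset.sum_bij (fun (n : N) _ => (n : G))
  · intro n hn
    rw [Finset.mem_filter] at hn ⊢
    exact ⟨Finset.mem_univ _, Subgroup.mem_subgroupOf.mp hn.2⟩
  · intro a _ b _ hab
    exact Subtype.ext hab
  · intro g hg
    rw [Finset.mem_filter] at hg
    refine ⟨⟨g, hPN hg.2⟩, ?_, rfl⟩
    rw [Finset.mem_filter]
    exact ⟨Finset.mem_univ _, Subgroup.mem_subgroupOf.mpr hg.2⟩
  · intro n _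
    rfl

/-- The full trace of the restriction to `N`, as a sum over the subtype. -/
theorem trOne_eq_sum_subtype {W : Type*} [AddCommGroup W] [Module F W] (σ : Representation F G W)
    (N : Subgroup G) [Fintype N] (y : W) :
    trOne σ N y = ∑ n : N, σ (n : G) y := by
  classical
  rw [trOne_apply]
  symm
  apply Finset.sum_bij (fun (n : N) _ => (n : G))
  · intro n _
    rw [Finset.mem_filter]
    exact ⟨Finset.mem_univ _, n.2⟩
  · intro a _ b _ hab
    exact Subtype.ext hab
  · intro g hg
    rw [Finset.mem_filter] at hg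
    exact ⟨⟨g, hg.2⟩, Finset.mem_univ _, rfl⟩
  · intro n _
    rfl

/-- **M4, core.** -/
theorem M4_core [IsAlgClosed F] [FiniteDimensional F V] (P : Sylow p G) (hP : Nat.card P = p)
    (ρ : Representation F G V) [ρ.IsIrreducible]
    [Fintype (Subgroup.normalizer ((P : Subgroup G) : Set G))]
    (β : V →ₗ[F] V)
    (hβ : ∀ n : Subgroup.normalizer ((P : Subgroup G) : Set G),
      (ρ.comp (Subgroup.normalizer ((P : Subgroup G) : Set G)).subtype) n ∘ₗ β =
        β ∘ₗ (ρ.comp (Subgroup.normalizer ((P : Subgroup G) : Set G)).subtype) n)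
    (hind : ∀ c₁ c₂ : F, (∃ γ : V →ₗ[F] V, c₁ • β + c₂ • LinearMap.id =
      ∑ n : Subgroup.normalizer ((P : Subgroup G) : Set G),
        (ρ.comp (Subgroup.normalizer ((P : Subgroup G) : Set G)).subtype) n ∘ₗ γ ∘ₗ
          (ρ.comp (Subgroup.normalizer ((P : Subgroup G) : Set G)).subtype) n⁻¹) →
      c₁ = 0 ∧ c₂ = 0) : False := by
  classical
  -- β is fixed by N in End V
  have hfix : ∀ n ∈ Subgroup.normalizer ((P : Subgroup G) : Set G),
      (Representation.linHom ρ ρ) n β = β := by
    intro n hn
    rw [Representation.linHom_apply]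
    have h1 := hβ ⟨n, hn⟩
    have h1' : ρ n ∘ₗ β = β ∘ₗ ρ n := h1
    rw [← LinearMap.comp_assoc, h1', LinearMap.comp_assoc]
    have : ρ n ∘ₗ ρ n⁻¹ = LinearMap.id := by
      rw [← Module.End.mul_eq_comp, ← map_mul, mul_inv_cancel, map_one]
      rfl
    rw [this, LinearMap.comp_id]
  obtain ⟨w₀, y, hw₀, hdec⟩ := M1 P hP (Representation.linHom ρ ρ) β hfix
  -- w₀ commutes with G
  have hcomm : ∀ g, w₀ ∘ₗ ρ g = ρ g ∘ₗ w₀ := by
    intro g
    have h1 := hw₀ g
    rw [Representation.linHom_apply] at h1
    have h2 : (ρ g ∘ₗ w₀ ∘ₗ ρ g⁻¹) ∘ₗ ρ g = w₀ ∘ₗ ρ g := by rw [h1]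
    rw [← h2, LinearMap.comp_assoc, LinearMap.comp_assoc]
    have : ρ g⁻¹ ∘ₗ ρ g = LinearMap.id := by
      rw [← Module.End.mul_eq_comp, ← map_mul, inv_mul_cancel, map_one]
      rfl
    rw [this, LinearMap.comp_id]
  obtain ⟨c, hc⟩ := schur_scalar ρ w₀ hcomm
  have hkey := hind 1 (-c) ⟨y, ?_⟩
  · exact one_ne_zero hkey.1
  · rw [one_smul, hdec, hc, trOne_eq_sum_subtype, neg_smul]
    have : ∀ n : Subgroup.normalizer ((P : Subgroup G) : Set G),
        (Representation.linHom ρ ρ) (n : G) y =
        (ρ.comp (Subgroup.normalizer ((P : Subgroup G) : Set G)).subtype) n ∘ₗ y ∘ₗ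
          (ρ.comp (Subgroup.normalizer ((P : Subgroup G) : Set G)).subtype) n⁻¹ := by
      intro n
      rw [Representation.linHom_apply]
      rfl
    rw [Finset.sum_congr rfl (fun n _ => this n)]
    abel

/-- Hypotheses of M2 for the restriction to the normalizer: cardinality. -/
theorem M4_hyps_card (P : Sylow p G) (hP : Nat.card P = p) :
    Nat.card ((P : Subgroup G).subgroupOf (Subgroup.normalizer ((P : Subgroup G) : Set G))) = p := by
  refine Eq.trans ?_ hP
  exact Nat.card_congr (Subgroup.subgroupOfEquivOfLe Subgroup.le_normalizer).toEquiv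

/-- Hypotheses of M2 for the restriction to the normalizer: index prime to `p`. -/
theorem M4_hyps_index (P : Sylow p G) :
    ¬ p ∣ ((P : Subgroup G).subgroupOf (Subgroup.normalizer ((P : Subgroup G) : Set G))).index := by
  intro h
  have h1 : ((P : Subgroup G).subgroupOf (Subgroup.normalizer ((P : Subgroup G) : Set G))).index
      = (P : Subgroup G).relIndex (Subgroup.normalizer ((P : Subgroup G) : Set G)) := rfl
  rw [h1] at h
  have h2 := Subgroup.relIndex_mul_index (Subgroup.le_normalizer (H := (P : Subgroup G)))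
  have h3 : p ∣ (P : Subgroup G).index := by
    rw [← h2]; exact Dvd.dvd.mul_right h _
  exact P.not_dvd_index h3

end Cfsg.Agent.Lib.Helper15.DefOne
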