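import Mathlib
import Cfsg.Agent.Lib.Helper77.DefOneDefs
import Cfsg.Agent.Lib.Helper15.DefOneM1
import Cfsg.Agent.Lib.Helper15.DefOneM4
import Cfsg.Agent.Lib.Helper15.DefOneM2a

set_option autoImplicit false
set_option linter.unusedSectionVars false

/-!
PROJECT BC, defect-one stage, MODULE M2 (helper15): two stable semi-invariants with different
characters give an `N`-endomorphism `β` with `β`, `id` independent modulo `Tr_1^N (End V)`.
Proof without Jordan bases: `β` is the `N ⧸ P`-average of the explicit `P`-endomorphism `phiLam`.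
-/

namespace Cfsg.Agent.Lib.Helper15.DefOne

open Cfsg.Agent.Lib.Helper77.DefOne

variable {F : Type*} [Field F] {V : Type*} [AddCommGroup V] [Module F V] {p : ℕ} [Fact p.Prime]
  [CharP F p]

/-- a linear character in characteristic `p` is trivial on `p`-elements -/
theorem hom_eq_one_of_pow_p {N : Type*} [Group N] (μ : N →* Fˣ) (y : N) (hy : y ^ p = 1) :
    μ y = 1 := by
  have hp : p.Prime := Fact.out
  have h1 : (μ y) ^ p = 1 := by rw [← map_pow, hy, map_one]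
  have h2 : ((μ y : Fˣ) : F) ^ p = 1 := by
    rw [← Units.val_pow_eq_pow_val, h1]; rfl
  have h3 : (((μ y : Fˣ) : F) - 1) ^ p = 0 := by
    rw [sub_pow_char, h2, one_pow, sub_self]
  have h4 : ((μ y : Fˣ) : F) - 1 = 0 := (pow_eq_zero_iff hp.ne_zero).mp h3
  exact Units.ext (sub_eq_zero.mp h4)

/-- `Tr_1^N γ` maps `P`-fixed vectors into `range (Tr_1^P)`. -/
theorem trN_mem_range {N : Type*} [Group N] [Fintype N] (P : Subgroup N)
    (ρ : Representation F N V) (γ : V →ₗ[F] V) (z : V) (hz : ∀ y ∈ P, ρ y z = z) :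
    (∑ n : N, ρ n ∘ₗ γ ∘ₗ ρ n⁻¹) z ∈ LinearMap.range (trOne ρ P) := by
  classical
  haveI : Fintype P := Fintype.ofFinite _
  obtain ⟨g, hg⟩ : ∃ g : N → V, g = fun n => ρ n (γ (ρ n⁻¹ z)) := ⟨_, rfl⟩
  have hsum : (∑ n : N, ρ n ∘ₗ γ ∘ₗ ρ n⁻¹) z = ∑ n ∈ (Finset.univ : Finset N), g n := by
    rw [LinearMap.sum_apply, hg]
    rfl
  have hf : ∀ (y : P) (n : N), g (y • n) = (ρ.comp P.subtype) y (g n) := by
    intro y n
    rw [hg]
    show ρ ((y : N) * n) (γ (ρ ((y : N) * n)⁻¹ z)) = ρ (y : N) (ρ n (γ (ρ n⁻¹ z)))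
    rw [mul_inv_rev, map_mul, map_mul, Module.End.mul_apply, Module.End.mul_apply,
      hz _ (P.inv_mem y.2)]
  have hstab : ∀ q ∈ (Finset.univ : Finset N),
      ((Finset.univ.filter (fun y : P => y • q = q)).card : F) ≠ 0 := by
    intro q _
    have : Finset.univ.filter (fun y : P => y • q = q) = {1} := by
      ext y
      rw [Finset.mem_filter, Finset.mem_singleton]
      constructor
      · rintro ⟨_, hy⟩
        have hy' : (y : N) * q = q := hy
        apply Subtype.ext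
        exact mul_eq_right.mp hy' |>.trans rfl
      · rintro rfl
        exact ⟨Finset.mem_univ _, one_smul _ _⟩
    rw [this, Finset.card_singleton, Nat.cast_one]
    exact one_ne_zero
  obtain ⟨y, hy⟩ := orbit_sum_lemma (ρ.comp P.subtype) g hf _ Finset.univ rfl
    (fun _ _ _ => Finset.mem_univ _) hstab
  refine ⟨y, ?_⟩
  rw [hsum, hy, trOne_eq_sum_subtype ρ P y]
  rfl

/-- **MODULE M2.** -/
theorem M2 {N : Type*} [Group N] [Fintype N] [FiniteDimensional F V] (P : Subgroup N) [P.Normal]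
    (hP : Nat.card P = p) (hidx : ¬ p ∣ P.index) (ρ : Representation F N V) (μ₁ μ₂ : N →* Fˣ)
    (hμ : μ₁ ≠ μ₂) (z₁ z₂ : V) (h₁ : ∀ n, ρ n z₁ = ((μ₁ n : Fˣ) : F) • z₁)
    (h₂ : ∀ n, ρ n z₂ = ((μ₂ n : Fˣ) : F) • z₂) (hz₁ : z₁ ∉ LinearMap.range (trOne ρ P))
    (hz₂ : z₂ ∉ LinearMap.range (trOne ρ P)) :
    ∃ β : V →ₗ[F] V, (∀ n, ρ n ∘ₗ β = β ∘ₗ ρ n) ∧
      ∀ c₁ c₂ : F, (∃ γ : V →ₗ[F] V, c₁ • β + c₂ • LinearMap.id = ∑ n : N, ρ n ∘ₗ γ ∘ₗ ρ n⁻¹) →
        c₁ = 0 ∧ c₂ = 0 := by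
  classical
  have hp : p.Prime := Fact.out
  -- elements of P have order dividing p
  have hPp : ∀ y ∈ P, y ^ p = 1 := by
    intro y hy
    have h := pow_card_eq_one' (G := P) (x := ⟨y, hy⟩)
    rw [hP] at h
    exact congrArg Subtype.val h
  -- a generator x of P
  obtain ⟨x, hxP, hx1⟩ : ∃ x ∈ P, x ≠ 1 := by
    haveI : Nontrivial P := by
      rw [← Finite.one_lt_card_iff_nontrivial, hP]; exact hp.one_lt
    obtain ⟨⟨x, hx⟩, hne⟩ := exists_ne (1 : P)
    exact ⟨x, hx, fun h => hne (Subtype.ext h)⟩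
  have hordx : orderOf x = p := by
    have h1 : orderOf x ∣ p := orderOf_dvd_of_pow_eq_one (hPp x hxP)
    rcases (Nat.dvd_prime hp).mp h1 with h | h
    · exact absurd (orderOf_eq_one_iff.mp h) hx1
    · exact h
  have hPx : Subgroup.zpowers x = P := by
    apply Subgroup.eq_of_le_of_card_ge
    · rw [Subgroup.zpowers_le]; exact hxP
    · rw [Nat.card_zpowers, hordx]; exact hP.le
  have hpow : ∀ y ∈ P, ∃ k : ℕ, y = x ^ k := by
    intro y hy
    rw [← hPx] at hy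
    have hy' : y ∈ Submonoid.powers x := mem_powers_iff_mem_zpowers.mpr hy
    obtain ⟨k, hk⟩ := hy'
    exact ⟨k, hk.symm⟩
  -- ν
  obtain ⟨ν, hν⟩ : ∃ ν : V →ₗ[F] V, ν = ρ x - 1 := ⟨_, rfl⟩
  have hρx : ρ x = ν + 1 := by rw [hν, sub_add_cancel]
  have hz₁0 : z₁ ≠ 0 := by
    rintro rfl; exact hz₁ (Submodule.zero_mem _)
  have hνp : ν ^ p = 0 := by
    haveI : Nontrivial V := nontrivial_of_ne z₁ 0 hz₁0
    haveI : CharP (Module.End F V) p :=
      charP_of_injective_algebraMap (algebraMap F (Module.End F V)).injective p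
    rw [hν, sub_pow_char_of_commute p (Commute.one_right _), one_pow, ← map_pow, hPp x hxP,
      map_one, sub_self]
  -- μ trivial on P
  have hμ₁P : ∀ y ∈ P, μ₁ y = 1 := fun y hy => hom_eq_one_of_pow_p μ₁ y (hPp y hy)
  have hμ₂P : ∀ y ∈ P, μ₂ y = 1 := fun y hy => hom_eq_one_of_pow_p μ₂ y (hPp y hy)
  have hfix₁ : ∀ y ∈ P, ρ y z₁ = z₁ := by
    intro y hy; rw [h₁, hμ₁P y hy, Units.val_one, one_smul]
  have hfix₂ : ∀ y ∈ P, ρ y z₂ = z₂ := by
    intro y hy; rw [h₂, hμ₂P y hy, Units.val_one, one_smul]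
  have hνz₁ : ν z₁ = 0 := by
    rw [hν, LinearMap.sub_apply, hfix₁ x hxP, Module.End.one_apply, sub_self]
  have hνz₂ : ν z₂ = 0 := by
    rw [hν, LinearMap.sub_apply, hfix₂ x hxP, Module.End.one_apply, sub_self]
  -- height of z₁
  obtain ⟨h, u, hu, hnot⟩ := exists_height ν p hνp z₁ hz₁0
  have hu0 : (ν ^ (h + 1)) u = 0 := by
    rw [pow_succ', Module.End.mul_apply, hu, hνz₁]
  obtain ⟨lam, hlamW, hlamz⟩ := exists_functional (LinearMap.range (ν ^ (h + 1))) z₁ hnot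
  have hlam : ∀ v, lam ((ν ^ (h + 1)) v) = 0 := fun v => hlamW _ ⟨v, rfl⟩
  obtain ⟨β', hβ'⟩ : ∃ β' : V →ₗ[F] V, β' = phiLam ν lam u h := ⟨_, rfl⟩
  have hβ'ker : ∀ z, ν z = 0 → β' z = lam z • z₁ := by
    intro z hz
    rw [hβ', phiLam_of_ker ν lam u h z hz, hu]
  have hβ'P : ∀ y ∈ P, ∀ v, β' (ρ y v) = ρ y (β' v) := by
    intro y hy v
    obtain ⟨k, rfl⟩ := hpow y hy
    rw [map_pow, hρx, hβ']
    exact LinearMap.congr_fun (phiLam_comm_pow ν lam u h hlam hu0 k).eq v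
  -- the conjugates of β' indexed by cosets
  let f : N ⧸ P → (V →ₗ[F] V) := fun q => Quotient.liftOn' q (fun n => ρ n ∘ₗ β' ∘ₗ ρ n⁻¹) (by
    intro a b hab
    rw [QuotientGroup.leftRel_apply] at hab
    obtain ⟨y, hy⟩ : ∃ y, y = a⁻¹ * b := ⟨_, rfl⟩
    have hb : b = a * y := by rw [hy, mul_inv_cancel_left]
    have hyP : y ∈ P := by rw [hy]; exact hab
    show ρ a ∘ₗ β' ∘ₗ ρ a⁻¹ = ρ b ∘ₗ β' ∘ₗ ρ b⁻¹
    ext v
    show ρ a (β' (ρ a⁻¹ v)) = ρ b (β' (ρ b⁻¹ v))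
    rw [hb, mul_inv_rev, map_mul, map_mul, Module.End.mul_apply, Module.End.mul_apply,
      hβ'P _ (P.inv_mem hyP)]
    have hyy : ∀ w, ρ y (ρ y⁻¹ w) = w := by
      intro w
      rw [← Module.End.mul_apply, ← map_mul, mul_inv_cancel, map_one, Module.End.one_apply]
    rw [hyy])
  have hfmk : ∀ n : N, f (QuotientGroup.mk n) = ρ n ∘ₗ β' ∘ₗ ρ n⁻¹ := fun n => rfl
  have hfG : ∀ (g : N) (q : N ⧸ P), f (g • q) = ρ g ∘ₗ f q ∘ₗ ρ g⁻¹ := by
    intro g q
    induction q using QuotientGroup.induction_on with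
    | H a =>
      show f (QuotientGroup.mk (g * a)) = _
      rw [hfmk, hfmk, mul_inv_rev, map_mul, map_mul]
      rfl
  obtain ⟨β, hβ⟩ : ∃ β : V →ₗ[F] V, β = ∑ q : N ⧸ P, f q := ⟨_, rfl⟩
  have hβconj : ∀ n, ρ n ∘ₗ β ∘ₗ ρ n⁻¹ = β := by
    intro n
    rw [hβ]
    ext v
    simp only [LinearMap.comp_apply, LinearMap.sum_apply, map_sum]
    rw [← Equiv.sum_comp (MulAction.toPerm n : Equiv.Perm (N ⧸ P)) (fun q => f q v)]
    apply Finset.sum_congr rfl
    intro q _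
    rw [MulAction.toPerm_apply, hfG]
    rfl
  have hβcomm : ∀ n, ρ n ∘ₗ β = β ∘ₗ ρ n := by
    intro n
    have h1 : (ρ n ∘ₗ β ∘ₗ ρ n⁻¹) ∘ₗ ρ n = β ∘ₗ ρ n := by rw [hβconj]
    rw [← h1, LinearMap.comp_assoc, LinearMap.comp_assoc]
    have : ρ n⁻¹ ∘ₗ ρ n = LinearMap.id := by
      rw [← Module.End.mul_eq_comp, ← map_mul, inv_mul_cancel, map_one]
      rfl
    rw [this, LinearMap.comp_id]
  -- values of β
  have hfz₁ : ∀ q, f q z₁ = z₁ := by
    intro q
    induction q using QuotientGroup.induction_on with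
    | H n =>
      rw [hfmk]
      simp only [LinearMap.comp_apply]
      rw [h₁ n⁻¹, map_smul, hβ'ker z₁ hνz₁, hlamz, one_smul, map_smul, h₁ n, smul_smul,
        ← Units.val_mul, ← map_mul, inv_mul_cancel, map_one, Units.val_one, one_smul]
  have hβz₁ : β z₁ = (P.index : F) • z₁ := by
    rw [hβ, LinearMap.sum_apply, Finset.sum_congr rfl (fun q _ => hfz₁ q), Finset.sum_const,
      Finset.card_univ, Subgroup.index_eq_card, Nat.card_eq_fintype_card, Nat.cast_smul_eq_nsmul]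
  -- the quotient character
  have hker : P ≤ (μ₁ / μ₂).ker := by
    intro y hy
    rw [MonoidHom.mem_ker, MonoidHom.div_apply, hμ₁P y hy, hμ₂P y hy, div_one]
  obtain ⟨χ, hχ⟩ : ∃ χ : N ⧸ P →* F, χ = (Units.coeHom F).comp (QuotientGroup.lift P (μ₁ / μ₂) hker) :=
    ⟨_, rfl⟩
  have hχmk : ∀ n : N, χ (QuotientGroup.mk n) = ((μ₁ n : Fˣ) : F) * (((μ₂ n)⁻¹ : Fˣ) : F) := by
    intro n
    rw [hχ, MonoidHom.comp_apply, QuotientGroup.lift_mk, MonoidHom.div_apply, div_eq_mul_inv,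
      Units.coeHom_apply, Units.val_mul]
  have hχne : χ ≠ 1 := by
    intro h1
    apply hμ
    ext n
    have h2 := hχmk n
    rw [h1, MonoidHom.one_apply, ← Units.val_mul, ← Units.val_one, Units.val_inj] at h2
    have h3 : μ₁ n = μ₂ n := by
      rw [← mul_inv_eq_one]; exact h2.symm
    rw [h3]
  have hχsum : ∑ q : N ⧸ P, χ q = 0 := sum_hom_units_eq_zero χ hχne
  have hfz₂ : ∀ q, f q z₂ = (lam z₂ * χ q) • z₁ := by
    intro q
    induction q using QuotientGroup.induction_on with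
    | H n =>
      rw [hfmk, hχmk]
      simp only [LinearMap.comp_apply]
      rw [h₂ n⁻¹, map_smul, hβ'ker z₂ hνz₂, map_smul, map_smul, h₁ n, smul_smul, smul_smul,
        map_inv]
      congr 1
      ring
  have hβz₂ : β z₂ = 0 := by
    rw [hβ, LinearMap.sum_apply, Finset.sum_congr rfl (fun q _ => hfz₂ q), ← Finset.sum_smul,
      ← Finset.mul_sum, hχsum, mul_zero, zero_smul]
  have hm : (P.index : F) ≠ 0 := by
    intro h0
    exact hidx ((CharP.cast_eq_zero_iff F p _).mp h0)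
  refine ⟨β, hβcomm, ?_⟩
  rintro c₁ c₂ ⟨γ, hγ⟩
  have hc₂ : c₂ = 0 := by
    by_contra hne
    have h3 := trN_mem_range P ρ γ z₂ hfix₂
    rw [← hγ, LinearMap.add_apply, LinearMap.smul_apply, LinearMap.smul_apply, hβz₂, smul_zero,
      zero_add, LinearMap.id_apply] at h3
    apply hz₂
    have := Submodule.smul_mem _ c₂⁻¹ h3
    rwa [smul_smul, inv_mul_cancel₀ hne, one_smul] at this
  have hc₁ : c₁ = 0 := by
    by_contra hne
    have h3 := trN_mem_range P ρ γ z₁ hfix₁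
    rw [← hγ, hc₂, zero_smul, add_zero, LinearMap.smul_apply, hβz₁, smul_smul] at h3
    apply hz₁
    have hne' : c₁ * (P.index : F) ≠ 0 := mul_ne_zero hne hm
    have := Submodule.smul_mem _ (c₁ * (P.index : F))⁻¹ h3
    rwa [smul_smul, inv_mul_cancel₀ hne', one_smul] at this
  exact ⟨hc₁, hc₂⟩

end Cfsg.Agent.Lib.Helper15.DefOne
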