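import Mathlib
import Cfsg.Agent.Lib.Helper77.DefOneDefs
import Cfsg.Agent.Lib.Helper15.DefOneM4
import Cfsg.Agent.Lib.Helper15.DefOneM2

set_option autoImplicit false
set_option linter.unusedSectionVars false

/-!
PROJECT BC, defect-one stage, MODULES M4 and M4b (helper15), exact statements of #2293 / #2327:
a simple `F[G]`-module has stable semi-invariants for at most one character of `N_G(P)`, and two
simple modules with stable semi-invariants for different characters are not isomorphic.
-/

namespace Cfsg.Agent.Lib.Helper15.DefOne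

open Cfsg.Agent.Lib.Helper77.DefOne

variable {F : Type*} [Field F] {G : Type*} [Group G] [Fintype G]
  {V : Type*} [AddCommGroup V] [Module F V] {p : ℕ} [Fact p.Prime] [CharP F p]

/-- **MODULE M4.** -/
theorem M4 [IsAlgClosed F] [FiniteDimensional F V] (P : Sylow p G) (hP : Nat.card P = p)
    (ρ : Representation F G V) [ρ.IsIrreducible]
    (μ₁ μ₂ : Subgroup.normalizer ((P : Subgroup G) : Set G) →* Fˣ) (z₁ z₂ : V)
    (h₁ : IsStableSemiInv ρ (P : Subgroup G) μ₁ z₁)
    (h₂ : IsStableSemiInv ρ (P : Subgroup G) μ₂ z₂) : μ₁ = μ₂ := by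
  classical
  by_contra hμ
  haveI : Fintype (Subgroup.normalizer ((P : Subgroup G) : Set G)) := Fintype.ofFinite _
  haveI : ((P : Subgroup G).subgroupOf (Subgroup.normalizer ((P : Subgroup G) : Set G))).Normal :=
    Subgroup.normal_in_normalizer
  obtain ⟨β, hβ, hind⟩ := M2 (p := p)
    ((P : Subgroup G).subgroupOf (Subgroup.normalizer ((P : Subgroup G) : Set G)))
    (M4_hyps_card P hP) (M4_hyps_index P)
    (ρ.comp (Subgroup.normalizer ((P : Subgroup G) : Set G)).subtype) μ₁ μ₂ hμ z₁ z₂
    (fun n => h₁.1 n) (fun n => h₂.1 n)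
    (by rw [trOne_res ρ _ _ Subgroup.le_normalizer]; exact h₁.2)
    (by rw [trOne_res ρ _ _ Subgroup.le_normalizer]; exact h₂.2)
  exact M4_core P hP ρ β hβ hind

/-- **MODULE M4b.** -/
theorem M4b [IsAlgClosed F] [FiniteDimensional F V] {V' : Type*} [AddCommGroup V'] [Module F V']
    [FiniteDimensional F V'] (P : Sylow p G) (hP : Nat.card P = p)
    (ρ : Representation F G V) (ρ' : Representation F G V') [ρ.IsIrreducible] [ρ'.IsIrreducible]
    (μ μ' : Subgroup.normalizer ((P : Subgroup G) : Set G) →* Fˣ) (z : V) (z' : V')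
    (h : IsStableSemiInv ρ (P : Subgroup G) μ z) (h' : IsStableSemiInv ρ' (P : Subgroup G) μ' z')
    (f : V →ₗ[F] V') (hf : ∀ g, f ∘ₗ ρ g = ρ' g ∘ₗ f) (hμ : μ ≠ μ') : f = 0 := by
  classical
  by_contra hf0
  rcases Representation.IsIrreducible.bijective_or_eq_zero
    (⟨f, hf⟩ : Representation.IntertwiningMap ρ ρ') with hb | h0
  · have hinj : Function.Injective f := hb.1
    have hsurj : Function.Surjective f := hb.2
    have hfρ : ∀ g v, f (ρ g v) = ρ' g (f v) := fun g v => LinearMap.congr_fun (hf g) v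
    have hftr : ∀ y, f (trOne ρ (P : Subgroup G) y) = trOne ρ' (P : Subgroup G) (f y) := by
      intro y
      rw [trOne_apply, trOne_apply, map_sum]
      exact Finset.sum_congr rfl (fun g _ => hfρ g y)
    have hst : IsStableSemiInv ρ' (P : Subgroup G) μ (f z) := by
      refine ⟨?_, ?_⟩
      · intro n
        rw [← hfρ, h.1 n, map_smul]
      · rintro ⟨y', hy'⟩
        obtain ⟨y, rfl⟩ := hsurj y'
        rw [← hftr] at hy'
        exact h.2 ⟨y, hinj hy'⟩
    exact hμ (M4 P hP ρ' μ μ' (f z) z' hst h')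
  · exact hf0 (congrArg Representation.IntertwiningMap.toLinearMap h0)

end Cfsg.Agent.Lib.Helper15.DefOne
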