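import Mathlib
import Cfsg.Agent.Lib.Helper77.DefOneDefs
import Cfsg.Agent.Lib.Helper15.DefOneM2a
import Cfsg.Agent.Lib.Helper15.DefOneM2

set_option autoImplicit false
set_option linter.unusedSectionVars false

/-!
PROJECT BC, defect-one stage (helper15): the `β`-construction of M2 as a standalone lemma.
For `P ⊴ N` of order `p = char F` and a nonzero `P`-fixed vector `z₁`, there are a functional `lam`
with `lam z₁ = 1` and an `N`-endomorphism `β` of `V` with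
`β z = ∑_{q ∈ N ⧸ P} lam (ρ n⁻¹ z) • ρ n z₁` (`n = q.out`) on `P`-fixed vectors `z`.
-/

namespace Cfsg.Agent.Lib.Helper15.DefOne

open Cfsg.Agent.Lib.Helper77.DefOne

variable {F : Type*} [Field F] {V : Type*} [AddCommGroup V] [Module F V] {p : ℕ} [Fact p.Prime]
  [CharP F p]

theorem exists_beta {N : Type*} [Group N] [Fintype N] (P : Subgroup N) [P.Normal]
    [Fintype (N ⧸ P)] (hP : Nat.card P = p) (ρ : Representation F N V) (z₁ : V) (hz₁0 : z₁ ≠ 0)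
    (hfix₁ : ∀ y ∈ P, ρ y z₁ = z₁) :
    ∃ (lam : V →ₗ[F] F) (β : V →ₗ[F] V), lam z₁ = 1 ∧ (∀ n, ρ n ∘ₗ β = β ∘ₗ ρ n) ∧
      ∀ z, (∀ y ∈ P, ρ y z = z) →
        β z = ∑ q : N ⧸ P, lam (ρ (Quotient.out q)⁻¹ z) • ρ (Quotient.out q) z₁ := by
  classical
  have hp : p.Prime := Fact.out
  have hPp : ∀ y ∈ P, y ^ p = 1 := by
    intro y hy
    have h := pow_card_eq_one' (G := P) (x := ⟨y, hy⟩)
    rw [hP] at h
    exact congrArg Subtype.val h
  obtain ⟨x, hxP, hx1⟩ : ∃ x ∈ P, x ≠ 1 := by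
    haveI : Nontrivial P := by
      rw [← Finite.one_lt_card_iff_nontrivial, hP]; exact hp.one_lt
    obtain ⟨⟨x, hx⟩, hne⟩ := exists_ne (1 : P)
    exact ⟨x, hx, fun h => hne (Subtype.ext h)⟩
  have hordx : orderOf x = p := by
    have h1 : orderOf x ∣ p := orderOf_dvd_of_pow_eq_one (hPp x hxP)
    rcases (Nat.dvd_prime hp).mp h1 with h | h
    · exact absurd (orderOf_eq_one_iff.mp h) hx1
    · exact h
  have hPx : Subgroup.zpowers x = P := by
    apply Subgroup.eq_of_le_of_card_ge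
    · rw [Subgroup.zpowers_le]; exact hxP
    · rw [Nat.card_zpowers, hordx]; exact hP.le
  have hpow : ∀ y ∈ P, ∃ k : ℕ, y = x ^ k := by
    intro y hy
    rw [← hPx] at hy
    have hy' : y ∈ Submonoid.powers x := mem_powers_iff_mem_zpowers.mpr hy
    obtain ⟨k, hk⟩ := hy'
    exact ⟨k, hk.symm⟩
  obtain ⟨ν, hν⟩ : ∃ ν : V →ₗ[F] V, ν = ρ x - 1 := ⟨_, rfl⟩
  have hρx : ρ x = ν + 1 := by rw [hν, sub_add_cancel]
  have hνp : ν ^ p = 0 := by
    haveI : Nontrivial V := nontrivial_of_ne z₁ 0 hz₁0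
    haveI : CharP (Module.End F V) p :=
      charP_of_injective_algebraMap (algebraMap F (Module.End F V)).injective p
    rw [hν, sub_pow_char_of_commute p (Commute.one_right _), one_pow, ← map_pow, hPp x hxP,
      map_one, sub_self]
  have hker : ∀ z, (∀ y ∈ P, ρ y z = z) → ν z = 0 := by
    intro z hz
    rw [hν, LinearMap.sub_apply, hz x hxP, Module.End.one_apply, sub_self]
  have hνz₁ : ν z₁ = 0 := hker z₁ hfix₁
  obtain ⟨h, u, hu, hnot⟩ := exists_height ν p hνp z₁ hz₁0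
  have hu0 : (ν ^ (h + 1)) u = 0 := by
    rw [pow_succ', Module.End.mul_apply, hu, hνz₁]
  obtain ⟨lam, hlamW, hlamz⟩ := exists_functional (LinearMap.range (ν ^ (h + 1))) z₁ hnot
  have hlam : ∀ v, lam ((ν ^ (h + 1)) v) = 0 := fun v => hlamW _ ⟨v, rfl⟩
  obtain ⟨β', hβ'⟩ : ∃ β' : V →ₗ[F] V, β' = phiLam ν lam u h := ⟨_, rfl⟩
  have hβ'ker : ∀ z, ν z = 0 → β' z = lam z • z₁ := by
    intro z hz
    rw [hβ', phiLam_of_ker ν lam u h z hz, hu]
  have hβ'P : ∀ y ∈ P, ∀ v, β' (ρ y v) = ρ y (β' v) := by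
    intro y hy v
    obtain ⟨k, rfl⟩ := hpow y hy
    rw [map_pow, hρx, hβ']
    exact LinearMap.congr_fun (phiLam_comm_pow ν lam u h hlam hu0 k).eq v
  let f : N ⧸ P → (V →ₗ[F] V) := fun q => Quotient.liftOn' q (fun n => ρ n ∘ₗ β' ∘ₗ ρ n⁻¹) (by
    intro a b hab
    rw [QuotientGroup.leftRel_apply] at hab
    obtain ⟨y, hy⟩ : ∃ y, y = a⁻¹ * b := ⟨_, rfl⟩
    have hb : b = a * y := by rw [hy, mul_inv_cancel_left]
    have hyP : y ∈ P := by rw [hy]; exact hab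
    show ρ a ∘ₗ β' ∘ₗ ρ a⁻¹ = ρ b ∘ₗ β' ∘ₗ ρ b⁻¹
    ext v
    show ρ a (β' (ρ a⁻¹ v)) = ρ b (β' (ρ b⁻¹ v))
    rw [hb, mul_inv_rev, map_mul, map_mul, Module.End.mul_apply, Module.End.mul_apply,
      hβ'P _ (P.inv_mem hyP)]
    have hyy : ∀ w, ρ y (ρ y⁻¹ w) = w := by
      intro w
      rw [← Module.End.mul_apply, ← map_mul, mul_inv_cancel, map_one, Module.End.one_apply]
    rw [hyy])
  have hfmk : ∀ n : N, f (QuotientGroup.mk n) = ρ n ∘ₗ β' ∘ₗ ρ n⁻¹ := fun n => rfl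
  have hfG : ∀ (g : N) (q : N ⧸ P), f (g • q) = ρ g ∘ₗ f q ∘ₗ ρ g⁻¹ := by
    intro g q
    induction q using QuotientGroup.induction_on with
    | H a =>
      show f (QuotientGroup.mk (g * a)) = _
      rw [hfmk, hfmk, mul_inv_rev, map_mul, map_mul]
      rfl
  obtain ⟨β, hβ⟩ : ∃ β : V →ₗ[F] V, β = ∑ q : N ⧸ P, f q := ⟨_, rfl⟩
  have hβconj : ∀ n, ρ n ∘ₗ β ∘ₗ ρ n⁻¹ = β := by
    intro n
    rw [hβ]
    ext v
    simp only [LinearMap.comp_apply, LinearMap.sum_apply, map_sum]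
    rw [← Equiv.sum_comp (MulAction.toPerm n : Equiv.Perm (N ⧸ P)) (fun q => f q v)]
    apply Finset.sum_congr rfl
    intro q _
    rw [MulAction.toPerm_apply, hfG]
    rfl
  have hβcomm : ∀ n, ρ n ∘ₗ β = β ∘ₗ ρ n := by
    intro n
    have h1 : (ρ n ∘ₗ β ∘ₗ ρ n⁻¹) ∘ₗ ρ n = β ∘ₗ ρ n := by rw [hβconj]
    rw [← h1, LinearMap.comp_assoc, LinearMap.comp_assoc]
    have : ρ n⁻¹ ∘ₗ ρ n = LinearMap.id := by
      rw [← Module.End.mul_eq_comp, ← map_mul, inv_mul_cancel, map_one]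
      rfl
    rw [this, LinearMap.comp_id]
  refine ⟨lam, β, hlamz, hβcomm, ?_⟩
  intro z hz
  -- translates of P-fixed vectors are P-fixed
  have hzn : ∀ n : N, ∀ y ∈ P, ρ y (ρ n⁻¹ z) = ρ n⁻¹ z := by
    intro n y hy
    have hconj : n * y * n⁻¹ ∈ P := ‹P.Normal›.conj_mem y hy n
    have h1 : y * n⁻¹ = n⁻¹ * (n * y * n⁻¹) := by group
    rw [← Module.End.mul_apply, ← map_mul, h1, map_mul, Module.End.mul_apply, hz _ hconj]
  rw [hβ, LinearMap.sum_apply]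
  apply Finset.sum_congr rfl
  intro q _
  have hq : f q = ρ (Quotient.out q) ∘ₗ β' ∘ₗ ρ (Quotient.out q)⁻¹ := by
    conv_lhs => rw [← QuotientGroup.out_eq' q]
    exact hfmk _
  rw [hq]
  simp only [LinearMap.comp_apply]
  rw [hβ'ker _ (hker _ (hzn _)), map_smul]

end Cfsg.Agent.Lib.Helper15.DefOne
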