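import Mathlib
import Cfsg.Agent.Lib.Helper77.DefOneDefs
import Cfsg.Agent.Lib.Helper15.DefOneM1
import Cfsg.Agent.Lib.Helper15.DefOneM4
import Cfsg.Agent.Lib.Helper15.DefOneM2
import Cfsg.Agent.Lib.Helper15.DefOneBeta

set_option autoImplicit false
set_option linter.unusedSectionVars false

/-!
PROJECT BC, defect-one stage, general blocks, MODULE GT4 (helper15):
if two simple `F[N_G(P)]`-modules `W`, `W'` (with `P` acting trivially) both embed "stably" into the
Brauer quotient `V^P / Tr_1^P V` of a simple `F[G]`-module `V`, then `W ≅ W'`.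
-/

namespace Cfsg.Agent.Lib.Helper15.DefOne

open Cfsg.Agent.Lib.Helper77.DefOne

variable {F : Type*} [Field F] {V : Type*} [AddCommGroup V] [Module F V] {p : ℕ} [Fact p.Prime]
  [CharP F p]

theorem nontrivial_of_irreducible {N : Type*} [Monoid N] {W : Type*} [AddCommGroup W] [Module F W]
    (ρW : Representation F N W) [ρW.IsIrreducible] : Nontrivial W := by
  by_contra hnt
  rw [not_nontrivial_iff_subsingleton] at hnt
  obtain ⟨a, b, hab⟩ := exists_pair_ne (Subrepresentation ρW)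
  apply hab
  apply Subrepresentation.toSubmodule_injective
  exact Subsingleton.elim _ _

/-- **GM2**: the `N`-level statement. -/
theorem GM2 {N : Type*} [Group N] [Fintype N]
    {W W' : Type*} [AddCommGroup W] [Module F W] [FiniteDimensional F W]
    [AddCommGroup W'] [Module F W']
    (P : Subgroup N) [P.Normal] (hP : Nat.card P = p) (hidx : ¬ p ∣ P.index)
    (ρ : Representation F N V) (ρW : Representation F N W) (ρW' : Representation F N W')
    [ρW.IsIrreducible] [ρW'.IsIrreducible]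
    (hWP : ∀ y ∈ P, ρW y = 1) (hWP' : ∀ y ∈ P, ρW' y = 1)
    (f : W →ₗ[F] V) (f' : W' →ₗ[F] V)
    (hf : ∀ n w, ρ n (f w) = f (ρW n w))
    (hfs : ∀ w, f w ∈ LinearMap.range (trOne ρ P) → w = 0)
    (hf' : ∀ n w, ρ n (f' w) = f' (ρW' n w))
    (hfs' : ∀ w, f' w ∈ LinearMap.range (trOne ρ P) → w = 0) :
    (∃ e : W ≃ₗ[F] W', ∀ n, e.toLinearMap ∘ₗ ρW n = ρW' n ∘ₗ e.toLinearMap) ∨
    ∃ β : V →ₗ[F] V, (∀ n, ρ n ∘ₗ β = β ∘ₗ ρ n) ∧
      ∀ (c : F) (γ : V →ₗ[F] V), β ≠ c • LinearMap.id + ∑ n : N, ρ n ∘ₗ γ ∘ₗ ρ n⁻¹ := by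
  classical
  have hp : p.Prime := Fact.out
  haveI : Nontrivial W := nontrivial_of_irreducible ρW
  haveI : Nontrivial W' := nontrivial_of_irreducible ρW'
  obtain ⟨w₁, hw₁⟩ := exists_ne (0 : W)
  have hfinj : ∀ a b, f a = f b → a = b := by
    intro a b hab
    have h0 : f (a - b) = 0 := by rw [map_sub, hab, sub_self]
    have := hfs (a - b) (by rw [h0]; exact Submodule.zero_mem _)
    exact sub_eq_zero.mp this
  have hz₁0 : f w₁ ≠ 0 := by
    intro h0
    exact hw₁ (hfs w₁ (by rw [h0]; exact Submodule.zero_mem _))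
  have hfixf : ∀ w, ∀ y ∈ P, ρ y (f w) = f w := by
    intro w y hy
    rw [hf, hWP y hy, Module.End.one_apply]
  have hfixf' : ∀ w, ∀ y ∈ P, ρ y (f' w) = f' w := by
    intro w y hy
    rw [hf', hWP' y hy, Module.End.one_apply]
  obtain ⟨lam, β, hlam, hβcomm, hβ⟩ := exists_beta P hP ρ (f w₁) hz₁0 (hfixf w₁)
  obtain ⟨Ψ, hΨ⟩ : ∃ Ψ : V →ₗ[F] W, Ψ = ∑ q : N ⧸ P,
      (lam ∘ₗ ρ (Quotient.out q)⁻¹).smulRight (ρW (Quotient.out q) w₁) := ⟨_, rfl⟩
  have hΨapply : ∀ z, Ψ z =
      ∑ q : N ⧸ P, lam (ρ (Quotient.out q)⁻¹ z) • ρW (Quotient.out q) w₁ := by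
    intro z
    rw [hΨ, LinearMap.sum_apply]
    rfl
  have hβΨ : ∀ z, (∀ y ∈ P, ρ y z = z) → β z = f (Ψ z) := by
    intro z hz
    rw [hβ z hz, hΨapply, map_sum]
    apply Finset.sum_congr rfl
    intro q _
    rw [map_smul, hf]
  obtain ⟨Φ, hΦ⟩ : ∃ Φ : W' →ₗ[F] W, Φ = Ψ ∘ₗ f' := ⟨_, rfl⟩
  have hβf' : ∀ w', β (f' w') = f (Φ w') := by
    intro w'
    rw [hβΨ _ (hfixf' w'), hΦ]
    rfl
  have hΦint : ∀ g, Φ ∘ₗ ρW' g = ρW g ∘ₗ Φ := by
    intro g
    ext w'
    apply hfinj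
    show f (Φ (ρW' g w')) = f (ρW g (Φ w'))
    rw [← hβf', ← hf', ← hf, ← hβf']
    exact (LinearMap.congr_fun (hβcomm g) (f' w')).symm
  rcases Representation.IsIrreducible.bijective_or_eq_zero
    (⟨Φ, hΦint⟩ : Representation.IntertwiningMap ρW' ρW) with hb | h0
  · left
    have hbΦ : Function.Bijective Φ := hb
    obtain ⟨e', he'⟩ : ∃ e' : W' ≃ₗ[F] W, ∀ w', e' w' = Φ w' :=
      ⟨LinearEquiv.ofBijective Φ hbΦ, fun w' => rfl⟩
    refine ⟨e'.symm, ?_⟩
    intro n
    ext w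
    show e'.symm (ρW n w) = ρW' n (e'.symm w)
    apply e'.injective
    rw [LinearEquiv.apply_symm_apply, he']
    have h1 := LinearMap.congr_fun (hΦint n) (e'.symm w)
    simp only [LinearMap.comp_apply] at h1
    rw [h1, ← he', LinearEquiv.apply_symm_apply]
  · right
    have hΦ0 : Φ = 0 := congrArg Representation.IntertwiningMap.toLinearMap h0
    refine ⟨β, hβcomm, ?_⟩
    intro c γ heq
    obtain ⟨w', hw'⟩ := exists_ne (0 : W')
    have hc : c = 0 := by
      by_contra hc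
      have h3 := trN_mem_range P ρ γ (f' w') (hfixf' w')
      have h4 : β (f' w') = 0 := by
        rw [hβf', hΦ0, LinearMap.zero_apply, map_zero]
      have h5 : c • f' w' + (∑ n : N, ρ n ∘ₗ γ ∘ₗ ρ n⁻¹) (f' w') = 0 := by
        rw [← h4, heq, LinearMap.add_apply, LinearMap.smul_apply, LinearMap.id_apply]
      have h6 : c • f' w' ∈ LinearMap.range (trOne ρ P) := by
        have h7 : c • f' w' = - (∑ n : N, ρ n ∘ₗ γ ∘ₗ ρ n⁻¹) (f' w') :=
          eq_neg_of_add_eq_zero_left h5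
        rw [h7]
        exact Submodule.neg_mem _ h3
      have h8 := hfs' (c • w') (by rw [map_smul]; exact h6)
      exact hw' ((smul_eq_zero.mp h8).resolve_left hc)
    have hΨf : ∀ w, Ψ (f w) = 0 := by
      intro w
      apply hfs
      rw [← hβΨ _ (hfixf w), heq, hc, zero_smul, zero_add]
      exact trN_mem_range P ρ γ (f w) (hfixf w)
    have hcomp : Ψ ∘ₗ f = ∑ q : N ⧸ P,
        (lam ∘ₗ ρ (Quotient.out q)⁻¹ ∘ₗ f).smulRight (ρW (Quotient.out q) w₁) := by
      ext w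
      rw [LinearMap.comp_apply, hΨapply, LinearMap.sum_apply]
      rfl
    have htr : LinearMap.trace F W (Ψ ∘ₗ f) = (P.index : F) := by
      rw [hcomp, map_sum]
      have hterm : ∀ q : N ⧸ P, LinearMap.trace F W
          ((lam ∘ₗ ρ (Quotient.out q)⁻¹ ∘ₗ f).smulRight (ρW (Quotient.out q) w₁)) = 1 := by
        intro q
        rw [LinearMap.trace_smulRight]
        show lam (ρ (Quotient.out q)⁻¹ (f (ρW (Quotient.out q) w₁))) = 1
        rw [hf, ← Module.End.mul_apply, ← map_mul, inv_mul_cancel, map_one, Module.End.one_apply,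
          hlam]
      rw [Finset.sum_congr rfl (fun q _ => hterm q), Finset.sum_const, Finset.card_univ,
        Subgroup.index_eq_card, Nat.card_eq_fintype_card, nsmul_eq_mul, mul_one]
    have hzero : Ψ ∘ₗ f = 0 := by
      ext w
      rw [LinearMap.comp_apply, hΨf, LinearMap.zero_apply]
    rw [hzero, map_zero] at htr
    exact hidx ((CharP.cast_eq_zero_iff F p _).mp htr.symm)

variable {G : Type*} [Group G] [Fintype G]

/-- `End_N(V) = F + Tr_1^N (End V)` for a simple `F[G]`-module `V`, `N = N_G(P)`, `|P| = p`. -/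
theorem end_decomp [IsAlgClosed F] [FiniteDimensional F V] (P : Sylow p G) (hP : Nat.card P = p)
    (ρ : Representation F G V) [ρ.IsIrreducible]
    [Fintype (Subgroup.normalizer ((P : Subgroup G) : Set G))]
    (β : V →ₗ[F] V)
    (hβ : ∀ n : Subgroup.normalizer ((P : Subgroup G) : Set G),
      (ρ.comp (Subgroup.normalizer ((P : Subgroup G) : Set G)).subtype) n ∘ₗ β =
        β ∘ₗ (ρ.comp (Subgroup.normalizer ((P : Subgroup G) : Set G)).subtype) n) :
    ∃ (c : F) (γ : V →ₗ[F] V), β = c • LinearMap.id +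
      ∑ n : Subgroup.normalizer ((P : Subgroup G) : Set G),
        (ρ.comp (Subgroup.normalizer ((P : Subgroup G) : Set G)).subtype) n ∘ₗ γ ∘ₗ
          (ρ.comp (Subgroup.normalizer ((P : Subgroup G) : Set G)).subtype) n⁻¹ := by
  classical
  have hfix : ∀ n ∈ Subgroup.normalizer ((P : Subgroup G) : Set G),
      (Representation.linHom ρ ρ) n β = β := by
    intro n hn
    rw [Representation.linHom_apply]
    have h1' : ρ n ∘ₗ β = β ∘ₗ ρ n := hβ ⟨n, hn⟩
    rw [← LinearMap.comp_assoc, h1', LinearMap.comp_assoc]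
    have : ρ n ∘ₗ ρ n⁻¹ = LinearMap.id := by
      rw [← Module.End.mul_eq_comp, ← map_mul, mul_inv_cancel, map_one]
      rfl
    rw [this, LinearMap.comp_id]
  obtain ⟨w₀, y, hw₀, hdec⟩ := M1 P hP (Representation.linHom ρ ρ) β hfix
  have hcomm : ∀ g, w₀ ∘ₗ ρ g = ρ g ∘ₗ w₀ := by
    intro g
    have h1 := hw₀ g
    rw [Representation.linHom_apply] at h1
    have h2 : (ρ g ∘ₗ w₀ ∘ₗ ρ g⁻¹) ∘ₗ ρ g = w₀ ∘ₗ ρ g := by rw [h1]
    rw [← h2, LinearMap.comp_assoc, LinearMap.comp_assoc]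
    have : ρ g⁻¹ ∘ₗ ρ g = LinearMap.id := by
      rw [← Module.End.mul_eq_comp, ← map_mul, inv_mul_cancel, map_one]
      rfl
    rw [this, LinearMap.comp_id]
  obtain ⟨c, hc⟩ := schur_scalar ρ w₀ hcomm
  refine ⟨c, y, ?_⟩
  rw [hdec, hc, trOne_eq_sum_subtype]
  rfl

/-- **MODULE GT4.** -/
theorem GT4 [IsAlgClosed F] [FiniteDimensional F V]
    {W W' : Type*} [AddCommGroup W] [Module F W] [FiniteDimensional F W]
    [AddCommGroup W'] [Module F W'] [FiniteDimensional F W']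
    (P : Sylow p G) (hP : Nat.card P = p) (ρ : Representation F G V) [ρ.IsIrreducible]
    (ρW : Representation F (Subgroup.normalizer ((P : Subgroup G) : Set G)) W)
    (ρW' : Representation F (Subgroup.normalizer ((P : Subgroup G) : Set G)) W')
    [ρW.IsIrreducible] [ρW'.IsIrreducible]
    (hWP : ∀ n : Subgroup.normalizer ((P : Subgroup G) : Set G),
      (n : G) ∈ (P : Subgroup G) → ρW n = 1)
    (hWP' : ∀ n : Subgroup.normalizer ((P : Subgroup G) : Set G),
      (n : G) ∈ (P : Subgroup G) → ρW' n = 1)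
    (f : W →ₗ[F] V) (f' : W' →ₗ[F] V)
    (hf : ∀ (n : Subgroup.normalizer ((P : Subgroup G) : Set G)) (w : W),
      ρ (n : G) (f w) = f (ρW n w))
    (hfs : ∀ w, f w ∈ LinearMap.range (trOne ρ (P : Subgroup G)) → w = 0)
    (hf' : ∀ (n : Subgroup.normalizer ((P : Subgroup G) : Set G)) (w : W'),
      ρ (n : G) (f' w) = f' (ρW' n w))
    (hfs' : ∀ w, f' w ∈ LinearMap.range (trOne ρ (P : Subgroup G)) → w = 0) :
    ∃ e : W ≃ₗ[F] W', ∀ n, e.toLinearMap ∘ₗ ρW n = ρW' n ∘ₗ e.toLinearMap := by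
  classical
  haveI : Fintype (Subgroup.normalizer ((P : Subgroup G) : Set G)) := Fintype.ofFinite _
  haveI : ((P : Subgroup G).subgroupOf (Subgroup.normalizer ((P : Subgroup G) : Set G))).Normal :=
    Subgroup.normal_in_normalizer
  have hres := trOne_res ρ (Subgroup.normalizer ((P : Subgroup G) : Set G)) (P : Subgroup G)
    Subgroup.le_normalizer
  rcases GM2 (p := p)
    ((P : Subgroup G).subgroupOf (Subgroup.normalizer ((P : Subgroup G) : Set G)))
    (M4_hyps_card P hP) (M4_hyps_index P)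
    (ρ.comp (Subgroup.normalizer ((P : Subgroup G) : Set G)).subtype) ρW ρW'
    (fun y hy => hWP y hy) (fun y hy => hWP' y hy) f f'
    (fun n w => hf n w) (by rw [hres]; exact hfs)
    (fun n w => hf' n w) (by rw [hres]; exact hfs') with he | ⟨β, hβ, hne⟩
  · exact he
  · exfalso
    obtain ⟨c, γ, hcγ⟩ := end_decomp P hP ρ β hβ
    exact hne c γ hcγ

end Cfsg.Agent.Lib.Helper15.DefOne
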