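import Mathlib
import Cfsg.Agent.Lib.Helper12.ZassLin2
import Cfsg.Agent.S0684

set_option autoImplicit false

namespace Cfsg.Agent.Lib.Helper15.ZassP

open Cfsg.Agent.Lib.Helper12.Zass Cfsg.Agent.Lib.Helper12.ZassLin

section General

variable {G : Type*} [Group G] {X : Subgroup G}

/-- transport of `QSub` from a subgroup to the ambient group -/
theorem qsub_map {x : X} {Q : Subgroup X} (h : QSub x Q) :
    QSub (x : G) (Q.map X.subtype) := by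
  obtain ⟨hc, hn, q, hq, hne⟩ := h
  refine ⟨by rw [Subgroup.card_subtype, hc], ?_, ?_⟩
  · rintro _ ⟨q', hq', rfl⟩
    exact ⟨x * q' * x⁻¹, hn q' hq', rfl⟩
  · refine ⟨(q : G), ⟨q, hq, rfl⟩, ?_⟩
    intro h
    apply hne
    exact Subtype.ext h

/-- transport of `QSub` from the ambient group to a subgroup -/
theorem qsub_subgroupOf {x : G} (hx : x ∈ X) {Q : Subgroup G} (hQX : Q ≤ X) (h : QSub x Q) :
    QSub (⟨x, hx⟩ : X) (Q.subgroupOf X) := by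
  obtain ⟨hc, hn, q, hq, hne⟩ := h
  refine ⟨?_, ?_, ?_⟩
  · rw [Nat.card_congr (Subgroup.subgroupOfEquivOfLe hQX).toEquiv, hc]
  · intro q' hq'
    rw [Subgroup.mem_subgroupOf] at hq' ⊢
    exact hn _ hq'
  · refine ⟨⟨q, hQX hq⟩, ?_, ?_⟩
    · rw [Subgroup.mem_subgroupOf]
      exact hq
    · intro h
      apply hne
      exact congrArg Subtype.val h

end General

variable {p : ℕ} [Fact p.Prime] {V : Type*} [AddCommGroup V] [Module (ZMod p) V] [Finite V]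
  [Nontrivial V] {X : Subgroup (V ≃ₗ[ZMod p] V)}

theorem free3_of (hX : IsFree X)
    (E5 : ∀ x y : V ≃ₗ[ZMod p] V, x ∈ X → y ∈ X → orderOf x = 3 → orderOf y = 3 →
      y ∉ Subgroup.zpowers x → y ∈ Subgroup.closure ({x} ∪ {q | ∃ Q : Subgroup (V ≃ₗ[ZMod p] V),
        Q ≤ X ∧ QSub x Q ∧ q ∈ Q}))
    (E8 : ∀ (x : V ≃ₗ[ZMod p] V) (Q₁ Q₂ : Subgroup (V ≃ₗ[ZMod p] V)), x ∈ X → Q₁ ≤ X → Q₂ ≤ X →
      orderOf x = 3 → QSub x Q₁ → QSub x Q₂ → Q₁ ≠ Q₂ →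
      Nat.card ↥(Q₁ ⊔ Q₂ ⊔ Subgroup.zpowers x) = 120 ∧ ∃ u ∈ X, u * x * u⁻¹ = x⁻¹ ∧
        (∀ q ∈ Q₁, u * q * u⁻¹ ∈ Q₂) ∧ (∀ q ∈ Q₂, u * q * u⁻¹ ∈ Q₁))
    (A3 : ∀ (x y i j : V ≃ₗ[ZMod p] V) (Q : Subgroup (V ≃ₗ[ZMod p] V)), x ∈ X → y ∈ X → Q ≤ X →
      orderOf x = 3 → QSub x Q → i ∈ Q → j ∈ Q → i * j ≠ j * i → orderOf y = 3 → y * i = i * y →
      (j * y * j⁻¹ = y ∨ j * y * j⁻¹ = y⁻¹) → False)
    (A4 : ∀ (x y a j : V ≃ₗ[ZMod p] V) (Q Q' : Subgroup (V ≃ₗ[ZMod p] V)), x ∈ X → y ∈ X →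
      a ∈ X → Q ≤ X → Q' ≤ X → orderOf x = 3 → orderOf y = 3 → QSub x Q → QSub y Q' →
      orderOf a = 8 → (∀ q ∈ Q, a * q * a⁻¹ ∈ Q) → a ^ 2 ∈ Q → j ∈ Q → a ^ 2 * j ≠ j * a ^ 2 →
      a ^ 2 ∈ Q' → a * j ∈ Q' → False) :
    Free3 ↥X := by
  refine ⟨?_, ?_, ?_, ?_, ?_, ?_⟩
  · -- cyc
    intro A hA
    have : IsMulCommutative A := ⟨⟨fun a b => Subtype.ext (hA a a.2 b b.2)⟩⟩
    refine Cfsg.Agent.S0684.isCyclic_of_fpf X A ?_
    intro h v hv hfix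
    by_contra h1
    exact hv (hX h h.2 (fun h' => h1 (Subtype.ext h')) v hfix)
  · -- inv
    intro s t hs ht
    have key : ∀ g : X, orderOf g = 2 → (g : V ≃ₗ[ZMod p] V) = zz := by
      intro g hg
      have hg1 : (g : V ≃ₗ[ZMod p] V) ≠ 1 := by
        intro h
        have : g = 1 := Subtype.ext h
        rw [this, orderOf_one] at hg
        omega
      have hg2 : (g : V ≃ₗ[ZMod p] V) * g = 1 := by
        have h2 : g ^ 2 = 1 := by rw [← hg]; exact pow_orderOf_eq_one g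
        have h3 := congrArg (fun w : X => (w : V ≃ₗ[ZMod p] V)) h2
        simpa [pow_two] using h3
      exact hX.eq_zz g.2 hg1 hg2
    exact Subtype.ext ((key s hs).trans (key t ht).symm)
  · -- e5
    intro x y hx hy hyx
    have h1 := E5 (x : V ≃ₗ[ZMod p] V) y x.2 y.2 (by rw [Subgroup.orderOf_coe, hx])
      (by rw [Subgroup.orderOf_coe, hy]) (by
        intro h
        apply hyx
        obtain ⟨n, hn⟩ := Subgroup.mem_zpowers_iff.mp h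
        exact Subgroup.mem_zpowers_iff.mpr ⟨n, Subtype.ext (by simpa using hn)⟩)
    have h2 : ({(x : V ≃ₗ[ZMod p] V)} ∪ {q | ∃ Q : Subgroup (V ≃ₗ[ZMod p] V),
        Q ≤ X ∧ QSub (x : V ≃ₗ[ZMod p] V) Q ∧ q ∈ Q} : Set (V ≃ₗ[ZMod p] V)) ⊆
        X.subtype '' ({x} ∪ {q | ∃ Q : Subgroup X, QSub x Q ∧ q ∈ Q}) := by
      rintro q (hq | ⟨Q, hQX, hQ, hq⟩)
      · rw [Set.mem_singleton_iff] at hq
        exact ⟨x, Or.inl rfl, hq.symm⟩
      · refine ⟨⟨q, hQX hq⟩, Or.inr ⟨Q.subgroupOf X, ?_, ?_⟩, rfl⟩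
        · exact qsub_subgroupOf x.2 hQX hQ
        · rw [Subgroup.mem_subgroupOf]
          exact hq
    have h3 := Subgroup.closure_mono h2 h1
    rw [← MonoidHom.map_closure] at h3
    obtain ⟨y', hy', hyy'⟩ := h3
    have : y' = y := Subtype.ext hyy'
    rw [← this]
    exact hy'
  · -- e8
    intro x Q₁ Q₂ hx hQ₁ hQ₂ hne
    obtain ⟨hcard, u, hu, hux, hu1, hu2⟩ := E8 (x : V ≃ₗ[ZMod p] V) (Q₁.map X.subtype)
      (Q₂.map X.subtype) x.2 (Subgroup.map_subtype_le _) (Subgroup.map_subtype_le _)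
      (by rw [Subgroup.orderOf_coe, hx]) (qsub_map hQ₁) (qsub_map hQ₂)
      (fun h => hne (Subgroup.map_injective X.subtype_injective h))
    refine ⟨?_, ⟨u, hu⟩, Subtype.ext hux, ?_, ?_⟩
    · have h1 : (Q₁ ⊔ Q₂ ⊔ Subgroup.zpowers x).map X.subtype =
          Q₁.map X.subtype ⊔ Q₂.map X.subtype ⊔ Subgroup.zpowers (x : V ≃ₗ[ZMod p] V) := by
        rw [Subgroup.map_sup, Subgroup.map_sup, MonoidHom.map_zpowers]
        rfl
      rw [← Subgroup.card_subtype, h1, hcard]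
    · intro q hq
      obtain ⟨q', hq', hqq'⟩ := hu1 (q : V ≃ₗ[ZMod p] V) ⟨q, hq, rfl⟩
      have : q' = ⟨u, hu⟩ * q * (⟨u, hu⟩ : X)⁻¹ := Subtype.ext hqq'
      rw [← this]
      exact hq'
    · intro q hq
      obtain ⟨q', hq', hqq'⟩ := hu2 (q : V ≃ₗ[ZMod p] V) ⟨q, hq, rfl⟩
      have : q' = ⟨u, hu⟩ * q * (⟨u, hu⟩ : X)⁻¹ := Subtype.ext hqq'
      rw [← this]
      exact hq'
  · -- app3
    intro x y i j Q hx hQ hi hj hij hy hyi hjy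
    refine A3 (x : V ≃ₗ[ZMod p] V) y i j (Q.map X.subtype) x.2 y.2 (Subgroup.map_subtype_le _)
      (by rw [Subgroup.orderOf_coe, hx]) (qsub_map hQ) ⟨i, hi, rfl⟩ ⟨j, hj, rfl⟩ ?_
      (by rw [Subgroup.orderOf_coe, hy]) ?_ ?_
    · intro h
      exact hij (Subtype.ext h)
    · exact congrArg Subtype.val hyi
    · rcases hjy with h | h
      · exact Or.inl (congrArg Subtype.val h)
      · exact Or.inr (congrArg Subtype.val h)
  · -- app4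
    intro x y a j Q Q' hx hy hQ hQ' ha haQ ha2 hj hnc ha2' haj
    refine A4 (x : V ≃ₗ[ZMod p] V) y a j (Q.map X.subtype) (Q'.map X.subtype) x.2 y.2 a.2
      (Subgroup.map_subtype_le _) (Subgroup.map_subtype_le _)
      (by rw [Subgroup.orderOf_coe, hx]) (by rw [Subgroup.orderOf_coe, hy])
      (qsub_map hQ) (qsub_map hQ') (by rw [Subgroup.orderOf_coe, ha]) ?_ ⟨a ^ 2, ha2, rfl⟩
      ⟨j, hj, rfl⟩ ?_ ⟨a ^ 2, ha2', rfl⟩ ⟨a * j, haj, rfl⟩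
    · rintro _ ⟨q', hq', rfl⟩
      exact ⟨a * q' * a⁻¹, haQ q' hq', rfl⟩
    · intro h
      exact hnc (Subtype.ext h)

end Cfsg.Agent.Lib.Helper15.ZassP
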