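import Mathlib
import Cfsg.Prelude.Def_Amalgam
import Cfsg.Agent.Lib.Helper68.AmalBDefs
import Cfsg.Agent.Lib.Helper68.AmalBTools
import Cfsg.Agent.Lib.Helper19.AmalBP2a
import Cfsg.Agent.Lib.Helper43.AmalBThree

/-!
# S2751, case (B): module GSB-[P3] (`Z_x ≤ Q_y` for adjacent vertices; `b ≥ 2`)
-/

set_option autoImplicit false

namespace Cfsg.Agent.Lib.Helper68.AmalB

open Cfsg Cfsg.Agent.Lib.Helper12.Amal Cfsg.Agent.Lib.Helper68.AmalD Cfsg.Agent.Lib.Helper68.AmalW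

variable {G : Type*} [Group G] {P₁ P₂ : Subgroup G}

/-- the elements of `G_y` that act trivially on `Q_y` modulo `Z_y` -/
def commQZ (y : CosetVertex P₁ P₂) (hW : BaseW P₁ P₂) : Subgroup G where
  carrier := {g | g ∈ Gv y ∧ ∀ q ∈ Qv y, g * q * g⁻¹ * q⁻¹ ∈ Zv y}
  one_mem' := by
    refine ⟨Subgroup.one_mem _, ?_⟩
    intro q _
    have e : (1 : G) * q * 1⁻¹ * q⁻¹ = 1 := by group
    rw [e]
    exact Subgroup.one_mem _
  mul_mem' := by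
    rintro g g' ⟨hg, hgq⟩ ⟨hg', hgq'⟩
    refine ⟨Subgroup.mul_mem _ hg hg', ?_⟩
    intro q hq
    have e : g * g' * q * (g * g')⁻¹ * q⁻¹
        = (g * (g' * q * g'⁻¹ * q⁻¹) * g⁻¹) * (g * q * g⁻¹ * q⁻¹) := by group
    rw [e]
    exact Subgroup.mul_mem _ (Z_conj hW hg (hgq' q hq)) (hgq q hq)
  inv_mem' := by
    rintro g ⟨hg, hgq⟩
    refine ⟨Subgroup.inv_mem _ hg, ?_⟩
    intro q hq
    have e : g⁻¹ * q * g⁻¹⁻¹ * q⁻¹ = g⁻¹ * (g * q * g⁻¹ * q⁻¹)⁻¹ * g⁻¹⁻¹ := by group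
    rw [e]
    exact Z_conj hW (Subgroup.inv_mem _ hg) (Subgroup.inv_mem _ (hgq q hq))

theorem mem_commQZ {y : CosetVertex P₁ P₂} {hW : BaseW P₁ P₂} {g : G} :
    g ∈ commQZ y hW ↔ g ∈ Gv y ∧ ∀ q ∈ Qv y, g * q * g⁻¹ * q⁻¹ ∈ Zv y := Iff.rfl

/-- `Z_x ≤ Q_y` for `x ~ y`, `y` of β-type -/
theorem Za_le_Qb (hB : BaseB P₁ P₂) {x y : CosetVertex P₁ P₂}
    (hxy : (cosetGraph P₁ P₂).Adj x y) (hy : IsB y) : Zv x ≤ Qv y := by
  have hW := hB.W
  by_contra hcon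
  obtain ⟨a, haZ, haQ⟩ := SetLike.not_le_iff_exists.1 hcon
  -- `a` lies in `N`
  have haG : a ∈ Gv y := Q_le_G_adj hW hxy (hW.Z_le_Q x haZ)
  have haN : a ∈ commQZ y hW := by
    refine ⟨haG, ?_⟩
    intro q hq
    have hqT : q ∈ Gv x ⊓ Gv y := Q_le_T' hW hxy hq
    have h1 := (hW.comm_inf x y hxy q a hqT haZ).2
    have e : a * q * a⁻¹ * q⁻¹ = (q * a * q⁻¹ * a⁻¹)⁻¹ := by group
    rw [e]
    exact Subgroup.inv_mem _ h1
  have hNG : commQZ y hW ≤ Gv y := fun g hg => hg.1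
  have hnorm : Gv y ≤ Subgroup.normalizer ((commQZ y hW : Subgroup G) : Set G) := by
    apply le_normalizer_of_forall
    rintro h hh g ⟨hg, hgq⟩
    refine ⟨Subgroup.mul_mem _ (Subgroup.mul_mem _ hh hg) (Subgroup.inv_mem _ hh), ?_⟩
    intro q hq
    have hq' : h⁻¹ * q * h⁻¹⁻¹ ∈ Qv y := Q_conj hW (Subgroup.inv_mem _ hh) hq
    have h1 := hgq _ hq'
    have e : h * g * h⁻¹ * q * (h * g * h⁻¹)⁻¹ * q⁻¹
        = h * (g * (h⁻¹ * q * h⁻¹⁻¹) * g⁻¹ * (h⁻¹ * q * h⁻¹⁻¹)⁻¹) * h⁻¹ := by group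
    rw [e]
    exact Z_conj hW hh h1
  have hNQ : ¬ commQZ y hW ≤ Qv y := fun hle => haQ (hle haN)
  obtain ⟨d, hdN, hdQ, hd3⟩ := exists_three_of_normal hW hNG hnorm hNQ
  have hdG : d ∈ Gv y := hdN.1
  -- `d` centralizes `Q_y`
  have hcent : d ∈ Subgroup.centralizer ((Qv y : Subgroup G) : Set G) := by
    rw [Subgroup.mem_centralizer_iff]
    intro q hq
    have hζ : d * q * d⁻¹ * q⁻¹ ∈ Zv y := hdN.2 q hq
    set ζ : G := d * q * d⁻¹ * q⁻¹ with hζdef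
    have hζ2 : ζ * ζ = 1 := hW.Z_sq y ζ hζ
    have hζd : d * ζ = ζ * d := (Subgroup.mem_centralizer_iff.1 (hy hζ)) d hdG
    have e1 : d * q * d⁻¹ = ζ * q := by rw [hζdef]; group
    have e2 : d * ζ * d⁻¹ = ζ := by rw [hζd]; group
    have e3 : d * d * q * (d * d)⁻¹ = q := by
      calc d * d * q * (d * d)⁻¹ = d * (d * q * d⁻¹) * d⁻¹ := by group
        _ = d * (ζ * q) * d⁻¹ := by rw [e1]
        _ = (d * ζ * d⁻¹) * (d * q * d⁻¹) := by group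
        _ = ζ * (ζ * q) := by rw [e2, e1]
        _ = q := by rw [← mul_assoc, hζ2, one_mul]
    have hdd : d * d = d⁻¹ := by
      rw [eq_inv_iff_mul_eq_one]; exact hd3
    rw [hdd, inv_inv] at e3
    -- `d⁻¹ * q * d = q`
    calc q * d = d * (d⁻¹ * q * d) := by group
      _ = d * q := by rw [e3]
  exact hdQ (hW.char2 y ⟨hdG, hcent⟩)

/-- the critical distance is at least `2` -/
theorem minB_two (hB : BaseB P₁ P₂) : MinB P₁ P₂ 2 := by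
  have hW := hB.W
  intro x y hxy
  by_contra hlt
  have hlt' : (cosetGraph P₁ P₂).dist x y < 2 := not_le.1 hlt
  have hcases : (cosetGraph P₁ P₂).dist x y = 0 ∨ (cosetGraph P₁ P₂).dist x y = 1 := by omega
  rcases hcases with h0 | h1
  · have hr : (cosetGraph P₁ P₂).Reachable x y := hW.conn.preconnected x y
    have hxy' : x = y := (hr.dist_eq_zero_iff).1 h0
    subst hxy'
    exact hxy (hW.Z_le_Q x)
  · have hadj : (cosetGraph P₁ P₂).Adj x y := SimpleGraph.dist_eq_one_iff_adj.1 h1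
    by_cases hy : IsB y
    · exact hxy (Za_le_Qb hB hadj hy)
    · have hx : IsB x := ((hB.adj_type x y hadj).2 hy)
      exact hxy ((Zb_le hB hadj.symm hx).trans (hW.Z_le_Q y))

end Cfsg.Agent.Lib.Helper68.AmalB
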