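import Mathlib
import Cfsg.Prelude.Def_GeometricClasses
import Cfsg.Agent.Lib.Helper99.AschDefs

/-!
# Project ASCH, module [C1]: a reducible subgroup lies in a subspace stabilizer
-/

set_option autoImplicit false

namespace Cfsg.Agent.Lib.Helper99.Asch

open Cfsg Cfsg.Geo
open scoped MatrixGroups Matrix Kronecker

variable {n : ℕ} {F : Type*} [Field F] [Fintype F]

/-- ASCH-[C1]. -/
theorem geo_of_not_irreducible (H : Subgroup (GL (Fin n) F))
    (h : ¬ ActsIrreducibly (matrixSet H)) : Geo H := by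
  unfold ActsIrreducibly at h
  push_neg at h
  obtain ⟨W, hW, hbot, htop⟩ := h
  refine ⟨subspaceStabilizer W, Or.inl ⟨W, hbot, htop, rfl⟩, ?_⟩
  have key : ∀ g ∈ H, ∀ v ∈ W, (g : Matrix (Fin n) (Fin n) F) *ᵥ v ∈ W := by
    intro g hg v hv
    have h1 := hW (g : Matrix (Fin n) (Fin n) F) ⟨g, hg, rfl⟩
    have h2 : Matrix.toLin' (g : Matrix (Fin n) (Fin n) F) v ∈
        W.map (Matrix.toLin' (g : Matrix (Fin n) (Fin n) F)) := Submodule.mem_map_of_mem hv
    have h3 := h1 h2
    simpa [Matrix.toLin'_apply] using h3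
  intro g hg
  show g ∈ stabilizing (glToMat (Fin n) F) (W : Set (Fin n → F))
  intro v
  constructor
  · intro hv
    exact key g hg v hv
  · intro hv
    have h4 := key g⁻¹ (H.inv_mem hg) _ hv
    have h5 : ((g⁻¹ : GL (Fin n) F) : Matrix (Fin n) (Fin n) F) *ᵥ
        ((glToMat (Fin n) F) g *ᵥ v) = v := by
      rw [Matrix.mulVec_mulVec]
      have : ((g⁻¹ : GL (Fin n) F) : Matrix (Fin n) (Fin n) F) * (glToMat (Fin n) F) g = 1 := by
        show ((g⁻¹ : GL (Fin n) F) : Matrix (Fin n) (Fin n) F) * (g : Matrix (Fin n) (Fin n) F) = 1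
        rw [← Units.val_mul, inv_mul_cancel, Units.val_one]
      rw [this, Matrix.one_mulVec]
    rw [h5] at h4
    exact h4

end Cfsg.Agent.Lib.Helper99.Asch
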