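import Mathlib
import Cfsg.Prelude.Def_GeometricClasses
import Cfsg.Agent.Lib.Helper99.AschDefs
import Cfsg.Agent.Lib.Helper5.AschODefs
import Cfsg.Agent.Lib.Helper5.AschOBasic
import Cfsg.Agent.Lib.Helper15.AschSlotNormLib
import Cfsg.Agent.Lib.Helper15.AschUPure

/-!
# ASCHO2-[P-7] (helper15), core: `Ω ≰` a tensor-square wreath subgroup (`t = 2`, `k ≥ 3`)

In `tensorWreathStandard k 2` the square of every element is a pure tensor `a ⊗ b`; a pure tensor
`≠ 1` with `k ≥ 3` has `rank (a ⊗ b - 1) ≥ k ≥ 3`, whereas the long root element `1 + N ∈ Ω` of [PLANE]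
is the square of `1 + (1/2) N ∈ Ω` and `rank N ≤ 2`.
-/

set_option autoImplicit false
set_option linter.unusedSectionVars false

namespace Cfsg.Agent.Lib.Helper15.AschO2P7

open Cfsg Cfsg.Geo Cfsg.Agent.Lib.Helper99.Asch Cfsg.Agent.Lib.Helper15.AschSlotNorm
  Cfsg.Agent.Lib.Helper15.AschUPure
open scoped MatrixGroups Matrix Kronecker

variable {F : Type*} [Field F] {k d t : ℕ}

/-! ### tensor vectors -/

/-- pure tensor of vectors -/
def TV (us : Fin t → (Fin d → F)) : (Fin t → Fin d) → F := fun x => ∏ i, us i (x i)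

theorem PT_mulVec_TV (as : Fin t → Matrix (Fin d) (Fin d) F) (us : Fin t → (Fin d → F)) :
    PT as *ᵥ TV us = TV (fun i => as i *ᵥ us i) := by
  ext x
  simp only [Matrix.mulVec, dotProduct, PT, TV]
  rw [Finset.prod_univ_sum]
  simp only [Fintype.piFinset_univ, Finset.prod_mul_distrib]

/-- `u ⊗ v` for two factors -/
def tv (u v : Fin d → F) : (Fin 2 → Fin d) → F := fun x => u (x 0) * v (x 1)

theorem tv_eq_TV (u v : Fin d → F) : tv u v = TV ![u, v] := by
  ext x
  simp [tv, TV, Fin.prod_univ_two]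

theorem PT_mulVec_tv (as : Fin 2 → Matrix (Fin d) (Fin d) F) (u v : Fin d → F) :
    PT as *ᵥ tv u v = tv (as 0 *ᵥ u) (as 1 *ᵥ v) := by
  rw [tv_eq_TV, PT_mulVec_TV]
  ext x
  simp [tv, TV, Fin.prod_univ_two]

/-- `v ↦ u ⊗ v` -/
def tvR (u : Fin d → F) : (Fin d → F) →ₗ[F] ((Fin 2 → Fin d) → F) where
  toFun v := tv u v
  map_add' v v' := by ext x; simp [tv, mul_add]
  map_smul' c v := by ext x; simp [tv, mul_left_comm]

/-- `u ↦ u ⊗ v` -/
def tvL (v : Fin d → F) : (Fin d → F) →ₗ[F] ((Fin 2 → Fin d) → F) where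
  toFun u := tv u v
  map_add' u u' := by ext x; simp [tv, add_mul]
  map_smul' c u := by ext x; simp [tv, mul_assoc]

theorem tv_eq_zero_left {u v : Fin d → F} (h : tv u v = 0) (hv : v ≠ 0) : u = 0 := by
  obtain ⟨j, hj⟩ := Function.ne_iff.mp hv
  funext i
  have := congrFun h ![i, j]
  simp only [tv, Matrix.cons_val_zero, Matrix.cons_val_one, Pi.zero_apply] at this
  rcases mul_eq_zero.mp this with h1 | h1
  · exact h1
  · exact absurd h1 hj

theorem le_rank_of_injective (M : Matrix (Fin 2 → Fin d) (Fin 2 → Fin d) F)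
    (L : (Fin d → F) →ₗ[F] ((Fin 2 → Fin d) → F)) (hL : Function.Injective (M.mulVecLin ∘ₗ L)) :
    d ≤ M.rank := by
  have h1 : Module.finrank F (LinearMap.range (M.mulVecLin ∘ₗ L)) = d := by
    rw [LinearMap.finrank_range_of_inj hL, Module.finrank_fin_fun]
  have h2 : Module.finrank F (LinearMap.range (M.mulVecLin ∘ₗ L)) ≤
      Module.finrank F (LinearMap.range M.mulVecLin) :=
    Submodule.finrank_mono (LinearMap.range_comp_le_range _ _)
  rw [h1] at h2
  exact h2

/-- a pure tensor `a ⊗ b ≠ 1` has `rank (a ⊗ b - 1) ≥ d` -/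
theorem le_rank_PT_sub_one (as : Fin 2 → Matrix (Fin d) (Fin d) F) (h : PT as ≠ 1) :
    d ≤ (PT as - 1).rank := by
  classical
  by_cases hsc : ∃ α : F, as 0 = α • (1 : Matrix (Fin d) (Fin d) F)
  · obtain ⟨α, hα⟩ := hsc
    obtain ⟨c, hc⟩ : ∃ c : Matrix (Fin d) (Fin d) F, c = α • as 1 - 1 := ⟨_, rfl⟩
    have hc0 : c ≠ 0 := by
      intro h0
      apply h
      have h1 : α • as 1 = 1 := by rw [hc] at h0; exact sub_eq_zero.mp h0
      ext x y
      have e1 : PT as x y = (1 : Matrix (Fin d) (Fin d) F) (x 0) (y 0) * (α • as 1) (x 1) (y 1) := by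
        simp only [PT, Fin.prod_univ_two, hα, Matrix.smul_apply, smul_eq_mul]
        ring
      rw [e1, h1]
      simp only [Matrix.one_apply]
      by_cases hxy : x = y
      · subst hxy; simp
      · rw [if_neg hxy]
        by_cases h0' : x 0 = y 0
        · have : x 1 ≠ y 1 := by
            intro h1'; apply hxy; funext i
            fin_cases i
            · exact h0'
            · exact h1'
          simp [this]
        · simp [h0']
    obtain ⟨v₀, hv₀⟩ : ∃ v₀ : Fin d → F, c *ᵥ v₀ ≠ 0 := by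
      by_contra hall
      push Not at hall
      apply hc0
      ext i j
      have := congrFun (hall (Pi.single j 1)) i
      simpa using this
    apply le_rank_of_injective _ (tvL v₀)
    rw [← LinearMap.ker_eq_bot, LinearMap.ker_eq_bot']
    intro u hu
    have e1 : (PT as - 1) *ᵥ tv u v₀ = tv u (c *ᵥ v₀) := by
      rw [Matrix.sub_mulVec, PT_mulVec_tv, Matrix.one_mulVec, hα, hc]
      ext x
      simp only [tv, Matrix.smul_mulVec, Matrix.one_mulVec, Pi.sub_apply, Pi.smul_apply,
        smul_eq_mul, Matrix.sub_mulVec]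
      ring
    have e2 : tv u (c *ᵥ v₀) = 0 := by
      rw [← e1]; exact hu
    exact tv_eq_zero_left e2 hv₀
  · -- `as 0` is not scalar
    obtain ⟨u, hu⟩ : ∃ u : Fin d → F, LinearIndependent F ![u, as 0 *ᵥ u] := by
      by_contra hall
      push Not at hall
      apply hsc
      obtain ⟨α, hα⟩ := LinearMap.exists_eq_smul_id_of_forall_notLinearIndependent
        (f := Matrix.toLin' (as 0)) (fun v => by simpa [Matrix.toLin'_apply] using hall v)
      refine ⟨α, ?_⟩
      apply Matrix.toLin'.injective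
      rw [hα, map_smul, Matrix.toLin'_one]
      rfl
    apply le_rank_of_injective _ (tvR u)
    rw [← LinearMap.ker_eq_bot, LinearMap.ker_eq_bot']
    intro v hv
    have e1 : (PT as - 1) *ᵥ tv u v = tv (as 0 *ᵥ u) (as 1 *ᵥ v) - tv u v := by
      rw [Matrix.sub_mulVec, PT_mulVec_tv, Matrix.one_mulVec]
    have e2 : tv (as 0 *ᵥ u) (as 1 *ᵥ v) = tv u v := by
      have : (PT as - 1) *ᵥ tv u v = 0 := hv
      rw [e1] at this
      exact sub_eq_zero.mp this
    by_contra hv0
    obtain ⟨j, hj⟩ := Function.ne_iff.mp hv0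
    rw [LinearIndependent.pair_iff] at hu
    have h3 : (1 : F) • u + (-((as 1 *ᵥ v) j / v j)) • (as 0 *ᵥ u) = 0 := by
      funext i
      have := congrFun e2 ![i, j]
      simp only [tv, Matrix.cons_val_zero, Matrix.cons_val_one] at this
      simp only [Pi.add_apply, Pi.smul_apply, smul_eq_mul, Pi.zero_apply, one_mul]
      have hj' : v j ≠ 0 := hj
      field_simp
      rw [← this]
      ring
    exact one_ne_zero (hu _ _ h3).1


/-! ### squares in `tensorWreathStandard k 2` are pure tensors -/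

theorem PM_PT (τ : Equiv.Perm (Fin t)) (as : Fin t → Matrix (Fin d) (Fin d) F) :
    PM τ * PT as = PT (fun i => as (τ.symm i)) * PM τ := by
  ext x z
  simp only [Matrix.mul_apply, PM, PT]
  rw [Finset.sum_eq_single (x ∘ τ), Finset.sum_eq_single (z ∘ τ.symm)]
  · have hz : z = (z ∘ τ.symm) ∘ τ := by funext j; simp
    rw [if_pos rfl, if_pos hz, one_mul, mul_one]
    rw [← Equiv.prod_comp τ (fun i => as (τ.symm i) (x i) ((z ∘ τ.symm) i))]
    simp
  · intro w _ hw
    have : ¬ z = w ∘ τ := by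
      intro hc; apply hw; rw [hc]; funext j; simp
    simp [this]
  · simp
  · intro y _ hy; simp [hy]
  · simp

/-- `g` is a pure tensor of two invertible matrices -/
theorem isPureTensor_iff (g : GL (Fin t → Fin d) F) :
    IsPureTensor d t g ↔ ∃ gs : Fin t → GL (Fin d) F, g = ptGL gs := by
  constructor
  · rintro ⟨gs, hgs⟩
    exact ⟨gs, Units.ext (by ext x y; exact hgs x y)⟩
  · rintro ⟨gs, rfl⟩
    exact ⟨gs, fun x y => rfl⟩

theorem ptGL_mul (gs gs' : Fin t → GL (Fin d) F) : ptGL gs * ptGL gs' = ptGL (gs * gs') := by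
  apply Units.ext
  show PT _ * PT _ = PT _
  rw [PT_mul]
  rfl

theorem ptGL_one : ptGL (1 : Fin t → GL (Fin d) F) = 1 := by
  apply Units.ext
  show PT _ = 1
  rw [← PT_one]
  rfl

theorem ptGL_inv (gs : Fin t → GL (Fin d) F) : (ptGL gs)⁻¹ = ptGL gs⁻¹ := by
  rw [inv_eq_iff_mul_eq_one, ptGL_mul, mul_inv_cancel, ptGL_one]

theorem isPureTensor_mul {g h : GL (Fin t → Fin d) F} (hg : IsPureTensor d t g)
    (hh : IsPureTensor d t h) : IsPureTensor d t (g * h) := by
  rw [isPureTensor_iff] at *
  obtain ⟨gs, rfl⟩ := hg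
  obtain ⟨hs, rfl⟩ := hh
  exact ⟨gs * hs, ptGL_mul gs hs⟩

theorem isPureTensor_one : IsPureTensor d t (1 : GL (Fin t → Fin d) F) := by
  rw [isPureTensor_iff]
  exact ⟨1, ptGL_one.symm⟩

theorem isPureTensor_inv {g : GL (Fin t → Fin d) F} (hg : IsPureTensor d t g) :
    IsPureTensor d t g⁻¹ := by
  rw [isPureTensor_iff] at *
  obtain ⟨gs, rfl⟩ := hg
  exact ⟨gs⁻¹, ptGL_inv gs⟩

/-- the factor permutation `τ` as an element of `GL` -/
def pmGL (τ : Equiv.Perm (Fin t)) : GL (Fin t → Fin d) F where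
  val := PM τ
  inv := PM τ⁻¹
  val_inv := by rw [PM_mul, mul_inv_cancel, PM_one]
  inv_val := by rw [PM_mul, inv_mul_cancel, PM_one]

theorem pmGL_mul_ptGL (τ : Equiv.Perm (Fin t)) (gs : Fin t → GL (Fin d) F) :
    pmGL τ * ptGL gs = ptGL (fun i => gs (τ.symm i)) * pmGL τ := by
  apply Units.ext
  show PM τ * PT _ = PT _ * PM τ
  rw [PM_PT]

/-- conjugation by a factor permutation preserves pure tensors -/
theorem isPureTensor_conj (τ : Equiv.Perm (Fin t)) {g : GL (Fin t → Fin d) F}
    (hg : IsPureTensor d t g) : IsPureTensor d t (pmGL τ * g * (pmGL τ)⁻¹) := by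
  rw [isPureTensor_iff] at *
  obtain ⟨gs, rfl⟩ := hg
  refine ⟨fun i => gs (τ.symm i), ?_⟩
  rw [pmGL_mul_ptGL, mul_assoc, mul_inv_cancel, mul_one]

/-- the swap of the two factors -/
def swapGL : GL (Fin 2 → Fin d) F := pmGL (Equiv.swap 0 1)

theorem swapGL_mul_self : (swapGL : GL (Fin 2 → Fin d) F) * swapGL = 1 := by
  apply Units.ext
  show PM _ * PM _ = 1
  rw [PM_mul, Equiv.swap_mul_self, PM_one]

theorem swapGL_inv : (swapGL : GL (Fin 2 → Fin d) F)⁻¹ = swapGL :=
  inv_eq_of_mul_eq_one_right swapGL_mul_self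

theorem isPureTensor_swap_conj {g : GL (Fin 2 → Fin d) F} (hg : IsPureTensor d 2 g) :
    IsPureTensor d 2 (swapGL * g * swapGL) := by
  have := isPureTensor_conj (Equiv.swap (0 : Fin 2) 1) hg
  rw [show pmGL (Equiv.swap (0 : Fin 2) 1) = (swapGL : GL (Fin 2 → Fin d) F) from rfl,
    swapGL_inv] at this
  exact this

theorem perm_fin_two (σ : Equiv.Perm (Fin 2)) : σ = 1 ∨ σ = Equiv.swap 0 1 := by
  revert σ
  decide

/-- normal form in `tensorWreathStandard d 2`: `T` or `T * swap` -/
theorem pure_or_pure_mul_swap (h : GL (Fin 2 → Fin d) F) (hh : h ∈ tensorWreathStandard d 2 F) :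
    IsPureTensor d 2 h ∨ IsPureTensor d 2 (h * swapGL) := by
  unfold tensorWreathStandard at hh
  induction hh using Subgroup.closure_induction with
  | mem x hx =>
    rcases hx with hx | ⟨σ, hσ⟩
    · exact Or.inl hx
    · rcases perm_fin_two σ with rfl | rfl
      · left
        have : x = 1 := by
          apply Units.ext
          ext a b
          rw [hσ a b]
          simp [Matrix.one_apply, eq_comm]
        rw [this]
        exact isPureTensor_one
      · right
        have : x = swapGL := by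
          apply Units.ext
          ext a b
          rw [hσ a b]
          rfl
        rw [this, swapGL_mul_self]
        exact isPureTensor_one
  | one => exact Or.inl isPureTensor_one
  | mul x y _ _ hx hy =>
    rcases hx with hx | hx <;> rcases hy with hy | hy
    · exact Or.inl (isPureTensor_mul hx hy)
    · right
      rw [mul_assoc]
      exact isPureTensor_mul hx hy
    · right
      have : x * y * swapGL = (x * swapGL) * (swapGL * y * swapGL) := by
        have e : (x * swapGL) * (swapGL * y * swapGL) = x * (swapGL * swapGL) * y * swapGL := by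
          group
        rw [e, swapGL_mul_self, mul_one]
      rw [this]
      exact isPureTensor_mul hx (isPureTensor_swap_conj hy)
    · left
      have : x * y = (x * swapGL) * (swapGL * (y * swapGL) * swapGL) := by
        have e : (x * swapGL) * (swapGL * (y * swapGL) * swapGL) =
            x * (swapGL * swapGL) * y * (swapGL * swapGL) := by
          group
        rw [e, swapGL_mul_self, mul_one, mul_one]
      rw [this]
      exact isPureTensor_mul hx (isPureTensor_swap_conj hy)
  | inv x _ hx =>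
    rcases hx with hx | hx
    · exact Or.inl (isPureTensor_inv hx)
    · right
      have : x⁻¹ * swapGL = swapGL * (x * swapGL)⁻¹ * swapGL := by
        have e : swapGL * (x * swapGL)⁻¹ * swapGL = swapGL * swapGL⁻¹ * x⁻¹ * swapGL := by
          group
        rw [e, mul_inv_cancel, one_mul]
      rw [this]
      exact isPureTensor_swap_conj (isPureTensor_inv hx)

/-- squares in `tensorWreathStandard d 2` are pure tensors -/
theorem isPureTensor_sq (h : GL (Fin 2 → Fin d) F) (hh : h ∈ tensorWreathStandard d 2 F) :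
    IsPureTensor d 2 (h * h) := by
  rcases pure_or_pure_mul_swap h hh with h1 | h1
  · exact isPureTensor_mul h1 h1
  · have : h * h = (h * swapGL) * (swapGL * (h * swapGL) * swapGL) := by
      have e : (h * swapGL) * (swapGL * (h * swapGL) * swapGL) =
          h * (swapGL * swapGL) * h * (swapGL * swapGL) := by
        group
      rw [e, swapGL_mul_self, mul_one, mul_one]
    rw [this]
    exact isPureTensor_mul h1 (isPureTensor_swap_conj h1)


/-! ### the properness statement, from a long root element -/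

variable {ι : Type} [Fintype ι] [DecidableEq ι]

/-- Core of ASCHO2-[P-7]: a subgroup `Ω` containing an element `1 + 2⁻¹ N` with `N ≠ 0`, `N * N = 0` and
the image of `N` inside a plane `span {p, w}` is not contained in a tensor-square wreath subgroup with
factors of dimension `k ≥ 3`. -/
theorem not_le_tensorWreath_two_of_longRoot (Ω : Subgroup (GL ι F)) (h2 : (2 : F) ≠ 0)
    (N : Matrix ι ι F) (p w : ι → F) (hN0 : N ≠ 0) (hNN : N * N = 0)
    (hNz : ∀ z, ∃ c₁ c₂ : F, N *ᵥ z = c₁ • p + c₂ • w)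
    (hfam : ∃ g : GL ι F, g ∈ Ω ∧ (g : Matrix ι ι F) = 1 + (2⁻¹ : F) • N)
    (k : ℕ) (hk : 3 ≤ k) (e : ι ≃ (Fin 2 → Fin k)) (P : GL ι F) :
    ¬ Ω ≤ tensorWreathSubgroup k 2 e P := by
  classical
  intro hle
  obtain ⟨g, hgΩ, hg⟩ := hfam
  obtain ⟨y, ⟨h, hh, rfl⟩, hy⟩ := hle hgΩ
  obtain ⟨gs, hgs⟩ := isPureTensor_sq h hh
  obtain ⟨as, has⟩ : ∃ as : Fin 2 → Matrix (Fin k) (Fin k) F,
      as = fun i => ((gs i : GL (Fin k) F) : Matrix (Fin k) (Fin k) F) := ⟨_, rfl⟩
  have hPT : ((h * h : GL (Fin 2 → Fin k) F) : Matrix (Fin 2 → Fin k) (Fin 2 → Fin k) F) = PT as := by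
    ext x z
    rw [hgs x z, has]
    rfl
  -- `1 + N` is the square of `g`
  have hsq : ((g * g : GL ι F) : Matrix ι ι F) = 1 + N := by
    rw [Units.val_mul, hg]
    have e0 : ((2⁻¹ : F) • N) * ((2⁻¹ : F) • N) = 0 := by
      rw [Matrix.smul_mul, Matrix.mul_smul, hNN, smul_zero, smul_zero]
    have e1 : (2⁻¹ : F) • N + (2⁻¹ : F) • N = N := by
      rw [← add_smul]
      have : (2⁻¹ : F) + 2⁻¹ = 1 := by field_simp; norm_num
      rw [this, one_smul]
    rw [mul_add, add_mul, add_mul, one_mul, mul_one, one_mul, e0, add_zero, add_assoc, e1]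
  have hconj : (g * g : GL ι F) = P * glReindex e.symm (h * h) * P⁻¹ := by
    rw [← hy, map_mul]
    simp only [MulEquiv.coe_toMonoidHom, MulAut.conj_apply]
    group
  have hmat : (1 : Matrix ι ι F) + N = (P : Matrix ι ι F) *
      Matrix.reindex e.symm e.symm (PT as) * ((P⁻¹ : GL ι F) : Matrix ι ι F) := by
    rw [← hsq, hconj, Units.val_mul, Units.val_mul, ← hPT]
    rfl
  have hPinv : (P : Matrix ι ι F) * ((P⁻¹ : GL ι F) : Matrix ι ι F) = 1 := by
    rw [← Units.val_mul, mul_inv_cancel, Units.val_one]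
  have hN : N = (P : Matrix ι ι F) * Matrix.reindex e.symm e.symm (PT as - 1) *
      ((P⁻¹ : GL ι F) : Matrix ι ι F) := by
    have e1 : Matrix.reindex e.symm e.symm (PT as - 1) =
        Matrix.reindex e.symm e.symm (PT as) - 1 := by
      ext i j
      simp [Matrix.reindex_apply, Matrix.submatrix_apply, Matrix.one_apply]
    rw [e1, Matrix.mul_sub, Matrix.sub_mul, ← hmat, Matrix.mul_one, hPinv]
    abel
  have hPTne : PT as ≠ 1 := by
    intro h1
    apply hN0
    rw [hN, h1, sub_self]
    simp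
  have hr1 : k ≤ (PT as - 1).rank := le_rank_PT_sub_one as hPTne
  have hdetP : IsUnit (P : Matrix ι ι F).det := (Matrix.isUnit_iff_isUnit_det _).mp P.isUnit
  have hdetP' : IsUnit ((P⁻¹ : GL ι F) : Matrix ι ι F).det :=
    (Matrix.isUnit_iff_isUnit_det _).mp (P⁻¹).isUnit
  have hr2 : N.rank = (PT as - 1).rank := by
    rw [hN, Matrix.rank_mul_eq_left_of_isUnit_det _ _ hdetP',
      Matrix.rank_mul_eq_right_of_isUnit_det _ _ hdetP, Matrix.rank_reindex]
  have hr3 : N.rank ≤ 2 := by
    have hle' : LinearMap.range N.mulVecLin ≤ Submodule.span F (Set.range ![p, w]) := by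
      rintro _ ⟨z, rfl⟩
      obtain ⟨c₁, c₂, hz⟩ := hNz z
      rw [Matrix.mulVecLin_apply, hz]
      apply Submodule.add_mem
      · exact Submodule.smul_mem _ _ (Submodule.subset_span ⟨0, rfl⟩)
      · exact Submodule.smul_mem _ _ (Submodule.subset_span ⟨1, rfl⟩)
    have h3 := Submodule.finrank_mono hle'
    have h4 := finrank_range_le_card (R := F) ![p, w]
    simp only [Fintype.card_fin] at h4
    exact le_trans h3 h4
  omega

end Cfsg.Agent.Lib.Helper15.AschO2P7
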