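import Mathlib
import Cfsg.Prelude.Def_GeometricClasses
import Cfsg.Agent.Lib.Helper99.AschDefs
import Cfsg.Agent.Lib.Helper5.AschODefs
import Cfsg.Agent.Lib.Helper5.AschOBasic
import Cfsg.Agent.Lib.Helper15.AschO2P7Core
import Cfsg.Agent.Lib.Helper43.AschO2Plane

/-!
# ASCHO2-[P-7] (helper15): `Ω ≰` a tensor-square wreath subgroup (`t = 2`, `k ≥ 3`)

The sheet statement, from [PLANE] and the core `not_le_tensorWreath_two_of_longRoot`
(`Lib/Helper15/AschO2P7Core.lean`).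
-/

set_option autoImplicit false

namespace Cfsg.Agent.Lib.Helper5.AschO

open Cfsg Cfsg.Geo Cfsg.Agent.Lib.Helper99.Asch
open scoped MatrixGroups Matrix Kronecker

variable {ι : Type} [Fintype ι] [DecidableEq ι] {F : Type*} [Field F] [Fintype F]

/-- ASCHO2-[P-7]. -/
theorem not_omegaGL_le_tensorWreath_two {Q : (ι → F) → F} (hQ : IsNondegenerateQuadraticForm Q)
    (hodd : Odd (Fintype.card F)) (h7 : 7 ≤ Fintype.card ι) (k : ℕ) (hk : 3 ≤ k) (e : ι ≃ (Fin 2 → Fin k)) (P : GL ι F) :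
    ¬ omegaGL Q ≤ tensorWreathSubgroup k 2 e P := by
  obtain ⟨N, p, w, -, hN0, hNN, hNz, hfam⟩ := exists_long_root_family hQ hodd h7
  refine Cfsg.Agent.Lib.Helper15.AschO2P7.not_le_tensorWreath_two_of_longRoot (omegaGL Q)
    (two_ne_zero_of_odd_card hodd) N p w hN0 hNN (fun z => ?_) (hfam 2⁻¹) k hk e P
  exact ⟨QuadraticMap.polar Q z w, -QuadraticMap.polar Q z p, by rw [hNz z, neg_smul, sub_eq_add_neg]⟩

end Cfsg.Agent.Lib.Helper5.AschO
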