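import Mathlib
import Cfsg.Prelude.Def_GeometricClasses
import Cfsg.Agent.Lib.Helper99.AschDefs
import Cfsg.Agent.Lib.Helper5.AschODefs
import Cfsg.Agent.Lib.Helper5.AschOBasic
import Cfsg.Agent.Lib.Helper5.AschOMaxKit
import Cfsg.Agent.Lib.Helper94.OrthStd
import Cfsg.Agent.Lib.Helper5.AschOMain
import Cfsg.Agent.Lib.Helper43.AschO2Eich
import Cfsg.Agent.Lib.Helper43.AschO2Isotropic
import Cfsg.Agent.Lib.Helper43.AschO2Plane
import Cfsg.Agent.Lib.Helper43.AschO2P1A
import Cfsg.Agent.Lib.Helper31.AschO2R1B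
import Cfsg.Agent.Lib.Helper73.AschO2P2
import Cfsg.Agent.Lib.Helper73.AschO2P5
import Cfsg.Agent.Lib.Helper31.AschO2P1B
import Cfsg.Agent.Lib.Helper43.AschO2RPlus3

/-!
# ASCHO2-[ROW7] / [ROW11] (helper15): the maximal subgroups of `Ω_n(q)`, `n = 2m+1` PRIME, `q` odd

One generic lemma `row_prime` for `n = 2 m + 1` prime (`n = 7, 11`): the eight-case analysis of
helper5's second sheet; in prime dimension the classes 2a, 3, 4, 7 are empty.
-/

set_option autoImplicit false
set_option linter.style.haveILetI false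
set_option linter.unusedSectionVars false

namespace Cfsg.Agent.Lib.Helper15.AschO2Row

open Cfsg Cfsg.Geo Cfsg.Agent.Lib.Helper99.Asch Cfsg.Agent.Lib.Helper5.AschO
open scoped MatrixGroups Matrix Kronecker

theorem card_oddIndex (m : ℕ) : Fintype.card (Unit ⊕ (Fin m ⊕ Fin m)) = 2 * m + 1 := by
  simp only [Fintype.card_sum, Fintype.card_unique, Fintype.card_fin]
  omega

section general

variable {ι : Type} [Fintype ι] [DecidableEq ι] {F : Type*} [Field F]

/-- index arithmetic of an `m`-decomposition, any finite index type -/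
theorem mul_eq_card_of_isMDecomposition {t m : ℕ} (D : Fin t → Submodule F (ι → F))
    (hD : IsMDecomposition m D) : t * m = Fintype.card ι := by
  classical
  have hint : DirectSum.IsInternal D :=
    DirectSum.isInternal_submodule_of_iSupIndep_of_iSup_eq_top hD.indep hD.iSup_eq_top
  have h1 : Module.finrank F (ι → F) = ∑ i, Module.finrank F (D i) := by
    have e := LinearEquiv.ofBijective (DirectSum.coeLinearMap D) hint
    rw [← e.finrank_eq, Module.finrank_directSum]
  simp only [hD.finrank_eq, Finset.sum_const, Finset.card_univ, Fintype.card_fin, smul_eq_mul,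
    Module.finrank_fintype_fun_eq_card] at h1
  exact h1.symm

/-- the degree of a field subalgebra of `M_ι(F)` divides `|ι|` (helper24's BHR-[C3DIV] for any
finite index type) -/
theorem dvd_card_of_isFieldSubalgebra (r : ℕ) (K : Subalgebra F (Matrix ι ι F))
    (hK : IsFieldSubalgebra r K) : r ∣ Fintype.card ι := by
  classical
  rcases isEmpty_or_nonempty ι with hι | hι
  · rw [Fintype.card_eq_zero]
    exact dvd_zero r
  haveI : Nontrivial (Matrix ι ι F) := inferInstance
  have hfield : IsField ↥K :=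
    { exists_pair_ne := ⟨0, 1, fun h => zero_ne_one (congrArg Subtype.val h)⟩
      mul_comm := fun a b => Subtype.ext (hK.comm a.1 a.2 b.1 b.2)
      mul_inv_cancel := fun {a} ha => by
        obtain ⟨y, hyK, hy⟩ := hK.inv a.1 a.2 (fun h => ha (Subtype.ext h))
        exact ⟨⟨y, hyK⟩, Subtype.ext hy⟩ }
  let φ : ↥K →+* Module.End F (ι → F) :=
    (Matrix.toLinAlgEquiv' : Matrix ι ι F ≃ₐ[F] Module.End F (ι → F)).toAlgHom.toRingHom.comp
      K.val.toRingHom
  letI instMod : Module ↥K (ι → F) := Module.compHom (ι → F) φ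
  haveI hTower : IsScalarTower F ↥K (ι → F) := ⟨fun c k v => by
    show φ (c • k) v = c • φ k v
    simp [φ]⟩
  haveI hSRC : StrongRankCondition ↥K := by
    letI instFld : Field ↥K := hfield.toField
    exact (inferInstance : StrongRankCondition ↥K)
  haveI hfree : Module.Free ↥K (ι → F) := by
    letI instFld : Field ↥K := hfield.toField
    exact @Module.Free.of_divisionRing ↥K (ι → F) _ _ instMod
  have key := @Module.finrank_mul_finrank F ↥K (ι → F) _ _ _ _ instMod _ hTower _ hSRC _ hfree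
  rw [Module.finrank_fintype_fun_eq_card] at key
  rw [← hK.finrank_eq]
  exact Dvd.intro _ key

/-- a subfield with `|F| = |F₀| ^ r`, `r ≥ 2`, is proper -/
theorem subfield_ne_top_of_card [Fintype F] (F₀ : Subfield F) {r : ℕ} (hr : 2 ≤ r)
    (hcard : Fintype.card F = Nat.card F₀ ^ r) : F₀ ≠ ⊤ := by
  rintro rfl
  have h1 : Nat.card (⊤ : Subfield F) = Fintype.card F := by
    rw [← Nat.card_eq_fintype_card]
    exact Nat.card_congr Subfield.topEquiv.toEquiv
  rw [h1] at hcard
  have h2 : 1 < Fintype.card F := Fintype.one_lt_card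
  have h3 : Fintype.card F ^ 1 < Fintype.card F ^ r := Nat.pow_lt_pow_right h2 (by omega)
  rw [pow_one] at h3
  omega

end general

/-- ASCHO2-[ROW7] / [ROW11], generic form: `n = 2 m + 1` prime. -/
theorem row_prime {F : Type*} [Field F] [Fintype F] (hodd : Odd (Fintype.card F)) (m N : ℕ)
    (hm : 3 ≤ m) (hN : 2 * m + 1 = N) (hp : N.Prime)
    (H : Subgroup (GL (Unit ⊕ (Fin m ⊕ Fin m)) F))
    (hH : IsMaximalIn (omegaGL (quadFormOdd m F)) H) :
    (∃ W : Submodule F (Unit ⊕ (Fin m ⊕ Fin m) → F), W ≠ ⊥ ∧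
        IsTotallySingularQuad (quadFormOdd m F) W ∧
        H = subspaceStabilizer W ⊓ omegaGL (quadFormOdd m F)) ∨
    (∃ W : Submodule F (Unit ⊕ (Fin m ⊕ Fin m) → F), W ≠ ⊥ ∧ Even (Module.finrank F W) ∧
        IsNondegenerateOn (QuadraticMap.polar (quadFormOdd m F)) W ∧
        ¬ (Fintype.card F = 3 ∧ Module.finrank F W = 2 ∧ IsPlusTypeOn (quadFormOdd m F) W) ∧
        H = subspaceStabilizer W ⊓ omegaGL (quadFormOdd m F)) ∨
    ((Fintype.card F).Prime ∧ ∃ D : Fin N → Submodule F (Unit ⊕ (Fin m ⊕ Fin m) → F),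
        IsOrthogonalMDecomposition (quadFormOdd m F) 1 D ∧
        H = decompositionStabilizer D ⊓ omegaGL (quadFormOdd m F)) ∨
    (∃ (F₀ : Subfield F) (r : ℕ) (P : GL (Unit ⊕ (Fin m ⊕ Fin m)) F), r.Prime ∧
        Fintype.card F = Nat.card F₀ ^ r ∧ IsQuadFormRationalStructure (quadFormOdd m F) F₀ P ∧
        H = subfieldSubgroup F₀ P ⊓ omegaGL (quadFormOdd m F)) ∨
    InOrthogonalResidualClass H := by
  classical
  have h2 : (2 : F) ≠ 0 := two_ne_zero_of_odd_card hodd
  have hQ : IsNondegenerateQuadraticForm (quadFormOdd m F) :=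
    Cfsg.Agent.Lib.Helper94.isNondegenerateQuadraticForm_quadFormOdd m h2
  have hcard : Fintype.card (Unit ⊕ (Fin m ⊕ Fin m)) = N := by rw [card_oddIndex, hN]
  have h7 : 7 ≤ Fintype.card (Unit ⊕ (Fin m ⊕ Fin m)) := by rw [card_oddIndex]; omega
  have hn : Odd (Fintype.card (Unit ⊕ (Fin m ⊕ Fin m))) := by rw [card_oddIndex]; exact ⟨m, rfl⟩
  rcases aschbacher_quadFormOdd hodd m hm H hH.1.le with ⟨M, hM, hHM⟩ | hres
  swap
  · exact Or.inr (Or.inr (Or.inr (Or.inr hres)))
  unfold InOrthogonalOddClass at hM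
  rcases hM with ⟨W, hW0, hWs, rfl⟩ | ⟨W, hW0, hW1, hWn, rfl⟩ | ⟨t, k, D, hk, hD, rfl⟩ |
    ⟨t, D, hprime, hD, rfl⟩ | ⟨r, K, hr, hrn, hK, -, rfl⟩ |
    ⟨n₁, n₂, e, P, f₁, f₂, h1, h12, -, -, -, rfl⟩ | ⟨F₀, r, P, hr, hFr, hrat, rfl⟩ |
    ⟨k, t, e, P, f₁, hk, ht, -, -, -, rfl⟩
  · -- (1a)
    exact Or.inl ⟨W, hW0, hWs, eq_inf_omegaGL_of_isMaximalIn hH hHM
      (not_omegaGL_le_stab_singular hQ h7 W hW0 hWs)⟩
  · -- (1b)
    refine Or.inr (Or.inl ?_)
    obtain ⟨W', hW'0, hW'1, hW'e, hW'n, hW'eq⟩ := exists_even_nondegenerate hQ hn W hW0 hW1 hWn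
    rw [← hW'eq] at hHM
    by_cases hex : Fintype.card F = 3 ∧ Module.finrank F W' = 2 ∧ IsPlusTypeOn (quadFormOdd m F) W'
    · obtain ⟨U, hU0, hU1, hUe, hU2, hUn, hUle⟩ :=
        exists_hyperplane_of_plus_plane hQ hex.1 hn h7 W' hex.2.1 hW'n hex.2.2
      have hHU : H ≤ subspaceStabilizer U ⊓ isometryGroup F (quadFormOdd m F) :=
        le_inf (le_trans hHM hUle) (le_trans hHM inf_le_right)
      exact ⟨U, hU0, hUe, hUn, fun h => hU2 h.2.1, eq_inf_omegaGL_of_isMaximalIn hH hHU
        (not_omegaGL_le_stab_nondegenerate hQ hodd h7 U hU0 hU1 hUn)⟩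
    · exact ⟨W', hW'0, hW'e, hW'n, hex, eq_inf_omegaGL_of_isMaximalIn hH hHM
        (not_omegaGL_le_stab_nondegenerate hQ hodd h7 W' hW'0 hW'1 hW'n)⟩
  · -- (2a): impossible in prime dimension
    exfalso
    have htk : t * k = N := by rw [← hcard]; exact mul_eq_card_of_isMDecomposition D hD.decomp.decomp
    have ht2 : 2 ≤ t := hD.decomp.decomp.two_le
    rcases (Nat.Prime.eq_one_or_self_of_dvd hp k (Dvd.intro_left t htk)) with h | h
    · omega
    · subst h
      have : t = 1 := by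
        have hk0 : 0 < k := by omega
        exact Nat.eq_of_mul_eq_mul_right hk0 (by rw [htk, one_mul])
      omega
  · -- (2b)
    refine Or.inr (Or.inr (Or.inl ⟨hprime, ?_⟩))
    have htk : t * 1 = N := by rw [← hcard]; exact mul_eq_card_of_isMDecomposition D hD.decomp.decomp
    rw [mul_one] at htk
    subst htk
    exact ⟨D, hD, eq_inf_omegaGL_of_isMaximalIn hH hHM
      (not_omegaGL_le_decompositionStabilizer_of hQ (exists_eichler_mem_omegaGL hQ h7)
        (exists_singular_of_three_le hQ hodd) h7 1 D hD)⟩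
  · -- (3): impossible in prime dimension
    exfalso
    have hdvd : r ∣ N := by rw [← hcard]; exact dvd_card_of_isFieldSubalgebra r K hK
    rcases (Nat.Prime.eq_one_or_self_of_dvd hp r hdvd) with h | h
    · exact hr.one_lt.ne' h
    · exact hrn (by rw [hN, h])
  · -- (4): impossible in prime dimension
    exfalso
    have h : n₁ * n₂ = N := by
      rw [← hcard, Fintype.card_congr e, Fintype.card_prod, Fintype.card_fin, Fintype.card_fin]
    rcases (Nat.Prime.eq_one_or_self_of_dvd hp n₁ (Dvd.intro _ h)) with h' | h'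
    · omega
    · subst h'
      have : n₂ = 1 := by
        have h0 : 0 < n₁ := by omega
        exact Nat.eq_of_mul_eq_mul_left h0 (by rw [h, mul_one])
      omega
  · -- (5)
    refine Or.inr (Or.inr (Or.inr (Or.inl ⟨F₀, r, P, hr, hFr, hrat, ?_⟩)))
    exact eq_inf_omegaGL_of_isMaximalIn hH hHM
      (not_omegaGL_le_subfieldSubgroup_of (exists_long_root_family hQ hodd h7) h7 F₀
        (subfield_ne_top_of_card F₀ hr.two_le hFr) P)
  · -- (7): impossible in prime dimension
    exfalso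
    have h : k ^ t = N := by
      rw [← hcard, Fintype.card_congr e, Fintype.card_pi, Finset.prod_const, Finset.card_univ,
        Fintype.card_fin, Fintype.card_fin]
    have := (Nat.Prime.pow_eq_iff hp).mp h
    omega

end Cfsg.Agent.Lib.Helper15.AschO2Row
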