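import Mathlib
import Cfsg.Prelude.Def_GeometricClasses
import Cfsg.Agent.Lib.Helper99.AschDefs
import Cfsg.Agent.Lib.Helper15.AschSlotNormLib

/-!
# Project ASCH, module [SLOTNORM] (hedge by helper15): the sheet theorem under its official name,
with the extra (necessary) hypothesis `0 < k`.
-/

set_option autoImplicit false

namespace Cfsg.Agent.Lib.Helper99.Asch

open Cfsg Cfsg.Geo
open scoped MatrixGroups Matrix Kronecker

variable {n : ℕ} {F : Type*} [Field F] [Fintype F]

/-- ASCH-[SLOTNORM] (with `0 < k`). -/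
theorem mem_tensorWreathStandard_of_permutes_slots {k d : ℕ} (hk : 0 < k)
    (g : GL (Fin k → Fin d) F) (σ : Equiv.Perm (Fin k))
    (hg : ∀ i (a : Matrix (Fin d) (Fin d) F), ∃ a' : Matrix (Fin d) (Fin d) F,
      (g : Matrix (Fin k → Fin d) (Fin k → Fin d) F) * slotMatrix i a *
        ((g⁻¹ : GL (Fin k → Fin d) F) : Matrix (Fin k → Fin d) (Fin k → Fin d) F) =
        slotMatrix (σ i) a') :
    g ∈ tensorWreathStandard d k F :=
  Cfsg.Agent.Lib.Helper15.AschSlotNorm.mem_tensorWreathStandard_of_permutes_slots_pos hk g σ hg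

end Cfsg.Agent.Lib.Helper99.Asch
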