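import Mathlib
import Cfsg.Prelude.Def_GeometricClasses
import Cfsg.Agent.Lib.Helper99.AschDefs
import Cfsg.Agent.Lib.Helper99.AschUtil4
import Cfsg.Agent.Lib.Helper47.AschSlotNorm
import Cfsg.Agent.Lib.Helper23.AschSpDefs

/-!
# Project ASCHSP, module [WREATH] (helper15): a component system in slot form puts `H` into the
standard tensor wreath group (the corresponding step of helper99's `AschPartB`, extracted).
Uses helper47's `mem_tensorWreathStandard_of_permutes_slots` (the copy imported by helper99's `AschPartB`).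
-/

set_option autoImplicit false

namespace Cfsg.Agent.Lib.Helper23.AschSp

open Cfsg Cfsg.Geo Cfsg.Agent.Lib.Helper99.Asch
open scoped MatrixGroups Matrix Kronecker

variable {n m : ℕ} {F : Type*} [Field F] [Fintype F] {f : (Fin n → F) → (Fin n → F) → F}

/-- ASCHSP-[WREATH]. -/
theorem wreath_of_compSys (H P : Subgroup (GL (Fin n) F)) {k : ℕ} (hk : 0 < k) (Q : Fin k → Subgroup (GL (Fin n) F))
    (hQ : CompSys H P Q) (d : ℕ) (idx : Fin n ≃ (Fin k → Fin d)) (B : GL (Fin n) F)
    (hslot : ∀ i, ∀ x ∈ Q i, ∃ a : GL (Fin d) F,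
        ((B * x * B⁻¹ : GL (Fin n) F) : Matrix (Fin n) (Fin n) F) =
          Matrix.reindex idx.symm idx.symm (slotMatrix i (a : Matrix (Fin d) (Fin d) F)))
    (hspan : ∀ i (a : Matrix (Fin d) (Fin d) F),
        ((B⁻¹ : GL (Fin n) F) : Matrix (Fin n) (Fin n) F) *
          Matrix.reindex idx.symm idx.symm (slotMatrix i a) * (B : Matrix (Fin n) (Fin n) F) ∈
          Submodule.span F (matrixSet (Q i))) :
    ∀ h ∈ H, ∃ g ∈ tensorWreathStandard d k F, glReindex idx.symm g = B * h * B⁻¹ := by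
  intro h hh
  obtain ⟨σ, hσ⟩ := hQ.perm h hh
  set g : GL (Fin k → Fin d) F := (glReindex idx.symm).symm (B * h * B⁻¹) with hgdef
  have hg : glReindex idx.symm g = B * h * B⁻¹ := by
    rw [hgdef]; exact MulEquiv.apply_symm_apply _ _
  exact ⟨g, mem_tensorWreathStandard_of_permutes_slots hk g σ
    (Cfsg.Agent.Lib.Helper99.AschUtil.slot_conj Q idx B hslot hspan h σ hσ g hg), hg⟩

end Cfsg.Agent.Lib.Helper23.AschSp
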