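import Mathlib
import Cfsg.Agent.Lib.Helper15.GallagherExt
import Cfsg.Agent.S0874

/-!
# Dade's theorem (Isaacs 8.24)

Let `N ⊲ G` with `G / N` a `p`-group and `ϑ ∈ Irr(N)` invariant in `G`.  Then there are a
`p`-elementary `E` with `EN = G` and an `E`-invariant `φ ∈ Irr(E ∩ N)` with `p ∤ [ϑ_{E ∩ N}, φ]`.
-/

set_option autoImplicit false
set_option linter.unusedSectionVars false
open Cfsg

namespace Cfsg.Agent.Lib.Helper15

open Cfsg.Agent.Lib.Helper75 Cfsg.Agent.Lib.Helper78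
open scoped ComplexConjugate

universe u

theorem exists_fixed_of_sum_not_dvd {G X : Type*} [Group G] [MulAction G X] [Fintype X]
    (p : ℕ) (f : X → ℕ) (hf : ∀ (g : G) (x : X), f (g • x) = f x)
    (horb : ∀ x : X, ∃ k : ℕ, Nat.card (MulAction.orbit G x) = p ^ k)
    (hsum : ¬ p ∣ ∑ x, f x) : ∃ x, (∀ g : G, g • x = x) ∧ ¬ p ∣ f x := by
  classical
  by_contra hcon
  push Not at hcon
  apply hsum
  rw [← Finset.sum_fiberwise Finset.univ (Quotient.mk (MulAction.orbitRel G X)) f]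
  apply Finset.dvd_sum
  intro q _
  induction q using Quotient.inductionOn with
  | h x₀ =>
  have hconst : ∀ x ∈ Finset.univ.filter
      (fun x => Quotient.mk (MulAction.orbitRel G X) x = Quotient.mk (MulAction.orbitRel G X) x₀),
      f x = f x₀ := by
    intro x hx
    rw [Finset.mem_filter] at hx
    have h1 : x ∈ MulAction.orbit G x₀ := by
      have := Quotient.exact hx.2
      exact MulAction.orbitRel_apply.mp this
    obtain ⟨g, rfl⟩ := h1
    exact hf g x₀
  rw [Finset.sum_congr rfl hconst, Finset.sum_const, smul_eq_mul]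
  have hcard : (Finset.univ.filter
      (fun x => Quotient.mk (MulAction.orbitRel G X) x = Quotient.mk (MulAction.orbitRel G X) x₀)).card
      = Nat.card (MulAction.orbit G x₀) := by
    rw [Nat.card_eq_fintype_card, ← Fintype.card_subtype]
    apply Fintype.card_congr
    refine Equiv.subtypeEquivRight ?_
    intro x
    constructor
    · intro h
      exact MulAction.orbitRel_apply.mp (Quotient.exact h)
    · intro h
      exact Quotient.sound (MulAction.orbitRel_apply.mpr h)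
  rw [hcard]
  obtain ⟨k, hk⟩ := horb x₀
  rw [hk]
  rcases Nat.eq_zero_or_pos k with h0 | hpos
  · subst h0
    rw [pow_zero] at hk
    apply Dvd.dvd.mul_left
    apply hcon
    intro g
    have hsub : Subsingleton (MulAction.orbit G x₀) := by
      have := (Nat.card_eq_one_iff_unique.mp hk).1
      exact this
    have := Subsingleton.elim (⟨g • x₀, MulAction.mem_orbit x₀ g⟩ : MulAction.orbit G x₀)
      ⟨x₀, MulAction.mem_orbit_self x₀⟩
    exact congrArg Subtype.val this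
  · apply Dvd.dvd.mul_right
    exact dvd_pow_self p hpos.ne'

section Inv

variable {G : Type u} [Group G] [Fintype G] (N : Subgroup G) [hN : N.Normal] [Fintype N]

theorem classInner_conjIrr (γ : N → ℂ)
    (hγinv : ∀ (g : G) (n : N), γ ⟨g * n * g⁻¹, hN.conj_mem (n : G) n.2 g⟩ = γ n) (g : G)
    (ξ : IrrCharacter N) :
    classInner γ ((Cfsg.Agent.Lib.Helper81.conjIrr N g ξ : IrrCharacter N) : N → ℂ) =
      classInner γ (ξ : N → ℂ) := by
  unfold classInner
  congr 1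
  apply Fintype.sum_equiv (MulAut.conjNormal g⁻¹ : N ≃* N).toEquiv
  intro n
  have h2 : γ ((MulAut.conjNormal g⁻¹ : N ≃* N).toEquiv n) = γ n := by
    have h3 := hγinv g⁻¹ n
    refine Eq.trans ?_ h3
    congr 1
  rw [h2]
  rfl

theorem exists_invariant_constituent (p : ℕ) (hp : p.Prime)
    (α β : N → ℂ) (hα : IsCharacter N α) (hβ : IsCharacter N β)
    (hαinv : ∀ (g : G) (n : N), α ⟨g * n * g⁻¹, hN.conj_mem (n : G) n.2 g⟩ = α n)
    (hβinv : ∀ (g : G) (n : N), β ⟨g * n * g⁻¹, hN.conj_mem (n : G) n.2 g⟩ = β n)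
    : ∃ j : ℕ, classInner β α = j ∧ ((∃ k : ℕ, N.index = p ^ k) → ¬ p ∣ j →
    ∃ ξ : N → ℂ, IsIrrCharacter N ξ ∧
      (∀ (g : G) (n : N), ξ ⟨g * n * g⁻¹, hN.conj_mem (n : G) n.2 g⟩ = ξ n) ∧
      ∃ m : ℕ, ¬ p ∣ m ∧ classInner α ξ = m) := by
  classical
  let _ := Cfsg.Agent.Lib.Helper81.conjIrrMulAction N
  obtain ⟨a, ha⟩ := (isCharacter_iff_exists_nat_combination α).mp hα
  obtain ⟨b, hb⟩ := (isCharacter_iff_exists_nat_combination β).mp hβ
  have hacoef : ∀ ξ : IrrCharacter N, classInner α (ξ : N → ℂ) = (a ξ : ℂ) := by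
    intro ξ
    conv_lhs => rw [ha]
    exact classInner_nat_combination (fun φ => (a φ : ℂ)) ξ
  have hbcoef : ∀ ξ : IrrCharacter N, classInner β (ξ : N → ℂ) = (b ξ : ℂ) := by
    intro ξ
    conv_lhs => rw [hb]
    exact classInner_nat_combination (fun φ => (b φ : ℂ)) ξ
  have hjsum : classInner β α = ((∑ ξ : IrrCharacter N, b ξ * a ξ : ℕ) : ℂ) := by
    have h1 := classInner_eq_sum_mul_conj α (IsCharacter.isClassFunction hβ)
    simp only [hacoef, hbcoef, Complex.conj_natCast] at h1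
    rw [h1]
    push_cast
    rfl
  refine ⟨_, hjsum, ?_⟩
  intro hind hpj
  -- invariance of the coefficients
  have hainv : ∀ (g : G) (ξ : IrrCharacter N), a (g • ξ) = a ξ := by
    intro g ξ
    have h1 := classInner_conjIrr N α hαinv g ξ
    rw [hacoef ξ] at h1
    have h2 := hacoef (g • ξ)
    have h3 : ((a (g • ξ) : ℕ) : ℂ) = (a ξ : ℂ) := h2.symm.trans h1
    exact_mod_cast h3
  have hbinv : ∀ (g : G) (ξ : IrrCharacter N), b (g • ξ) = b ξ := by
    intro g ξ
    have h1 := classInner_conjIrr N β hβinv g ξ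
    rw [hbcoef ξ] at h1
    have h2 := hbcoef (g • ξ)
    have h3 : ((b (g • ξ) : ℕ) : ℂ) = (b ξ : ℂ) := h2.symm.trans h1
    exact_mod_cast h3
  -- `N` acts trivially
  have hNtriv : ∀ (ξ : IrrCharacter N), N ≤ MulAction.stabilizer G ξ := by
    intro ξ n₀ hn₀
    rw [MulAction.mem_stabilizer_iff]
    apply Subtype.ext
    funext n
    show (ξ : N → ℂ) (MulAut.conjNormal n₀⁻¹ n) = (ξ : N → ℂ) n
    have h1 := isClassFunction_irr ξ n (⟨n₀, hn₀⟩⁻¹ : N)
    refine Eq.trans ?_ h1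
    congr 1
  have horb : ∀ ξ : IrrCharacter N, ∃ k : ℕ, Nat.card (MulAction.orbit G ξ) = p ^ k := by
    intro ξ
    obtain ⟨k, hk⟩ := hind
    have h1 : (MulAction.stabilizer G ξ).index ∣ p ^ k := by
      rw [← hk]
      exact Subgroup.index_dvd_of_le (hNtriv ξ)
    rw [Nat.card_coe_set_eq, ← MulAction.index_stabilizer]
    obtain ⟨i, -, hi⟩ := (Nat.dvd_prime_pow hp).mp h1
    exact ⟨i, hi⟩
  obtain ⟨ξ, hξfix, hξp⟩ := exists_fixed_of_sum_not_dvd p (fun ξ : IrrCharacter N => b ξ * a ξ)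
    (fun g ξ => by show b (g • ξ) * a (g • ξ) = b ξ * a ξ; rw [hainv, hbinv]) horb hpj
  refine ⟨ξ.1, ξ.2, ?_, a ξ, ?_, hacoef ξ⟩
  · intro g n
    have h1 := congrArg (fun η : IrrCharacter N => (η : N → ℂ) n) (hξfix g⁻¹)
    refine Eq.trans ?_ h1
    show (ξ : N → ℂ) _ = (ξ : N → ℂ) (MulAut.conjNormal g⁻¹⁻¹ n)
    refine congrArg (ξ : N → ℂ) (Subtype.ext ?_)
    simp [MulAut.conjNormal_apply]
  · intro h
    exact hξp (Dvd.dvd.mul_left h _)

end Inv

section Dade

variable {G : Type u} [Group G] [Fintype G] (N : Subgroup G) [hN : N.Normal] (ϑ : N → ℂ)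

/-- The functional `F ↦ [F|_N ϑ, ϑ]_N` on functions on `G`. -/
noncomputable def lamFun [Fintype N] (F : G → ℂ) : ℂ :=
  classInner ((fun n : N => F n) * ϑ) ϑ

theorem lamFun_add [Fintype N] (F₁ F₂ : G → ℂ) :
    lamFun N ϑ (F₁ + F₂) = lamFun N ϑ F₁ + lamFun N ϑ F₂ := by
  unfold lamFun
  rw [← classInner_add_left]
  congr 1
  funext n
  simp only [Pi.mul_apply, Pi.add_apply]
  ring

theorem lamFun_smul [Fintype N] (c : ℂ) (F : G → ℂ) :
    lamFun N ϑ (c • F) = c * lamFun N ϑ F := by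
  unfold lamFun
  rw [← classInner_smul_left]
  congr 1
  funext n
  simp only [Pi.mul_apply, Pi.smul_apply, smul_eq_mul]
  ring

theorem lamFun_zero [Fintype N] : lamFun N ϑ (0 : G → ℂ) = 0 := by
  unfold lamFun
  have : (fun n : N => (0 : G → ℂ) n) * ϑ = 0 := by
    funext n
    simp
  rw [this, classInner_zero_left]

theorem lamFun_const [Fintype N] (hϑ : IsIrrCharacter N ϑ) (c : ℂ) :
    lamFun N ϑ (fun _ : G => c) = c := by
  unfold lamFun
  have : (fun n : N => (fun _ : G => c) n) * ϑ = c • ϑ := by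
    funext n
    simp
  rw [this, classInner_smul_left, classInner_irr_self hϑ, mul_one]

/-- Restriction of `ϑ` to `N ∩ E`, viewed on `N.subgroupOf E`. -/
def resSub (E : Subgroup G) : N.subgroupOf E → ℂ := fun x => ϑ ⟨((x : E) : G), x.2⟩

theorem lamFun_indFun [Fintype N]
    (hinv : ∀ (g : G) (n : N), ϑ ⟨g * n * g⁻¹, hN.conj_mem (n : G) n.2 g⟩ = ϑ n)
    (E : Subgroup G) [Fintype E] [Fintype (N.subgroupOf E)] (φ : E → ℂ) :
    lamFun N ϑ (indFun E φ) = ((E ⊔ N).index : ℂ) *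
      classInner ((fun x : N.subgroupOf E => φ x) * resSub N ϑ E) (resSub N ϑ E) := by
  classical
  set w : N → ℂ := fun n => ϑ n * conj (ϑ n) with hw
  have hwinv : ∀ (x : G) (n : N), w (MulAut.conjNormal x n) = w n := by
    intro x n
    have h1 : (MulAut.conjNormal x n : N) = ⟨x * n * x⁻¹, hN.conj_mem (n : G) n.2 x⟩ := by
      apply Subtype.ext
      simp [MulAut.conjNormal_apply]
    rw [hw]
    simp only [h1, hinv]
  -- the basic sum
  set T : ℂ := ∑ n : N, extendByZero E φ (n : G) * w n with hT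
  have hB : ∀ x : G, ∑ n : N, extendByZero E φ (x⁻¹ * (n : G) * x) * w n = T := by
    intro x
    rw [hT]
    apply Fintype.sum_equiv (MulAut.conjNormal x⁻¹ : N ≃* N).toEquiv
    intro n
    have h1 : (((MulAut.conjNormal x⁻¹ : N ≃* N).toEquiv n : N) : G) = x⁻¹ * (n : G) * x := by
      simp [MulAut.conjNormal_apply]
    rw [h1]
    congr 1
    exact (hwinv x⁻¹ n).symm
  have hA : T = ∑ d : N.subgroupOf E, φ d * w ⟨((d : E) : G), d.2⟩ := by
    let ι : N.subgroupOf E → N := fun d => ⟨((d : E) : G), d.2⟩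
    have hι : Function.Injective ι := by
      intro a b hab
      apply Subtype.ext
      apply Subtype.ext
      exact congrArg (fun n : N => (n : G)) hab
    have h1 : ∑ d : N.subgroupOf E, φ d * w ⟨((d : E) : G), d.2⟩ =
        ∑ d : N.subgroupOf E, extendByZero E φ ((ι d : N) : G) * w (ι d) := by
      apply Finset.sum_congr rfl
      intro d _
      rw [extendByZero_of_mem E φ (d : E).2]
    rw [h1, hT, ← Finset.sum_image (s := Finset.univ) (g := ι)
      (f := fun n : N => extendByZero E φ (n : G) * w n) (fun a _ b _ h => hι h)]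
    symm
    apply Finset.sum_subset (Finset.subset_univ _)
    intro n _ hn
    have hnE : (n : G) ∉ E := by
      intro h
      apply hn
      rw [Finset.mem_image]
      exact ⟨⟨⟨(n : G), h⟩, n.2⟩, Finset.mem_univ _, rfl⟩
    rw [extendByZero_of_not_mem E φ hnE, zero_mul]
  -- the left side
  have hL : lamFun N ϑ (indFun E φ) =
      (Nat.card N : ℂ)⁻¹ * ((Nat.card E : ℂ)⁻¹ * ((Nat.card G : ℂ) * T)) := by
    unfold lamFun classInner indFun
    congr 1
    have h1 : ∀ n : N, ((fun n : N => (Nat.card E : ℂ)⁻¹ * ∑ x : G, extendByZero E φ (x⁻¹ * (n : G) * x)) * ϑ) n *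
        conj (ϑ n) = (Nat.card E : ℂ)⁻¹ * ∑ x : G, extendByZero E φ (x⁻¹ * (n : G) * x) * w n := by
      intro n
      rw [Pi.mul_apply, ← Finset.sum_mul, hw]
      ring
    simp only [h1]
    rw [← Finset.mul_sum, Finset.sum_comm]
    simp only [hB, Finset.sum_const, Finset.card_univ, nsmul_eq_mul, Nat.card_eq_fintype_card]
  have hR : classInner ((fun x : N.subgroupOf E => φ x) * resSub N ϑ E) (resSub N ϑ E) =
      (Nat.card (N.subgroupOf E) : ℂ)⁻¹ * T := by
    unfold classInner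
    rw [hA]
    congr 1
    apply Finset.sum_congr rfl
    intro d _
    rw [Pi.mul_apply, hw]
    simp only [resSub]
    ring
  rw [hL, hR]
  -- cardinalities
  have hc1 : Nat.card G = (E ⊔ N).index * Nat.card (E ⊔ N : Subgroup G) := by
    rw [mul_comm, Subgroup.card_mul_index]
  have hc2 : Nat.card E = Nat.card (N.subgroupOf E) * N.relIndex E := by
    rw [Subgroup.relIndex, Subgroup.card_mul_index]
  have hc3 : Nat.card (E ⊔ N : Subgroup G) = Nat.card N * N.relIndex E := by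
    rw [← Subgroup.relIndex_sup_right (H := E) (K := N)]
    have h1 : Nat.card (N.subgroupOf (E ⊔ N)) = Nat.card N :=
      Nat.card_congr (Subgroup.subgroupOfEquivOfLe (le_sup_right : N ≤ E ⊔ N)).toEquiv
    rw [← h1, Subgroup.relIndex, Subgroup.card_mul_index]
  have hN0 : (Nat.card N : ℂ) ≠ 0 := by
    have : Nat.card N ≠ 0 := Nat.card_pos.ne'
    exact_mod_cast this
  have hD0 : (Nat.card (N.subgroupOf E) : ℂ) ≠ 0 := by
    have : Nat.card (N.subgroupOf E) ≠ 0 := Nat.card_pos.ne'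
    exact_mod_cast this
  have hr0 : (N.relIndex E : ℂ) ≠ 0 := by
    have : N.relIndex E ≠ 0 := by
      rw [Subgroup.relIndex]
      exact Subgroup.index_ne_zero_of_finite
    exact_mod_cast this
  rw [hc1, hc2, hc3]
  push_cast
  field_simp


/-- The per-subgroup dichotomy in Dade's theorem. -/
theorem dade_step [Fintype N] (p : ℕ) (hp : p.Prime) (hind : ∃ k : ℕ, N.index = p ^ k)
    (hϑ : IsIrrCharacter N ϑ)
    (hinv : ∀ (g : G) (n : N), ϑ ⟨g * n * g⁻¹, hN.conj_mem (n : G) n.2 g⟩ = ϑ n)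
    (E : Subgroup G) (φ : E → ℂ) (hφ : IsCharacter E φ) :
    (E ⊔ N = ⊤ ∧ ∃ ξ : N.subgroupOf E → ℂ, IsIrrCharacter (N.subgroupOf E) ξ ∧
      (∀ (g : E) (n : N.subgroupOf E), ξ ⟨g * n * g⁻¹,
        (Subgroup.normal_subgroupOf : (N.subgroupOf E).Normal).conj_mem (n : E) n.2 g⟩ = ξ n) ∧
      ∃ m : ℕ, ¬ p ∣ m ∧ (Nat.card (N.subgroupOf E) : ℂ)⁻¹ *
        ∑ᶠ d : N.subgroupOf E, resSub N ϑ E d * conj (ξ d) = m) ∨
    ∃ z : ℤ, lamFun N ϑ (indFun E φ) = (p : ℂ) * z := by
  classical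
  have : Fintype E := Fintype.ofFinite E
  have : Fintype (N.subgroupOf E) := Fintype.ofFinite _
  have hnorm : (N.subgroupOf E).Normal := Subgroup.normal_subgroupOf
  rw [lamFun_indFun N ϑ hinv E φ]
  -- the two characters of `N ∩ E`
  let f : N.subgroupOf E →* N :=
    { toFun := fun x => ⟨((x : E) : G), x.2⟩
      map_one' := rfl
      map_mul' := fun _ _ => rfl }
  have hαc : IsCharacter (N.subgroupOf E) (resSub N ϑ E) :=
    Cfsg.Agent.Lib.Helper81.isCharacter_comp (IsIrrCharacter.isCharacter hϑ) f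
  have hφc : IsCharacter (N.subgroupOf E) (fun x : N.subgroupOf E => φ x) :=
    isCharacter_res (N.subgroupOf E) hφ
  have hβc : IsCharacter (N.subgroupOf E) ((fun x : N.subgroupOf E => φ x) * resSub N ϑ E) :=
    Cfsg.Agent.Lib.Helper80.isCharacter_mul hφc hαc
  have hαinv : ∀ (g : E) (n : N.subgroupOf E), resSub N ϑ E ⟨g * n * g⁻¹,
      hnorm.conj_mem (n : E) n.2 g⟩ = resSub N ϑ E n := by
    intro g n
    exact hinv (g : G) (f n)
  have hφinv : ∀ (g : E) (n : N.subgroupOf E), (fun x : N.subgroupOf E => φ x) ⟨g * n * g⁻¹,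
      hnorm.conj_mem (n : E) n.2 g⟩ = (fun x : N.subgroupOf E => φ x) n := by
    intro g n
    exact IsCharacter.isClassFunction hφ (n : E) g
  have hβinv : ∀ (g : E) (n : N.subgroupOf E),
      ((fun x : N.subgroupOf E => φ x) * resSub N ϑ E) ⟨g * n * g⁻¹,
      hnorm.conj_mem (n : E) n.2 g⟩ = ((fun x : N.subgroupOf E => φ x) * resSub N ϑ E) n := by
    intro g n
    show φ _ * resSub N ϑ E _ = φ _ * resSub N ϑ E _
    rw [hαinv g n]
    congr 1
    exact hφinv g n
  obtain ⟨k, hk⟩ := hind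
  have hidx : (E ⊔ N).index ∣ p ^ k := by
    rw [← hk]
    exact Subgroup.index_dvd_of_le le_sup_right
  by_cases htop : E ⊔ N = ⊤
  · -- the index of `N ∩ E` in `E` is a power of `p`
    have hind' : ∃ k' : ℕ, (N.subgroupOf E).index = p ^ k' := by
      refine ⟨k, ?_⟩
      have h1 : (N.subgroupOf E).index = N.relIndex E := rfl
      rw [h1, ← Subgroup.relIndex_sup_right (H := E) (K := N), htop, Subgroup.relIndex_top_right, hk]
    obtain ⟨j, hj, hjX⟩ := exists_invariant_constituent (N.subgroupOf E) p hp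
      (resSub N ϑ E) _ hαc hβc hαinv hβinv
    by_cases hpj : p ∣ j
    · right
      obtain ⟨c, rfl⟩ := hpj
      refine ⟨c, ?_⟩
      rw [htop, Subgroup.index_top, hj]
      push_cast
      ring
    · left
      refine ⟨htop, ?_⟩
      obtain ⟨ξ, hξ, hξinv, m, hm, hmξ⟩ := hjX hind' hpj
      refine ⟨ξ, hξ, hξinv, m, hm, ?_⟩
      rw [finsum_eq_sum_of_fintype]
      exact hmξ
  · right
    have hne1 : (E ⊔ N).index ≠ 1 := by
      intro h
      exact htop (Subgroup.index_eq_one.mp h)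
    obtain ⟨i, -, hi⟩ := (Nat.dvd_prime_pow hp).mp hidx
    have hi0 : i ≠ 0 := by
      rintro rfl
      exact hne1 (by simpa using hi)
    obtain ⟨j, hj, -⟩ := exists_invariant_constituent (N.subgroupOf E) p hp
      (resSub N ϑ E) _ hαc hβc hαinv hβinv
    obtain ⟨i', rfl⟩ := Nat.exists_eq_succ_of_ne_zero hi0
    refine ⟨(p ^ i' * j : ℕ), ?_⟩
    rw [hi, hj, pow_succ]
    push_cast
    ring


theorem lamFun_list_sum [Fintype N] (p : ℕ)
    (l : List ((E : Subgroup G) × ((E → ℂ) × ℤ)))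
    (h : ∀ t ∈ l, ∃ z : ℤ, lamFun N ϑ (indFun t.1 t.2.1) = (p : ℂ) * z) :
    ∃ Z : ℤ, lamFun N ϑ ((l.map fun t => (t.2.2 : ℂ) • indFun t.1 t.2.1).sum) = (p : ℂ) * Z := by
  induction l with
  | nil =>
    refine ⟨0, ?_⟩
    simp [lamFun_zero]
  | cons t l ih =>
    obtain ⟨z, hz⟩ := h t (List.mem_cons_self)
    obtain ⟨Z, hZ⟩ := ih (fun t' ht' => h t' (List.mem_cons_of_mem _ ht'))
    refine ⟨t.2.2 * z + Z, ?_⟩
    rw [List.map_cons, List.sum_cons, lamFun_add, lamFun_smul, hz, hZ]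
    push_cast
    ring

/-- **Dade's theorem** (Isaacs 8.24), stated on `N.subgroupOf E`. -/
theorem dade_exists [Fintype N] (p : ℕ) (hp : p.Prime) (hind : ∃ k : ℕ, N.index = p ^ k)
    (hϑ : IsIrrCharacter N ϑ)
    (hinv : ∀ (g : G) (n : N), ϑ ⟨g * n * g⁻¹, hN.conj_mem (n : G) n.2 g⟩ = ϑ n) :
    ∃ E : Subgroup G, IsElementary p E ∧ E ⊔ N = ⊤ ∧
      ∃ ξ : N.subgroupOf E → ℂ, IsIrrCharacter (N.subgroupOf E) ξ ∧
      (∀ (g : E) (n : N.subgroupOf E), ξ ⟨g * n * g⁻¹,
        (Subgroup.normal_subgroupOf : (N.subgroupOf E).Normal).conj_mem (n : E) n.2 g⟩ = ξ n) ∧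
      ∃ m : ℕ, ¬ p ∣ m ∧ (Nat.card (N.subgroupOf E) : ℂ)⁻¹ *
        ∑ᶠ d : N.subgroupOf E, resSub N ϑ E d * conj (ξ d) = m := by
  obtain ⟨m₀, l, hm₀, hl, hsum⟩ := Cfsg.Agent.S0874.result (G := G) p hp
  by_contra hcon
  push Not at hcon
  have hall : ∀ t ∈ l, ∃ z : ℤ, lamFun N ϑ (indFun t.1 t.2.1) = (p : ℂ) * z := by
    intro t ht
    rcases dade_step N ϑ p hp hind hϑ hinv t.1 t.2.1 (hl t ht).2 with ⟨htop, ξ, hξ, hξinv, m, hm, hmξ⟩ | h
    · exfalso
      exact hcon t.1 (hl t ht).1 htop ξ hξ hξinv m hm hmξ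
    · exact h
  obtain ⟨Z, hZ⟩ := lamFun_list_sum N ϑ p l hall
  rw [← hsum, lamFun_const N ϑ hϑ] at hZ
  apply hm₀
  refine ⟨Z, ?_⟩
  exact_mod_cast hZ

end Dade

end Cfsg.Agent.Lib.Helper15
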