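import Mathlib
import Cfsg.Agent.Lib.Helper15.Dade
import Cfsg.Agent.Lib.Helper77.Deflation
import Cfsg.Agent.Lib.Helper3.BrElem

/-!
# Dade's extension theorem (Isaacs 8.26)

Let `N ⊲ G` with `G / N` a `p`-group and `P` a Sylow `p`-subgroup with `P ∩ N ≤ Z(P)` such that
every linear character of `P ∩ N` extends to `P`.  Then every `G`-invariant `ϑ ∈ Irr(N)` extends to
`G`.

* `res_eq_of_not_dvd`: if `G / N` is a `p`-group, `ϑ` invariant and `p ∤ [χ_N, ϑ]`, then `χ_N = ϑ`.
* `exists_extension_of_inf_commutator_eq_bot`: linear characters of a subgroup meeting the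
  commutator subgroup trivially extend.
-/

set_option autoImplicit false
set_option linter.unusedSectionVars false
open Cfsg

namespace Cfsg.Agent.Lib.Helper15

open Cfsg.Agent.Lib.Helper75 Cfsg.Agent.Lib.Helper78
open scoped ComplexConjugate commutatorElement

universe u

section Ram

variable {G : Type u} [Group G] [Fintype G] (N : Subgroup G) [hN : N.Normal] [Fintype N]

/-- Clifford for an invariant constituent: `χ_N = [χ_N, θ] θ`. -/
theorem res_eq_smul_of_invariant {χ : G → ℂ} (hχ : IsIrrCharacter G χ) {θ : N → ℂ}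
    (hθ : IsIrrCharacter N θ)
    (hinv : ∀ (g : G) (n : N), θ ⟨g * n * g⁻¹, hN.conj_mem (n : G) n.2 g⟩ = θ n)
    (hne : classInner (fun n : N => χ n) θ ≠ 0) :
    (fun n : N => χ n) = classInner (fun n : N => χ n) θ • θ := by
  classical
  have h1 := clifford_finset N hχ hθ hne
  have h2 : conjOrbit N θ = {⟨θ, hθ⟩} := by
    ext φ
    rw [mem_conjOrbit, Finset.mem_singleton]
    have hc : ∀ g : G, Cfsg.Agent.Lib.Helper75.conjFun N g θ = θ := by
      intro g
      funext n
      exact hinv g n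
    constructor
    · rintro ⟨g, hg⟩
      apply Subtype.ext
      rw [← hg, hc]
    · rintro rfl
      exact ⟨1, hc 1⟩
  rw [h2, Finset.sum_singleton] at h1
  exact h1

/-- If `G / N` is commutative, `η ∈ Irr(N)` is invariant and extends to `G`, then every
`χ ∈ Irr(G)` lying over `η` extends `η`. -/
theorem res_eq_of_over_of_comm (hab : IsMulCommutative (G ⧸ N)) {χ : G → ℂ}
    (hχ : IsIrrCharacter G χ) {η : N → ℂ} (hη : IsIrrCharacter N η)
    (hinv : ∀ (g : G) (n : N), η ⟨g * n * g⁻¹, hN.conj_mem (n : G) n.2 g⟩ = η n)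
    (hext : ∃ χ₀ : G → ℂ, IsIrrCharacter G χ₀ ∧ ∀ n : N, χ₀ n = η n)
    (hne : classInner (fun n : N => χ n) η ≠ 0) : ∀ n : N, χ n = η n := by
  classical
  obtain ⟨χ₀, hχ₀, hχ₀ext⟩ := hext
  have hχcl : IsClassFunction G χ := IsCharacter.isClassFunction (IsIrrCharacter.isCharacter hχ)
  have h1η : (fun _ : N => (1 : ℂ)) * η = η := by funext n; simp
  have hprod : IsIrrCharacter N ((fun _ => (1 : ℂ)) * η) := by
    rw [h1η]; exact hη
  obtain ⟨-, -, h3⟩ := gallagher_core N (fun _ => (1 : ℂ)) η isIrrCharacter_one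
    (fun _ _ => rfl) hinv hprod χ₀ hχ₀ hχ₀ext
  have hne' : classInner (indFun N ((fun _ => (1 : ℂ)) * η)) χ ≠ 0 := by
    rw [h1η, frobenius_reciprocity N η hχcl, ← classInner_conj_symm]
    intro h
    apply hne
    have := congrArg (starRingEnd ℂ) h
    simpa using this
  obtain ⟨β, hβ1, hβ2⟩ := h3 ⟨χ, hχ⟩ hne'
  -- `β` is trivial on `N`
  rw [frobenius_reciprocity N _ (isClassFunction_irr β)] at hβ1
  have hβ1' : classInner (fun n : N => (β : G → ℂ) n) (fun _ : N => (1 : ℂ)) ≠ 0 := by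
    rw [← classInner_conj_symm]
    intro h
    apply hβ1
    have := congrArg (starRingEnd ℂ) h
    simpa using this
  have hres := res_eq_smul_of_invariant N β.2 isIrrCharacter_one (fun _ _ => rfl) hβ1'
  have hconst : ∀ n ∈ N, (β : G → ℂ) n = (β : G → ℂ) 1 := by
    intro n hn
    have e1 := congrFun hres ⟨n, hn⟩
    have e2 := congrFun hres 1
    simp only [Pi.smul_apply, smul_eq_mul, mul_one] at e1 e2
    rw [e1]
    exact e2.symm
  obtain ⟨β', hβ', hβ'mk⟩ := Cfsg.Agent.Lib.Helper77.isIrrCharacter_deflate N β.2 hconst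
  have hβ'1 : β' 1 = 1 := IsIrrCharacter.map_one_of_comm hβ'
  have hβone : (β : G → ℂ) 1 = 1 := by
    rw [← hβ'mk 1]
    exact hβ'1
  intro n
  have h5 := congrFun hβ2 n
  rw [Pi.mul_apply] at h5
  rw [show χ n = ((⟨χ, hχ⟩ : IrrCharacter G) : G → ℂ) n from rfl, ← h5, hconst n n.2, hβone,
    one_mul, hχ₀ext]

end Ram

theorem indFun_comp_mulEquiv {M : Type u} [Group M] [Fintype M] (N' : Subgroup M) (φ : N' → ℂ)
    (σ : M ≃* M) (hσ : ∀ z : M, extendByZero N' φ (σ z) = extendByZero N' φ z) (x : M) :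
    indFun N' φ (σ x) = indFun N' φ x := by
  unfold indFun
  congr 1
  symm
  apply Fintype.sum_equiv σ.toEquiv
  intro y
  rw [← hσ]
  congr 1
  simp [map_mul, map_inv]

/-- If `G / N` is a `p`-group, `ϑ ∈ Irr(N)` is invariant and `χ ∈ Irr(G)` satisfies
`p ∤ [χ_N, ϑ]`, then `χ_N = ϑ`. -/
theorem res_eq_of_not_dvd (p : ℕ) (hp : p.Prime) : ∀ (k : ℕ) (G : Type u) [Group G] [Fintype G]
    (N : Subgroup G) [hN : N.Normal] [Fintype N], N.index = k → (∃ j : ℕ, N.index = p ^ j) →
    ∀ (ϑ : N → ℂ), IsIrrCharacter N ϑ →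
    (∀ (g : G) (n : N), ϑ ⟨g * n * g⁻¹, hN.conj_mem (n : G) n.2 g⟩ = ϑ n) →
    ∀ (χ : G → ℂ), IsIrrCharacter G χ → ∀ (m : ℕ), classInner (fun n : N => χ n) ϑ = m →
    ¬ p ∣ m → ∀ n : N, χ n = ϑ n := by
  intro k
  induction k using Nat.strong_induction_on with
  | _ k ih =>
    intro G _ _ N hN _ hk hind ϑ hϑ hinv χ hχ m hm hpm
    classical
    have hm0 : m ≠ 0 := by
      rintro rfl
      exact hpm (dvd_zero p)
    have hχc := IsIrrCharacter.isCharacter hχ
    have hχcl := IsCharacter.isClassFunction hχc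
    by_cases htop : N = ⊤
    · -- `N = G`
      have hmem : ∀ g : G, g ∈ N := fun g => by rw [htop]; exact Subgroup.mem_top g
      let e : N ≃* G :=
        { toFun := fun n => (n : G)
          invFun := fun g => ⟨g, hmem g⟩
          left_inv := fun _ => rfl
          right_inv := fun _ => rfl
          map_mul' := fun _ _ => rfl }
      have hres : IsIrrCharacter N (fun n : N => χ n) :=
        Cfsg.Agent.Lib.Helper81.isIrrCharacter_comp_mulEquiv hχ e
      rw [classInner_irr hres hϑ] at hm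
      by_cases heq : (fun n : N => χ n) = ϑ
      · exact congrFun heq
      · rw [if_neg heq] at hm
        exfalso
        apply hm0
        exact_mod_cast hm.symm
    · obtain ⟨j, hj⟩ := hind
      have : Fact p.Prime := ⟨hp⟩
      have hsolv : Group.IsSolvable (G ⧸ N) := by
        have hpg : IsPGroup p (G ⧸ N) := by
          apply IsPGroup.of_card (n := j)
          rw [← hj, Subgroup.index]
        have : Group.IsNilpotent (G ⧸ N) := hpg.isNilpotent
        infer_instance
      obtain ⟨M, hMn, hNM, hMp⟩ := exists_normal_prime_index_of_solvable_quotient N hsolv htop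
      have hMidx : M.index = p := by
        have h1 : M.index ∣ p ^ j := by
          rw [← hj]
          exact Subgroup.index_dvd_of_le hNM
        have h2 : M.index ∣ p := hMp.dvd_of_dvd_pow h1
        exact (Nat.prime_dvd_prime_iff_eq hMp hp).mp h2
      have : Fintype M := Fintype.ofFinite M
      let N' : Subgroup M := N.subgroupOf M
      have hN'n : N'.Normal := Subgroup.normal_subgroupOf
      have : Fintype N' := Fintype.ofFinite N'
      let e : N' ≃* N := Subgroup.subgroupOfEquivOfLe hNM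
      let ϑ' : N' → ℂ := ϑ ∘ e
      have hϑ' : IsIrrCharacter N' ϑ' := Cfsg.Agent.Lib.Helper81.isIrrCharacter_comp_mulEquiv hϑ e
      have hidx : N'.index * M.index = k := by
        rw [← hk]
        exact Subgroup.relIndex_mul_index hNM
      have hlt : N'.index < k := by
        have h2 : 2 ≤ M.index := hMp.two_le
        have h0 : 0 < N'.index := Nat.pos_of_ne_zero Subgroup.index_ne_zero_of_finite
        nlinarith
      have hind' : ∃ j' : ℕ, N'.index = p ^ j' := by
        have h1 : N'.index ∣ p ^ j := by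
          rw [← hj, hk, ← hidx]
          exact Dvd.intro _ rfl
        obtain ⟨i, -, hi⟩ := (Nat.dvd_prime_pow hp).mp h1
        exact ⟨i, hi⟩
      have hinv' : ∀ (x : M) (y : N'),
          ϑ' ⟨x * y * x⁻¹, hN'n.conj_mem (y : M) y.2 x⟩ = ϑ' y := by
        intro x y
        have := hinv (x : G) (e y)
        exact this
      -- the two invariant characters of `M`
      let α : M → ℂ := fun x => χ x
      let β : M → ℂ := indFun N' ϑ'
      have hαc : IsCharacter M α := isCharacter_res M hχc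
      have hβc : IsCharacter M β :=
        Cfsg.Agent.S0148.result N' ϑ' (IsIrrCharacter.isCharacter hϑ')
      have hαinv : ∀ (g : G) (x : M), α ⟨g * x * g⁻¹, hMn.conj_mem (x : G) x.2 g⟩ = α x := by
        intro g x
        exact hχcl x g
      have hβinv : ∀ (g : G) (x : M), β ⟨g * x * g⁻¹, hMn.conj_mem (x : G) x.2 g⟩ = β x := by
        intro g x
        have h1 := indFun_comp_mulEquiv N' ϑ' (MulAut.conjNormal g : M ≃* M) ?_ x
        · refine Eq.trans ?_ h1
          congr 1
        · intro z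
          by_cases hz : z ∈ N'
          · have hz' : (MulAut.conjNormal g : M ≃* M) z ∈ N' := by
              apply Subgroup.mem_subgroupOf.mpr
              have := hN.conj_mem (z : G) (Subgroup.mem_subgroupOf.mp hz) g
              simpa [MulAut.conjNormal_apply] using this
            rw [extendByZero_of_mem N' ϑ' hz, extendByZero_of_mem N' ϑ' hz']
            have := hinv g (e ⟨z, hz⟩)
            refine Eq.trans ?_ this
            show ϑ _ = ϑ _
            congr 1
          · have hz' : (MulAut.conjNormal g : M ≃* M) z ∉ N' := by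
              intro h
              apply hz
              apply Subgroup.mem_subgroupOf.mpr
              have h2 := hN.conj_mem _ (Subgroup.mem_subgroupOf.mp h) g⁻¹
              have h3 : g⁻¹ * (((MulAut.conjNormal g : M ≃* M) z : M) : G) * g⁻¹⁻¹ = (z : G) := by
                simp [MulAut.conjNormal_apply, mul_assoc]
              rw [h3] at h2
              exact h2
            rw [extendByZero_of_not_mem N' ϑ' hz, extendByZero_of_not_mem N' ϑ' hz']
      obtain ⟨j', hj', hX⟩ := exists_invariant_constituent M p hp α β hαc hβc hαinv hβinv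
      -- `[β, α] = m`
      have hresN : classInner (fun y : N' => χ ((y : M) : G)) ϑ' = m := by
        have := classInner_comp_equiv e.toEquiv (fun n : N => χ n) ϑ
        rw [← hm, ← this]
        rfl
      have hβα : classInner β α = m := by
        rw [frobenius_reciprocity N' ϑ' (IsCharacter.isClassFunction hαc), ← classInner_conj_symm]
        have : (fun h : N' => α h) = fun y : N' => χ ((y : M) : G) := rfl
        rw [this, hresN]
        simp
      have hjm : j' = m := by
        have : (j' : ℂ) = m := hj'.symm.trans hβα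
        exact_mod_cast this
      rw [hjm] at hX
      obtain ⟨η, hη, hηinv, m₁, hm₁, hm₁η⟩ := hX ⟨1, by rw [hMidx, pow_one]⟩ hpm
      have hm₁0 : m₁ ≠ 0 := by
        rintro rfl
        exact hm₁ (dvd_zero p)
      have hne : classInner (fun x : M => χ x) η ≠ 0 := by
        rw [show (fun x : M => χ x) = α from rfl, hm₁η]
        exact_mod_cast hm₁0
      -- `χ` extends `η`
      have hcyc : IsCyclic (G ⧸ M) := by
        have hpf : Fact (Nat.card (G ⧸ M)).Prime := by
          rw [← Subgroup.index_eq_card]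
          exact ⟨hMp⟩
        exact isCyclic_of_prime_card rfl
      have hab : IsMulCommutative (G ⧸ M) := by
        let _ := IsCyclic.commGroup (α := G ⧸ M)
        exact ⟨⟨mul_comm⟩⟩
      have hext := Cfsg.Agent.S0886.result M hcyc η hη hηinv
      have hχη := res_eq_of_over_of_comm M hab hχ hη hηinv hext hne
      -- induction for `η`
      have hηm : classInner (fun y : N' => η y) ϑ' = m := by
        rw [← hresN]
        congr 1
        funext y
        exact (hχη y).symm
      have := ih N'.index hlt M N' rfl hind' ϑ' hϑ' hinv' η hη m hηm hpm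
      intro n
      have h1 := hχη ⟨(n : G), hNM n.2⟩
      have h2 := this ⟨⟨(n : G), hNM n.2⟩, Subgroup.mem_subgroupOf.mpr n.2⟩
      rw [h1, h2]
      rfl

section GroupPart

variable {G : Type u} [Group G]

theorem commutatorElement_central_mul_left {z y b : G} (hz : z ∈ Subgroup.center G) :
    ⁅z * y, b⁆ = ⁅y, b⁆ := by
  have h1 : z * (y * b * y⁻¹) = (y * b * y⁻¹) * z := (Subgroup.mem_center_iff.mp hz _).symm
  calc ⁅z * y, b⁆ = z * (y * b * y⁻¹) * z⁻¹ * b⁻¹ := by rw [commutatorElement_def]; group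
    _ = (y * b * y⁻¹) * z * z⁻¹ * b⁻¹ := by rw [h1]
    _ = ⁅y, b⁆ := by rw [commutatorElement_def]; group

theorem commutatorElement_central_mul_right {z y a : G} (hz : z ∈ Subgroup.center G) :
    ⁅a, z * y⁆ = ⁅a, y⁆ := by
  rw [← commutatorElement_inv (z * y) a, commutatorElement_central_mul_left hz,
    commutatorElement_inv]

/-- Extension of linear characters from a subgroup meeting the commutator subgroup trivially. -/
theorem exists_extension_of_inf_commutator_eq_bot [Finite G] (D : Subgroup G)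
    (hD : D ⊓ commutator G = ⊥) (ξ₀ : D →* ℂˣ) : ∃ χ : G →* ℂˣ, ∀ d : D, χ d = ξ₀ d := by
  classical
  let π : G →* Abelianization G := Abelianization.of
  let f : D →* D.map π := π.subgroupMap D
  have hfs : Function.Surjective f := π.subgroupMap_surjective D
  have hfi : Function.Injective f := by
    rw [injective_iff_map_eq_one]
    intro d hd
    have h1 : π (d : G) = 1 := congrArg Subtype.val hd
    have h2 : (d : G) ∈ commutator G := by
      have := (QuotientGroup.eq_one_iff (d : G)).mp h1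
      exact this
    have h3 : (d : G) ∈ D ⊓ commutator G := ⟨d.2, h2⟩
    rw [hD, Subgroup.mem_bot] at h3
    exact Subtype.ext h3
  let e : D ≃* D.map π := MulEquiv.ofBijective f ⟨hfi, hfs⟩
  have hne : NeZero (Monoid.exponent (Abelianization G)) := ⟨Monoid.exponent_ne_zero_of_finite⟩
  have : HasEnoughRootsOfUnity ℂ (Monoid.exponent (Abelianization G)) := inferInstance
  obtain ⟨χb, hχb⟩ := MonoidHom.domRestrict_surjective (G := Abelianization G) (M := ℂ) (D.map π)
    (ξ₀.comp e.symm.toMonoidHom)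
  refine ⟨χb.comp π, ?_⟩
  intro d
  have h1 := congrArg (fun g : D.map π →* ℂˣ => g (e d)) hχb
  simp only [MonoidHom.comp_apply] at h1
  have h2 : e.symm.toMonoidHom (e d) = d := e.symm_apply_apply d
  rw [h2] at h1
  exact h1


theorem commutator_inf_eq_bot_of_linear_extend [Finite G] (N P : Subgroup G)
    (hcent : ∀ x ∈ P ⊓ N, ∀ y ∈ P, x * y = y * x)
    (hlin : ∀ lam : ↥(P ⊓ N) → ℂ, IsCharacter ↥(P ⊓ N) lam → lam 1 = 1 →
      ∃ μ : ↥P → ℂ, IsCharacter ↥P μ ∧ μ 1 = 1 ∧ ∀ x : ↥(P ⊓ N), μ ⟨(x : G), x.2.1⟩ = lam x) :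
    ⁅P, P⁆ ⊓ N = ⊥ := by
  classical
  rw [eq_bot_iff]
  rintro c ⟨hc1, hc2⟩
  rw [Subgroup.mem_bot]
  by_contra hne
  have hcP : c ∈ P := Subgroup.commutator_le_self P hc1
  let _ : CommGroup ↥(P ⊓ N) :=
    { (inferInstance : Group ↥(P ⊓ N)) with
      mul_comm := by
        intro a b
        apply Subtype.ext
        exact hcent a a.2 b b.2.1 }
  let ĉ : ↥(P ⊓ N) := ⟨c, hcP, hc2⟩
  have hĉ : ĉ ≠ 1 := by
    intro h
    exact hne (congrArg Subtype.val h)
  have hnz : NeZero (Monoid.exponent ↥(P ⊓ N)) := ⟨Monoid.exponent_ne_zero_of_finite⟩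
  have : HasEnoughRootsOfUnity ℂ (Monoid.exponent ↥(P ⊓ N)) := inferInstance
  obtain ⟨lam, hlam⟩ := CommGroup.exists_apply_ne_one_of_hasEnoughRootsOfUnity ↥(P ⊓ N) ℂ hĉ
  obtain ⟨μ, hμ, hμ1, hμext⟩ := hlin (fun a => ((lam a : ℂˣ) : ℂ))
    (IsIrrCharacter.isCharacter (Cfsg.Agent.Lib.Helper77.isIrrCharacter_of_monoidHom lam))
    (by simp)
  obtain ⟨μ', hμ'⟩ := Cfsg.Agent.Lib.Helper77.exists_monoidHom_of_degree_one hμ hμ1
  have hc' : (⟨c, hcP⟩ : ↥P) ∈ commutator ↥P := by
    rw [← Subgroup.map_subtype_commutator P] at hc1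
    obtain ⟨c'', hc'', hcc⟩ := Subgroup.mem_map.mp hc1
    have : c'' = ⟨c, hcP⟩ := Subtype.ext hcc
    rw [← this]
    exact hc''
  have h1 : μ' ⟨c, hcP⟩ = 1 := by
    have := Abelianization.commutator_subset_ker μ' hc'
    exact this
  have h2 := hμext ĉ
  rw [hμ' ⟨c, hcP⟩, h1] at h2
  apply hlam
  apply Units.ext
  exact h2.symm

theorem commutator_inf_eq_bot_of_isPGroup [Finite G] (p : ℕ) [Fact p.Prime] (N : Subgroup G)
    [hN : N.Normal] (P : Sylow p G) (hP : ⁅(P : Subgroup G), (P : Subgroup G)⁆ ⊓ N = ⊥)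
    (Q : Subgroup G) (hQ : IsPGroup p Q) : ⁅Q, Q⁆ ⊓ N = ⊥ := by
  obtain ⟨P', hQP'⟩ := hQ.exists_le_sylow
  obtain ⟨g, hg⟩ := MulAction.exists_smul_eq G P P'
  rw [eq_bot_iff]
  rintro c ⟨hc1, hc2⟩
  rw [Subgroup.mem_bot]
  have h1 : c ∈ ⁅(P' : Subgroup G), (P' : Subgroup G)⁆ := Subgroup.commutator_mono hQP' hQP' hc1
  have h2 : (P' : Subgroup G) = (P : Subgroup G).map (MulAut.conj g).toMonoidHom := by
    rw [← hg]
    rfl
  rw [h2, ← Subgroup.map_commutator] at h1
  obtain ⟨c₀, hc₀, rfl⟩ := Subgroup.mem_map.mp h1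
  have h3 : c₀ ∈ N := by
    have := hN.conj_mem _ hc2 g⁻¹
    simpa [MulAut.conj_apply, mul_assoc] using this
  have h4 : c₀ ∈ ⁅(P : Subgroup G), (P : Subgroup G)⁆ ⊓ N := ⟨hc₀, h3⟩
  rw [hP, Subgroup.mem_bot] at h4
  rw [h4, map_one]

theorem exists_pGroup_commutator_le [Finite G] (p : ℕ) [hp : Fact p.Prime] (E : Subgroup G)
    (hE : IsElementary p E) : ∃ Q : Subgroup G, IsPGroup p Q ∧ ⁅E, E⁆ ≤ ⁅Q, Q⁆ := by
  obtain ⟨x, hx, hcop, j, hj⟩ := hE
  let Z : Subgroup E := Subgroup.zpowers x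
  have hZn : Z.Normal := Cfsg.Agent.Lib.Helper3.zpowers_normal_of_mem_center hx
  have hZc : Z ≤ Subgroup.center E := by
    rw [Subgroup.zpowers_le]
    exact hx
  let P₀ : Sylow p E := default
  have hcardZ : Nat.card Z = orderOf x := Nat.card_zpowers x
  have hcardE : Nat.card E = orderOf x * p ^ j := by
    rw [← hcardZ, ← hj, Subgroup.card_mul_index]
  have hox : orderOf x ≠ 0 := (orderOf_pos x).ne'
  have hpx : ¬ p ∣ orderOf x := by
    intro h
    have := Nat.Coprime.eq_one_of_dvd hcop.symm h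
    exact hp.out.one_lt.ne' this
  have hcardP : Nat.card P₀ = p ^ j := by
    rw [Sylow.card_eq_multiplicity, hcardE, Nat.factorization_mul hox (pow_ne_zero _ hp.out.ne_zero),
      Nat.factorization_pow]
    simp [Nat.factorization_eq_zero_of_not_dvd hpx, hp.out.factorization_self]
  have hcompl : Subgroup.IsComplement' Z (P₀ : Subgroup E) := by
    apply Subgroup.isComplement'_of_coprime
    · rw [hcardZ, hcardP, hcardE]
    · rw [hcardZ, hcardP]
      exact Nat.Coprime.pow_right _ hcop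
  have hsup : Z ⊔ (P₀ : Subgroup E) = ⊤ := hcompl.sup_eq_top
  refine ⟨(P₀ : Subgroup E).map E.subtype, P₀.isPGroup'.map _, ?_⟩
  rw [Subgroup.commutator_le]
  intro a ha b hb
  have ha' : (⟨a, ha⟩ : E) ∈ Z ⊔ (P₀ : Subgroup E) := by rw [hsup]; exact Subgroup.mem_top _
  have hb' : (⟨b, hb⟩ : E) ∈ Z ⊔ (P₀ : Subgroup E) := by rw [hsup]; exact Subgroup.mem_top _
  obtain ⟨z₁, hz₁, y₁, hy₁, h1⟩ := Subgroup.mem_sup_of_normal_left.mp ha'
  obtain ⟨z₂, hz₂, y₂, hy₂, h2⟩ := Subgroup.mem_sup_of_normal_left.mp hb'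
  have h3 : ⁅(⟨a, ha⟩ : E), (⟨b, hb⟩ : E)⁆ = ⁅y₁, y₂⁆ := by
    rw [← h1, ← h2, commutatorElement_central_mul_left (hZc hz₁),
      commutatorElement_central_mul_right (hZc hz₂)]
  have h4 : ⁅a, b⁆ = ⁅(y₁ : G), (y₂ : G)⁆ := by
    have := congrArg (E.subtype) h3
    rw [map_commutatorElement, map_commutatorElement] at this
    exact this
  rw [h4]
  exact Subgroup.commutator_mem_commutator (Subgroup.mem_map.mpr ⟨y₁, hy₁, rfl⟩)
    (Subgroup.mem_map.mpr ⟨y₂, hy₂, rfl⟩)

end GroupPart


section Final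

variable {G : Type u} [Group G] [Fintype G] (N : Subgroup G) [hN : N.Normal] (ϑ : N → ℂ)

theorem classInner_res_indFun_sub [Fintype N]
    (hinv : ∀ (g : G) (n : N), ϑ ⟨g * n * g⁻¹, hN.conj_mem (n : G) n.2 g⟩ = ϑ n)
    (E : Subgroup G) [Fintype E] [Fintype (N.subgroupOf E)] (φ : E → ℂ) :
    classInner (fun n : N => indFun E φ n) ϑ = ((E ⊔ N).index : ℂ) *
      classInner (fun x : N.subgroupOf E => φ x) (resSub N ϑ E) := by
  classical
  set w : N → ℂ := fun n => conj (ϑ n) with hw
  have hwinv : ∀ (x : G) (n : N), w (MulAut.conjNormal x n) = w n := by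
    intro x n
    have h1 : (MulAut.conjNormal x n : N) = ⟨x * n * x⁻¹, hN.conj_mem (n : G) n.2 x⟩ := by
      apply Subtype.ext
      simp [MulAut.conjNormal_apply]
    rw [hw]
    simp only [h1, hinv]
  -- the basic sum
  set T : ℂ := ∑ n : N, extendByZero E φ (n : G) * w n with hT
  have hB : ∀ x : G, ∑ n : N, extendByZero E φ (x⁻¹ * (n : G) * x) * w n = T := by
    intro x
    rw [hT]
    apply Fintype.sum_equiv (MulAut.conjNormal x⁻¹ : N ≃* N).toEquiv
    intro n
    have h1 : (((MulAut.conjNormal x⁻¹ : N ≃* N).toEquiv n : N) : G) = x⁻¹ * (n : G) * x := by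
      simp [MulAut.conjNormal_apply]
    rw [h1]
    congr 1
    exact (hwinv x⁻¹ n).symm
  have hA : T = ∑ d : N.subgroupOf E, φ d * w ⟨((d : E) : G), d.2⟩ := by
    let ι : N.subgroupOf E → N := fun d => ⟨((d : E) : G), d.2⟩
    have hι : Function.Injective ι := by
      intro a b hab
      apply Subtype.ext
      apply Subtype.ext
      exact congrArg (fun n : N => (n : G)) hab
    have h1 : ∑ d : N.subgroupOf E, φ d * w ⟨((d : E) : G), d.2⟩ =
        ∑ d : N.subgroupOf E, extendByZero E φ ((ι d : N) : G) * w (ι d) := by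
      apply Finset.sum_congr rfl
      intro d _
      rw [extendByZero_of_mem E φ (d : E).2]
    rw [h1, hT, ← Finset.sum_image (s := Finset.univ) (g := ι)
      (f := fun n : N => extendByZero E φ (n : G) * w n) (fun a _ b _ h => hι h)]
    symm
    apply Finset.sum_subset (Finset.subset_univ _)
    intro n _ hn
    have hnE : (n : G) ∉ E := by
      intro h
      apply hn
      rw [Finset.mem_image]
      exact ⟨⟨⟨(n : G), h⟩, n.2⟩, Finset.mem_univ _, rfl⟩
    rw [extendByZero_of_not_mem E φ hnE, zero_mul]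
  -- the left side
  have hL : classInner (fun n : N => indFun E φ n) ϑ =
      (Nat.card N : ℂ)⁻¹ * ((Nat.card E : ℂ)⁻¹ * ((Nat.card G : ℂ) * T)) := by
    unfold classInner indFun
    congr 1
    have h1 : ∀ n : N, ((Nat.card E : ℂ)⁻¹ * ∑ x : G, extendByZero E φ (x⁻¹ * (n : G) * x)) *
        conj (ϑ n) = (Nat.card E : ℂ)⁻¹ * ∑ x : G, extendByZero E φ (x⁻¹ * (n : G) * x) * w n := by
      intro n
      rw [← Finset.sum_mul, hw]
      ring
    simp only [h1]
    rw [← Finset.mul_sum, Finset.sum_comm]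
    simp only [hB, Finset.sum_const, Finset.card_univ, nsmul_eq_mul, Nat.card_eq_fintype_card]
  have hR : classInner (fun x : N.subgroupOf E => φ x) (resSub N ϑ E) =
      (Nat.card (N.subgroupOf E) : ℂ)⁻¹ * T := by
    unfold classInner
    rw [hA]
    congr 1
  rw [hL, hR]
  -- cardinalities
  have hc1 : Nat.card G = (E ⊔ N).index * Nat.card (E ⊔ N : Subgroup G) := by
    rw [mul_comm, Subgroup.card_mul_index]
  have hc2 : Nat.card E = Nat.card (N.subgroupOf E) * N.relIndex E := by
    rw [Subgroup.relIndex, Subgroup.card_mul_index]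
  have hc3 : Nat.card (E ⊔ N : Subgroup G) = Nat.card N * N.relIndex E := by
    rw [← Subgroup.relIndex_sup_right (H := E) (K := N)]
    have h1 : Nat.card (N.subgroupOf (E ⊔ N)) = Nat.card N :=
      Nat.card_congr (Subgroup.subgroupOfEquivOfLe (le_sup_right : N ≤ E ⊔ N)).toEquiv
    rw [← h1, Subgroup.relIndex, Subgroup.card_mul_index]
  have hN0 : (Nat.card N : ℂ) ≠ 0 := by
    have : Nat.card N ≠ 0 := Nat.card_pos.ne'
    exact_mod_cast this
  have hD0 : (Nat.card (N.subgroupOf E) : ℂ) ≠ 0 := by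
    have : Nat.card (N.subgroupOf E) ≠ 0 := Nat.card_pos.ne'
    exact_mod_cast this
  have hr0 : (N.relIndex E : ℂ) ≠ 0 := by
    have : N.relIndex E ≠ 0 := by
      rw [Subgroup.relIndex]
      exact Subgroup.index_ne_zero_of_finite
    exact_mod_cast this
  rw [hc1, hc2, hc3]
  push_cast
  field_simp



/-- **Dade's extension theorem** (Isaacs 8.26). -/
theorem dade_extension (p : ℕ) [hpf : Fact p.Prime] (hind : ∃ k : ℕ, N.index = p ^ k)
    (P : Sylow p G)
    (hcent : ∀ x ∈ (P : Subgroup G) ⊓ N, ∀ y ∈ (P : Subgroup G), x * y = y * x)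
    (hlin : ∀ lam : ↥((P : Subgroup G) ⊓ N) → ℂ, IsCharacter ↥((P : Subgroup G) ⊓ N) lam →
      lam 1 = 1 → ∃ μ : ↥(P : Subgroup G) → ℂ, IsCharacter ↥(P : Subgroup G) μ ∧ μ 1 = 1 ∧
        ∀ x : ↥((P : Subgroup G) ⊓ N), μ ⟨(x : G), x.2.1⟩ = lam x)
    (hϑ : IsIrrCharacter N ϑ)
    (hinv : ∀ (g : G) (n : N), ϑ ⟨g * n * g⁻¹, hN.conj_mem (n : G) n.2 g⟩ = ϑ n) :
    ∃ χ : G → ℂ, IsIrrCharacter G χ ∧ ∀ n : N, χ n = ϑ n := by
  classical
  have : Fintype N := Fintype.ofFinite N
  have hp : p.Prime := hpf.out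
  obtain ⟨E, hE, htop, ξ, hξ, hξinv, m, hm, hmξ⟩ := dade_exists N ϑ p hp hind hϑ hinv
  have : Fintype E := Fintype.ofFinite E
  have : Fintype (N.subgroupOf E) := Fintype.ofFinite _
  -- group theory
  have hP := commutator_inf_eq_bot_of_linear_extend N (P : Subgroup G) hcent hlin
  obtain ⟨Q, hQ, hEQ⟩ := exists_pGroup_commutator_le p E hE
  have hQN := commutator_inf_eq_bot_of_isPGroup p N P hP Q hQ
  have hEN : ⁅E, E⁆ ⊓ N = ⊥ := by
    rw [eq_bot_iff]
    rintro c ⟨hc1, hc2⟩
    rw [← hQN]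
    exact ⟨hEQ hc1, hc2⟩
  have hD : N.subgroupOf E ⊓ commutator E = ⊥ := by
    rw [eq_bot_iff]
    rintro x ⟨hx1, hx2⟩
    rw [Subgroup.mem_bot]
    have h1 : (x : G) ∈ ⁅E, E⁆ := by
      rw [← Subgroup.map_subtype_commutator E]
      exact Subgroup.mem_map.mpr ⟨x, hx2, rfl⟩
    have h2 : (x : G) ∈ ⁅E, E⁆ ⊓ N := ⟨h1, hx1⟩
    rw [hEN, Subgroup.mem_bot] at h2
    exact Subtype.ext h2
  have hDcomm : IsMulCommutative (N.subgroupOf E) := by
    refine ⟨⟨fun a b => ?_⟩⟩
    have h1 : ⁅(a : E), (b : E)⁆ ∈ N.subgroupOf E ⊓ commutator E := by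
      refine ⟨?_, ?_⟩
      · rw [commutatorElement_def]
        exact Subgroup.mul_mem _ (Subgroup.mul_mem _ (Subgroup.mul_mem _ a.2 b.2)
          (Subgroup.inv_mem _ a.2)) (Subgroup.inv_mem _ b.2)
      · exact Subgroup.commutator_mem_commutator (Subgroup.mem_top _) (Subgroup.mem_top _)
    rw [hD, Subgroup.mem_bot, commutatorElement_eq_one_iff_mul_comm] at h1
    exact Subtype.ext h1
  have hξ1 : ξ 1 = 1 := IsIrrCharacter.map_one_of_comm hξ
  obtain ⟨ξ₀, hξ₀⟩ := Cfsg.Agent.Lib.Helper77.exists_monoidHom_of_degree_one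
    (IsIrrCharacter.isCharacter hξ) hξ1
  obtain ⟨ψ₀, hψ₀⟩ := exists_extension_of_inf_commutator_eq_bot (N.subgroupOf E) hD ξ₀
  let ψ : E → ℂ := fun e => ((ψ₀ e : ℂˣ) : ℂ)
  have hψ : IsIrrCharacter E ψ := Cfsg.Agent.Lib.Helper77.isIrrCharacter_of_monoidHom ψ₀
  have hψres : (fun d : N.subgroupOf E => ψ d) = ξ := by
    funext d
    rw [hξ₀ d]
    show ((ψ₀ d : ℂˣ) : ℂ) = _
    rw [hψ₀ d]
  -- the induced character
  have hΨc : IsCharacter G (indFun E ψ) :=
    Cfsg.Agent.S0148.result E ψ (IsIrrCharacter.isCharacter hψ)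
  have hΨϑ : classInner (fun n : N => indFun E ψ n) ϑ = m := by
    rw [classInner_res_indFun_sub N ϑ hinv E ψ, htop, Subgroup.index_top, Nat.cast_one, one_mul,
      hψres, ← classInner_conj_symm]
    have h1 : classInner (resSub N ϑ E) ξ = m := by
      unfold classInner
      rw [← hmξ, finsum_eq_sum_of_fintype]
    rw [h1]
    simp
  -- decompose
  obtain ⟨c, hc⟩ := (isCharacter_iff_exists_nat_combination (indFun E ψ)).mp hΨc
  choose f hf using fun χ : IrrCharacter G => IsCharacter.exists_nat_classInner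
    (isCharacter_res N (IsIrrCharacter.isCharacter χ.2)) ⟨ϑ, hϑ⟩
  have hsum : (m : ℂ) = ∑ χ : IrrCharacter G, (c χ : ℂ) * (f χ : ℂ) := by
    rw [← hΨϑ]
    have h1 : (fun n : N => indFun E ψ n) =
        ∑ χ : IrrCharacter G, (c χ : ℂ) • (fun n : N => (χ : G → ℂ) n) := by
      funext n
      rw [hc]
      simp [Finset.sum_apply]
    rw [h1, classInner_sum_left]
    apply Finset.sum_congr rfl
    intro χ _
    rw [classInner_smul_left]
    congr 1
    exact hf χ
  have hsumN : m = ∑ χ : IrrCharacter G, c χ * f χ := by exact_mod_cast hsum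
  have hex : ∃ χ : IrrCharacter G, ¬ p ∣ c χ * f χ := by
    by_contra h
    push Not at h
    apply hm
    rw [hsumN]
    exact Finset.dvd_sum (fun χ _ => h χ)
  obtain ⟨χ, hχp⟩ := hex
  have hfp : ¬ p ∣ f χ := fun h => hχp (Dvd.dvd.mul_left h _)
  exact ⟨χ.1, χ.2, res_eq_of_not_dvd p hp N.index G N rfl hind ϑ hϑ hinv χ.1 χ.2 (f χ) (hf χ) hfp⟩

end Final

end Cfsg.Agent.Lib.Helper15
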