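import Mathlib
import Cfsg.Agent.Lib.Helper15.Dade2
import Cfsg.Agent.S0857
import Cfsg.Agent.Lib.Helper75.IndTrans
import Cfsg.Agent.Lib.Helper75.Monomial
import Cfsg.Agent.Lib.Helper75.Ramified
import Cfsg.Agent.Lib.Helper80.CharBasic
import Cfsg.Agent.Lib.Helper78.CharValues

/-!
# Isaacs 6.23: relative M-groups over a normal subgroup with abelian Sylow subgroups

* `AbSyl L`: all Sylow subgroups of `L` are abelian.
* `exists_prime_pow_relIndex_of_chief`: an abelian chief factor has prime power order.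
* `exists_linear_extension_of_comm`: linear characters of subgroups of abelian groups extend.
* `res_eq_of_abSyl`: `K` with abelian Sylow subgroups, `K / M` an abelian `p`-group, `μ ∈ Irr(M)`
  invariant; then every `φ ∈ Irr(K)` over `μ` extends `μ` (Dade 8.26 + Gallagher).
* `not_fully_ramified_of_abSyl`: the fully ramified case of going down does not occur.
* `exists_indFun_inertia_res_irr`: Clifford correspondent with multiplicity one restricts
  irreducibly.
* `monomial_of_indFun`: monomiality passes up along induction.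
* `monomial_of_res_irr_abSyl`: `H` solvable, `L ⊲ H` with abelian Sylow subgroups, `ψ ∈ Irr(H)`
  with `ψ_L` irreducible; then `ψ` is monomial.
-/

set_option autoImplicit false
set_option linter.unusedSectionVars false
open Cfsg

namespace Cfsg.Agent.Lib.Helper15

open Cfsg.Agent.Lib.Helper75 Cfsg.Agent.Lib.Helper78
open scoped ComplexConjugate commutatorElement

universe u

/-- All Sylow subgroups are abelian. -/
def AbSyl (L : Type*) [Group L] : Prop :=
  ∀ (p : ℕ) [Fact p.Prime] (P : Sylow p L), ∀ a ∈ P, ∀ b ∈ P, a * b = b * a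

theorem AbSyl.of_injective {L L' : Type*} [Group L] [Group L'] (h : AbSyl L) (f : L' →* L)
    (hf : Function.Injective f) : AbSyl L' := by
  intro p _ P' a ha b hb
  have hpg : IsPGroup p ((P' : Subgroup L').map f) := P'.isPGroup'.map f
  obtain ⟨Q, hQ⟩ := hpg.exists_le_sylow
  apply hf
  rw [map_mul, map_mul]
  exact h p Q (f a) (hQ (Subgroup.mem_map_of_mem f ha)) (f b) (hQ (Subgroup.mem_map_of_mem f hb))

/-- A chief factor with abelian quotient has prime-power order. -/
theorem exists_prime_pow_relIndex_of_chief {H : Type u} [Group H] [Finite H] (L M : Subgroup H)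
    [hL : L.Normal] [hM : M.Normal] (hML : M < L)
    (hchief : ∀ M' : Subgroup H, M'.Normal → M ≤ M' → M' ≤ L → M' = M ∨ M' = L)
    (hab : ⁅L, L⁆ ≤ M) : ∃ (p : ℕ) (k : ℕ), p.Prime ∧ M.relIndex L = p ^ k := by
  classical
  have hne1 : M.relIndex L ≠ 1 := by
    intro h
    exact absurd (Subgroup.relIndex_eq_one.mp h) (not_le_of_gt hML)
  obtain ⟨p, hp, hpdvd⟩ := Nat.exists_prime_and_dvd hne1
  have : Fact p.Prime := ⟨hp⟩
  -- commutation modulo `M`
  have hcomm : ∀ x ∈ L, ∀ y ∈ L, Commute (QuotientGroup.mk' M x) (QuotientGroup.mk' M y) := by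
    intro x hx y hy
    have h1 : ⁅x, y⁆ ∈ M := hab (Subgroup.commutator_mem_commutator hx hy)
    have h2 : QuotientGroup.mk' M ⁅x, y⁆ = 1 := (QuotientGroup.eq_one_iff _).mpr h1
    rw [map_commutatorElement, commutatorElement_eq_one_iff_commute] at h2
    exact h2
  let Mp : Subgroup H :=
    { carrier := {x | x ∈ L ∧ x ^ p ∈ M}
      mul_mem' := by
        rintro x y ⟨hx, hxp⟩ ⟨hy, hyp⟩
        refine ⟨L.mul_mem hx hy, ?_⟩
        rw [← QuotientGroup.eq_one_iff, ← QuotientGroup.mk'_apply, map_pow, map_mul,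
          (hcomm x hx y hy).mul_pow, ← map_pow, ← map_pow,
          QuotientGroup.mk'_apply, QuotientGroup.mk'_apply,
          (QuotientGroup.eq_one_iff _).mpr hxp, (QuotientGroup.eq_one_iff _).mpr hyp, one_mul]
      one_mem' := ⟨L.one_mem, by rw [one_pow]; exact M.one_mem⟩
      inv_mem' := by
        rintro x ⟨hx, hxp⟩
        refine ⟨L.inv_mem hx, ?_⟩
        rw [inv_pow]
        exact M.inv_mem hxp }
  have hMpn : Mp.Normal := by
    constructor
    rintro x ⟨hx, hxp⟩ g
    refine ⟨hL.conj_mem x hx g, ?_⟩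
    rw [conj_pow]
    exact hM.conj_mem _ hxp g
  have hMMp : M ≤ Mp := fun x hx => ⟨hML.le hx, M.pow_mem hx p⟩
  have hMpL : Mp ≤ L := fun x hx => hx.1
  -- Cauchy in the quotient
  have hMn' : (M.subgroupOf L).Normal := Subgroup.normal_subgroupOf
  have hpc : p ∣ Nat.card (L ⧸ M.subgroupOf L) := by
    rw [← Subgroup.index_eq_card]
    exact hpdvd
  obtain ⟨q, hq⟩ := exists_prime_orderOf_dvd_card' p hpc
  obtain ⟨x, rfl⟩ := QuotientGroup.mk_surjective q
  have hxM : (x : H) ∉ M := by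
    intro h
    have h1 : ((x : L) : L ⧸ M.subgroupOf L) = 1 :=
      (QuotientGroup.eq_one_iff x).mpr (Subgroup.mem_subgroupOf.mpr h)
    rw [h1, orderOf_one] at hq
    exact hp.one_lt.ne' hq.symm
  have hxp : (x : H) ^ p ∈ M := by
    have h1 : ((x : L) : L ⧸ M.subgroupOf L) ^ p = 1 := by
      rw [← hq]
      exact pow_orderOf_eq_one _
    rw [← QuotientGroup.mk_pow, QuotientGroup.eq_one_iff] at h1
    exact Subgroup.mem_subgroupOf.mp h1
  have hMpne : Mp ≠ M := by
    intro h
    apply hxM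
    rw [← h]
    exact ⟨x.2, hxp⟩
  have hMpeq : Mp = L := (hchief Mp hMpn hMMp hMpL).resolve_left hMpne
  have hpg : IsPGroup p (L ⧸ M.subgroupOf L) := by
    intro q
    obtain ⟨y, rfl⟩ := QuotientGroup.mk_surjective q
    refine ⟨1, ?_⟩
    rw [pow_one, ← QuotientGroup.mk_pow, QuotientGroup.eq_one_iff]
    apply Subgroup.mem_subgroupOf.mpr
    have : (y : H) ∈ Mp := by rw [hMpeq]; exact y.2
    exact this.2
  obtain ⟨k, hk⟩ := IsPGroup.iff_card.mp hpg
  refine ⟨p, k, hp, ?_⟩
  rw [← hk]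
  exact Subgroup.index_eq_card _

/-- Linear characters of a subgroup of an abelian subgroup extend. -/
theorem exists_linear_extension_of_comm {G : Type u} [Group G] [Finite G] (P N : Subgroup G)
    (hP : ∀ a ∈ P, ∀ b ∈ P, a * b = b * a)
    (lam : ↥(P ⊓ N) → ℂ) (hlam : IsCharacter ↥(P ⊓ N) lam) (h1 : lam 1 = 1) :
    ∃ μ : ↥P → ℂ, IsCharacter ↥P μ ∧ μ 1 = 1 ∧
      ∀ x : ↥(P ⊓ N), μ ⟨(x : G), x.2.1⟩ = lam x := by
  classical
  obtain ⟨ξ, hξ⟩ := Cfsg.Agent.Lib.Helper77.exists_monoidHom_of_degree_one hlam h1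
  -- transport to a subgroup of `P`
  let D : Subgroup P := (P ⊓ N).subgroupOf P
  let e : D ≃* ↥(P ⊓ N) := Subgroup.subgroupOfEquivOfLe inf_le_left
  have hcomm : commutator P = ⊥ := by
    rw [eq_bot_iff, commutator_def, Subgroup.commutator_le]
    intro a _ b _
    rw [Subgroup.mem_bot, commutatorElement_eq_one_iff_mul_comm]
    exact Subtype.ext (hP a a.2 b b.2)
  have hD : D ⊓ commutator P = ⊥ := by rw [hcomm, inf_bot_eq]
  obtain ⟨χ, hχ⟩ := exists_extension_of_inf_commutator_eq_bot D hD (ξ.comp e.toMonoidHom)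
  refine ⟨fun x => ((χ x : ℂˣ) : ℂ),
    IsIrrCharacter.isCharacter (Cfsg.Agent.Lib.Helper77.isIrrCharacter_of_monoidHom χ), by simp, ?_⟩
  intro x
  have hx : (⟨(x : G), x.2.1⟩ : P) ∈ D := Subgroup.mem_subgroupOf.mpr x.2
  have h2 := hχ ⟨⟨(x : G), x.2.1⟩, hx⟩
  have h3 : e ⟨⟨(x : G), x.2.1⟩, hx⟩ = x := by
    apply Subtype.ext
    rfl
  simp only [MonoidHom.comp_apply] at h2
  change ((χ ⟨(x : G), x.2.1⟩ : ℂˣ) : ℂ) = lam x
  rw [hξ x]
  have h4 : χ ⟨(x : G), x.2.1⟩ = ξ x := by
    rw [← h3]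
    exact h2
  rw [h4]

/-- If `K` has abelian Sylow subgroups, `K / M` is an abelian `p`-group and `μ ∈ Irr(M)` is
`K`-invariant, then every `φ ∈ Irr(K)` over `μ` extends `μ`. -/
theorem res_eq_of_abSyl {K : Type u} [Group K] [Fintype K] (M : Subgroup K) [hM : M.Normal] [Fintype M]
    (hK : AbSyl K) (hcomm : IsMulCommutative (K ⧸ M)) (p : ℕ) [Fact p.Prime]
    (hind : ∃ k : ℕ, M.index = p ^ k)
    {φ : K → ℂ} (hφ : IsIrrCharacter K φ) {μ : M → ℂ} (hμ : IsIrrCharacter M μ)
    (hinv : ∀ (g : K) (n : M), μ ⟨g * n * g⁻¹, hM.conj_mem (n : K) n.2 g⟩ = μ n)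
    (hne : classInner (fun n : M => φ n) μ ≠ 0) : ∀ n : M, φ n = μ n := by
  classical
  obtain ⟨P⟩ : Nonempty (Sylow p K) := inferInstance
  have hP := hK p P
  have hext := dade_extension M μ p hind P
    (fun x hx y hy => hP x hx.1 y hy)
    (fun lam hlam h1 => exists_linear_extension_of_comm (P : Subgroup K) M hP lam hlam h1)
    hμ hinv
  exact res_eq_of_over_of_comm M hcomm hφ hμ hinv hext hne

/-- The fully ramified case cannot occur over an abelian chief factor of a group with abelian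
Sylow subgroups. -/
theorem not_fully_ramified_of_abSyl {H : Type u} [Group H] [Fintype H] (L M : Subgroup H)
    [hL : L.Normal] [hM : M.Normal] [Fintype L] [Fintype M] (hML : M < L)
    (hchief : ∀ M' : Subgroup H, M'.Normal → M ≤ M' → M' ≤ L → M' = M ∨ M' = L)
    (hab : ⁅L, L⁆ ≤ M) (hL' : AbSyl ↥L)
    {φ : L → ℂ} (hφ : IsIrrCharacter L φ) {μ : M → ℂ} (hμ : IsIrrCharacter M μ) (e : ℕ)
    (hres : (fun x : M => φ ⟨(x : H), hML.le x.2⟩) = (e : ℂ) • μ)
    (he : e ^ 2 = M.relIndex L) : False := by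
  classical
  obtain ⟨p, k, hp, hpk⟩ := exists_prime_pow_relIndex_of_chief L M hML hchief hab
  have : Fact p.Prime := ⟨hp⟩
  have hM'n : (M.subgroupOf L).Normal := Subgroup.normal_subgroupOf
  have : Fintype (M.subgroupOf L) := Fintype.ofFinite _
  have hcomm : IsMulCommutative (L ⧸ M.subgroupOf L) := by
    refine ⟨⟨fun a b => ?_⟩⟩
    obtain ⟨x, rfl⟩ := QuotientGroup.mk_surjective a
    obtain ⟨y, rfl⟩ := QuotientGroup.mk_surjective b
    rw [← QuotientGroup.mk_mul, ← QuotientGroup.mk_mul, QuotientGroup.eq]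
    apply Subgroup.mem_subgroupOf.mpr
    apply hab
    have h1 : (((x * y)⁻¹ * (y * x) : L) : H) = ⁅(y : H)⁻¹, (x : H)⁻¹⁆ := by
      rw [commutatorElement_def]
      simp [mul_assoc]
    rw [h1]
    exact Subgroup.commutator_mem_commutator (L.inv_mem y.2) (L.inv_mem x.2)
  have he0 : e ≠ 0 := by
    intro h
    rw [h, hpk] at he
    exact (pow_pos hp.pos k).ne' (by simpa using he.symm)
  let e' : M.subgroupOf L ≃* M := Subgroup.subgroupOfEquivOfLe hML.le
  have hμ' : IsIrrCharacter (M.subgroupOf L) (μ ∘ e') :=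
    Cfsg.Agent.Lib.Helper81.isIrrCharacter_comp_mulEquiv hμ e'
  have hres' : (fun n : M.subgroupOf L => φ n) = (e : ℂ) • (μ ∘ e') := by
    funext n
    have h1 := congrFun hres (e' n)
    have h2 : (⟨((e' n : M) : H), hML.le (e' n).2⟩ : L) = (n : L) := Subtype.ext rfl
    rw [h2] at h1
    exact h1
  have hφcl : IsClassFunction L φ := IsCharacter.isClassFunction (IsIrrCharacter.isCharacter hφ)
  have hinv : ∀ (g : L) (n : M.subgroupOf L),
      (μ ∘ e') ⟨g * n * g⁻¹, hM'n.conj_mem (n : L) n.2 g⟩ = (μ ∘ e') n := by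
    intro g n
    have h1 := congrFun hres' ⟨g * n * g⁻¹, hM'n.conj_mem (n : L) n.2 g⟩
    have h2 := congrFun hres' n
    simp only [Pi.smul_apply, smul_eq_mul] at h1 h2
    have h3 : φ (g * n * g⁻¹) = φ n := hφcl n g
    have h4 : (e : ℂ) * (μ ∘ e') ⟨g * n * g⁻¹, hM'n.conj_mem (n : L) n.2 g⟩ = (e : ℂ) * (μ ∘ e') n := by
      rw [← h1, ← h2]
      exact h3
    exact mul_left_cancel₀ (Nat.cast_ne_zero.mpr he0) h4
  have hne : classInner (fun n : M.subgroupOf L => φ n) (μ ∘ e') ≠ 0 := by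
    rw [hres', classInner_smul_left, classInner_irr_self hμ', mul_one]
    exact Nat.cast_ne_zero.mpr he0
  have hind : ∃ k : ℕ, (M.subgroupOf L).index = p ^ k := ⟨k, hpk⟩
  have key := res_eq_of_abSyl (M.subgroupOf L) hL' hcomm p hind hφ hμ' hinv hne
  have h1 := key 1
  have h2 := congrFun hres' 1
  simp only [Pi.smul_apply, smul_eq_mul] at h2
  have h3 : (μ ∘ e') 1 ≠ 0 := Cfsg.Agent.Lib.Helper80.char_one_ne_zero_of_isIrr hμ'
  have h4 : (e : ℂ) = 1 := by
    have : (e : ℂ) * (μ ∘ e') 1 = 1 * (μ ∘ e') 1 := by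
      rw [one_mul, ← h2]
      exact h1
    exact mul_right_cancel₀ h3 this
  have h5 : e = 1 := by exact_mod_cast h4
  rw [h5, one_pow] at he
  exact absurd (Subgroup.relIndex_eq_one.mp he.symm) (not_le_of_gt hML)

/-- Clifford correspondence with multiplicity one: the correspondent restricts irreducibly. -/
theorem exists_indFun_inertia_res_irr {H : Type u} [Group H] [Fintype H] (M : Subgroup H)
    [hM : M.Normal] [Fintype M] {ψ : H → ℂ} (hψ : IsIrrCharacter H ψ) {μ : M → ℂ}
    (hμ : IsIrrCharacter M μ) (hone : classInner (fun m : M => ψ m) μ = 1)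
    [Fintype (inertia M μ)] :
    ∃ η : inertia M μ → ℂ, IsIrrCharacter (inertia M μ) η ∧ indFun (inertia M μ) η = ψ ∧
      IsIrrCharacter (M.subgroupOf (inertia M μ))
        (fun n : M.subgroupOf (inertia M μ) => η n) := by
  classical
  have hμcl := IsCharacter.isClassFunction (IsIrrCharacter.isCharacter hμ)
  have hMT : M ≤ inertia M μ := le_inertia M hμcl
  have hne : classInner (fun m : M => ψ m) μ ≠ 0 := by rw [hone]; exact one_ne_zero
  obtain ⟨η, hη, hind, hmult⟩ :=
    exists_indFun_eq_of_over M (inertia M μ) hMT hμ (fun g => Iff.rfl) hψ hne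
  refine ⟨η, hη, hind, ?_⟩
  have : Fintype (M.subgroupOf (inertia M μ)) := Fintype.ofFinite _
  have hn : (M.subgroupOf (inertia M μ)).Normal := Subgroup.normal_subgroupOf
  have hθ' := isIrrCharacter_liftNT M (inertia M μ) hMT hμ
  have hinv' : ∀ t : inertia M μ,
      Cfsg.Agent.Lib.Helper75.conjFun (M.subgroupOf (inertia M μ)) t (liftNT M (inertia M μ) μ) =
        liftNT M (inertia M μ) μ :=
    conjFun_liftNT M (inertia M μ) (fun g hg => hg)
  have hci : classInner (fun n : M.subgroupOf (inertia M μ) => η n) (liftNT M (inertia M μ) μ) = 1 := by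
    rw [liftNT_eq_comp M (inertia M μ) hMT, res_eq_comp M (inertia M μ) hMT, classInner_comp_equiv,
      hmult, hone]
  have hne' : classInner (fun n : M.subgroupOf (inertia M μ) => η n) (liftNT M (inertia M μ) μ) ≠ 0 := by
    rw [hci]; exact one_ne_zero
  obtain ⟨e, -, he, hres⟩ := Cfsg.Agent.Lib.Helper75.res_eq_smul_of_invariant
    (M.subgroupOf (inertia M μ)) hη hθ' hne' hinv'
  rw [hci] at he
  rw [hres, ← he, one_smul]
  exact hθ'

/-- Transport of monomiality along induction from a subgroup. -/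
theorem monomial_of_indFun {H : Type u} [Group H] [Fintype H] (T : Subgroup H) [Fintype T]
    {η : T → ℂ} {ψ : H → ℂ} (hind : indFun T η = ψ)
    (h : ∃ (U : Subgroup T) (lam : U → ℂ), IsCharacter U lam ∧ lam 1 = 1 ∧ indFun U lam = η) :
    ∃ (U : Subgroup H) (lam : U → ℂ), IsCharacter U lam ∧ lam 1 = 1 ∧ indFun U lam = ψ := by
  obtain ⟨U, lam, hlam, h1, hU⟩ := h
  refine ⟨U.map T.subtype, mapFun T U lam, ?_, ?_, ?_⟩
  · exact Cfsg.Agent.Lib.Helper81.isCharacter_comp hlam
      (U.equivMapOfInjective T.subtype T.subtype_injective).symm.toMonoidHom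
  · unfold mapFun
    rw [map_one]
    exact h1
  · rw [← indFun_indFun, hU, hind]

/-- **Isaacs 6.23, core**: if `L ⊲ H` has abelian Sylow subgroups, `H` is solvable and
`ψ ∈ Irr(H)` restricts irreducibly to `L`, then `ψ` is monomial. -/
theorem monomial_of_res_irr_abSyl : ∀ (n : ℕ) (H : Type u) [Group H] [Fintype H]
    [Group.IsSolvable H] (L : Subgroup H) [L.Normal], Nat.card L = n → AbSyl ↥L →
    ∀ ψ : H → ℂ, IsIrrCharacter H ψ → IsIrrCharacter L (fun l : L => ψ l) →
    ∃ (U : Subgroup H) (lam : U → ℂ), IsCharacter U lam ∧ lam 1 = 1 ∧ indFun U lam = ψ := by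
  intro n
  induction n using Nat.strong_induction_on with
  | _ n ih =>
  intro H _ _ _ L hLn hcard hab ψ hψ hres
  classical
  have hψcl := IsCharacter.isClassFunction (IsIrrCharacter.isCharacter hψ)
  by_cases hL : L = ⊥
  · have h1 : ψ 1 = 1 := by
      have hc : IsMulCommutative L := by
        refine ⟨⟨fun a b => ?_⟩⟩
        have ha : a = 1 := by
          apply Subtype.ext
          have h2 : (a : H) ∈ (⊥ : Subgroup H) := hL ▸ a.2
          exact Subgroup.mem_bot.mp h2
        rw [ha, one_mul, mul_one]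
      exact Cfsg.Agent.Lib.Helper78.IsIrrCharacter.map_one_of_comm (H := ↥L) hres
    obtain ⟨U, lam, hU⟩ := monomial_of_apply_one_eq_one (IsIrrCharacter.isCharacter hψ) h1
    exact ⟨U, fun h => ((lam h : ℂˣ) : ℂ),
      IsIrrCharacter.isCharacter (Cfsg.Agent.Lib.Helper77.isIrrCharacter_of_monoidHom lam),
      by simp, hU.symm⟩
  · have hD : ⁅L, L⁆ < L := Group.IsSolvable.commutator_lt_of_ne_bot hL
    have hDn : (⁅L, L⁆).Normal := inferInstance
    obtain ⟨M, ⟨hMn, hDM, hML⟩, hMmax⟩ := Set.Finite.exists_maximal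
      (Set.toFinite {M : Subgroup H | M.Normal ∧ ⁅L, L⁆ ≤ M ∧ M < L}) ⟨⁅L, L⁆, hDn, le_rfl, hD⟩
    have hchief : ∀ M' : Subgroup H, M'.Normal → M ≤ M' → M' ≤ L → M' = M ∨ M' = L := by
      intro M' hMn' hMM' hM'L
      rcases eq_or_lt_of_le hM'L with h | h
      · right; exact h
      · left; exact le_antisymm (hMmax ⟨hMn', hDM.trans hMM', h⟩ hMM') hMM'
    have hinv : ∀ (g : H) (l : L),
        (fun l : L => ψ l) ⟨g * l * g⁻¹, hLn.conj_mem (l : H) l.2 g⟩ = (fun l : L => ψ l) l :=
      fun g l => hψcl (l : H) g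
    have : Fintype L := Fintype.ofFinite L
    have : Fintype M := Fintype.ofFinite M
    have hcardM : Nat.card M < n := by
      rw [← hcard]
      exact lt_of_le_of_ne (Subgroup.card_le_of_le hML.le)
        (fun h => hML.ne (Subgroup.eq_of_le_of_card_ge hML.le h.ge))
    have habM : AbSyl ↥M :=
      AbSyl.of_injective hab (Subgroup.inclusion hML.le) (Subgroup.inclusion_injective _)
    rcases Cfsg.Agent.S0857.result L M hML hchief hDM (fun l : L => ψ l) hres hinv with
      h | ⟨μ, e, hμ, he, he2⟩ | ⟨F, hF, hFc, hFs⟩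
    · exact ih (Nat.card M) hcardM H M rfl habM ψ hψ h
    · exact absurd (not_fully_ramified_of_abSyl L M hML hchief hDM hab hres hμ e he he2) id
    · have hFs' : (fun x : M => ψ x) = ∑ φ ∈ F, φ := hFs
      have hFne : F.Nonempty := by
        rw [← Finset.card_pos, hFc]
        exact Nat.pos_of_ne_zero (Subgroup.index_ne_zero_of_finite : (M.subgroupOf L).index ≠ 0)
      obtain ⟨μ₁, hμ₁F⟩ := hFne
      have hμ₁ := hF μ₁ hμ₁F
      have hone : classInner (fun x : M => ψ x) μ₁ = 1 := by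
        rw [hFs', classInner_sum_left, Finset.sum_eq_single μ₁]
        · exact classInner_irr_self hμ₁
        · intro φ' hφ'F hne'
          exact classInner_irr_ne (hF φ' hφ'F) hμ₁ hne'
        · intro h
          exact absurd hμ₁F h
      have : Fintype (inertia M μ₁) := Fintype.ofFinite _
      obtain ⟨η, hη, hind, hirr⟩ := exists_indFun_inertia_res_irr M hψ hμ₁ hone
      have hμ₁cl := IsCharacter.isClassFunction (IsIrrCharacter.isCharacter hμ₁)
      have hMT : M ≤ inertia M μ₁ := le_inertia M hμ₁cl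
      have hn : (M.subgroupOf (inertia M μ₁)).Normal := Subgroup.normal_subgroupOf
      have hcard' : Nat.card (M.subgroupOf (inertia M μ₁)) = Nat.card M :=
        Nat.card_congr (Subgroup.subgroupOfEquivOfLe hMT).toEquiv
      have hab' : AbSyl ↥(M.subgroupOf (inertia M μ₁)) :=
        AbSyl.of_injective habM (Subgroup.subgroupOfEquivOfLe hMT).toMonoidHom
          (Subgroup.subgroupOfEquivOfLe hMT).injective
      exact monomial_of_indFun (inertia M μ₁) hind
        (ih (Nat.card M) hcardM (inertia M μ₁) (M.subgroupOf (inertia M μ₁)) hcard' hab' η hη hirr)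

end Cfsg.Agent.Lib.Helper15
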