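import Mathlib
import Cfsg.Agent.Lib.Helper64.MinNormal
import Cfsg.Agent.Lib.Helper76.Huppert
import Cfsg.Agent.Lib.Helper75.RamDvd
import Cfsg.Agent.Lib.Helper75.Clifford2
import Cfsg.Agent.Lib.Helper15.GallagherExt
import Cfsg.Agent.Lib.Helper15.MGroup

/-!
# Isaacs, Lemma 11.32 (helper15, S0890)

Let `L ≤ H < G`, `L ⊴ G`, `H` maximal, `G / L` solvable, `ϑ ∈ Irr(H)` with `ϑ_L` irreducible and
`ϑ^G = χ` irreducible.  Then `χ_M` is not homogeneous for some `M ⊴ G` containing `L`.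

* `classInner_res_indFun_of_sup_eq_top`: Mackey–Frobenius: `[χ_N, Ψ_N] = [ϑ_{H∩N}, Ψ_{H∩N}]` when
  `H N = G`.
* `eq_smul_of_classInner_of_apply_one`, `coset_sum_global`, `exists_chief_over`,
  `inf_centralizer_ne_bot_of_isPGroup`, `commutator_mem_of_chief_of_pgroups`: tools.
* `exists_not_homogeneous_of_core`: the lemma when `L = core_G(H)`.
-/

set_option autoImplicit false
set_option linter.unusedSectionVars false
set_option linter.style.haveILetI false

namespace Cfsg.Agent.Lib.Helper15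

open Cfsg
open scoped ComplexConjugate
open Cfsg.Agent.Lib.Helper78

universe u

section MF

variable {G : Type u} [Group G] [Fintype G]

/-- A sum over a subgroup `N` of a function vanishing off `H` is the sum over `D = H ⊓ N`. -/
theorem sum_subgroup_eq_sum_inf (H N D : Subgroup G) [Fintype N] [Fintype D] (hD : H ⊓ N = D)
    (F : G → ℂ) (hF : ∀ g, g ∉ H → F g = 0) :
    ∑ n : N, F n = ∑ d : D, F d := by
  classical
  subst hD
  have h1 : ∑ n : N, F n = ∑ g ∈ Finset.univ.filter (fun g : G => g ∈ N), F g := by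
    rw [Finset.sum_subtype (Finset.univ.filter (fun g : G => g ∈ N)) (p := fun g => g ∈ N)
      (fun x => by simp) F]
  have h2 : ∑ d : (H ⊓ N : Subgroup G), F d =
      ∑ g ∈ Finset.univ.filter (fun g : G => g ∈ H ⊓ N), F g := by
    rw [Finset.sum_subtype (Finset.univ.filter (fun g : G => g ∈ H ⊓ N))
      (p := fun g => g ∈ H ⊓ N) (fun x => by simp) F]
  rw [h1, h2]
  symm
  apply Finset.sum_subset
  · intro g hg
    rw [Finset.mem_filter] at hg ⊢
    exact ⟨hg.1, hg.2.2⟩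
  · intro g hg hg'
    rw [Finset.mem_filter] at hg hg'
    apply hF
    intro hH
    exact hg' ⟨Finset.mem_univ _, hH, hg.2⟩

/-- **Mackey–Frobenius**: for `N ⊴ G` with `H N = G`, the inner product on `N` of the restriction of
`ϑ^G` with the restriction of a class function `Ψ` of `G` is the inner product on `H ⊓ N` of the
restrictions of `ϑ` and `Ψ`. -/
theorem classInner_res_indFun_of_sup_eq_top (H N D : Subgroup G) [hN : N.Normal] [Fintype H]
    [Fintype N] [Fintype D] (hsup : H ⊔ N = ⊤) (hD : H ⊓ N = D) (ϑ : H → ℂ) (Ψ : G → ℂ)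
    (hΨ : IsClassFunction G Ψ) :
    classInner (fun n : N => indFun H ϑ n) (fun n : N => Ψ n) =
      classInner (fun d : D => ϑ ⟨d, (hD.symm.le d.2).1⟩) (fun d : D => Ψ d) := by
  classical
  set F : G → ℂ := fun g => extendByZero H ϑ g * conj (Ψ g) with hF
  have hFH : ∀ g, g ∉ H → F g = 0 := by
    intro g hg
    simp only [hF]
    rw [Cfsg.Agent.Lib.Helper75.extendByZero_of_not_mem H ϑ hg, zero_mul]
  have hconj : ∀ x : G, ∑ n : N, F (x⁻¹ * n * x) = ∑ n : N, F n := by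
    intro x
    have := Equiv.sum_comp (MulAut.conjNormal (H := N) x⁻¹).toEquiv (fun n : N => F n)
    rw [← this]
    apply Finset.sum_congr rfl
    intro n _
    congr 1
    simp [MulAut.conjNormal_apply]
  have hL : ∑ n : N, indFun H ϑ n * conj (Ψ n) =
      (Nat.card H : ℂ)⁻¹ * ((Nat.card G : ℂ) * ∑ n : N, F n) := by
    have h1 : ∀ n : N, indFun H ϑ n * conj (Ψ n) =
        (Nat.card H : ℂ)⁻¹ * ∑ x : G, F (x⁻¹ * n * x) := by
      intro n
      unfold indFun
      rw [mul_assoc, Finset.sum_mul]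
      congr 1
      apply Finset.sum_congr rfl
      intro x _
      simp only [hF]
      have := hΨ (n : G) x⁻¹
      rw [inv_inv] at this
      rw [this]
    rw [Finset.sum_congr rfl (fun n _ => h1 n), ← Finset.mul_sum, Finset.sum_comm]
    congr 1
    rw [Finset.sum_congr rfl (fun x _ => hconj x), Finset.sum_const, Finset.card_univ,
      nsmul_eq_mul, Nat.card_eq_fintype_card]
  have hR : ∑ n : N, F n = ∑ d : D, ϑ ⟨d, (hD.symm.le d.2).1⟩ * conj (Ψ d) := by
    rw [sum_subgroup_eq_sum_inf H N D hD F hFH]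
    apply Finset.sum_congr rfl
    intro d _
    simp only [hF]
    rw [Cfsg.Agent.Lib.Helper75.extendByZero_of_mem H ϑ (hD.symm.le d.2).1]
  have hcard : (Nat.card G : ℂ) * (Nat.card D : ℂ) = (Nat.card N : ℂ) * (Nat.card H : ℂ) := by
    have h := Cfsg.Agent.Lib.Helper64.card_sup_mul_card_inf N H
    rw [sup_comm, hsup, inf_comm, hD, Subgroup.card_top] at h
    exact_mod_cast h
  have hN0 : (Nat.card N : ℂ) ≠ 0 := by exact_mod_cast Nat.card_pos.ne'
  have hH0 : (Nat.card H : ℂ) ≠ 0 := by exact_mod_cast Nat.card_pos.ne'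
  have hD0 : (Nat.card D : ℂ) ≠ 0 := by exact_mod_cast Nat.card_pos.ne'
  unfold classInner
  rw [hL, hR]
  field_simp
  rw [mul_comm (Nat.card G : ℂ), mul_assoc, hcard]
  ring

end MF


section MultDeg

variable {A : Type u} [Group A] [Fintype A]

/-- A character containing the irreducible `η` with multiplicity `m` and of degree `m η(1)` is
`m η`. -/
theorem eq_smul_of_classInner_of_apply_one {Ξ η : A → ℂ} (hΞ : IsCharacter A Ξ)
    (hη : IsIrrCharacter A η) (m : ℕ) (hm : classInner Ξ η = m) (h1 : Ξ 1 = m * η 1) :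
    Ξ = (m : ℂ) • η := by
  classical
  obtain ⟨c, hc⟩ := (isCharacter_iff_exists_nat_combination Ξ).mp hΞ
  set η' : IrrCharacter A := ⟨η, hη⟩ with hη'
  have hcη : c η' = m := by
    have h := classInner_nat_combination (fun ψ => (c ψ : ℂ)) η'
    rw [← hc] at h
    have h2 : classInner Ξ (η' : A → ℂ) = (m : ℂ) := hm
    rw [h2] at h
    exact_mod_cast h.symm
  have hdeg : ∑ ψ : IrrCharacter A, c ψ * charDegree (ψ : A → ℂ) = m * charDegree η := by
    have h := congrFun hc 1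
    rw [Finset.sum_apply] at h
    simp only [Pi.smul_apply, smul_eq_mul] at h
    have hη1 : η 1 = (charDegree η : ℂ) := Cfsg.Agent.Lib.Helper79.irr_apply_one_eq_charDegree η'
    rw [h1, hη1] at h
    have h3 : ∀ ψ : IrrCharacter A, (c ψ : ℂ) * (ψ : A → ℂ) 1 =
        ((c ψ * charDegree (ψ : A → ℂ) : ℕ) : ℂ) := by
      intro ψ
      rw [Cfsg.Agent.Lib.Helper79.irr_apply_one_eq_charDegree ψ]
      push_cast
      ring
    rw [Finset.sum_congr rfl (fun ψ _ => h3 ψ)] at h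
    have h4 : ((m * charDegree η : ℕ) : ℂ) = ((∑ ψ : IrrCharacter A,
        c ψ * charDegree (ψ : A → ℂ) : ℕ) : ℂ) := by
      rw [Nat.cast_mul, h, Nat.cast_sum]
    exact_mod_cast h4.symm
  have hzero : ∀ ψ : IrrCharacter A, ψ ≠ η' → c ψ = 0 := by
    intro ψ hψ
    by_contra hne
    have hpos : 0 < c ψ * charDegree (ψ : A → ℂ) :=
      Nat.mul_pos (Nat.pos_of_ne_zero hne) (Cfsg.Agent.Lib.Helper79.irr_charDegree_pos ψ)
    have hsplit := Finset.add_sum_erase Finset.univ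
      (fun ψ : IrrCharacter A => c ψ * charDegree (ψ : A → ℂ)) (Finset.mem_univ η')
    have hle : c ψ * charDegree (ψ : A → ℂ) ≤
        ∑ x ∈ Finset.univ.erase η', c x * charDegree (x : A → ℂ) :=
      Finset.single_le_sum (f := fun x : IrrCharacter A => c x * charDegree (x : A → ℂ))
        (fun _ _ => Nat.zero_le _) (Finset.mem_erase.mpr ⟨hψ, Finset.mem_univ _⟩)
    rw [hdeg, hcη] at hsplit
    have : (η' : A → ℂ) = η := rfl
    rw [this] at hsplit
    omega
  rw [hc]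
  rw [Finset.sum_eq_single η']
  · rw [hcη]
  · intro ψ _ hψ
    rw [hzero ψ hψ]
    simp
  · intro h
    exact absurd (Finset.mem_univ _) h

end MultDeg

section CS

variable {G : Type u} [Group G] [Fintype G]

/-- Coset sums (Isaacs 8.14) for subgroups `A ≤ B` of `G` with `A ⊴ B`, `B / A` abelian. -/
theorem coset_sum_global (A B : Subgroup G) [Fintype A] (hAB : A ≤ B)
    (hnorm : ∀ b ∈ B, ∀ a ∈ A, b * a * b⁻¹ ∈ A)
    (hab : ∀ x ∈ B, ∀ y ∈ B, x * y * x⁻¹ * y⁻¹ ∈ A) (η : B → ℂ) (hη : IsIrrCharacter B η)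
    (hres : IsIrrCharacter A (fun a : A => η ⟨a, hAB a.2⟩)) (b : G) (hb : b ∈ B) :
    ∑ a : A, η ⟨a * b, B.mul_mem (hAB a.2) hb⟩ * conj (η ⟨a * b, B.mul_mem (hAB a.2) hb⟩) =
      (Nat.card A : ℂ) := by
  classical
  have : Fintype B := Fintype.ofFinite B
  have hN' : (A.subgroupOf B).Normal := by
    refine ⟨fun n hn g => ?_⟩
    rw [Subgroup.mem_subgroupOf] at hn ⊢
    exact hnorm g g.2 n hn
  have : Fintype (A.subgroupOf B) := Fintype.ofFinite _
  have hres' : IsIrrCharacter (A.subgroupOf B) (fun n : A.subgroupOf B => η n) :=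
    Cfsg.Agent.Lib.Helper81.isIrrCharacter_comp_mulEquiv hres (Subgroup.subgroupOfEquivOfLe hAB)
  have h := coset_sum (A.subgroupOf B)
    (fun x y => Subgroup.mem_subgroupOf.mpr (hab x x.2 y y.2)) η hη hres' ⟨b, hb⟩
  rw [Nat.card_congr (Subgroup.subgroupOfEquivOfLe hAB).toEquiv] at h
  rw [← h]
  symm
  apply Fintype.sum_equiv (Subgroup.subgroupOfEquivOfLe hAB).toEquiv
  intro n
  rfl

end CS


section Chief

variable {G : Type u} [Group G] [Finite G]

/-- A chief factor `M / L` over a proper normal subgroup `L` with solvable quotient is abelian. -/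
theorem exists_chief_over (L : Subgroup G) [hL : L.Normal] (hsolv : Group.IsSolvable (G ⧸ L))
    (hLtop : L ≠ ⊤) :
    ∃ M : Subgroup G, M.Normal ∧ L < M ∧
      (∀ M' : Subgroup G, M'.Normal → L ≤ M' → M' ≤ M → M' = L ∨ M' = M) ∧ ⁅M, M⁆ ≤ L := by
  classical
  obtain ⟨M, ⟨hMn, hLM⟩, hMmin⟩ := Set.Finite.exists_minimal
    (Set.toFinite {M : Subgroup G | M.Normal ∧ L < M})
    ⟨⊤, inferInstance, lt_top_iff_ne_top.mpr hLtop⟩
  have hchief : ∀ M' : Subgroup G, M'.Normal → L ≤ M' → M' ≤ M → M' = L ∨ M' = M := by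
    intro M' hM'n hLM' hM'M
    rcases eq_or_lt_of_le hLM' with h | h
    · left; exact h.symm
    · right; exact le_antisymm hM'M (hMmin ⟨hM'n, h⟩ hM'M)
  refine ⟨M, hMn, hLM, hchief, ?_⟩
  set π := QuotientGroup.mk' L with hπ
  obtain ⟨m, hmM, hmL⟩ := SetLike.exists_of_lt hLM
  have hMbar : M.map π ≠ ⊥ := by
    intro h
    have h1 : π m ∈ M.map π := Subgroup.mem_map_of_mem π hmM
    rw [h, Subgroup.mem_bot, hπ, QuotientGroup.mk'_apply, QuotientGroup.eq_one_iff] at h1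
    exact hmL h1
  have hlt : ⁅M.map π, M.map π⁆ < M.map π := Group.IsSolvable.commutator_lt_of_ne_bot hMbar
  rw [← Subgroup.map_commutator] at hlt
  have hXn : (⁅M, M⁆ ⊔ L).Normal := inferInstance
  have hXM : ⁅M, M⁆ ⊔ L ≤ M := sup_le (Subgroup.commutator_le_left M M) hLM.le
  rcases hchief _ hXn le_sup_right hXM with h | h
  · rw [← h]; exact le_sup_left
  · exfalso
    have h2 : (⁅M, M⁆ ⊔ L).map π = (⁅M, M⁆).map π := by
      rw [Subgroup.map_sup, hπ, QuotientGroup.map_mk'_self, sup_bot_eq]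
    rw [h] at h2
    rw [h2] at hlt
    exact lt_irrefl _ hlt

/-- quotients of solvable quotients -/
theorem isSolvable_quotient_of_le (L M : Subgroup G) [hL : L.Normal] [hM : M.Normal] (hLM : L ≤ M)
    (hsolv : Group.IsSolvable (G ⧸ L)) : Group.IsSolvable (G ⧸ M) := by
  have hsurj : Function.Surjective (QuotientGroup.map L M (MonoidHom.id G) hLM) := by
    intro x
    obtain ⟨g, rfl⟩ := QuotientGroup.mk_surjective x
    exact ⟨(g : G ⧸ L), rfl⟩
  exact Group.isSolvable_of_surjective hsurj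

end Chief

section FP

variable {Γ : Type u} [Group Γ] [Finite Γ]

/-- A normal `p`-subgroup `V ≠ 1` has nontrivial fixed points under a `p`-subgroup `P`. -/
theorem inf_centralizer_ne_bot_of_isPGroup (p : ℕ) [Fact p.Prime] (P V : Subgroup Γ)
    [hV : V.Normal] (hP : IsPGroup p P) (hVp : IsPGroup p V) (hV1 : V ≠ ⊥) :
    V ⊓ Subgroup.centralizer (P : Set Γ) ≠ ⊥ := by
  classical
  let _ : MulAction P V :=
    MulAction.compHom V ((MulAut.conjNormal (H := V)).comp P.subtype)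
  have hsmul : ∀ (g : P) (v : V), ((g • v : V) : Γ) = g * v * g⁻¹ := fun g v => rfl
  have hnt : Nontrivial V := (Subgroup.nontrivial_iff_ne_bot V).mpr hV1
  obtain ⟨n, hn0, hn⟩ := hVp.nontrivial_iff_card.mp hnt
  have hdvd : p ∣ Nat.card V := by
    rw [hn]
    exact dvd_pow_self p hn0.ne'
  have h1 : (1 : V) ∈ MulAction.fixedPoints P V := by
    intro g
    apply Subtype.ext
    rw [hsmul]
    simp
  obtain ⟨b, hb, hne⟩ := hP.exists_fixed_point_of_prime_dvd_card_of_fixed_point V hdvd h1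
  intro hbot
  have hmem : (b : Γ) ∈ V ⊓ Subgroup.centralizer (P : Set Γ) := by
    refine ⟨b.2, ?_⟩
    show (b : Γ) ∈ Subgroup.centralizer (P : Set Γ)
    rw [Subgroup.mem_centralizer_iff]
    intro g hg
    have := congrArg Subtype.val (hb ⟨g, hg⟩)
    rw [hsmul] at this
    have h2 : g * (b : Γ) * g⁻¹ = (b : Γ) := this
    calc g * (b : Γ) = g * (b : Γ) * g⁻¹ * g := by group
      _ = (b : Γ) * g := by rw [h2]
  rw [hbot, Subgroup.mem_bot] at hmem
  exact hne (Subtype.ext hmem.symm)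

end FP


section FP2

variable {G : Type u} [Group G] [Finite G]

/-- `k ^ |K : M| ∈ M` for `M ⊴ K`. -/
theorem pow_relIndex_mem (M K : Subgroup G) [hM : M.Normal] {k : G} (hk : k ∈ K) :
    k ^ M.relIndex K ∈ M := by
  have h := Subgroup.pow_index_mem (M.subgroupOf K) (⟨k, hk⟩ : K)
  rw [Subgroup.mem_subgroupOf] at h
  exact h

/-- A normal subgroup `K` with `K / L` a `p`-group centralizes a `p`-chief factor `M / L`. -/
theorem commutator_mem_of_chief_of_pgroups (p : ℕ) [Fact p.Prime] (L M K : Subgroup G)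
    [hL : L.Normal] [hM : M.Normal] [hK : K.Normal] (hLM : L < M) (hMK : M ≤ K)
    (hchief : ∀ M' : Subgroup G, M'.Normal → L ≤ M' → M' ≤ M → M' = L ∨ M' = M) (a b : ℕ)
    (ha : L.relIndex M = p ^ a) (hb : M.relIndex K = p ^ b) :
    ∀ k ∈ K, ∀ m ∈ M, k * m * k⁻¹ * m⁻¹ ∈ L := by
  classical
  set π := QuotientGroup.mk' L with hπ
  have hπs : Function.Surjective π := QuotientGroup.mk'_surjective L
  have hPn : (K.map π).Normal := Subgroup.Normal.map hK π hπs
  have hVn : (M.map π).Normal := Subgroup.Normal.map hM π hπs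
  have hP : IsPGroup p (K.map π) := by
    intro g
    obtain ⟨k, hk, hkg⟩ := g.2
    refine ⟨b + a, ?_⟩
    apply Subtype.ext
    rw [Subgroup.coe_pow, Subgroup.coe_one, ← hkg, ← map_pow, hπ, QuotientGroup.mk'_apply,
      QuotientGroup.eq_one_iff, pow_add, pow_mul, ← hb, ← ha]
    exact pow_relIndex_mem L M (pow_relIndex_mem M K hk)
  have hVP : M.map π ≤ K.map π := Subgroup.map_mono hMK
  have hVp : IsPGroup p (M.map π) := hP.to_le hVP
  obtain ⟨m₀, hm₀M, hm₀L⟩ := SetLike.exists_of_lt hLM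
  have hV1 : M.map π ≠ ⊥ := by
    intro h
    have h1 : π m₀ ∈ M.map π := Subgroup.mem_map_of_mem π hm₀M
    rw [h, Subgroup.mem_bot, hπ, QuotientGroup.mk'_apply, QuotientGroup.eq_one_iff] at h1
    exact hm₀L h1
  have hZ := inf_centralizer_ne_bot_of_isPGroup p (K.map π) (M.map π) hP hVp hV1
  set Z := M.map π ⊓ Subgroup.centralizer ((K.map π : Subgroup (G ⧸ L)) : Set (G ⧸ L)) with hZdef
  have hZn : Z.Normal := inferInstance
  have hM₁n : (Z.comap π).Normal := Subgroup.Normal.comap hZn π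
  have hLM₁ : L ≤ Z.comap π := by
    intro x hx
    rw [Subgroup.mem_comap, hπ, QuotientGroup.mk'_apply, (QuotientGroup.eq_one_iff x).2 hx]
    exact Z.one_mem
  have hM₁M : Z.comap π ≤ M := by
    intro x hx
    rw [Subgroup.mem_comap] at hx
    obtain ⟨m, hm, hmx⟩ := hx.1
    have h1 : m⁻¹ * x ∈ L := by
      rw [← QuotientGroup.eq_one_iff, QuotientGroup.mk_mul, QuotientGroup.mk_inv]
      have h2 : (m : G ⧸ L) = (x : G ⧸ L) := hmx
      rw [h2, inv_mul_cancel]
    have : x = m * (m⁻¹ * x) := by group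
    rw [this]
    exact M.mul_mem hm (hLM.le h1)
  have hM₁ : Z.comap π = M := by
    rcases hchief _ hM₁n hLM₁ hM₁M with h | h
    · exfalso
      apply hZ
      have h3 : (Z.comap π).map π = Z := Subgroup.map_comap_eq_self_of_surjective hπs Z
      rw [← h3, h, hπ, QuotientGroup.map_mk'_self]
    · exact h
  intro k hk m hm
  have hmZ : π m ∈ Z := by
    have : m ∈ Z.comap π := by rw [hM₁]; exact hm
    exact this
  have hcomm := Subgroup.mem_centralizer_iff.mp hmZ.2 (π k) (Subgroup.mem_map_of_mem π hk)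
  rw [← QuotientGroup.eq_one_iff]
  have h4 : ((k * m * k⁻¹ * m⁻¹ : G) : G ⧸ L) = π k * π m * (π k)⁻¹ * (π m)⁻¹ := by
    simp [hπ]
  rw [h4, hcomm]
  group

end FP2


section StepA

variable {G : Type u} [Group G] [Fintype G]

/-- Step A: if `χ = ϑ^G`, `M ⊴ G` with `H M = G`, `H ∩ M = L`, `ϑ_L = φ ∈ Irr(L)` and the
restrictions of `χ` to `L` and `M` are homogeneous, then `χ_M = e ψ` with `e² = |M : L|`, and
`χ(1) = e² ϑ(1)`. -/
theorem ramified_of_homogeneous (L H M : Subgroup G) [hM : M.Normal] [Fintype L]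
    [Fintype M] (hLH : L ≤ H) (hsup : H ⊔ M = ⊤) (hinf : H ⊓ M = L) (ϑ : H → ℂ)
    (hϑ : IsIrrCharacter H ϑ)
    (hϑL : IsIrrCharacter L (fun x : L => ϑ ⟨(x : G), hLH x.2⟩))
    (ψ : M → ℂ) (e : ℕ) (hψ : IsIrrCharacter M ψ)
    (hM' : (fun m : M => indFun H ϑ m) = (e : ℂ) • ψ)
    (φ' : L → ℂ) (eL : ℕ) (hφ' : IsIrrCharacter L φ')
    (hL' : (fun l : L => indFun H ϑ l) = (eL : ℂ) • φ') :
    e * e = L.relIndex M ∧ indFun H ϑ 1 = ((e * e : ℕ) : ℂ) * ϑ 1 ∧ e ≠ 0 := by
  classical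
  have : Fintype H := Fintype.ofFinite H
  set χ := indFun H ϑ with hχ
  have hχcl : IsClassFunction G χ := Cfsg.Agent.Lib.Helper75.isClassFunction_indFun H ϑ
  have hϑ1 : ϑ 1 ≠ 0 := Cfsg.Agent.Lib.Helper80.char_one_ne_zero_of_isIrr hϑ
  have hidx : (H.index : ℂ) ≠ 0 := by
    exact_mod_cast (Subgroup.index_ne_zero_of_finite (H := H))
  have hχ1 : χ 1 = (H.index : ℂ) * ϑ 1 := Cfsg.Agent.Lib.Helper75.indFun_one H ϑ
  have hχ1ne : χ 1 ≠ 0 := by rw [hχ1]; exact mul_ne_zero hidx hϑ1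
  have he0 : e ≠ 0 := by
    rintro rfl
    have := congrFun hM' 1
    simp only [Nat.cast_zero, zero_smul, Pi.zero_apply, Subgroup.coe_one] at this
    exact hχ1ne this
  -- Mackey-Frobenius
  have hMF := classInner_res_indFun_of_sup_eq_top H M L hsup hinf ϑ χ hχcl
  have hLHS : classInner (fun n : M => indFun H ϑ n) (fun n : M => χ n) = ((e * e : ℕ) : ℂ) := by
    rw [← hχ, hM', classInner_smul_left, classInner_smul_right, classInner_irr_self hψ,
      Complex.conj_natCast]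
    push_cast
    ring
  have hRHS : classInner (fun d : L => ϑ ⟨d, (hinf.symm.le d.2).1⟩) (fun d : L => χ d) =
      (eL : ℂ) * (if (fun x : L => ϑ ⟨(x : G), hLH x.2⟩) = φ' then 1 else 0) := by
    rw [hL', classInner_smul_right, Complex.conj_natCast]
    congr 1
    exact classInner_irr hϑL hφ'
  rw [hLHS, hRHS] at hMF
  have hφeq : (fun x : L => ϑ ⟨(x : G), hLH x.2⟩) = φ' := by
    by_contra hne
    rw [if_neg hne, mul_zero] at hMF
    have : e * e = 0 := by exact_mod_cast hMF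
    rcases Nat.mul_eq_zero.mp this with h | h <;> exact he0 h
  rw [if_pos hφeq, mul_one] at hMF
  have heL : e * e = eL := by exact_mod_cast hMF
  -- degrees
  have hχ1' : χ 1 = (eL : ℂ) * ϑ 1 := by
    have h := congrFun hL' 1
    simp only [Pi.smul_apply, smul_eq_mul, Subgroup.coe_one] at h
    rw [h, ← hφeq]
    rfl
  have hidxeq : H.index = L.relIndex M := by
    have h := Cfsg.Agent.Lib.Helper64.card_sup_mul_card_inf M H
    rw [sup_comm, hsup, inf_comm, hinf, Subgroup.card_top] at h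
    have h1 := H.card_mul_index
    have h2 : L.relIndex M * Nat.card L = Nat.card M := by
      have := Subgroup.relIndex_mul_relIndex ⊥ L M bot_le (hinf ▸ inf_le_right)
      rw [Subgroup.relIndex_bot_left, Subgroup.relIndex_bot_left] at this
      rw [mul_comm]; exact this
    have hLpos : 0 < Nat.card L := Nat.card_pos
    have hHpos : 0 < Nat.card H := Nat.card_pos
    have h3 : Nat.card H * H.index * Nat.card L = L.relIndex M * Nat.card L * Nat.card H := by
      rw [h1, h, h2]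
    have h4 : H.index * (Nat.card H * Nat.card L) = L.relIndex M * (Nat.card H * Nat.card L) := by
      calc H.index * (Nat.card H * Nat.card L) = Nat.card H * H.index * Nat.card L := by ring
        _ = L.relIndex M * Nat.card L * Nat.card H := h3
        _ = L.relIndex M * (Nat.card H * Nat.card L) := by ring
    exact Nat.eq_of_mul_eq_mul_right (Nat.mul_pos hHpos hLpos) h4
  have heLidx : eL = H.index := by
    have h5 : (eL : ℂ) * ϑ 1 = (H.index : ℂ) * ϑ 1 := by rw [← hχ1', hχ1]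
    have h6 := mul_right_cancel₀ hϑ1 h5
    exact_mod_cast h6
  refine ⟨by rw [heL, heLidx, hidxeq], ?_, he0⟩
  rw [heL]
  exact hχ1'

end StepA


section StepB

variable {G : Type u} [Group G] [Fintype G]

/-- real form of a coset sum -/
theorem sum_normSq_of_sum_mul_conj {ι : Type*} [Fintype ι] (z : ι → ℂ) (c : ℝ)
    (h : ∑ i, z i * conj (z i) = (c : ℂ)) : ∑ i, Complex.normSq (z i) = c := by
  have h1 : ∀ i, z i * conj (z i) = ((Complex.normSq (z i) : ℝ) : ℂ) := fun i =>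
    Complex.mul_conj (z i)
  rw [Finset.sum_congr rfl (fun i _ => h1 i), ← Complex.ofReal_sum] at h
  exact_mod_cast h

/-- Step B: the two coset sums. -/
theorem coset_sums_of_homogeneous (L H M K K₀ : Subgroup G) [hL : L.Normal] [hM : M.Normal]
    [hK : K.Normal] [Fintype L] [Fintype M] (hLH : L ≤ H) (hMK : M ≤ K)
    (hsup : H ⊔ K = ⊤) (hinf : H ⊓ K = K₀) (hHM : H ⊓ M = L)
    (habK : ∀ x ∈ K, ∀ y ∈ K, x * y * x⁻¹ * y⁻¹ ∈ M)
    (ϑ : H → ℂ) (hϑ : IsIrrCharacter H ϑ)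
    (hϑL : IsIrrCharacter L (fun x : L => ϑ ⟨(x : G), hLH x.2⟩))
    (hχ : IsIrrCharacter G (indFun H ϑ))
    (ψ : M → ℂ) (e : ℕ) (hψ : IsIrrCharacter M ψ)
    (hM' : (fun m : M => indFun H ϑ m) = (e : ℂ) • ψ)
    (ξ : K → ℂ) (e' : ℕ) (hξ : IsIrrCharacter K ξ)
    (hK' : (fun k : K => indFun H ϑ k) = (e' : ℂ) • ξ)
    (he0 : e ≠ 0) (hχ1 : indFun H ϑ 1 = ((e * e : ℕ) : ℂ) * ϑ 1)
    (hcop : Nat.Coprime e (M.relIndex K)) (k : G) (hk : k ∈ K₀) :
    (∑ m : M, Complex.normSq (indFun H ϑ (m * k)) = ((e * e : ℕ) : ℝ) * Nat.card M) ∧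
      (∑ l : L, Complex.normSq (indFun H ϑ (l * k)) =
        ((e * e * (e * e) : ℕ) : ℝ) * Nat.card L) := by
  classical
  have : Fintype H := Fintype.ofFinite H
  have : Fintype K := Fintype.ofFinite K
  have : Fintype K₀ := Fintype.ofFinite K₀
  have : Fintype (M.subgroupOf K) := Fintype.ofFinite _
  set χ := indFun H ϑ with hχdef
  have hχc : IsCharacter G χ := IsIrrCharacter.isCharacter hχ
  have hχcl : IsClassFunction G χ := IsCharacter.isClassFunction hχc
  have hχM : ∀ m : M, χ m = (e : ℂ) * ψ m := fun m => congrFun hM' m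
  have hχK : ∀ k : K, χ k = (e' : ℂ) * ξ k := fun k => congrFun hK' k
  have heC : (e : ℂ) ≠ 0 := by exact_mod_cast he0
  have hϑ1 : ϑ 1 ≠ 0 := Cfsg.Agent.Lib.Helper80.char_one_ne_zero_of_isIrr hϑ
  have hχ1ne : χ 1 ≠ 0 := by
    rw [hχ1]
    refine mul_ne_zero ?_ hϑ1
    exact_mod_cast Nat.mul_ne_zero he0 he0
  have he'0 : e' ≠ 0 := by
    rintro rfl
    have := hχK 1
    simp only [Nat.cast_zero, zero_mul, Subgroup.coe_one] at this
    exact hχ1ne this
  have he'C : (e' : ℂ) ≠ 0 := by exact_mod_cast he'0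
  have hK₀H : K₀ ≤ H := hinf ▸ inf_le_left
  have hK₀K : K₀ ≤ K := hinf ▸ inf_le_right
  have hLM : L ≤ M := hHM ▸ inf_le_right
  have hLK₀ : L ≤ K₀ := by
    rw [← hinf]
    exact le_inf hLH (hLM.trans hMK)
  -- Step 1: `e = e' f`
  have hM'n : (M.subgroupOf K).Normal := Subgroup.normal_subgroupOf
  set Ξ : M.subgroupOf K → ℂ := fun x => ξ x with hΞdef
  have hΞ : IsCharacter (M.subgroupOf K) Ξ :=
    Cfsg.Agent.Lib.Helper75.isCharacter_res (M.subgroupOf K) (IsIrrCharacter.isCharacter hξ)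
  set ψ' : M.subgroupOf K → ℂ := Cfsg.Agent.Lib.Helper75.liftNT M K ψ with hψ'def
  have hψ' : IsIrrCharacter (M.subgroupOf K) ψ' :=
    Cfsg.Agent.Lib.Helper75.isIrrCharacter_liftNT M K hMK hψ
  obtain ⟨f, hf⟩ := IsCharacter.exists_nat_classInner hΞ ⟨ψ', hψ'⟩
  have hrel : ∀ x : M.subgroupOf K, (e' : ℂ) * Ξ x = (e : ℂ) * ψ' x := by
    intro x
    have h1 := hχK (x : K)
    have h2 := hχM ⟨((x : K) : G), Subgroup.mem_subgroupOf.mp x.2⟩
    rw [← h1]
    exact h2
  have hrel' : (e' : ℂ) • Ξ = (e : ℂ) • ψ' := funext hrel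
  have hef : e = e' * f := by
    have h1 : classInner ((e' : ℂ) • Ξ) ψ' = (e' : ℂ) * f := by
      rw [classInner_smul_left]
      congr 1
    rw [hrel', classInner_smul_left, classInner_irr_self hψ', mul_one] at h1
    exact_mod_cast h1
  have hΞf : (fun n : M.subgroupOf K => ξ n) = (f : ℂ) • ψ' := by
    funext x
    have h := hrel x
    rw [hef] at h
    push_cast at h
    rw [mul_assoc] at h
    exact mul_left_cancel₀ he'C h
  -- Step 2: ramification divides the index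
  have hinv : ∀ g : K, Cfsg.Agent.Lib.Helper75.conjFun (M.subgroupOf K) g ψ' = ψ' := by
    intro g
    funext x
    rw [Cfsg.Agent.Lib.Helper75.conjFun_apply]
    have hx : ((x : K) : G) ∈ M := Subgroup.mem_subgroupOf.mp x.2
    have hgx : (g : G) * ((x : K) : G) * (g : G)⁻¹ ∈ M := hM.conj_mem _ hx g
    have h1 := hχM ⟨_, hgx⟩
    have h2 := hχM ⟨_, hx⟩
    have h3 : χ ((g : G) * ((x : K) : G) * (g : G)⁻¹) = χ ((x : K) : G) := hχcl _ _
    have h4 : (e : ℂ) * ψ ⟨_, hgx⟩ = (e : ℂ) * ψ ⟨_, hx⟩ := by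
      rw [← h1, ← h2]
      exact h3
    exact mul_left_cancel₀ heC h4
  have hfdvd : f ∣ M.relIndex K :=
    Cfsg.Agent.Lib.Helper75.ramification_dvd_index (M.subgroupOf K) hξ hψ' hinv f hΞf
  -- Step 3: `f = 1`
  have hf1 : f = 1 := by
    have h1 : f ∣ e := ⟨e', by rw [hef, mul_comm]⟩
    exact Nat.Coprime.eq_one_of_dvd (Nat.Coprime.coprime_dvd_left h1 hcop) hfdvd
  have hee' : e' = e := by rw [hef, hf1, mul_one]
  subst hee'
  -- Step 4: coset sums over `M`
  have hresM : IsIrrCharacter M (fun m : M => ξ ⟨m, hMK m.2⟩) := by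
    have : (fun m : M => ξ ⟨m, hMK m.2⟩) = ψ := by
      funext m
      have h1 := hχM m
      have h2 := hχK ⟨m, hMK m.2⟩
      have h3 : (e' : ℂ) * ξ ⟨m, hMK m.2⟩ = (e' : ℂ) * ψ m := by rw [← h1, ← h2]
      exact mul_left_cancel₀ heC h3
    rw [this]
    exact hψ
  have hkK : k ∈ K := hK₀K hk
  have hcsM := coset_sum_global M K hMK (fun b _ a ha => hM.conj_mem a ha b) habK ξ hξ hresM k hkK
  have hB1 : ∑ m : M, Complex.normSq (χ (m * k)) = ((e' * e' : ℕ) : ℝ) * Nat.card M := by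
    have h1 : ∀ m : M, Complex.normSq (χ (m * k)) =
        ((e' * e' : ℕ) : ℝ) * Complex.normSq (ξ ⟨m * k, K.mul_mem (hMK m.2) hkK⟩) := by
      intro m
      have h2 := hχK ⟨m * k, K.mul_mem (hMK m.2) hkK⟩
      have h3 : χ ((m : G) * k) = (e' : ℂ) * ξ ⟨m * k, K.mul_mem (hMK m.2) hkK⟩ := h2
      rw [h3, Complex.normSq_mul, Complex.normSq_natCast]
      push_cast
      ring
    rw [Finset.sum_congr rfl (fun m _ => h1 m), ← Finset.mul_sum]
    congr 1
    exact sum_normSq_of_sum_mul_conj _ _ (by exact_mod_cast hcsM)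
  refine ⟨hB1, ?_⟩
  -- Step 5: `ϑ₀`
  set ϑ₀ : K₀ → ℂ := fun d => ϑ ⟨d, hK₀H d.2⟩ with hϑ₀def
  have hϑ₀c : IsCharacter K₀ ϑ₀ :=
    Cfsg.Agent.Lib.Helper81.isCharacter_comp (IsIrrCharacter.isCharacter hϑ)
      (Subgroup.inclusion hK₀H)
  have hϑ₀ : IsIrrCharacter K₀ ϑ₀ := by
    apply isIrrCharacter_of_res (L.subgroupOf K₀) hϑ₀c
    exact Cfsg.Agent.Lib.Helper81.isIrrCharacter_comp_mulEquiv hϑL
      (Subgroup.subgroupOfEquivOfLe hLK₀)
  -- Step 6: Mackey-Frobenius on `K`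
  have hMF := classInner_res_indFun_of_sup_eq_top H K K₀ hsup hinf ϑ χ hχcl
  have hLHS : classInner (fun n : K => indFun H ϑ n) (fun n : K => χ n) =
      ((e' * e' : ℕ) : ℂ) := by
    rw [← hχdef, hK', classInner_smul_left, classInner_smul_right, classInner_irr_self hξ,
      Complex.conj_natCast]
    push_cast
    ring
  rw [hLHS] at hMF
  -- Step 7: `χ` restricted to `K₀` is `e² ϑ₀`
  set Ξ₀ : K₀ → ℂ := fun d => χ d with hΞ₀def
  have hΞ₀ : IsCharacter K₀ Ξ₀ := Cfsg.Agent.Lib.Helper75.isCharacter_res K₀ hχc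
  have hin : classInner Ξ₀ ϑ₀ = ((e' * e' : ℕ) : ℂ) := by
    rw [← classInner_conj_symm]
    have : classInner ϑ₀ Ξ₀ = ((e' * e' : ℕ) : ℂ) := hMF.symm
    rw [this, Complex.conj_natCast]
  have hΞ₀1 : Ξ₀ 1 = ((e' * e' : ℕ) : ℂ) * ϑ₀ 1 := by
    have h1 : Ξ₀ 1 = χ 1 := rfl
    have h2 : ϑ₀ 1 = ϑ 1 := rfl
    rw [h1, h2, hχ1]
  have hΞ₀eq := eq_smul_of_classInner_of_apply_one hΞ₀ hϑ₀ (e' * e') hin hΞ₀1
  -- Step 8: coset sums over `L`
  have hab₀ : ∀ x ∈ K₀, ∀ y ∈ K₀, x * y * x⁻¹ * y⁻¹ ∈ L := by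
    intro x hx y hy
    rw [← hHM]
    refine ⟨?_, habK x (hK₀K hx) y (hK₀K hy)⟩
    exact H.mul_mem (H.mul_mem (H.mul_mem (hK₀H hx) (hK₀H hy)) (H.inv_mem (hK₀H hx)))
      (H.inv_mem (hK₀H hy))
  have hcsL := coset_sum_global L K₀ hLK₀ (fun b _ a ha => hL.conj_mem a ha b) hab₀ ϑ₀ hϑ₀ hϑL k hk
  have h1 : ∀ l : L, Complex.normSq (χ (l * k)) =
      ((e' * e' * (e' * e') : ℕ) : ℝ) *
        Complex.normSq (ϑ₀ ⟨l * k, K₀.mul_mem (hLK₀ l.2) hk⟩) := by
    intro l
    have h2 := congrFun hΞ₀eq ⟨l * k, K₀.mul_mem (hLK₀ l.2) hk⟩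
    have h3 : χ ((l : G) * k) = ((e' * e' : ℕ) : ℂ) * ϑ₀ ⟨l * k, K₀.mul_mem (hLK₀ l.2) hk⟩ := h2
    rw [h3, Complex.normSq_mul, Complex.normSq_natCast]
    push_cast
    ring
  rw [Finset.sum_congr rfl (fun l _ => h1 l), ← Finset.mul_sum]
  congr 1
  exact sum_normSq_of_sum_mul_conj _ _ (by exact_mod_cast hcsL)

end StepB


section StepC

variable {G : Type u} [Group G] [Fintype G]

/-- Step C: the coset-sum inequality forces `k` to centralize `M / L`. -/
theorem commutator_mem_of_coset_sums (L M : Subgroup G) [hL : L.Normal] [hM : M.Normal]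
    [Fintype L] [Fintype M] (hLM : L ≤ M) (χ : G → ℂ) (hχcl : IsClassFunction G χ) (c : ℝ)
    (hc : 0 < c) (k : G)
    (h1 : ∑ m : M, Complex.normSq (χ (m * k)) = c * Nat.card M)
    (h2 : ∑ l : L, Complex.normSq (χ (l * k)) = c * c * Nat.card L)
    (hidx : (Nat.card M : ℝ) = c * Nat.card L) (m' : G) (hm' : m' ∈ M) :
    m' * k * m'⁻¹ * k⁻¹ ∈ L := by
  classical
  by_contra hy
  set y := m' * k * m'⁻¹ * k⁻¹ with hydef
  have hyM : y ∈ M := by
    have h : k * m'⁻¹ * k⁻¹ ∈ M := hM.conj_mem _ (M.inv_mem hm') k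
    have : y = m' * (k * m'⁻¹ * k⁻¹) := by rw [hydef]; group
    rw [this]
    exact M.mul_mem hm' h
  let ι₁ : L → M := fun l => ⟨l, hLM l.2⟩
  let ι₂ : L → M := fun l => ⟨l * y, M.mul_mem (hLM l.2) hyM⟩
  have hι₁ : Function.Injective ι₁ := by
    intro a b hab
    apply Subtype.ext
    exact congrArg (fun m : M => (m : G)) hab
  have hι₂ : Function.Injective ι₂ := by
    intro a b hab
    apply Subtype.ext
    have : (a : G) * y = (b : G) * y := congrArg (fun m : M => (m : G)) hab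
    exact mul_right_cancel this
  have hdisj : Disjoint (Finset.univ.image ι₁) (Finset.univ.image ι₂) := by
    rw [Finset.disjoint_left]
    intro m hm1 hm2
    rw [Finset.mem_image] at hm1 hm2
    obtain ⟨a, -, ha⟩ := hm1
    obtain ⟨b, -, hb⟩ := hm2
    have h : (a : G) = (b : G) * y := by
      have := congrArg (fun m : M => (m : G)) (ha.trans hb.symm)
      exact this
    apply hy
    have : y = (b : G)⁻¹ * (a : G) := by rw [h]; group
    rw [this]
    exact L.mul_mem (L.inv_mem b.2) a.2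
  have hsum1 : ∑ m ∈ Finset.univ.image ι₁, Complex.normSq (χ (m * k)) =
      c * c * Nat.card L := by
    rw [Finset.sum_image (fun a _ b _ h => hι₁ h)]
    exact h2
  have hsum2 : ∑ m ∈ Finset.univ.image ι₂, Complex.normSq (χ (m * k)) =
      c * c * Nat.card L := by
    rw [Finset.sum_image (fun a _ b _ h => hι₂ h), ← h2]
    rw [← Equiv.sum_comp (MulAut.conjNormal (H := L) m'⁻¹).toEquiv
      (fun l : L => Complex.normSq (χ (l * k)))]
    apply Finset.sum_congr rfl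
    intro l _
    congr 1
    show χ ((l : G) * y * k) = χ (((MulAut.conjNormal (H := L) m'⁻¹ l : L) : G) * k)
    rw [MulAut.conjNormal_apply, inv_inv]
    have h3 := hχcl ((l : G) * y * k) m'⁻¹
    rw [← h3]
    congr 1
    rw [hydef]
    group
  have hle : ∑ m ∈ Finset.univ.image ι₁ ∪ Finset.univ.image ι₂, Complex.normSq (χ (m * k)) ≤
      ∑ m : M, Complex.normSq (χ (m * k)) :=
    Finset.sum_le_sum_of_subset_of_nonneg (Finset.subset_univ _)
      (fun _ _ _ => Complex.normSq_nonneg _)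
  rw [Finset.sum_union hdisj, hsum1, hsum2, h1, hidx] at hle
  have hLpos : (0 : ℝ) < Nat.card L := by exact_mod_cast Nat.card_pos
  have : 0 < c * c * (Nat.card L : ℝ) := by positivity
  nlinarith

end StepC


section Main

variable {G : Type u} [Group G] [Fintype G]

/-- **Isaacs (11.32), core-free form.** -/
theorem exists_not_homogeneous_of_core (L H : Subgroup G) [hL : L.Normal] (hLH : L ≤ H)
    (hmax : IsCoatom H) (hcore : ∀ N : Subgroup G, N.Normal → N ≤ H → N ≤ L)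
    (hsolv : Group.IsSolvable (G ⧸ L)) (ϑ : H → ℂ) (hϑ : IsIrrCharacter H ϑ)
    (hϑL : IsIrrCharacter L (fun x : L => ϑ ⟨(x : G), hLH x.2⟩))
    (hind : IsIrrCharacter G (indFun H ϑ)) :
    ∃ M : Subgroup G, M.Normal ∧ L ≤ M ∧ ¬ ∃ (φ : M → ℂ) (e : ℕ),
      IsIrrCharacter M φ ∧ (fun m : M => indFun H ϑ m) = (e : ℂ) • φ := by
  classical
  by_contra hcon
  push Not at hcon
  have : Fintype L := Fintype.ofFinite L
  set χ := indFun H ϑ with hχdef
  have hχcl : IsClassFunction G χ := Cfsg.Agent.Lib.Helper75.isClassFunction_indFun H ϑ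
  have hLtop : L ≠ ⊤ := fun h => hmax.1 (top_le_iff.mp (h ▸ hLH))
  obtain ⟨M, hMn, hLM, hchief, habM⟩ := exists_chief_over L hsolv hLtop
  have : Fintype M := Fintype.ofFinite M
  -- `H M = G`
  have hMH : ¬ M ≤ H := fun h => absurd (hcore M hMn h) (not_le_of_gt hLM)
  have hsup : H ⊔ M = ⊤ := by
    have h1 : H < H ⊔ M := lt_of_le_of_ne le_sup_left (fun h => hMH (h ▸ le_sup_right))
    exact hmax.2 _ h1
  -- `H ∩ M = L`
  have hinfn : (M ⊓ H).Normal := by
    apply Cfsg.Agent.Lib.Helper76.inf_normal_of_sup_eq_top M H _ (by rw [sup_comm]; exact hsup)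
    intro a ha x hx
    have h1 : a * x * a⁻¹ * x⁻¹ ∈ L := habM (by
      rw [← commutatorElement_def]
      exact Subgroup.commutator_mem_commutator ha hx.1)
    have h2 : a * x * a⁻¹ = (a * x * a⁻¹ * x⁻¹) * x := by group
    rw [h2]
    exact (M ⊓ H).mul_mem ⟨hLM.le h1, hLH h1⟩ hx
  have hinf : H ⊓ M = L := by
    apply le_antisymm
    · rw [inf_comm]
      exact hcore _ hinfn inf_le_right
    · exact le_inf hLH hLM.le
  -- homogeneity at `L` and `M`
  obtain ⟨φ', eL, hφ', hL'⟩ := hcon L hL le_rfl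
  obtain ⟨ψ, e, hψ, hM'⟩ := hcon M hMn hLM.le
  obtain ⟨hee, hχ1, he0⟩ := ramified_of_homogeneous L H M hLH hsup hinf ϑ hϑ hϑL ψ e hψ hM'
    φ' eL hφ' hL'
  obtain ⟨p, a, hp, hpa⟩ := exists_prime_pow_relIndex_of_chief M L hLM hchief habM
  have hpf : Fact p.Prime := ⟨hp⟩
  -- `M ≠ G`
  have hMtop : M ≠ ⊤ := by
    rintro rfl
    have h1 : classInner (fun m : (⊤ : Subgroup G) => χ m) (fun m : (⊤ : Subgroup G) => χ m) =
        1 := by
      have h := Cfsg.Agent.Lib.Helper75.classInner_comp_equiv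
        (Subgroup.topEquiv (G := G)).toEquiv χ χ
      rw [classInner_irr_self hind] at h
      exact h
    have h2 : classInner (fun m : (⊤ : Subgroup G) => χ m) (fun m : (⊤ : Subgroup G) => χ m) =
        ((e * e : ℕ) : ℂ) := by
      rw [hM', classInner_smul_left, classInner_smul_right, classInner_irr_self hψ,
        Complex.conj_natCast]
      push_cast
      ring
    rw [h1] at h2
    have h3 : e * e = 1 := by exact_mod_cast h2.symm
    rw [h3] at hee
    have h4 : (⊤ : Subgroup G) ≤ L := Subgroup.relIndex_eq_one.mp hee.symm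
    exact hLtop (top_le_iff.mp h4)
  -- the second chief factor
  have hsolvM : Group.IsSolvable (G ⧸ M) := isSolvable_quotient_of_le L M hLM.le hsolv
  obtain ⟨K, hKn, hMK, hchiefK, habK⟩ := exists_chief_over M hsolvM hMtop
  obtain ⟨q, b, hq, hqb⟩ := exists_prime_pow_relIndex_of_chief K M hMK hchiefK habK
  have habK' : ∀ x ∈ K, ∀ y ∈ K, x * y * x⁻¹ * y⁻¹ ∈ M := by
    intro x hx y hy
    apply habK
    rw [← commutatorElement_def]
    exact Subgroup.commutator_mem_commutator hx hy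
  have hsupK : H ⊔ K = ⊤ := top_le_iff.mp (hsup ▸ sup_le_sup_left hMK.le H)
  have hcardM : (Nat.card M : ℝ) = ((e * e : ℕ) : ℝ) * Nat.card L := by
    have := Subgroup.relIndex_mul_relIndex ⊥ L M bot_le hLM.le
    rw [Subgroup.relIndex_bot_left, Subgroup.relIndex_bot_left, ← hee] at this
    rw [← this]
    push_cast
    ring
  -- key: `H ∩ K` centralizes `M / L`
  have hkey : ∀ k ∈ H ⊓ K, ∀ m ∈ M, m * k * m⁻¹ * k⁻¹ ∈ L := by
    by_cases hpq : q = p
    · subst hpq
      have h := commutator_mem_of_chief_of_pgroups q L M K hLM hMK.le hchief a b hpa hqb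
      intro k hk m hm
      have h1 := h k hk.2 m hm
      have h2 : m * k * m⁻¹ * k⁻¹ = (k * m * k⁻¹ * m⁻¹)⁻¹ := by group
      rw [h2]
      exact L.inv_mem h1
    · obtain ⟨ξ, e', hξ, hK'⟩ := hcon K hKn (hLM.le.trans hMK.le)
      have hcop : Nat.Coprime e (M.relIndex K) := by
        rw [hqb]
        have hedvd : e ∣ p ^ a := ⟨e, by rw [← hpa, hee]⟩
        obtain ⟨j, -, rfl⟩ := (Nat.dvd_prime_pow hp).mp hedvd
        exact Nat.Coprime.pow _ _ ((Nat.coprime_primes hp hq).mpr (Ne.symm hpq))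
      intro k hk m hm
      obtain ⟨hB1, hB2⟩ := coset_sums_of_homogeneous L H M K (H ⊓ K) hLH hMK.le hsupK rfl hinf
        habK' ϑ hϑ hϑL hind ψ e hψ hM' ξ e' hξ hK' he0 hχ1 hcop k hk
      have hcpos : (0 : ℝ) < ((e * e : ℕ) : ℝ) := by
        exact_mod_cast Nat.mul_pos (Nat.pos_of_ne_zero he0) (Nat.pos_of_ne_zero he0)
      refine commutator_mem_of_coset_sums L M hLM.le χ hχcl ((e * e : ℕ) : ℝ) hcpos k hB1 ?_
        hcardM m hm
      rw [hB2]
      push_cast
      ring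
  -- decomposition of `K`
  have hdecomp : ∀ x ∈ K, ∃ m ∈ M, ∃ h ∈ H ⊓ K, x = m * h := by
    intro x hx
    have hx' : x ∈ ((M ⊔ H : Subgroup G) : Set G) := by
      rw [sup_comm, hsup]
      trivial
    rw [Subgroup.normal_mul] at hx'
    obtain ⟨m, hm, h, hh, rfl⟩ := Set.mem_mul.mp hx'
    refine ⟨m, hm, h, ⟨hh, ?_⟩, rfl⟩
    have : h = m⁻¹ * (m * h) := by group
    rw [this]
    exact K.mul_mem (K.inv_mem (hMK.le hm)) hx
  -- `H ∩ K` is normal in `G`
  have hK₀n : (K ⊓ H).Normal := by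
    apply Cfsg.Agent.Lib.Helper76.inf_normal_of_sup_eq_top K H _ (by rw [sup_comm]; exact hsupK)
    intro a ha x hx
    obtain ⟨m, hm, h, hh, rfl⟩ := hdecomp a ha
    have hx' : x ∈ H ⊓ K := ⟨hx.2, hx.1⟩
    have hy : h * x * h⁻¹ ∈ H ⊓ K :=
      (H ⊓ K).mul_mem ((H ⊓ K).mul_mem hh hx') ((H ⊓ K).inv_mem hh)
    have h1 := hkey _ hy m hm
    have h2 : m * h * x * (m * h)⁻¹ = (m * (h * x * h⁻¹) * m⁻¹ * (h * x * h⁻¹)⁻¹) *
        (h * x * h⁻¹) := by group
    rw [h2]
    have h3 : m * (h * x * h⁻¹) * m⁻¹ * (h * x * h⁻¹)⁻¹ ∈ K ⊓ H :=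
      ⟨hMK.le (hLM.le h1), hLH h1⟩
    exact (K ⊓ H).mul_mem h3 ⟨hy.2, hy.1⟩
  have hK₀L : K ⊓ H ≤ L := hcore _ hK₀n inf_le_right
  have hKM : K ≤ M := by
    intro x hx
    obtain ⟨m, hm, h, hh, rfl⟩ := hdecomp x hx
    exact M.mul_mem hm (hLM.le (hK₀L ⟨hh.2, hh.1⟩))
  exact absurd hKM (not_le_of_gt hMK)

end Main

end Cfsg.Agent.Lib.Helper15
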