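import Mathlib
import Cfsg.Agent.Lib.Helper15.Isaacs1132

/-!
# S0889 (Berger's theorem, helper80's project), module [MAXSETUP] (helper15)

`max_setup`: for a maximal subgroup `H` of a finite solvable group `G` with core `N` there is a chief factor `K / N`
with `G = H K`, `H ∩ K = N`, `K / N` elementary abelian of order `p ^ n`, on which `H / N` acts faithfully and
irreducibly.
-/

set_option autoImplicit false

open scoped commutatorElement

universe u

namespace Cfsg.Agent.Lib.Helper15.Berger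

section

variable {G : Type u} [Group G]

/-- `⁅a, b⁆ ∈ N` iff the images of `a` and `b` in `G ⧸ N` commute. -/
theorem commutator_mem_iff_commute_mk (N : Subgroup G) [N.Normal] (a b : G) :
    ⁅a, b⁆ ∈ N ↔ Commute (QuotientGroup.mk' N a) (QuotientGroup.mk' N b) := by
  rw [← commutatorElement_eq_one_iff_commute, ← map_commutatorElement, QuotientGroup.mk'_apply,
    QuotientGroup.eq_one_iff]

/-- A subgroup normalized by `H` and by `K` with `H ⊔ K = ⊤` is normal. -/
theorem normal_of_normalized_sup (A H K : Subgroup G) (hHK : H ⊔ K = ⊤)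
    (hH : ∀ h ∈ H, ∀ a ∈ A, h * a * h⁻¹ ∈ A) (hK : ∀ k ∈ K, ∀ a ∈ A, k * a * k⁻¹ ∈ A) : A.Normal := by
  let T : Subgroup G :=
    { carrier := {g | (∀ a ∈ A, g * a * g⁻¹ ∈ A) ∧ ∀ a ∈ A, g⁻¹ * a * g ∈ A}
      mul_mem' := by
        rintro x y ⟨hx1, hx2⟩ ⟨hy1, hy2⟩
        refine ⟨fun a ha => ?_, fun a ha => ?_⟩
        · have := hx1 _ (hy1 a ha)
          rw [mul_inv_rev]
          convert this using 1
          group
        · have := hy2 _ (hx2 a ha)
          rw [mul_inv_rev]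
          convert this using 1
          group
      one_mem' := by
        refine ⟨fun a ha => ?_, fun a ha => ?_⟩
        · simpa using ha
        · simpa using ha
      inv_mem' := by
        rintro x ⟨hx1, hx2⟩
        refine ⟨fun a ha => ?_, fun a ha => ?_⟩
        · rw [inv_inv]
          exact hx2 a ha
        · rw [inv_inv]
          exact hx1 a ha }
  have hHT : H ≤ T := fun h hh => ⟨hH h hh, fun a ha => by
    have := hH h⁻¹ (H.inv_mem hh) a ha
    rwa [inv_inv] at this⟩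
  have hKT : K ≤ T := fun k hk => ⟨hK k hk, fun a ha => by
    have := hK k⁻¹ (K.inv_mem hk) a ha
    rwa [inv_inv] at this⟩
  have hT : T = ⊤ := top_le_iff.mp (hHK ▸ sup_le hHT hKT)
  constructor
  intro n hn g
  have : g ∈ T := by rw [hT]; exact Subgroup.mem_top g
  exact this.1 n hn

/-- [MAXSETUP] -/
theorem max_setup {G : Type u} [Group G] [Finite G] [Group.IsSolvable G] (H : Subgroup G) (hH : IsCoatom H) :
    ∃ (K : Subgroup G) (p n : ℕ), K.Normal ∧ p.Prime ∧ H.normalCore ≤ K ∧ H ⊔ K = ⊤ ∧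
      H ⊓ K = H.normalCore ∧ (H.normalCore).relIndex K = p ^ n ∧ n ≠ 0 ∧
      ⁅K, K⁆ ≤ H.normalCore ∧ (∀ k ∈ K, k ^ p ∈ H.normalCore) ∧
      (∀ M : Subgroup G, H.normalCore ≤ M → M ≤ K → (∀ h ∈ H, ∀ m ∈ M, h * m * h⁻¹ ∈ M) →
        M = H.normalCore ∨ M = K) ∧
      (∀ h ∈ H, (∀ k ∈ K, ⁅h, k⁆ ∈ H.normalCore) → h ∈ H.normalCore) := by
  classical
  obtain ⟨N, hN⟩ : ∃ N : Subgroup G, N = H.normalCore := ⟨_, rfl⟩
  rw [← hN]
  have hNn : N.Normal := by rw [hN]; exact Subgroup.normalCore_normal H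
  have hNH : N ≤ H := by rw [hN]; exact Subgroup.normalCore_le H
  have hNtop : N ≠ ⊤ := fun h => hH.1 (top_le_iff.mp (h ▸ hNH))
  have hsolvQ : Group.IsSolvable (G ⧸ N) :=
    Group.isSolvable_of_surjective (QuotientGroup.mk'_surjective N)
  obtain ⟨K, hKn, hNK, hchief, hKK⟩ := Cfsg.Agent.Lib.Helper15.exists_chief_over N hsolvQ hNtop
  -- `K ≰ H`, `H K = G`
  have hKH : ¬ K ≤ H := by
    intro h
    have : K ≤ H.normalCore := Subgroup.normal_le_normalCore.mpr h
    rw [← hN] at this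
    exact lt_irrefl _ (lt_of_lt_of_le hNK this)
  have hHK : H ⊔ K = ⊤ := by
    apply hH.2
    apply lt_of_le_of_ne le_sup_left
    intro h
    exact hKH (h ▸ le_sup_right)
  -- commutators of elements of `K` lie in `N`
  have hcomm : ∀ a ∈ K, ∀ b ∈ K, ⁅a, b⁆ ∈ N := fun a ha b hb =>
    hKK (Subgroup.commutator_mem_commutator ha hb)
  -- a subgroup between `N` and `K` is normalized by `K`
  have hKnorm : ∀ M : Subgroup G, N ≤ M → M ≤ K → ∀ k ∈ K, ∀ m ∈ M, k * m * k⁻¹ ∈ M := by
    intro M hNM hMK k hk m hm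
    have h1 : k * m * k⁻¹ = ⁅k, m⁆ * m := by
      rw [commutatorElement_def]
      group
    rw [h1]
    exact M.mul_mem (hNM (hcomm k hk m (hMK hm))) hm
  -- irreducibility
  have hirr : ∀ M : Subgroup G, N ≤ M → M ≤ K → (∀ h ∈ H, ∀ m ∈ M, h * m * h⁻¹ ∈ M) → M = N ∨ M = K := by
    intro M hNM hMK hMH
    have hMn : M.Normal := normal_of_normalized_sup M H K hHK hMH (hKnorm M hNM hMK)
    exact hchief M hMn hNM hMK
  -- `H ⊓ K = N`
  have hinf : H ⊓ K = N := by
    rcases hirr (H ⊓ K) (le_inf hNH hNK.le) inf_le_right (fun h hh m hm =>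
      ⟨H.mul_mem (H.mul_mem hh hm.1) (H.inv_mem hh), hKn.conj_mem m hm.2 h⟩) with h | h
    · exact h
    · exact absurd (h ▸ inf_le_left) hKH
  -- an element of prime order modulo `N`
  obtain ⟨k₀, hk₀K, hk₀N⟩ : ∃ k₀ ∈ K, k₀ ∉ N := by
    by_contra h
    push Not at h
    exact lt_irrefl _ (lt_of_lt_of_le hNK h)
  have hex : ∃ m : ℕ, 0 < m ∧ k₀ ^ m ∈ N :=
    ⟨orderOf k₀, orderOf_pos k₀, by rw [pow_orderOf_eq_one]; exact N.one_mem⟩
  have hm : 0 < Nat.find hex ∧ k₀ ^ Nat.find hex ∈ N := Nat.find_spec hex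
  have hm1 : Nat.find hex ≠ 1 := by
    intro h
    have := hm.2
    rw [h, pow_one] at this
    exact hk₀N this
  obtain ⟨p, hp, hpm⟩ := Nat.exists_prime_and_dvd hm1
  obtain ⟨j, hj⟩ := hpm
  have hjpos : 0 < j := by
    rcases Nat.eq_zero_or_pos j with h | h
    · rw [h, mul_zero] at hj
      omega
    · exact h
  have hjlt : j < Nat.find hex := by
    rw [hj]
    have := hp.two_le
    nlinarith
  have hkj : k₀ ^ j ∉ N := fun h => Nat.find_min hex hjlt ⟨hjpos, h⟩
  have hkjp : (k₀ ^ j) ^ p ∈ N := by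
    rw [← pow_mul, mul_comm, ← hj]
    exact hm.2
  -- the `p`-torsion of `K` modulo `N`
  let T : Subgroup G :=
    { carrier := {k | k ∈ K ∧ k ^ p ∈ N}
      mul_mem' := by
        rintro a b ⟨ha, hap⟩ ⟨hb, hbp⟩
        refine ⟨K.mul_mem ha hb, ?_⟩
        have hc := (commutator_mem_iff_commute_mk N a b).mp (hcomm a ha b hb)
        rw [← QuotientGroup.eq_one_iff, QuotientGroup.mk_pow, QuotientGroup.mk_mul]
        have h1 : ((a : G ⧸ N)) ^ p = 1 := by
          rw [← QuotientGroup.mk_pow, QuotientGroup.eq_one_iff]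
          exact hap
        have h2 : ((b : G ⧸ N)) ^ p = 1 := by
          rw [← QuotientGroup.mk_pow, QuotientGroup.eq_one_iff]
          exact hbp
        have hc' : Commute (a : G ⧸ N) (b : G ⧸ N) := hc
        rw [hc'.mul_pow, h1, h2, one_mul]
      one_mem' := ⟨K.one_mem, by rw [one_pow]; exact N.one_mem⟩
      inv_mem' := by
        rintro a ⟨ha, hap⟩
        refine ⟨K.inv_mem ha, ?_⟩
        rw [inv_pow]
        exact N.inv_mem hap }
  have hTn : T.Normal := by
    constructor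
    rintro x ⟨hx, hxp⟩ g
    refine ⟨hKn.conj_mem x hx g, ?_⟩
    rw [conj_pow]
    exact hNn.conj_mem _ hxp g
  have hNT : N ≤ T := fun x hx => ⟨hNK.le hx, N.pow_mem hx p⟩
  have hTK : T ≤ K := fun x hx => hx.1
  have hTeq : T = K := by
    rcases hchief T hTn hNT hTK with h | h
    · exact absurd (h ▸ (⟨K.pow_mem hk₀K j, hkjp⟩ : k₀ ^ j ∈ T)) hkj
    · exact h
  have hexp : ∀ k ∈ K, k ^ p ∈ N := by
    intro k hk
    have : k ∈ T := by rw [hTeq]; exact hk
    exact this.2
  -- the order of `K / N`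
  have : Fact p.Prime := ⟨hp⟩
  have hpg : IsPGroup p (↥K ⧸ N.subgroupOf K) := by
    intro x
    obtain ⟨k, rfl⟩ := QuotientGroup.mk_surjective x
    refine ⟨1, ?_⟩
    rw [pow_one, ← QuotientGroup.mk_pow, QuotientGroup.eq_one_iff, Subgroup.mem_subgroupOf]
    exact hexp k k.2
  obtain ⟨n, hn⟩ := IsPGroup.iff_card.mp hpg
  have hrel : N.relIndex K = p ^ n := by
    rw [← hn]
    rfl
  have hn0 : n ≠ 0 := by
    intro h
    rw [h, pow_zero, Subgroup.relIndex_eq_one] at hrel
    exact lt_irrefl _ (lt_of_lt_of_le hNK hrel)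
  -- faithfulness
  have hfaith : ∀ h ∈ H, (∀ k ∈ K, ⁅h, k⁆ ∈ N) → h ∈ N := by
    intro h hh hhk
    let π := QuotientGroup.mk' N
    let B' : Subgroup G := (Subgroup.centralizer ((K.map π : Subgroup (G ⧸ N)) : Set (G ⧸ N))).comap π
    have hKπn : (K.map π).Normal := Subgroup.Normal.map hKn π (QuotientGroup.mk'_surjective N)
    have hB'n : B'.Normal := by
      have := hKπn
      exact Subgroup.Normal.comap Subgroup.normal_centralizer π
    have hmemB' : ∀ x : G, x ∈ B' ↔ ∀ k ∈ K, ⁅x, k⁆ ∈ N := by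
      intro x
      constructor
      · intro hx k hk
        rw [commutator_mem_iff_commute_mk]
        have := Subgroup.mem_centralizer_iff.mp (Subgroup.mem_comap.mp hx) (π k) (Subgroup.mem_map_of_mem π hk)
        exact this.symm
      · intro hx
        rw [Subgroup.mem_comap, Subgroup.mem_centralizer_iff]
        rintro y ⟨k, hk, rfl⟩
        exact ((commutator_mem_iff_commute_mk N x k).mp (hx k hk)).eq.symm
    have hAn : (H ⊓ B').Normal := by
      apply normal_of_normalized_sup (H ⊓ B') H K hHK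
      · intro x hx a ha
        exact ⟨H.mul_mem (H.mul_mem hx ha.1) (H.inv_mem hx), hB'n.conj_mem a ha.2 x⟩
      · intro k hk a ha
        refine ⟨?_, hB'n.conj_mem a ha.2 k⟩
        have h1 : k * a * k⁻¹ = a * ⁅a⁻¹, k⁆ := by
          rw [commutatorElement_def]
          group
        rw [h1]
        exact H.mul_mem ha.1 (hNH ((hmemB' a⁻¹).mp (B'.inv_mem ha.2) k hk))
    have hAle : H ⊓ B' ≤ N := by
      rw [hN]
      have := hAn
      exact Subgroup.normal_le_normalCore.mpr inf_le_left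
    exact hAle ⟨hh, (hmemB' h).mpr hhk⟩
  exact ⟨K, p, n, hKn, hp, hNK.le, hHK, hinf, hrel, hn0, hKK, hexp, hirr, hfaith⟩

end

end Cfsg.Agent.Lib.Helper15.Berger
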