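import Mathlib

/-!
# S0889 (Berger's theorem, helper80's project): generic lemmas for [SP-STEP] (helper15)
-/

set_option autoImplicit false

universe u

namespace Cfsg.Agent.Lib.Helper15.Berger

/-- A `p`-group acting on a nonempty finite set has a point whose orbit length (the index of its stabilizer,
a power of `p`) divides the size of the set: take a smallest orbit. -/
theorem exists_stabilizer_index_dvd (p : ℕ) [Fact p.Prime] {P Ω : Type*} [Group P] [Finite P]
    [MulAction P Ω] [Finite Ω] [Nonempty Ω] (hP : IsPGroup p P) :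
    ∃ ω : Ω, (MulAction.stabilizer P ω).index ∣ Nat.card Ω := by
  classical
  have hp : p.Prime := Fact.out
  obtain ⟨ω, hω⟩ := Finite.exists_min (fun ω : Ω => (MulAction.stabilizer P ω).index)
  refine ⟨ω, ?_⟩
  obtain ⟨a, ha⟩ := hP.index (MulAction.stabilizer P ω)
  have hdiv : ∀ ω' : Ω, (MulAction.stabilizer P ω).index ∣ (MulAction.stabilizer P ω').index := by
    intro ω'
    obtain ⟨b, hb⟩ := hP.index (MulAction.stabilizer P ω')
    rw [ha, hb]
    apply pow_dvd_pow
    by_contra h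
    push Not at h
    have h1 := hω ω'
    rw [ha, hb] at h1
    exact absurd (Nat.pow_lt_pow_right hp.one_lt h) (not_lt.mpr h1)
  have := Fintype.ofFinite (MulAction.orbitRel.Quotient P Ω)
  rw [Nat.card_congr (MulAction.selfEquivSigmaOrbits P Ω), Nat.card_sigma]
  apply Finset.dvd_sum
  intro o _
  rw [Nat.card_coe_set_eq, ← MulAction.index_stabilizer]
  exact hdiv _

/-- A `p`-group `P'` acting (through `φ`) on `E`, fixing the `p'`-subgroup `Z` pointwise and stabilizing the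
coset `uZ`, fixes an element of that coset. -/
theorem exists_fixed_in_coset (p : ℕ) [Fact p.Prime] {E P : Type*} [Group E] [Finite E] [Group P]
    [Finite P] (φ : P →* MulAut E) (P' : Subgroup P) (hP' : IsPGroup p P') (Z : Subgroup E)
    (hZ : (Nat.card Z).Coprime p) (hfix : ∀ x ∈ P', ∀ z ∈ Z, φ x z = z) (u : E)
    (hu : ∀ x ∈ P', ∃ z ∈ Z, φ x u = u * z) :
    ∃ u₁ : E, (∃ z ∈ Z, u₁ = u * z) ∧ ∀ x ∈ P', φ x u₁ = u₁ := by
  classical
  have hp : p.Prime := Fact.out
  have hmem : ∀ (x : P') (e : {e : E // ∃ z ∈ Z, e = u * z}), ∃ z ∈ Z, φ x e.1 = u * z := by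
    rintro ⟨x, hx⟩ ⟨e, z, hz, rfl⟩
    obtain ⟨z', hz', h⟩ := hu x hx
    refine ⟨z' * z, Z.mul_mem hz' hz, ?_⟩
    simp [map_mul, h, hfix x hx z hz, mul_assoc]
  let _ : MulAction P' {e : E // ∃ z ∈ Z, e = u * z} :=
    { smul := fun x e => ⟨φ x e.1, hmem x e⟩
      one_smul := fun e => Subtype.ext (by simp [HSMul.hSMul])
      mul_smul := fun x y e => Subtype.ext (by simp [HSMul.hSMul, map_mul]) }
  have hcard : Nat.card {e : E // ∃ z ∈ Z, e = u * z} = Nat.card Z := by
    apply Nat.card_congr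
    exact
      { toFun := fun e => ⟨u⁻¹ * e.1, by obtain ⟨z, hz, h⟩ := e.2; rw [h]; simpa using hz⟩
        invFun := fun z => ⟨u * z.1, z.1, z.2, rfl⟩
        left_inv := fun e => Subtype.ext (by simp)
        right_inv := fun z => Subtype.ext (by simp) }
  have hnd : ¬ p ∣ Nat.card {e : E // ∃ z ∈ Z, e = u * z} := by
    rw [hcard]
    intro h
    exact hp.one_lt.ne' (Nat.Coprime.eq_one_of_dvd hZ.symm h)
  obtain ⟨e, he⟩ := hP'.nonempty_fixed_point_of_prime_not_dvd_card _ hnd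
  refine ⟨e.1, e.2, fun x hx => ?_⟩
  exact congrArg Subtype.val (he ⟨x, hx⟩)

/-- The arithmetic step: a `p`-power dividing `(R - 1) * (R / r)` with `R` a power of a prime `r ≠ p`
divides `R - 1`. -/
theorem pow_dvd_sub_one_of_dvd_mul {p r : ℕ} (hp : p.Prime) (hr : r.Prime) (hne : r ≠ p) (a k : ℕ)
    (h : p ^ a ∣ (r ^ k - 1) * (r ^ k / r)) : p ^ a ∣ r ^ k - 1 := by
  rcases Nat.eq_zero_or_pos k with rfl | hk
  · simp
  · have h1 : r ^ k / r = r ^ (k - 1) := by
      obtain ⟨m, rfl⟩ : ∃ m, k = m + 1 := ⟨k - 1, by omega⟩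
      rw [pow_succ, Nat.mul_div_cancel _ hr.pos]
      simp
    rw [h1] at h
    exact Nat.Coprime.dvd_of_dvd_mul_right
      (Nat.Coprime.pow _ _ ((Nat.coprime_primes hp hr).mpr (Ne.symm hne))) h

/-- Orbit–stabilizer in the form used in [SP-STEP]: `|P| = |P : P_ω| * |P_ω|`, with `|P : P_ω|` a power
`p ^ a` dividing `|Ω|`. -/
theorem exists_stabilizer_card_eq (p : ℕ) [Fact p.Prime] {P Ω : Type*} [Group P] [Finite P]
    [MulAction P Ω] [Finite Ω] [Nonempty Ω] (hP : IsPGroup p P) :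
    ∃ (ω : Ω) (a : ℕ), p ^ a ∣ Nat.card Ω ∧
      Nat.card P = p ^ a * Nat.card (MulAction.stabilizer P ω) := by
  obtain ⟨ω, hω⟩ := exists_stabilizer_index_dvd p (P := P) (Ω := Ω) hP
  obtain ⟨a, ha⟩ := hP.index (MulAction.stabilizer P ω)
  refine ⟨ω, a, ha ▸ hω, ?_⟩
  rw [← ha, mul_comm]
  exact (Subgroup.card_mul_index _).symm

end Cfsg.Agent.Lib.Helper15.Berger
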