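import Mathlib

/-!
# S0889 (Berger's theorem, helper80's project), module [TOWER] (helper15)

`exists_tower`: in a finite solvable group `X` whose abelian normal subgroups all lie in the central subgroup `Z`
there is a normal subgroup `E ≥ Z` of class at most two over `Z`, with `C_X(E) ≤ Z` and `E / Z` of squarefree
exponent.
-/

set_option autoImplicit false

open scoped commutatorElement Pointwise

universe u

namespace Cfsg.Agent.Lib.Helper15.Berger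

/-- A minimal normal subgroup over a central subgroup inside a given normal subgroup of a finite solvable group:
abelian modulo `Z` and of prime exponent modulo `Z`. -/
theorem exists_min_over_central {X : Type u} [Group X] [Finite X] [Group.IsSolvable X] (Z C : Subgroup X)
    (hZc : Z ≤ Subgroup.center X) (hCn : C.Normal) (hZC : Z ≤ C) (hCZ : ¬ C ≤ Z) :
    ∃ (B : Subgroup X) (r : ℕ), B.Normal ∧ Z ≤ B ∧ ¬ B ≤ Z ∧ B ≤ C ∧ ⁅B, B⁆ ≤ Z ∧ r.Prime ∧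
      ∀ b ∈ B, b ^ r ∈ Z := by
  classical
  have hZn : Z.Normal := by
    constructor
    intro n hn g
    have := (Subgroup.mem_center_iff.mp (hZc hn)) g
    rw [this, mul_inv_cancel_right]
    exact hn
  -- a minimal normal subgroup strictly above `Z` inside `C`
  obtain ⟨B, ⟨hBn, hZB, hBZ, hBC⟩, hBmin⟩ := Set.Finite.exists_minimal
    (Set.toFinite {B : Subgroup X | B.Normal ∧ Z ≤ B ∧ ¬ B ≤ Z ∧ B ≤ C}) ⟨C, hCn, hZC, hCZ, le_rfl⟩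
  have hmin : ∀ B' : Subgroup X, B'.Normal → Z ≤ B' → B' ≤ B → B' ≤ Z ∨ B' = B := by
    intro B' hB'n hZB' hB'B
    by_cases h : B' ≤ Z
    · exact Or.inl h
    · exact Or.inr (le_antisymm hB'B (hBmin ⟨hB'n, hZB', h, hB'B.trans hBC⟩ hB'B))
  -- `B / Z` is abelian
  have hcomm : ⁅B, B⁆ ≤ Z := by
    have hDn : (⁅B, B⁆ : Subgroup X).Normal := Subgroup.commutator_normal B B
    have hsupn : (Z ⊔ ⁅B, B⁆).Normal := Subgroup.sup_normal Z ⁅B, B⁆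
    rcases hmin (Z ⊔ ⁅B, B⁆) hsupn le_sup_left (sup_le hZB (Subgroup.commutator_le_left B B)) with h | h
    · exact le_sup_right.trans h
    · -- then `⁅B, B⁆` is perfect, hence trivial
      exfalso
      have hperf : ⁅(⁅B, B⁆ : Subgroup X), ⁅B, B⁆⁆ = ⁅B, B⁆ := by
        apply le_antisymm (Subgroup.commutator_le_left _ _)
        rw [Subgroup.commutator_le]
        intro x hx y hy
        rw [← h] at hx hy
        have hZD : ((Z ⊔ ⁅B, B⁆ : Subgroup X) : Set X) = (Z : Set X) * ((⁅B, B⁆ : Subgroup X) : Set X) :=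
          Subgroup.mul_normal Z ⁅B, B⁆
        have hx' : x ∈ (Z : Set X) * ((⁅B, B⁆ : Subgroup X) : Set X) := by rw [← hZD]; exact hx
        have hy' : y ∈ (Z : Set X) * ((⁅B, B⁆ : Subgroup X) : Set X) := by rw [← hZD]; exact hy
        obtain ⟨z₁, hz₁, d₁, hd₁, rfl⟩ := Set.mem_mul.mp hx'
        obtain ⟨z₂, hz₂, d₂, hd₂, rfl⟩ := Set.mem_mul.mp hy'
        have hc₁ := Subgroup.mem_center_iff.mp (hZc hz₁)
        have hc₂ := Subgroup.mem_center_iff.mp (hZc hz₂)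
        have : ⁅z₁ * d₁, z₂ * d₂⁆ = ⁅d₁, d₂⁆ := by
          rw [commutatorElement_def, commutatorElement_def, mul_inv_rev, mul_inv_rev]
          have e1 : ∀ g : X, g * z₁ = z₁ * g := hc₁
          have e2 : ∀ g : X, g * z₂ = z₂ * g := hc₂
          have e1' : ∀ g : X, g * z₁⁻¹ = z₁⁻¹ * g := fun g => by
            have := e1 (z₁⁻¹ * g * z₁⁻¹)
            calc g * z₁⁻¹ = z₁ * (z₁⁻¹ * g * z₁⁻¹) := by group
              _ = z₁⁻¹ * g * z₁⁻¹ * z₁ := (e1 _).symm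
              _ = z₁⁻¹ * g := by group
          have e2' : ∀ g : X, g * z₂⁻¹ = z₂⁻¹ * g := fun g => by
            calc g * z₂⁻¹ = z₂ * (z₂⁻¹ * g * z₂⁻¹) := by group
              _ = z₂⁻¹ * g * z₂⁻¹ * z₂ := (e2 _).symm
              _ = z₂⁻¹ * g := by group
          calc z₁ * d₁ * (z₂ * d₂) * (d₁⁻¹ * z₁⁻¹) * (d₂⁻¹ * z₂⁻¹)
              = z₁ * (d₁ * z₂) * d₂ * d₁⁻¹ * z₁⁻¹ * d₂⁻¹ * z₂⁻¹ := by group
            _ = z₁ * (z₂ * d₁) * d₂ * d₁⁻¹ * z₁⁻¹ * d₂⁻¹ * z₂⁻¹ := by rw [e2 d₁]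
            _ = z₁ * z₂ * (d₁ * d₂ * d₁⁻¹ * z₁⁻¹) * d₂⁻¹ * z₂⁻¹ := by group
            _ = z₁ * z₂ * (z₁⁻¹ * (d₁ * d₂ * d₁⁻¹)) * d₂⁻¹ * z₂⁻¹ := by rw [e1' (d₁ * d₂ * d₁⁻¹)]
            _ = z₁ * (z₂ * z₁⁻¹) * (d₁ * d₂ * d₁⁻¹ * d₂⁻¹ * z₂⁻¹) := by group
            _ = z₁ * (z₁⁻¹ * z₂) * (z₂⁻¹ * (d₁ * d₂ * d₁⁻¹ * d₂⁻¹)) := by rw [e1' z₂, e2' (d₁ * d₂ * d₁⁻¹ * d₂⁻¹)]
            _ = d₁ * d₂ * d₁⁻¹ * d₂⁻¹ := by group
        rw [this]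
        exact Subgroup.commutator_mem_commutator hd₁ hd₂
      have hDbot : (⁅B, B⁆ : Subgroup X) = ⊥ := by
        by_contra hne
        have := Group.IsSolvable.commutator_lt_of_ne_bot hne
        rw [hperf] at this
        exact lt_irrefl _ this
      rw [hDbot, sup_bot_eq] at h
      exact hBZ h.symm.le
  -- an element of prime order modulo `Z`
  obtain ⟨b₀, hb₀B, hb₀Z⟩ : ∃ b₀ ∈ B, b₀ ∉ Z := by
    by_contra h
    push Not at h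
    exact hBZ h
  have hex : ∃ m : ℕ, 0 < m ∧ b₀ ^ m ∈ Z := ⟨orderOf b₀, orderOf_pos b₀, by rw [pow_orderOf_eq_one]; exact Z.one_mem⟩
  let m := Nat.find hex
  have hm : 0 < m ∧ b₀ ^ m ∈ Z := Nat.find_spec hex
  have hm1 : m ≠ 1 := by
    intro h
    have := hm.2
    rw [h, pow_one] at this
    exact hb₀Z this
  obtain ⟨r, hr, hrm⟩ := Nat.exists_prime_and_dvd hm1
  obtain ⟨k, hk⟩ := hrm
  have hkpos : 0 < k := by
    rcases Nat.eq_zero_or_pos k with h | h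
    · rw [h, mul_zero] at hk
      omega
    · exact h
  have hklt : k < m := by
    rw [hk]
    have := hr.two_le
    nlinarith
  have hbk : b₀ ^ k ∉ Z := fun h => Nat.find_min hex hklt ⟨hkpos, h⟩
  have hbkr : (b₀ ^ k) ^ r ∈ Z := by
    rw [← pow_mul, mul_comm, ← hk]
    exact hm.2
  -- the `r`-torsion of `B` modulo `Z`
  have hpow : ∀ a ∈ B, ∀ b ∈ B, ∀ n : ℕ, ∃ z ∈ Z, (a * b) ^ n = a ^ n * b ^ n * z := by
    intro a ha b hb n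
    induction n with
    | zero => exact ⟨1, Z.one_mem, by simp⟩
    | succ n ih =>
      obtain ⟨z, hz, hzn⟩ := ih
      -- b ^ n * a = a * b ^ n * c with c ∈ Z
      have hc : ⁅(b ^ n)⁻¹, a⁻¹⁆ ∈ Z :=
        hcomm (Subgroup.commutator_mem_commutator (B.inv_mem (B.pow_mem hb n)) (B.inv_mem ha))
      refine ⟨z * ⁅(b ^ n)⁻¹, a⁻¹⁆, Z.mul_mem hz hc, ?_⟩
      have hzc := Subgroup.mem_center_iff.mp (hZc hz)
      have hcc := Subgroup.mem_center_iff.mp (hZc hc)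
      rw [pow_succ, hzn, pow_succ, pow_succ]
      have e : b ^ n * a = a * b ^ n * ⁅(b ^ n)⁻¹, a⁻¹⁆ := by
        rw [commutatorElement_def]
        group
      calc a ^ n * b ^ n * z * (a * b) = a ^ n * b ^ n * (z * (a * b)) := by group
        _ = a ^ n * b ^ n * ((a * b) * z) := by rw [hzc (a * b)]
        _ = a ^ n * (b ^ n * a) * b * z := by group
        _ = a ^ n * (a * b ^ n * ⁅(b ^ n)⁻¹, a⁻¹⁆) * b * z := by rw [e]
        _ = a ^ n * a * b ^ n * (⁅(b ^ n)⁻¹, a⁻¹⁆ * (b * z)) := by group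
        _ = a ^ n * a * b ^ n * ((b * z) * ⁅(b ^ n)⁻¹, a⁻¹⁆) := by rw [hcc (b * z)]
        _ = a ^ n * a * (b ^ n * b) * (z * ⁅(b ^ n)⁻¹, a⁻¹⁆) := by group
  let T : Subgroup X :=
    { carrier := {b | b ∈ B ∧ b ^ r ∈ Z}
      mul_mem' := by
        rintro a b ⟨ha, har⟩ ⟨hb, hbr⟩
        refine ⟨B.mul_mem ha hb, ?_⟩
        obtain ⟨z, hz, hzn⟩ := hpow a ha b hb r
        rw [hzn]
        exact Z.mul_mem (Z.mul_mem har hbr) hz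
      one_mem' := ⟨B.one_mem, by rw [one_pow]; exact Z.one_mem⟩
      inv_mem' := by
        rintro a ⟨ha, har⟩
        refine ⟨B.inv_mem ha, ?_⟩
        rw [inv_pow]
        exact Z.inv_mem har }
  have hTn : T.Normal := by
    constructor
    rintro n ⟨hn, hnr⟩ g
    refine ⟨hBn.conj_mem n hn g, ?_⟩
    rw [conj_pow]
    exact hZn.conj_mem _ hnr g
  have hZT : Z ≤ T := fun z hz => ⟨hZB hz, Z.pow_mem hz r⟩
  have hTB : T ≤ B := fun b hb => hb.1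
  rcases hmin T hTn hZT hTB with h | h
  · exact absurd (h ⟨B.pow_mem hb₀B k, hbkr⟩) hbk
  · refine ⟨B, r, hBn, hZB, hBZ, hBC, hcomm, hr, fun b hb => ?_⟩
    have : b ∈ T := by rw [h]; exact hb
    exact this.2

/-- [TOWER] -/
theorem exists_tower {X : Type u} [Group X] [Finite X] [Group.IsSolvable X] (Z : Subgroup X)
    (hZc : Z ≤ Subgroup.center X)
    (hab : ∀ A : Subgroup X, A.Normal → (∀ a ∈ A, ∀ b ∈ A, a * b = b * a) → A ≤ Z) :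
    ∃ E : Subgroup X, E.Normal ∧ Z ≤ E ∧ ⁅E, E⁆ ≤ Z ∧ Subgroup.centralizer (E : Set X) ≤ Z ∧
      ∀ e ∈ E, ∃ s : ℕ, Squarefree s ∧ e ^ s ∈ Z := by
  classical
  have hZn : Z.Normal := by
    constructor
    intro n hn g
    have := (Subgroup.mem_center_iff.mp (hZc hn)) g
    rw [this, mul_inv_cancel_right]
    exact hn
  obtain ⟨E, ⟨hEn, hZE, hEE, hEs⟩, hEmax⟩ := Set.Finite.exists_maximal
    (Set.toFinite {E : Subgroup X | E.Normal ∧ Z ≤ E ∧ ⁅E, E⁆ ≤ Z ∧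
      ∀ e ∈ E, ∃ s : ℕ, Squarefree s ∧ e ^ s ∈ Z})
    ⟨Z, hZn, le_rfl, (Subgroup.commutator_le_left Z Z), fun e he => ⟨1, squarefree_one, by rwa [pow_one]⟩⟩
  refine ⟨E, hEn, hZE, hEE, ?_, hEs⟩
  by_contra hCZ
  have hCn : (Subgroup.centralizer (E : Set X)).Normal := Subgroup.normal_centralizer
  have hZC : Z ≤ Subgroup.centralizer (E : Set X) := by
    intro z hz
    rw [Subgroup.mem_centralizer_iff]
    intro e _
    exact Subgroup.mem_center_iff.mp (hZc hz) e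
  obtain ⟨B, r, hBn, hZB, hBZ, hBC, hBB, hr, hBr⟩ :=
    exists_min_over_central Z (Subgroup.centralizer (E : Set X)) hZc hCn hZC hCZ
  -- elements of `B` commute with elements of `E`
  have hEB : ∀ e ∈ E, ∀ b ∈ B, e * b = b * e := by
    intro e he b hb
    exact Subgroup.mem_centralizer_iff.mp (hBC hb) e he
  -- `E ⊔ B` lies in the family
  have hsupn : (E ⊔ B).Normal := Subgroup.sup_normal E B
  have hmem : ∀ x ∈ E ⊔ B, ∃ e ∈ E, ∃ b ∈ B, e * b = x := by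
    intro x hx
    have h1 : ((E ⊔ B : Subgroup X) : Set X) = (E : Set X) * (B : Set X) := Subgroup.mul_normal E B
    have h2 : x ∈ (E : Set X) * (B : Set X) := by rw [← h1]; exact hx
    obtain ⟨e, he, b, hb, rfl⟩ := Set.mem_mul.mp h2
    exact ⟨e, he, b, hb, rfl⟩
  have hcs : ⁅E ⊔ B, E ⊔ B⁆ ≤ Z := by
    rw [Subgroup.commutator_le]
    intro x hx y hy
    obtain ⟨e₁, he₁, b₁, hb₁, rfl⟩ := hmem x hx
    obtain ⟨e₂, he₂, b₂, hb₂, rfl⟩ := hmem y hy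
    have h1 : ⁅e₁ * b₁, e₂ * b₂⁆ = ⁅e₁, e₂⁆ * ⁅b₁, b₂⁆ := by
      rw [commutatorElement_def, commutatorElement_def, commutatorElement_def, mul_inv_rev, mul_inv_rev]
      have c1 : b₁ * e₂ = e₂ * b₁ := (hEB e₂ he₂ b₁ hb₁).symm
      have c2 : b₂ * e₁⁻¹ = e₁⁻¹ * b₂ := (hEB e₁⁻¹ (E.inv_mem he₁) b₂ hb₂).symm
      have c3 : b₁⁻¹ * e₁⁻¹ = e₁⁻¹ * b₁⁻¹ := (hEB e₁⁻¹ (E.inv_mem he₁) b₁⁻¹ (B.inv_mem hb₁)).symm
      have c4 : b₂⁻¹ * e₂⁻¹ = e₂⁻¹ * b₂⁻¹ := (hEB e₂⁻¹ (E.inv_mem he₂) b₂⁻¹ (B.inv_mem hb₂)).symm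
      have c5 : b₁ * e₁⁻¹ = e₁⁻¹ * b₁ := (hEB e₁⁻¹ (E.inv_mem he₁) b₁ hb₁).symm
      have c6 : b₁ * e₂⁻¹ = e₂⁻¹ * b₁ := (hEB e₂⁻¹ (E.inv_mem he₂) b₁ hb₁).symm
      have c7 : b₂ * e₂⁻¹ = e₂⁻¹ * b₂ := (hEB e₂⁻¹ (E.inv_mem he₂) b₂ hb₂).symm
      have c8 : b₁⁻¹ * e₂⁻¹ = e₂⁻¹ * b₁⁻¹ := (hEB e₂⁻¹ (E.inv_mem he₂) b₁⁻¹ (B.inv_mem hb₁)).symm
      calc e₁ * b₁ * (e₂ * b₂) * (b₁⁻¹ * e₁⁻¹) * (b₂⁻¹ * e₂⁻¹)
          = e₁ * (b₁ * e₂) * b₂ * (b₁⁻¹ * e₁⁻¹) * (b₂⁻¹ * e₂⁻¹) := by group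
        _ = e₁ * (e₂ * b₁) * b₂ * (e₁⁻¹ * b₁⁻¹) * (e₂⁻¹ * b₂⁻¹) := by rw [c1, c3, c4]
        _ = e₁ * e₂ * b₁ * (b₂ * e₁⁻¹) * b₁⁻¹ * e₂⁻¹ * b₂⁻¹ := by group
        _ = e₁ * e₂ * b₁ * (e₁⁻¹ * b₂) * b₁⁻¹ * e₂⁻¹ * b₂⁻¹ := by rw [c2]
        _ = e₁ * e₂ * (b₁ * e₁⁻¹) * b₂ * (b₁⁻¹ * e₂⁻¹) * b₂⁻¹ := by group
        _ = e₁ * e₂ * (e₁⁻¹ * b₁) * b₂ * (e₂⁻¹ * b₁⁻¹) * b₂⁻¹ := by rw [c5, c8]
        _ = e₁ * e₂ * e₁⁻¹ * b₁ * (b₂ * e₂⁻¹) * b₁⁻¹ * b₂⁻¹ := by group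
        _ = e₁ * e₂ * e₁⁻¹ * b₁ * (e₂⁻¹ * b₂) * b₁⁻¹ * b₂⁻¹ := by rw [c7]
        _ = e₁ * e₂ * e₁⁻¹ * (b₁ * e₂⁻¹) * b₂ * b₁⁻¹ * b₂⁻¹ := by group
        _ = e₁ * e₂ * e₁⁻¹ * (e₂⁻¹ * b₁) * b₂ * b₁⁻¹ * b₂⁻¹ := by rw [c6]
        _ = e₁ * e₂ * e₁⁻¹ * e₂⁻¹ * (b₁ * b₂ * b₁⁻¹ * b₂⁻¹) := by group
    rw [h1]
    exact Z.mul_mem (hEE (Subgroup.commutator_mem_commutator he₁ he₂))
      (hBB (Subgroup.commutator_mem_commutator hb₁ hb₂))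
  have hss : ∀ x ∈ E ⊔ B, ∃ s : ℕ, Squarefree s ∧ x ^ s ∈ Z := by
    intro x hx
    obtain ⟨e, he, b, hb, rfl⟩ := hmem x hx
    obtain ⟨s, hs, hes⟩ := hEs e he
    have hc : Commute e b := hEB e he b hb
    by_cases hrs : r ∣ s
    · obtain ⟨k, rfl⟩ := hrs
      refine ⟨r * k, hs, ?_⟩
      rw [hc.mul_pow]
      refine Z.mul_mem hes ?_
      rw [pow_mul]
      exact Z.pow_mem (hBr b hb) k
    · refine ⟨s * r, ?_, ?_⟩
      · rw [Nat.squarefree_mul_iff]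
        exact ⟨((Nat.Prime.coprime_iff_not_dvd hr).mpr hrs).symm, hs, hr.squarefree⟩
      · rw [hc.mul_pow]
        refine Z.mul_mem ?_ ?_
        · rw [pow_mul]
          exact Z.pow_mem hes r
        · rw [mul_comm, pow_mul]
          exact Z.pow_mem (hBr b hb) s
  have hle : E ≤ E ⊔ B := le_sup_left
  have hEq : E ⊔ B ≤ E := hEmax ⟨hsupn, hZE.trans hle, hcs, hss⟩ hle
  have hBE : B ≤ E := le_sup_right.trans hEq
  -- `B` lies in the centre of `E`, an abelian normal subgroup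
  have hAn : (E ⊓ Subgroup.centralizer (E : Set X)).Normal := Subgroup.normal_inf_normal E _
  have hA : E ⊓ Subgroup.centralizer (E : Set X) ≤ Z := by
    apply hab _ hAn
    intro a ha b hb
    exact (Subgroup.mem_centralizer_iff.mp ha.2 b hb.1).symm
  exact hBZ (fun b hb => hA ⟨hBE hb, hBC hb⟩)

end Cfsg.Agent.Lib.Helper15.Berger
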