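import Mathlib

/-!
# S0889 (Berger's theorem, helper80's project), module [WOLF-GRP] (helper15)

`wolf_group_of`: the group-theoretic form of Wolf's bound (for `H / N` acting faithfully and irreducibly on the
elementary abelian chief factor `K / N` of order `p ^ n`: `v_p |H : N| < n`), deduced from the multiplicative form
[WOLF-MUL], which enters as the explicit hypothesis `hwolf`.
-/

set_option autoImplicit false
set_option linter.unusedVariables false

open scoped commutatorElement

universe u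

namespace Cfsg.Agent.Lib.Helper15.Berger

/-- [WOLF-GRP], with the statement of [WOLF-MUL] as a hypothesis. -/
theorem wolf_group_of
    (hwolf : ∀ (p : ℕ) [Fact p.Prime] {X V : Type u} [Group X] [Finite X]
      [Group.IsSolvable X] [CommGroup V] [Finite V] [Nontrivial V] (_ : ∀ w : V, w ^ p = 1)
      (φ : X →* MulAut V) (_ : Function.Injective φ)
      (_ : ∀ U : Subgroup V, (∀ (x : X) (w : V), w ∈ U → φ x w ∈ U) → U = ⊥ ∨ U = ⊤),
      p ^ ((Nat.card X).factorization p + 1) ≤ Nat.card V)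
    {G : Type u} [Group G] [Finite G] (H K N : Subgroup G) [N.Normal] [K.Normal]
    (p n : ℕ) [Fact p.Prime] (hsolv : Group.IsSolvable H) (hNH : N ≤ H) (hNK : N ≤ K)
    (hcard : N.relIndex K = p ^ n) (hn : n ≠ 0) (hab : ⁅K, K⁆ ≤ N) (hexp : ∀ k ∈ K, k ^ p ∈ N)
    (hirr : ∀ M : Subgroup G, N ≤ M → M ≤ K → (∀ h ∈ H, ∀ m ∈ M, h * m * h⁻¹ ∈ M) → M = N ∨ M = K)
    (hfaith : ∀ h ∈ H, (∀ k ∈ K, ⁅h, k⁆ ∈ N) → h ∈ N) :
    (N.relIndex H).factorization p < n := by
  classical
  have hp : p.Prime := Fact.out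
  let π : G →* G ⧸ N := QuotientGroup.mk' N
  have hπ : ∀ g : G, π g = 1 ↔ g ∈ N := fun g => QuotientGroup.eq_one_iff g
  have hker : π.ker = N := QuotientGroup.ker_mk' N
  -- the two images
  have hKn : (K.map π).Normal := Subgroup.Normal.map inferInstance π (QuotientGroup.mk'_surjective N)
  have hcardV : Nat.card ↥(K.map π) = p ^ n := by
    rw [← Subgroup.relIndex_ker, hker, hcard]
  have hcardX : Nat.card ↥(H.map π) = N.relIndex H := by
    rw [← Subgroup.relIndex_ker, hker]
  -- `K / N` is commutative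
  have hcommV : ∀ a b : ↥(K.map π), a * b = b * a := by
    rintro ⟨a, ka, hka, rfl⟩ ⟨b, kb, hkb, rfl⟩
    apply Subtype.ext
    show π ka * π kb = π kb * π ka
    have h1 : ⁅ka, kb⁆ ∈ N := hab (Subgroup.commutator_mem_commutator hka hkb)
    have h2 : π ⁅ka, kb⁆ = 1 := (hπ _).mpr h1
    rw [map_commutatorElement, commutatorElement_eq_one_iff_commute] at h2
    exact h2.eq
  let instV : CommGroup ↥(K.map π) := { (inferInstance : Group ↥(K.map π)) with mul_comm := hcommV }
  have : Nontrivial ↥(K.map π) := by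
    rw [← Finite.one_lt_card_iff_nontrivial, hcardV]
    exact Nat.one_lt_pow hn hp.one_lt
  have hexpV : ∀ w : ↥(K.map π), w ^ p = 1 := by
    rintro ⟨w, k, hk, rfl⟩
    apply Subtype.ext
    show (π k) ^ p = 1
    rw [← map_pow]
    exact (hπ _).mpr (hexp k hk)
  have : Group.IsSolvable ↥(H.map π) :=
    Group.isSolvable_of_surjective (π.subgroupMap_surjective H)
  -- the action
  let φ : ↥(H.map π) →* MulAut ↥(K.map π) :=
    (MulAut.conjNormal (H := K.map π)).comp (H.map π).subtype
  have hφapp : ∀ (x : ↥(H.map π)) (v : ↥(K.map π)), ((φ x v : ↥(K.map π)) : G ⧸ N) = x * v * (x : G ⧸ N)⁻¹ :=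
    fun x v => rfl
  have hφinj : Function.Injective φ := by
    rw [injective_iff_map_eq_one]
    rintro ⟨x, h, hh, rfl⟩ hx
    apply Subtype.ext
    show π h = 1
    rw [hπ]
    apply hfaith h hh
    intro k hk
    rw [← hπ, map_commutatorElement, commutatorElement_eq_one_iff_commute]
    have h1 := congrArg (fun e : MulAut ↥(K.map π) => ((e ⟨π k, Subgroup.mem_map_of_mem π hk⟩ : ↥(K.map π)) : G ⧸ N)) hx
    simp only [MulAut.one_apply] at h1
    rw [hφapp] at h1
    show π h * π k = π k * π h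
    have h2 : π h * π k * (π h)⁻¹ = π k := h1
    calc π h * π k = π h * π k * (π h)⁻¹ * π h := by group
      _ = π k * π h := by rw [h2]
  have hirrV : ∀ U : Subgroup ↥(K.map π), (∀ (x : ↥(H.map π)) (w : ↥(K.map π)), w ∈ U → φ x w ∈ U) →
      U = ⊥ ∨ U = ⊤ := by
    intro U hU
    let M : Subgroup G := (U.map (K.map π).subtype).comap π
    have hmemM : ∀ g : G, g ∈ M ↔ ∃ hg : π g ∈ K.map π, (⟨π g, hg⟩ : ↥(K.map π)) ∈ U := by
      intro g
      constructor
      · rintro ⟨w, hw, hwg⟩
        have : π g ∈ K.map π := by rw [← hwg]; exact w.2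
        refine ⟨this, ?_⟩
        have h0 : (⟨π g, this⟩ : ↥(K.map π)) = w := Subtype.ext hwg.symm
        rw [h0]
        exact hw
      · rintro ⟨hg, hgU⟩
        exact ⟨⟨π g, hg⟩, hgU, rfl⟩
    have hNM : N ≤ M := by
      intro x hx
      rw [hmemM]
      have h1 : π x = 1 := (hπ x).mpr hx
      have h0 : π x ∈ K.map π := by rw [h1]; exact Subgroup.one_mem _
      refine ⟨h0, ?_⟩
      have h2 : (⟨π x, h0⟩ : ↥(K.map π)) = 1 := Subtype.ext h1
      rw [h2]
      exact U.one_mem
    have hMK : M ≤ K := by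
      intro g hg
      obtain ⟨hgK, -⟩ := (hmemM g).mp hg
      obtain ⟨k, hk, hkg⟩ := hgK
      have h1 : π (k⁻¹ * g) = 1 := by rw [map_mul, map_inv, hkg, inv_mul_cancel]
      have h2 : k⁻¹ * g ∈ K := hNK ((hπ _).mp h1)
      have h3 : g = k * (k⁻¹ * g) := by group
      rw [h3]
      exact K.mul_mem hk h2
    have hMH : ∀ h ∈ H, ∀ m ∈ M, h * m * h⁻¹ ∈ M := by
      intro h hh m hm
      obtain ⟨hmK, hmU⟩ := (hmemM m).mp hm
      have h1 := hU ⟨π h, Subgroup.mem_map_of_mem π hh⟩ ⟨π m, hmK⟩ hmU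
      rw [hmemM]
      have h2 : π (h * m * h⁻¹) = π h * π m * (π h)⁻¹ := by rw [map_mul, map_mul, map_inv]
      refine ⟨by rw [h2]; exact hKn.conj_mem _ hmK _, ?_⟩
      convert h1 using 1
      apply Subtype.ext
      exact h2
    rcases hirr M hNM hMK hMH with h | h
    · left
      rw [eq_bot_iff]
      rintro ⟨u, k, hk, rfl⟩ hu
      have : k ∈ M := (hmemM k).mpr ⟨Subgroup.mem_map_of_mem π hk, hu⟩
      rw [h] at this
      rw [Subgroup.mem_bot]
      apply Subtype.ext
      exact (hπ k).mpr this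
    · right
      rw [eq_top_iff]
      rintro ⟨v, k, hk, rfl⟩ -
      have : k ∈ M := by rw [h]; exact hk
      obtain ⟨_, hkU⟩ := (hmemM k).mp this
      exact hkU
  have hmain := hwolf p hexpV φ hφinj hirrV
  rw [hcardV, hcardX] at hmain
  have := (Nat.pow_le_pow_iff_right hp.one_lt).mp hmain
  omega

end Cfsg.Agent.Lib.Helper15.Berger
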