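import Mathlib

/-!
# Project ASCH / BHR, module [E4] (helper15), part 1: an abstract lemma on groups of symplectic type

Let `G` be a finite group, `c` a central element with `c * c = 1` such that any two elements commute up
to `c`, and such that every coset of the centre contains an element of square `c`.
Then every characteristic commutative subgroup of `G` is central
(the "symplectic transvections" `x ↦ x` if `x u = u x`, `x ↦ x u` otherwise, are automorphisms).
-/

set_option autoImplicit false

namespace Cfsg.Agent.Lib.Helper15.BhrE4

variable {G : Type*} [Group G]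

open Classical in
/-- the "symplectic transvection" attached to `u`. -/
noncomputable def transvMap (u : G) (x : G) : G := if x * u = u * x then x else x * u

theorem transvMap_mul (c u : G) (hc : ∀ x, c * x = x * c) (hcc : c * c = 1) (huu : u * u = c)
    (hcomm : ∀ x y : G, x * y = y * x ∨ x * y = c * (y * x)) (x y : G) :
    transvMap u (x * y) = transvMap u x * transvMap u y := by
  classical
  have hnc : ∀ z : G, ¬ z * u = u * z → z * u = c * (u * z) := by
    intro z hz
    rcases hcomm z u with h | h
    · exact absurd h hz
    · exact h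
  have hc1 : ∀ z : G, ¬ z * u = u * z → c ≠ 1 := by
    intro z hz h1
    have := hnc z hz
    rw [h1, one_mul] at this
    exact hz this
  unfold transvMap
  by_cases hx : x * u = u * x <;> by_cases hy : y * u = u * y
  · have hxy : x * y * u = u * (x * y) := by
      rw [mul_assoc, hy, ← mul_assoc, hx, mul_assoc]
    rw [if_pos hxy, if_pos hx, if_pos hy]
  · have hy' := hnc y hy
    have hxy : x * y * u = c * (u * (x * y)) := by
      rw [mul_assoc, hy', ← mul_assoc, ← hc, mul_assoc, ← mul_assoc x, hx, mul_assoc]
    have hxy' : ¬ x * y * u = u * (x * y) := by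
      intro h
      rw [h] at hxy
      have : c = 1 := by
        have := mul_right_cancel (a := c) (b := u * (x * y)) (c := 1) (by rw [one_mul]; exact hxy.symm)
        exact this
      exact hc1 y hy this
    rw [if_neg hxy', if_pos hx, if_neg hy, mul_assoc]
  · have hx' := hnc x hx
    have hxy : x * y * u = c * (u * (x * y)) := by
      rw [mul_assoc, hy, ← mul_assoc, hx', mul_assoc, mul_assoc]
    have hxy' : ¬ x * y * u = u * (x * y) := by
      intro h
      rw [h] at hxy
      have : c = 1 := by
        have := mul_right_cancel (a := c) (b := u * (x * y)) (c := 1) (by rw [one_mul]; exact hxy.symm)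
        exact this
      exact hc1 x hx this
    rw [if_neg hxy', if_neg hx, if_pos hy, mul_assoc, hy, ← mul_assoc]
  · have hx' := hnc x hx
    have hy' := hnc y hy
    have hxy : x * y * u = u * (x * y) := by
      rw [mul_assoc, hy', ← mul_assoc, ← hc, mul_assoc, ← mul_assoc x, hx', mul_assoc c, ← mul_assoc c,
        hcc, one_mul, mul_assoc]
    rw [if_pos hxy, if_neg hx, if_neg hy]
    -- x u (y u) = x (u y) u, and u y = c (y u)
    have huy : u * y = c * (y * u) := by
      rw [hy', ← mul_assoc, hcc, one_mul]
    symm
    calc x * u * (y * u) = x * ((u * y) * u) := by simp only [mul_assoc]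
      _ = x * ((c * (y * u)) * u) := by rw [huy]
      _ = x * (c * (y * (u * u))) := by simp only [mul_assoc]
      _ = x * (c * (y * c)) := by rw [huu]
      _ = x * (c * (c * y)) := by rw [hc y]
      _ = x * y := by rw [← mul_assoc c, hcc, one_mul]

/-- the symplectic transvection as a monoid homomorphism. -/
noncomputable def transvHom (c u : G) (hc : ∀ x, c * x = x * c) (hcc : c * c = 1) (huu : u * u = c)
    (hcomm : ∀ x y : G, x * y = y * x ∨ x * y = c * (y * x)) : G →* G :=
  MonoidHom.mk' (transvMap u) (transvMap_mul c u hc hcc huu hcomm)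

theorem transvHom_apply (c u : G) (hc : ∀ x, c * x = x * c) (hcc : c * c = 1) (huu : u * u = c)
    (hcomm : ∀ x y : G, x * y = y * x ∨ x * y = c * (y * x)) (x : G) :
    transvHom c u hc hcc huu hcomm x = transvMap u x := rfl

theorem transvHom_injective (c u : G) (hc : ∀ x, c * x = x * c) (hcc : c * c = 1) (huu : u * u = c)
    (hcomm : ∀ x y : G, x * y = y * x ∨ x * y = c * (y * x)) :
    Function.Injective (transvHom c u hc hcc huu hcomm) := by
  classical
  rw [injective_iff_map_eq_one]
  intro x hx
  rw [transvHom_apply] at hx
  unfold transvMap at hx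
  by_cases h : x * u = u * x
  · rwa [if_pos h] at hx
  · rw [if_neg h] at hx
    exfalso
    apply h
    have hxi : x = u⁻¹ := eq_inv_of_mul_eq_one_left hx
    rw [hxi, inv_mul_cancel, mul_inv_cancel]

/-- **Characteristic commutative subgroups are central** in a finite group whose elements commute up to a
central involution `c` and in which every coset of the centre contains an element of square `c`. -/
theorem le_center_of_characteristic [Finite G] (c : G) (hc : ∀ x, c * x = x * c) (hcc : c * c = 1)
    (hcomm : ∀ x y : G, x * y = y * x ∨ x * y = c * (y * x))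
    (hsq : ∀ b : G, ∃ ζ : G, (∀ x, ζ * x = x * ζ) ∧ (ζ * b) * (ζ * b) = c)
    (A : Subgroup G) (hA : A.Characteristic) (hAc : ∀ x ∈ A, ∀ y ∈ A, x * y = y * x) :
    A ≤ Subgroup.center G := by
  classical
  intro a ha
  rw [Subgroup.mem_center_iff]
  intro b
  by_contra hab
  obtain ⟨ζ, hζ, hu⟩ := hsq b
  set u := ζ * b with hud
  have hau : ¬ a * u = u * a := by
    intro h
    apply hab
    have h1 : ζ * (a * b) = ζ * (b * a) := by
      calc ζ * (a * b) = a * (ζ * b) := by rw [← mul_assoc, hζ a, mul_assoc]
        _ = ζ * b * a := h
        _ = ζ * (b * a) := by rw [mul_assoc]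
    exact (mul_left_cancel h1).symm
  have hinj := transvHom_injective c u hc hcc hu hcomm
  let φ : G ≃* G := MulEquiv.ofBijective (transvHom c u hc hcc hu hcomm)
    ⟨hinj, Finite.surjective_of_injective hinj⟩
  have hfix := hA.fixed φ
  have hφa : φ a ∈ A := by
    have : a ∈ A.comap φ.toMonoidHom := by rw [hfix]; exact ha
    exact this
  have hφa' : φ a = a * u := by
    show transvMap u a = a * u
    unfold transvMap
    rw [if_neg hau]
  rw [hφa'] at hφa
  have h2 := hAc a ha (a * u) hφa
  apply hau
  have h3 : a * (a * u) = a * (u * a) := by rw [h2, mul_assoc]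
  exact mul_left_cancel h3

/-- consequence: such subgroups are cyclic when the centre is. -/
theorem isCyclic_of_characteristic [Finite G] (c : G) (hc : ∀ x, c * x = x * c) (hcc : c * c = 1)
    (hcomm : ∀ x y : G, x * y = y * x ∨ x * y = c * (y * x))
    (hsq : ∀ b : G, ∃ ζ : G, (∀ x, ζ * x = x * ζ) ∧ (ζ * b) * (ζ * b) = c)
    (hZ : IsCyclic (Subgroup.center G))
    (A : Subgroup G) (hA : A.Characteristic) (hAc : IsMulCommutative A) : IsCyclic A := by
  have hle : A ≤ Subgroup.center G := by
    refine le_center_of_characteristic c hc hcc hcomm hsq A hA ?_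
    intro x hx y hy
    have := hAc.is_comm.comm ⟨x, hx⟩ ⟨y, hy⟩
    exact congrArg Subtype.val this
  exact isCyclic_of_injective (Subgroup.inclusion hle) (Subgroup.inclusion_injective hle)

end Cfsg.Agent.Lib.Helper15.BhrE4
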