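import Mathlib
import Cfsg.Prelude.Def_GeometricClasses

/-!
# Project ASCH / BHR, module [E4] (helper15), part 2: the Pauli-type group `4 ∘ 2^(1+4)` in `GL_4(F)`

`Mstd c a b` is the monomial matrix `e_j ↦ c * (-1)^(b·j) e_(j ⊕ a)` (indices in `Fin 4 = (Z/2)^2`).
-/

set_option autoImplicit false

namespace Cfsg.Agent.Lib.Helper15.BhrE4

open Cfsg Cfsg.Geo
open scoped MatrixGroups Matrix

/-! ## index combinatorics on `Fin 4 = (Z/2)^2` -/

/-- xor on `Fin 4`. -/
def xr (j a : Fin 4) : Fin 4 :=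
  (![![0, 1, 2, 3], ![1, 0, 3, 2], ![2, 3, 0, 1], ![3, 2, 1, 0]] : Fin 4 → Fin 4 → Fin 4) j a

/-- the dot product on `(Z/2)^2`, as a Boolean. -/
def dt (b j : Fin 4) : Bool :=
  (![![false, false, false, false], ![false, true, false, true], ![false, false, true, true],
    ![false, true, true, false]] : Fin 4 → Fin 4 → Bool) b j

theorem xr_assoc : ∀ j a a' : Fin 4, xr (xr j a) a' = xr j (xr a a') := by decide
theorem xr_comm : ∀ j a : Fin 4, xr j a = xr a j := by decide
theorem xr_self : ∀ j : Fin 4, xr j j = 0 := by decide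
theorem xr_zero : ∀ j : Fin 4, xr j 0 = j := by decide
theorem zero_xr : ∀ j : Fin 4, xr 0 j = j := by decide
theorem xr_xr_self : ∀ j a : Fin 4, xr (xr j a) a = j := by decide
theorem xr_eq_iff : ∀ j k a : Fin 4, j = xr k a ↔ xr j a = k := by decide
theorem dt_xr_right : ∀ b j a : Fin 4, dt b (xr j a) = xor (dt b j) (dt b a) := by decide
theorem dt_xr_left : ∀ b b' j : Fin 4, dt (xr b b') j = xor (dt b j) (dt b' j) := by decide
theorem dt_zero_left : ∀ j : Fin 4, dt 0 j = false := by decide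
theorem dt_zero_right : ∀ b : Fin 4, dt b 0 = false := by decide
theorem dt_comm : ∀ b j : Fin 4, dt b j = dt j b := by decide
theorem dt_nondeg : ∀ b : Fin 4, (∀ j, dt b j = false) → b = 0 := by decide
theorem dt_sum : ∀ j k : Fin 4, j ≠ k → ∃ b b' : Fin 4, dt b j = dt b k ∧ dt b' j ≠ dt b' k := by decide

/-! ## signs -/

variable {F : Type*} [Field F]

/-- `(-1)^t`. -/
def sg (F : Type*) [Field F] (t : Bool) : F := if t then -1 else 1

theorem sg_false : sg F false = 1 := rfl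
theorem sg_true : sg F true = -1 := rfl

theorem sg_xor (s t : Bool) : sg F (xor s t) = sg F s * sg F t := by
  cases s <;> cases t <;> simp [sg]

theorem sg_mul_self (t : Bool) : sg F t * sg F t = 1 := by
  cases t <;> simp [sg]

theorem sg_ne_zero (t : Bool) : sg F t ≠ 0 := by
  cases t <;> simp [sg]

theorem sg_eq_one_or (t : Bool) : sg F t = 1 ∨ sg F t = -1 := by
  cases t <;> simp [sg]

theorem sg_injective (h2 : (2 : F) ≠ 0) : Function.Injective (sg F) := by
  have h1 : (1 : F) ≠ -1 := by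
    intro h
    apply h2
    have : (1 : F) + 1 = 0 := by nth_rewrite 2 [h]; ring
    rw [← this]; norm_num
  intro s t h
  cases s <;> cases t <;> simp [sg] at h ⊢
  · exact h1 h
  · exact h1 h.symm

/-! ## monomial matrices -/

/-- the monomial matrix `e_j ↦ μ j • e_(π j)`. -/
def Mon (π : Fin 4 → Fin 4) (μ : Fin 4 → F) : Matrix (Fin 4) (Fin 4) F :=
  fun j' j => if j' = π j then μ j else 0

theorem Mon_mul (π π' : Fin 4 → Fin 4) (μ μ' : Fin 4 → F) :
    Mon π μ * Mon π' μ' = Mon (π ∘ π') (fun j => μ (π' j) * μ' j) := by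
  ext j'' j
  simp only [Matrix.mul_apply, Mon, Function.comp]
  rw [Finset.sum_eq_single (π' j)]
  · rw [if_pos rfl]
    split_ifs <;> simp
  · intro k _ hk
    rw [if_neg hk, mul_zero]
  · intro h; exact absurd (Finset.mem_univ _) h

theorem Mon_one : Mon (F := F) id (fun _ => 1) = 1 := by
  ext j' j
  simp [Mon, Matrix.one_apply]

theorem Mon_mulVec (π : Fin 4 → Fin 4) (μ : Fin 4 → F) (v : Fin 4 → F) (j' : Fin 4) :
    (Mon π μ *ᵥ v) j' = ∑ j, if j' = π j then μ j * v j else 0 := by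
  simp only [Matrix.mulVec, dotProduct, Mon]
  refine Finset.sum_congr rfl fun j _ => ?_
  split_ifs <;> simp

theorem Mon_injective_right (π : Fin 4 → Fin 4) (μ μ' : Fin 4 → F) (h : Mon π μ = Mon π μ') :
    μ = μ' := by
  funext j
  have := congrFun (congrFun h (π j)) j
  simpa [Mon] using this

theorem Mon_injective_left (π π' : Fin 4 → Fin 4) (μ μ' : Fin 4 → F) (hμ : ∀ j, μ j ≠ 0)
    (h : Mon π μ = Mon π' μ') : π = π' := by
  funext j
  have := congrFun (congrFun h (π j)) j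
  simp only [Mon, if_true] at this
  by_contra hne
  rw [if_neg hne] at this
  exact hμ j this

/-- the standard Pauli-type matrix. -/
def Mstd (c : F) (a b : Fin 4) : Matrix (Fin 4) (Fin 4) F :=
  Mon (fun j => xr j a) (fun j => c * sg F (dt b j))

theorem Mstd_mul (c c' : F) (a a' b b' : Fin 4) :
    Mstd c a b * Mstd c' a' b' = Mstd (c * c' * sg F (dt b a')) (xr a' a) (xr b b') := by
  unfold Mstd
  rw [Mon_mul]
  congr 1
  · funext j
    simp only [Function.comp, xr_assoc]
  · funext j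
    rw [dt_xr_right, dt_xr_left, sg_xor, sg_xor]
    ring

theorem Mstd_one : Mstd (1 : F) 0 0 = 1 := by
  unfold Mstd
  rw [← Mon_one]
  congr 1
  · funext j; exact xr_zero j
  · funext j; rw [dt_zero_left, sg_false, mul_one]

theorem Mstd_scalar (c : F) : Mstd c 0 0 = c • (1 : Matrix (Fin 4) (Fin 4) F) := by
  ext j' j
  simp only [Mstd, Mon, xr_zero, dt_zero_left, sg_false, mul_one, Matrix.smul_apply, Matrix.one_apply,
    smul_eq_mul]
  split_ifs <;> simp

theorem Mstd_injective (h2 : (2 : F) ≠ 0) (c c' : F) (hc : c ≠ 0) (a a' b b' : Fin 4)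
    (h : Mstd c a b = Mstd c' a' b') : c = c' ∧ a = a' ∧ b = b' := by
  unfold Mstd at h
  have hμ : ∀ j, c * sg F (dt b j) ≠ 0 := fun j => mul_ne_zero hc (sg_ne_zero _)
  have hπ := Mon_injective_left _ _ _ _ hμ h
  have ha : a = a' := by
    have := congrFun hπ 0
    simpa [zero_xr] using this
  subst ha
  have hμ' := Mon_injective_right _ _ _ h
  have hc' : c = c' := by
    have := congrFun hμ' 0
    simpa [dt_zero_right, sg_false] using this
  subst hc'
  refine ⟨rfl, rfl, ?_⟩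
  have hsg : ∀ j, dt b j = dt b' j := by
    intro j
    have := congrFun hμ' j
    exact sg_injective h2 (mul_left_cancel₀ hc this)
  have h0 : xr b b' = 0 := by
    apply dt_nondeg
    intro j
    rw [dt_xr_left, hsg j]
    simp
  have h1 : xr (xr b b') b' = xr 0 b' := by rw [h0]
  rw [xr_xr_self, zero_xr] at h1
  exact h1

/-! ## the group elements -/

/-- `(-1)^t` as a unit. -/
def sgU (F : Type*) [Field F] (t : Bool) : Fˣ := if t then -1 else 1

theorem sgU_val (t : Bool) : ((sgU F t : Fˣ) : F) = sg F t := by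
  cases t <;> simp [sgU, sg]

theorem sgU_mul_self (t : Bool) : sgU F t * sgU F t = 1 := by
  apply Units.ext; rw [Units.val_mul, sgU_val, sg_mul_self, Units.val_one]

/-- the standard Pauli-type matrix as an element of `GL`. -/
def MstdGL (c : Fˣ) (a b : Fin 4) : GL (Fin 4) F where
  val := Mstd (c : F) a b
  inv := Mstd (((c⁻¹ : Fˣ) : F) * sg F (dt b a)) a b
  val_inv := by
    rw [Mstd_mul, xr_self, xr_self, ← Mstd_one]
    congr 1
    rw [mul_assoc, mul_assoc, sg_mul_self, mul_one, Units.mul_inv]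
  inv_val := by
    rw [Mstd_mul, xr_self, xr_self, ← Mstd_one]
    congr 1
    have : ((c⁻¹ : Fˣ) : F) * sg F (dt b a) * (c : F) * sg F (dt b a) =
        (((c⁻¹ : Fˣ) : F) * (c : F)) * (sg F (dt b a) * sg F (dt b a)) := by ring
    rw [this, sg_mul_self, mul_one, Units.inv_mul]

theorem MstdGL_val (c : Fˣ) (a b : Fin 4) :
    ((MstdGL c a b : GL (Fin 4) F) : Matrix (Fin 4) (Fin 4) F) = Mstd (c : F) a b := rfl

theorem MstdGL_mul (c c' : Fˣ) (a a' b b' : Fin 4) :
    MstdGL c a b * MstdGL c' a' b' = MstdGL (c * c' * sgU F (dt b a')) (xr a' a) (xr b b') := by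
  apply Units.ext
  rw [Units.val_mul, MstdGL_val, MstdGL_val, MstdGL_val, Mstd_mul, Units.val_mul, Units.val_mul, sgU_val]

theorem MstdGL_one : MstdGL (1 : Fˣ) 0 0 = 1 := by
  apply Units.ext
  rw [MstdGL_val, Units.val_one, Units.val_one, Mstd_one]

/-- the conjugated family. -/
def E (P : GL (Fin 4) F) (c : Fˣ) (a b : Fin 4) : GL (Fin 4) F := P * MstdGL c a b * P⁻¹

theorem E_mul (P : GL (Fin 4) F) (c c' : Fˣ) (a a' b b' : Fin 4) :
    E P c a b * E P c' a' b' = E P (c * c' * sgU F (dt b a')) (xr a' a) (xr b b') := by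
  unfold E
  rw [← MstdGL_mul]
  group

theorem E_one (P : GL (Fin 4) F) : E P (1 : Fˣ) 0 0 = 1 := by
  unfold E
  rw [MstdGL_one]; group

theorem E_val_scalar (P : GL (Fin 4) F) (c : Fˣ) :
    ((E P c 0 0 : GL (Fin 4) F) : Matrix (Fin 4) (Fin 4) F) = (c : F) • (1 : Matrix (Fin 4) (Fin 4) F) := by
  unfold E
  rw [Units.val_mul, Units.val_mul, MstdGL_val, Mstd_scalar, Matrix.mul_smul, Matrix.smul_mul, mul_one,
    Units.mul_inv]

theorem E_injective (h2 : (2 : F) ≠ 0) (P : GL (Fin 4) F) (c c' : Fˣ) (a a' b b' : Fin 4)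
    (h : E P c a b = E P c' a' b') : c = c' ∧ a = a' ∧ b = b' := by
  unfold E at h
  have h1 : MstdGL c a b = MstdGL c' a' b' := mul_left_cancel (mul_right_cancel h)
  have h2' := congrArg Units.val h1
  rw [MstdGL_val, MstdGL_val] at h2'
  obtain ⟨hc, ha, hb⟩ := Mstd_injective h2 _ _ c.ne_zero _ _ _ _ h2'
  exact ⟨Units.ext hc, ha, hb⟩

/-- the group `4 ∘ 2^(1+4)` (for `|F| = 5`), conjugated by `P`. -/
def pauliGroup (P : GL (Fin 4) F) : Subgroup (GL (Fin 4) F) where
  carrier := {g | ∃ (c : Fˣ) (a b : Fin 4), g = E P c a b}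
  mul_mem' := by
    rintro _ _ ⟨c, a, b, rfl⟩ ⟨c', a', b', rfl⟩
    exact ⟨_, _, _, E_mul P c c' a a' b b'⟩
  one_mem' := ⟨1, 0, 0, (E_one P).symm⟩
  inv_mem' := by
    rintro _ ⟨c, a, b, rfl⟩
    refine ⟨c⁻¹ * sgU F (dt b a), a, b, ?_⟩
    apply inv_eq_of_mul_eq_one_right
    rw [E_mul, xr_self, xr_self, ← E_one P]
    congr 1
    rw [mul_assoc, mul_assoc, sgU_mul_self, mul_one, mul_inv_cancel]

theorem mem_pauliGroup (P : GL (Fin 4) F) (g : GL (Fin 4) F) :
    g ∈ pauliGroup P ↔ ∃ (c : Fˣ) (a b : Fin 4), g = E P c a b := Iff.rfl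

end Cfsg.Agent.Lib.Helper15.BhrE4
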