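import Mathlib
import Cfsg.Prelude.Def_GeometricClasses
import Cfsg.Agent.Lib.Helper15.BhrE4Mat

/-!
# Project ASCH / BHR, module [E4] (helper15), part 4: absolute irreducibility of `pauliGroup P`
-/

set_option autoImplicit false

namespace Cfsg.Agent.Lib.Helper15.BhrE4

open Cfsg Cfsg.Geo
open scoped MatrixGroups Matrix

variable {F : Type*} [Field F]

/-! ## general transport lemmas -/

theorem absIrred_mono {ι : Type} [Fintype ι] [DecidableEq ι] (S T : Set (Matrix ι ι F)) (hST : S ⊆ T)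
    (hS : ActsAbsolutelyIrreducibly S) : ActsAbsolutelyIrreducibly T :=
  ⟨fun W hW => hS.1 W fun s hs => hW s (hST hs), fun M hM => hS.2 M fun s hs => hM s (hST hs)⟩

theorem absIrred_conj {ι : Type} [Fintype ι] [DecidableEq ι] (S : Set (Matrix ι ι F)) (P : GL ι F)
    (hS : ActsAbsolutelyIrreducibly S) :
    ActsAbsolutelyIrreducibly
      ((fun s => (P : Matrix ι ι F) * s * ((P⁻¹ : GL ι F) : Matrix ι ι F)) '' S) := by
  have hPi : ((P⁻¹ : GL ι F) : Matrix ι ι F) * (P : Matrix ι ι F) = 1 := Units.inv_mul P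
  have hiP : (P : Matrix ι ι F) * ((P⁻¹ : GL ι F) : Matrix ι ι F) = 1 := Units.mul_inv P
  constructor
  · intro W hW
    -- W' = P⁻¹ W
    set W' : Submodule F (ι → F) := W.comap (Matrix.toLin' (P : Matrix ι ι F)) with hW'
    have hinv : ∀ s ∈ S, W'.map (Matrix.toLin' s) ≤ W' := by
      intro s hs
      rintro _ ⟨v, hv, rfl⟩
      have hv : Matrix.toLin' (P : Matrix ι ι F) v ∈ W := hv
      show Matrix.toLin' (P : Matrix ι ι F) (Matrix.toLin' s v) ∈ W
      have h1 := hW _ (Set.mem_image_of_mem _ hs)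
      have h2 : Matrix.toLin' ((P : Matrix ι ι F) * s * ((P⁻¹ : GL ι F) : Matrix ι ι F))
          (Matrix.toLin' (P : Matrix ι ι F) v) ∈ W := h1 (Submodule.mem_map_of_mem hv)
      rw [Matrix.toLin'_apply, Matrix.toLin'_apply, Matrix.mulVec_mulVec, mul_assoc, mul_assoc, hPi,
        mul_one, ← Matrix.mulVec_mulVec] at h2
      rw [Matrix.toLin'_apply, Matrix.toLin'_apply]
      exact h2
    rcases hS.1 W' hinv with h | h
    · left
      rw [eq_bot_iff]
      intro w hw
      have : ((P⁻¹ : GL ι F) : Matrix ι ι F) *ᵥ w ∈ W' := by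
        rw [hW', Submodule.mem_comap, Matrix.toLin'_apply, Matrix.mulVec_mulVec, hiP,
          Matrix.one_mulVec]
        exact hw
      rw [h, Submodule.mem_bot] at this
      have h3 := congrArg (fun x => (P : Matrix ι ι F) *ᵥ x) this
      simp only [Matrix.mulVec_mulVec, hiP, Matrix.one_mulVec, Matrix.mulVec_zero] at h3
      rw [h3]; exact Submodule.zero_mem _
    · right
      rw [eq_top_iff]
      intro w _
      have : ((P⁻¹ : GL ι F) : Matrix ι ι F) *ᵥ w ∈ W' := by rw [h]; trivial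
      rw [hW', Submodule.mem_comap, Matrix.toLin'_apply, Matrix.mulVec_mulVec, hiP,
        Matrix.one_mulVec] at this
      exact this
  · intro M hM
    have hcomm : ∀ s ∈ S, (((P⁻¹ : GL ι F) : Matrix ι ι F) * M * (P : Matrix ι ι F)) * s =
        s * (((P⁻¹ : GL ι F) : Matrix ι ι F) * M * (P : Matrix ι ι F)) := by
      intro s hs
      have h1 : M * ((P : Matrix ι ι F) * s * ((P⁻¹ : GL ι F) : Matrix ι ι F)) =
          ((P : Matrix ι ι F) * s * ((P⁻¹ : GL ι F) : Matrix ι ι F)) * M :=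
        hM _ (Set.mem_image_of_mem _ hs)
      calc ((P⁻¹ : GL ι F) : Matrix ι ι F) * M * (P : Matrix ι ι F) * s
          = ((P⁻¹ : GL ι F) : Matrix ι ι F) *
              (M * ((P : Matrix ι ι F) * s * ((P⁻¹ : GL ι F) : Matrix ι ι F))) * (P : Matrix ι ι F) := by
            simp only [mul_assoc, hPi, mul_one]
        _ = ((P⁻¹ : GL ι F) : Matrix ι ι F) *
              (((P : Matrix ι ι F) * s * ((P⁻¹ : GL ι F) : Matrix ι ι F)) * M) * (P : Matrix ι ι F) := by
            rw [h1]
        _ = s * (((P⁻¹ : GL ι F) : Matrix ι ι F) * M * (P : Matrix ι ι F)) := by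
            simp only [← mul_assoc, hPi, one_mul]
    obtain ⟨c, hc⟩ := hS.2 _ hcomm
    refine ⟨c, ?_⟩
    have h2 : M = (P : Matrix ι ι F) * (((P⁻¹ : GL ι F) : Matrix ι ι F) * M * (P : Matrix ι ι F)) *
        ((P⁻¹ : GL ι F) : Matrix ι ι F) := by
      simp only [← mul_assoc, hiP, one_mul]
      rw [mul_assoc, hiP, mul_one]
    rw [h2, hc, Matrix.mul_smul, Matrix.smul_mul, mul_one, hiP]

/-! ## the standard generators act absolutely irreducibly -/

theorem Mstd_mulVec (c : F) (a b : Fin 4) (v : Fin 4 → F) (j' : Fin 4) :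
    (Mstd c a b *ᵥ v) j' = c * sg F (dt b (xr j' a)) * v (xr j' a) := by
  unfold Mstd
  rw [Mon_mulVec, Finset.sum_eq_single (xr j' a)]
  · rw [if_pos (by rw [xr_xr_self])]
  · intro j _ hj
    rw [if_neg]
    intro h
    apply hj
    rw [h, xr_xr_self]
  · intro h; exact absurd (Finset.mem_univ _) h

theorem mul_Mstd_apply (M : Matrix (Fin 4) (Fin 4) F) (c : F) (a b : Fin 4) (j' j : Fin 4) :
    (M * Mstd c a b) j' j = M j' (xr j a) * (c * sg F (dt b j)) := by
  simp only [Matrix.mul_apply, Mstd, Mon]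
  rw [Finset.sum_eq_single (xr j a)]
  · rw [if_pos rfl]
  · intro k _ hk
    rw [if_neg hk, mul_zero]
  · intro h; exact absurd (Finset.mem_univ _) h

theorem Mstd_mul_apply (M : Matrix (Fin 4) (Fin 4) F) (c : F) (a b : Fin 4) (j' j : Fin 4) :
    (Mstd c a b * M) j' j = c * sg F (dt b (xr j' a)) * M (xr j' a) j := by
  simp only [Matrix.mul_apply, Mstd, Mon]
  rw [Finset.sum_eq_single (xr j' a)]
  · rw [if_pos (by rw [xr_xr_self])]
  · intro k _ hk
    rw [if_neg, zero_mul]
    intro h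
    apply hk
    rw [h, xr_xr_self]
  · intro h; exact absurd (Finset.mem_univ _) h

theorem sum_sg (m : Fin 4) : ∑ b, sg F (dt b m) = if m = 0 then 4 else 0 := by
  rw [Fin.sum_univ_four]
  fin_cases m <;> (simp [dt, sg]; try norm_num)

/-- the generating set `{Z_b} ∪ {X_a}`. -/
def stdGens (F : Type*) [Field F] : Set (Matrix (Fin 4) (Fin 4) F) :=
  {M | (∃ b, M = Mstd 1 0 b) ∨ (∃ a, M = Mstd 1 a 0)}

theorem absIrred_stdGens (h2 : (2 : F) ≠ 0) : ActsAbsolutelyIrreducibly (stdGens F) := by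
  have h4 : (4 : F) ≠ 0 := by
    have : (4 : F) = 2 * 2 := by norm_num
    rw [this]; exact mul_ne_zero h2 h2
  constructor
  · intro W hW
    by_cases hbot : W = ⊥
    · exact Or.inl hbot
    right
    have hZ : ∀ b, ∀ w ∈ W, Mstd (1 : F) 0 b *ᵥ w ∈ W := by
      intro b w hw
      have := hW _ (Or.inl ⟨b, rfl⟩) (Submodule.mem_map_of_mem hw)
      rwa [Matrix.toLin'_apply] at this
    have hX : ∀ a, ∀ w ∈ W, Mstd (1 : F) a 0 *ᵥ w ∈ W := by
      intro a w hw
      have := hW _ (Or.inr ⟨a, rfl⟩) (Submodule.mem_map_of_mem hw)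
      rwa [Matrix.toLin'_apply] at this
    obtain ⟨w, hw, hw0⟩ := (Submodule.ne_bot_iff W).mp hbot
    obtain ⟨k, hk⟩ : ∃ k, w k ≠ 0 := by
      by_contra hc
      push Not at hc
      exact hw0 (funext hc)
    -- the projection onto the `k`-th coordinate
    have hproj : (∑ b, sg F (dt b k) • (Mstd (1 : F) 0 b *ᵥ w)) = Pi.single k (4 * w k) := by
      funext j
      rw [Finset.sum_apply]
      simp only [Pi.smul_apply, smul_eq_mul, Mstd_mulVec, xr_zero, one_mul]
      have : ∀ b, sg F (dt b k) * (sg F (dt b j) * w j) = sg F (dt b (xr k j)) * w j := by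
        intro b
        rw [dt_xr_right, sg_xor]; ring
      rw [Finset.sum_congr rfl (fun b _ => this b), ← Finset.sum_mul, sum_sg]
      by_cases hjk : j = k
      · subst hjk
        rw [xr_self, if_pos rfl, Pi.single_eq_same]
      · rw [Pi.single_eq_of_ne hjk, if_neg, zero_mul]
        intro h
        apply hjk
        have h1 : xr (xr k j) j = xr 0 j := by rw [h]
        rw [xr_xr_self, zero_xr] at h1
        exact h1.symm
    have hek : Pi.single k (1 : F) ∈ W := by
      have h1 : (∑ b, sg F (dt b k) • (Mstd (1 : F) 0 b *ᵥ w)) ∈ W :=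
        Submodule.sum_mem _ fun b _ => Submodule.smul_mem _ _ (hZ b w hw)
      rw [hproj] at h1
      have h3 : Pi.single k (1 : F) = (4 * w k)⁻¹ • Pi.single k (4 * w k) := by
        rw [← Pi.single_smul, smul_eq_mul, inv_mul_cancel₀ (mul_ne_zero h4 hk)]
      rw [h3]
      exact Submodule.smul_mem _ _ h1
    have hall : ∀ j, Pi.single j (1 : F) ∈ W := by
      intro j
      have h1 := hX (xr k j) _ hek
      have h3 : Mstd (1 : F) (xr k j) 0 *ᵥ Pi.single k (1 : F) = Pi.single j (1 : F) := by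
        funext j'
        rw [Mstd_mulVec, dt_zero_left, sg_false, mul_one, one_mul]
        by_cases hj : j' = j
        · subst hj
          have : xr j' (xr k j') = k := by
            rw [xr_comm k j', ← xr_assoc, xr_self, zero_xr]
          rw [this, Pi.single_eq_same, Pi.single_eq_same]
        · rw [Pi.single_eq_of_ne hj, Pi.single_eq_of_ne]
          intro h
          apply hj
          have h5 : xr (xr j' (xr k j)) (xr k j) = xr k (xr k j) := by rw [h]
          rw [xr_xr_self, ← xr_assoc, xr_self, zero_xr] at h5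
          exact h5
      rwa [h3] at h1
    rw [eq_top_iff, ← (Pi.basisFun F (Fin 4)).span_eq, Submodule.span_le]
    rintro _ ⟨j, rfl⟩
    rw [Pi.basisFun_apply]
    exact hall j
  · intro M hM
    have hZ : ∀ b j' j, M j' j * sg F (dt b j) = sg F (dt b j') * M j' j := by
      intro b j' j
      have := congrFun (congrFun (hM _ (Or.inl ⟨b, rfl⟩)) j') j
      rw [mul_Mstd_apply, Mstd_mul_apply, xr_zero, xr_zero, one_mul, one_mul] at this
      exact this
    have hX : ∀ a j' j, M j' (xr j a) = M (xr j' a) j := by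
      intro a j' j
      have := congrFun (congrFun (hM _ (Or.inr ⟨a, rfl⟩)) j') j
      rw [mul_Mstd_apply, Mstd_mul_apply, dt_zero_left, dt_zero_left, sg_false, mul_one, mul_one,
        one_mul] at this
      exact this
    have hoff : ∀ j' j, j' ≠ j → M j' j = 0 := by
      intro j' j hne
      obtain ⟨-, b', -, hb'⟩ := dt_sum j' j hne
      have h1 := hZ b' j' j
      have h3 : sg F (dt b' j) ≠ sg F (dt b' j') := fun h => hb' (sg_injective h2 h).symm
      have h5 : M j' j * (sg F (dt b' j) - sg F (dt b' j')) = 0 := by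
        rw [mul_sub, h1]; ring
      rcases mul_eq_zero.mp h5 with h | h
      · exact h
      · exact absurd (sub_eq_zero.mp h) h3
    have hdiag : ∀ j, M j j = M 0 0 := by
      intro j
      have := hX j 0 j
      rw [xr_self, zero_xr] at this
      exact this.symm
    refine ⟨M 0 0, ?_⟩
    ext j' j
    rw [Matrix.smul_apply, Matrix.one_apply, smul_eq_mul]
    by_cases h : j' = j
    · subst h; rw [if_pos rfl, mul_one, hdiag]
    · rw [if_neg h, mul_zero, hoff j' j h]

theorem E_val (P : GL (Fin 4) F) (c : Fˣ) (a b : Fin 4) :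
    ((E P c a b : GL (Fin 4) F) : Matrix (Fin 4) (Fin 4) F) =
      (P : Matrix (Fin 4) (Fin 4) F) * Mstd (c : F) a b *
        ((P⁻¹ : GL (Fin 4) F) : Matrix (Fin 4) (Fin 4) F) := by
  unfold E
  rw [Units.val_mul, Units.val_mul, MstdGL_val]

theorem absIrred_pauliGroup (h2 : (2 : F) ≠ 0) (P : GL (Fin 4) F) :
    ActsAbsolutelyIrreducibly (matrixSet (pauliGroup P)) := by
  refine absIrred_mono _ _ ?_ (absIrred_conj (stdGens F) P (absIrred_stdGens h2))
  rintro _ ⟨s, hs, rfl⟩
  rcases hs with ⟨b, rfl⟩ | ⟨a, rfl⟩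
  · refine ⟨E P 1 0 b, ⟨1, 0, b, rfl⟩, ?_⟩
    show ((E P 1 0 b : GL (Fin 4) F) : Matrix (Fin 4) (Fin 4) F) = _
    rw [E_val, Units.val_one]
  · refine ⟨E P 1 a 0, ⟨1, a, 0, rfl⟩, ?_⟩
    show ((E P 1 a 0 : GL (Fin 4) F) : Matrix (Fin 4) (Fin 4) F) = _
    rw [E_val, Units.val_one]

end Cfsg.Agent.Lib.Helper15.BhrE4
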