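import Mathlib
import Cfsg.Prelude.Def_GeometricClasses
import Cfsg.Agent.Lib.Helper15.BhrE4Mat

/-!
# Project ASCH / BHR, module [E4] (helper15), part 5: monomial matrices of determinant one normalise
the Pauli-type group
-/

set_option autoImplicit false

namespace Cfsg.Agent.Lib.Helper15.BhrE4

open Cfsg Cfsg.Geo
open scoped MatrixGroups Matrix

variable {F : Type*} [Field F]

theorem one_ne_neg_one (h2 : (2 : F) ≠ 0) : (1 : F) ≠ -1 := by
  intro h
  apply h2
  have : (1 : F) + 1 = 0 := by nth_rewrite 2 [h]; ring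
  rw [← this]; norm_num

theorem prod_sg (b : Fin 4) : ∏ j, sg F (dt b j) = 1 := by
  rw [Fin.prod_univ_four]
  fin_cases b <;> simp [dt, sg]

/-- **Bridge**: a function on `Fin 4` with constant square and product one is a scalar times a character. -/
theorem bridge (h2 : (2 : F) ≠ 0) (ν : Fin 4 → F) (h0 : ν 0 ^ 4 = 1)
    (hsq : ∀ k, ν k * ν k = ν 0 * ν 0) (hprod : ∏ k, ν k = 1) :
    ∃ b, ∀ k, ν k = ν 0 * sg F (dt b k) := by
  have hpm : ∀ k, ν k = ν 0 ∨ ν k = - ν 0 := by
    intro k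
    have h1 : (ν k - ν 0) * (ν k + ν 0) = 0 := by linear_combination hsq k
    rcases mul_eq_zero.mp h1 with h | h
    · left; linear_combination h
    · right; linear_combination h
  rw [Fin.prod_univ_four] at hprod
  have hne := one_ne_neg_one h2
  have hneg : ¬ (-(ν 0 ^ 4) = 1) := by
    rw [h0]; intro h; exact hne h.symm
  rcases hpm 1 with h1 | h1 <;> rcases hpm 2 with h2' | h2' <;> rcases hpm 3 with h3 | h3
  · refine ⟨0, fun k => ?_⟩
    fin_cases k <;> simp [dt, sg, h1, h2', h3]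
  · exfalso; apply hneg; rw [← hprod, h1, h2', h3]; ring
  · exfalso; apply hneg; rw [← hprod, h1, h2', h3]; ring
  · refine ⟨2, fun k => ?_⟩
    fin_cases k <;> simp [dt, sg, h1, h2', h3]
  · exfalso; apply hneg; rw [← hprod, h1, h2', h3]; ring
  · refine ⟨1, fun k => ?_⟩
    fin_cases k <;> simp [dt, sg, h1, h2', h3]
  · refine ⟨3, fun k => ?_⟩
    fin_cases k <;> simp [dt, sg, h1, h2', h3]
  · exfalso; apply hneg; rw [← hprod, h1, h2', h3]; ring

/-! ## the Klein four group of translations is normal in the symmetric group -/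

theorem fourth_elt : ∀ (a' k y : Fin 4), a' ≠ 0 → k ≠ 0 → k ≠ a' → y ≠ k → y ≠ 0 → y ≠ a' →
    y = xr k a' := by decide

theorem xr_eq_self : ∀ (j a : Fin 4), xr j a = j → a = 0 := by decide

theorem invol_fpf (f : Fin 4 → Fin 4) (hinv : ∀ k, f (f k) = k) (hfpf : ∀ k, f k ≠ k) :
    ∃ a', ∀ k, f k = xr k a' := by
  refine ⟨f 0, fun k => ?_⟩
  by_cases hk0 : k = 0
  · subst hk0; rw [zero_xr]
  by_cases hka : k = f 0
  · rw [hka, hinv, xr_self]
  apply fourth_elt (f 0) k (f k) (hfpf 0) hk0 hka (hfpf k)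
  · intro h
    apply hka
    rw [← hinv k, h]
  · intro h
    apply hk0
    rw [← hinv k, h, hinv]

theorem conj_xr (τ : Equiv.Perm (Fin 4)) (a : Fin 4) : ∃ a', ∀ j, τ (xr j a) = xr (τ j) a' := by
  by_cases ha : a = 0
  · subst ha
    exact ⟨0, fun j => by rw [xr_zero, xr_zero]⟩
  obtain ⟨a', ha'⟩ := invol_fpf (fun k => τ (xr (τ.symm k) a))
    (by
      intro k
      simp only [Equiv.symm_apply_apply, xr_xr_self, Equiv.apply_symm_apply])
    (by
      intro k h
      apply ha
      apply xr_eq_self (τ.symm k) a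
      have := congrArg τ.symm h
      simpa using this)
  refine ⟨a', fun j => ?_⟩
  have := ha' (τ j)
  simpa using this

/-- translation by `a` as a permutation. -/
def xrPerm (a : Fin 4) : Equiv.Perm (Fin 4) where
  toFun j := xr j a
  invFun j := xr j a
  left_inv j := xr_xr_self j a
  right_inv j := xr_xr_self j a

/-! ## the core computation -/

theorem Mon_mul_Mstd_exists (h2 : (2 : F) ≠ 0) (hU4 : ∀ x : F, x ≠ 0 → x ^ 4 = 1)
    (τ : Equiv.Perm (Fin 4)) (l : Fin 4 → F) (hl : ∀ j, l j ≠ 0) (hprod : (∏ j, l j) ^ 2 = 1)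
    (c : F) (hc : c ≠ 0) (a b : Fin 4) :
    ∃ (c' : F) (a' b' : Fin 4), c' ≠ 0 ∧ Mon τ l * Mstd c a b = Mstd c' a' b' * Mon τ l := by
  obtain ⟨a', ha'⟩ := conj_xr τ a
  -- the squares of `l` form a character up to sign
  obtain ⟨bs, hbs⟩ := bridge h2 (fun j => l j ^ 2)
    (by
      show (l 0 ^ 2) ^ 4 = 1
      rw [← pow_mul, mul_comm, pow_mul, hU4 _ (hl 0), one_pow])
    (by
      intro k
      show l k ^ 2 * l k ^ 2 = l 0 ^ 2 * l 0 ^ 2
      have h1 := hU4 _ (hl k)
      have h0 := hU4 _ (hl 0)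
      linear_combination h1 - h0)
    (by
      show ∏ k, l k ^ 2 = 1
      rw [Finset.prod_pow]; exact hprod)
  -- the transported scalar function
  set ν : Fin 4 → F := fun k =>
    l (xr (τ.symm k) a) * c * sg F (dt b (τ.symm k)) * (l (τ.symm k))⁻¹ with hν
  have hνne : ∀ k, ν k ≠ 0 := by
    intro k
    simp only [hν]
    exact mul_ne_zero (mul_ne_zero (mul_ne_zero (hl _) hc) (sg_ne_zero _)) (inv_ne_zero (hl _))
  have hνsq : ∀ k, ν k * ν k = sg F (dt bs a) * (c * c) := by
    intro k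
    simp only [hν]
    have e1 := hbs (xr (τ.symm k) a)
    have e2 := hbs (τ.symm k)
    rw [dt_xr_right, sg_xor] at e1
    have hlk := hl (τ.symm k)
    have hs := sg_mul_self (F := F) (dt b (τ.symm k))
    have hs' := sg_mul_self (F := F) (dt bs (τ.symm k))
    have h3 : l (xr (τ.symm k) a) ^ 2 = sg F (dt bs a) * l (τ.symm k) ^ 2 := by
      rw [e1, e2]
      ring
    field_simp
    linear_combination (sg F (dt b (τ.symm k))) ^ 2 * h3 +
      (sg F (dt bs a) * l (τ.symm k) ^ 2) * hs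
  have hνprod : ∏ k, ν k = 1 := by
    rw [← Equiv.prod_comp τ ν]
    simp only [hν, Equiv.symm_apply_apply]
    rw [Finset.prod_mul_distrib, Finset.prod_mul_distrib, Finset.prod_mul_distrib,
      Finset.prod_inv_distrib, prod_sg, Finset.prod_const, Finset.card_univ, Fintype.card_fin,
      hU4 c hc, mul_one, mul_one]
    have : ∏ j, l (xr j a) = ∏ j, l j := Equiv.prod_comp (xrPerm a) l
    rw [this]
    exact mul_inv_cancel₀ (Finset.prod_ne_zero_iff.mpr fun j _ => hl j)
  obtain ⟨b', hb'⟩ := bridge h2 ν (hU4 _ (hνne 0))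
    (by intro k; rw [hνsq k, hνsq 0]) hνprod
  refine ⟨ν 0, a', b', hνne 0, ?_⟩
  unfold Mstd
  rw [Mon_mul, Mon_mul]
  congr 1
  · funext j
    simp only [Function.comp]
    exact ha' j
  · funext j
    rw [← hb' (τ j)]
    simp only [hν, Equiv.symm_apply_apply]
    have hlj := hl j
    field_simp

end Cfsg.Agent.Lib.Helper15.BhrE4
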