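import Mathlib
import Cfsg.Prelude.Def_GeometricClasses
import Cfsg.Agent.Lib.Helper15.BhrE4Group
import Cfsg.Agent.Lib.Helper15.BhrE4Mat

/-!
# Project ASCH / BHR, module [E4] (helper15), part 3: group-theoretic structure of `pauliGroup P`
-/

set_option autoImplicit false

namespace Cfsg.Agent.Lib.Helper15.BhrE4

open Cfsg Cfsg.Geo
open scoped MatrixGroups Matrix

variable {F : Type*} [Field F]

theorem sgU_false : sgU F false = 1 := rfl
theorem sgU_true : sgU F true = -1 := rfl

theorem sgU_eq_one_iff (h2 : (2 : F) ≠ 0) (t : Bool) : sgU F t = 1 ↔ t = false := by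
  cases t
  · simp [sgU]
  · simp only [sgU, if_true, Bool.true_eq_false, iff_false]
    intro h
    have h1 := congrArg Units.val h
    rw [Units.val_neg, Units.val_one] at h1
    apply h2
    have : (1 : F) + 1 = 0 := by nth_rewrite 1 [← h1]; ring
    rw [← this]; norm_num

/-- simplified product rules -/
theorem E_scalar_mul (P : GL (Fin 4) F) (z c : Fˣ) (a b : Fin 4) :
    E P z 0 0 * E P c a b = E P (z * c) a b := by
  rw [E_mul, dt_zero_left, sgU_false, mul_one, xr_zero, zero_xr]

theorem E_mul_scalar (P : GL (Fin 4) F) (z c : Fˣ) (a b : Fin 4) :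
    E P c a b * E P z 0 0 = E P (z * c) a b := by
  rw [E_mul, dt_zero_right, sgU_false, mul_one, zero_xr, xr_zero, mul_comm]

theorem E_sq (P : GL (Fin 4) F) (c : Fˣ) (a b : Fin 4) :
    E P c a b * E P c a b = E P (c * c * sgU F (dt b a)) 0 0 := by
  rw [E_mul, xr_self, xr_self]

/-- any two elements commute up to `-1`. -/
theorem E_comm_or (P : GL (Fin 4) F) (c c' : Fˣ) (a a' b b' : Fin 4) :
    E P c a b * E P c' a' b' = E P c' a' b' * E P c a b ∨
    E P c a b * E P c' a' b' = E P (-1) 0 0 * (E P c' a' b' * E P c a b) := by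
  rw [E_mul, E_mul, E_scalar_mul, xr_comm a' a, xr_comm b b']
  by_cases h : dt b a' = dt b' a
  · left
    rw [h, mul_comm c c']
  · right
    congr 1
    have : sgU F (dt b a') = - sgU F (dt b' a) := by
      cases h1 : dt b a' <;> cases h2 : dt b' a <;> simp_all [sgU]
    rw [this, mul_comm c c']
    simp

/-! ## the structure of `pauliGroup P` -/

section structure_

variable (P : GL (Fin 4) F)

/-- the elements of the subgroup, as elements of the subtype. -/
def Es (c : Fˣ) (a b : Fin 4) : pauliGroup P := ⟨E P c a b, c, a, b, rfl⟩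

theorem Es_surj (g : pauliGroup P) : ∃ c a b, g = Es P c a b := by
  obtain ⟨g, c, a, b, rfl⟩ := g
  exact ⟨c, a, b, rfl⟩

theorem Es_mul (c c' : Fˣ) (a a' b b' : Fin 4) :
    Es P c a b * Es P c' a' b' = Es P (c * c' * sgU F (dt b a')) (xr a' a) (xr b b') :=
  Subtype.ext (E_mul P c c' a a' b b')

theorem Es_one : Es P (1 : Fˣ) 0 0 = 1 := Subtype.ext (E_one P)

theorem Es_injective (h2 : (2 : F) ≠ 0) (c c' : Fˣ) (a a' b b' : Fin 4)
    (h : Es P c a b = Es P c' a' b') : c = c' ∧ a = a' ∧ b = b' :=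
  E_injective h2 P c c' a a' b b' (congrArg Subtype.val h)

theorem Es_scalar_mul (z c : Fˣ) (a b : Fin 4) : Es P z 0 0 * Es P c a b = Es P (z * c) a b :=
  Subtype.ext (E_scalar_mul P z c a b)

theorem Es_mul_scalar (z c : Fˣ) (a b : Fin 4) : Es P c a b * Es P z 0 0 = Es P (z * c) a b :=
  Subtype.ext (E_mul_scalar P z c a b)

theorem Es_scalar_central (z : Fˣ) (x : pauliGroup P) : Es P z 0 0 * x = x * Es P z 0 0 := by
  obtain ⟨c, a, b, rfl⟩ := Es_surj P x
  rw [Es_scalar_mul, Es_mul_scalar]

theorem Es_comm_or (x y : pauliGroup P) :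
    x * y = y * x ∨ x * y = Es P (-1) 0 0 * (y * x) := by
  obtain ⟨c, a, b, rfl⟩ := Es_surj P x
  obtain ⟨c', a', b', rfl⟩ := Es_surj P y
  rcases E_comm_or P c c' a a' b b' with h | h
  · left; exact Subtype.ext h
  · right; exact Subtype.ext h

theorem Es_neg_one_sq : Es P (-1 : Fˣ) 0 0 * Es P (-1) 0 0 = 1 := by
  rw [Es_scalar_mul, ← Es_one P]
  congr 1
  simp

theorem Es_sq (c : Fˣ) (a b : Fin 4) :
    Es P c a b * Es P c a b = Es P (c * c * sgU F (dt b a)) 0 0 := Subtype.ext (E_sq P c a b)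

/-- units of square one are `±1`. -/
theorem unit_eq_one_or_of_sq (s : Fˣ) (hs : s * s = 1) : s = 1 ∨ s = -1 := by
  have h1 : ((s : F) - 1) * ((s : F) + 1) = 0 := by
    have := congrArg Units.val hs
    rw [Units.val_mul, Units.val_one] at this
    linear_combination this
  rcases mul_eq_zero.mp h1 with h | h
  · left; apply Units.ext; rw [Units.val_one]; linear_combination h
  · right; apply Units.ext; rw [Units.val_neg, Units.val_one]; linear_combination h

theorem Es_exists_sq (hU4 : ∀ c : Fˣ, c ^ 4 = 1) (i : Fˣ) (hi : i * i = -1) (x : pauliGroup P) :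
    ∃ ζ : pauliGroup P, (∀ y, ζ * y = y * ζ) ∧ (ζ * x) * (ζ * x) = Es P (-1) 0 0 := by
  obtain ⟨c, a, b, rfl⟩ := Es_surj P x
  set s := c * c * sgU F (dt b a) with hs
  have hss : s * s = 1 := by
    have : s * s = c ^ 4 * (sgU F (dt b a) * sgU F (dt b a)) := by
      rw [hs]; apply Units.ext; push_cast; ring
    rw [this, hU4, sgU_mul_self, mul_one]
  rcases unit_eq_one_or_of_sq s hss with h | h
  · refine ⟨Es P i 0 0, Es_scalar_central P i, ?_⟩
    rw [Es_scalar_mul, Es_sq]
    congr 1
    have : i * c * (i * c) * sgU F (dt b a) = (i * i) * s := by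
      rw [hs]; apply Units.ext; push_cast; ring
    rw [this, hi, h, mul_one]
  · refine ⟨Es P 1 0 0, Es_scalar_central P 1, ?_⟩
    rw [Es_scalar_mul, one_mul, Es_sq, ← hs, h]

/-- the scalars as a homomorphism into the centre. -/
def scalarHom : Fˣ →* Subgroup.center (pauliGroup P) where
  toFun z := ⟨Es P z 0 0, by
    rw [Subgroup.mem_center_iff]
    intro g
    exact (Es_scalar_central P z g).symm⟩
  map_one' := by
    apply Subtype.ext
    exact Es_one P
  map_mul' z z' := by
    apply Subtype.ext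
    show Es P (z * z') 0 0 = Es P z 0 0 * Es P z' 0 0
    rw [Es_scalar_mul]

theorem scalarHom_injective (h2 : (2 : F) ≠ 0) : Function.Injective (scalarHom P) := by
  intro z z' h
  have h1 : Es P z 0 0 = Es P z' 0 0 := congrArg Subtype.val h
  exact (Es_injective P h2 _ _ _ _ _ _ h1).1

theorem scalarHom_surjective (h2 : (2 : F) ≠ 0) : Function.Surjective (scalarHom P) := by
  rintro ⟨g, hg⟩
  rw [Subgroup.mem_center_iff] at hg
  obtain ⟨c, a, b, rfl⟩ := Es_surj P g
  have hb : b = 0 := by
    apply dt_nondeg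
    intro a'
    have := hg (Es P 1 a' 0)
    rw [Es_mul, Es_mul] at this
    have h3 := (Es_injective P h2 _ _ _ _ _ _ this).1
    rw [dt_zero_left, sgU_false, mul_one, one_mul, mul_one] at h3
    have h4 : sgU F (dt b a') = 1 := by
      have := mul_left_cancel (a := c) (b := 1) (c := sgU F (dt b a')) (by rw [mul_one]; exact h3)
      exact this.symm
    exact (sgU_eq_one_iff h2 _).mp h4
  have ha : a = 0 := by
    apply dt_nondeg
    intro b'
    have := hg (Es P 1 0 b')
    rw [Es_mul, Es_mul] at this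
    have h3 := (Es_injective P h2 _ _ _ _ _ _ this).1
    rw [dt_zero_right, sgU_false, mul_one, one_mul, mul_one] at h3
    have h4 : sgU F (dt b' a) = 1 := by
      have := mul_left_cancel (a := c) (b := sgU F (dt b' a)) (c := 1) (by rw [mul_one]; exact h3)
      exact this
    rw [dt_comm]
    exact (sgU_eq_one_iff h2 _).mp h4
  subst ha hb
  exact ⟨c, rfl⟩

theorem card_center [Fintype F] (h2 : (2 : F) ≠ 0) (hq : Fintype.card F = 5) :
    Nat.card (Subgroup.center (pauliGroup P)) = 4 := by
  classical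
  have e : Fˣ ≃ Subgroup.center (pauliGroup P) :=
    Equiv.ofBijective (scalarHom P) ⟨scalarHom_injective P h2, scalarHom_surjective P h2⟩
  rw [← Nat.card_congr e, Nat.card_eq_fintype_card, Fintype.card_units, hq]

theorem isCyclic_center [Finite F] (h2 : (2 : F) ≠ 0) :
    IsCyclic (Subgroup.center (pauliGroup P)) :=
  isCyclic_of_surjective (scalarHom P) (scalarHom_surjective P h2)

theorem card_pauliGroup [Fintype F] (h2 : (2 : F) ≠ 0) (hq : Fintype.card F = 5) :
    Nat.card (pauliGroup P) = 64 := by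
  classical
  have e : Fˣ × Fin 4 × Fin 4 ≃ pauliGroup P :=
    Equiv.ofBijective (fun t => Es P t.1 t.2.1 t.2.2) ⟨by
      rintro ⟨c, a, b⟩ ⟨c', a', b'⟩ h
      obtain ⟨h1, h2, h3⟩ := Es_injective P h2 _ _ _ _ _ _ h
      simp only [Prod.mk.injEq]
      exact ⟨h1, h2, h3⟩, by
      intro g
      obtain ⟨c, a, b, rfl⟩ := Es_surj P g
      exact ⟨(c, a, b), rfl⟩⟩
  rw [← Nat.card_congr e, Nat.card_eq_fintype_card, Fintype.card_prod, Fintype.card_prod,
    Fintype.card_units, hq]
  simp

theorem pow_four_eq_one (hU4 : ∀ c : Fˣ, c ^ 4 = 1) (g : pauliGroup P) : g ^ 4 = 1 := by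
  obtain ⟨c, a, b, rfl⟩ := Es_surj P g
  have : Es P c a b ^ 4 = (Es P c a b * Es P c a b) * (Es P c a b * Es P c a b) := by
    rw [pow_succ, pow_succ, pow_succ, pow_one, mul_assoc]
  rw [this, Es_sq, Es_scalar_mul, ← Es_one P]
  congr 1
  have : c * c * sgU F (dt b a) * (c * c * sgU F (dt b a)) =
      c ^ 4 * (sgU F (dt b a) * sgU F (dt b a)) := by
    apply Units.ext; push_cast; ring
  rw [this, hU4, sgU_mul_self, mul_one]

theorem exponent_eq (h2 : (2 : F) ≠ 0) (hU4 : ∀ c : Fˣ, c ^ 4 = 1) (i : Fˣ) (hi : i * i = -1) :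
    Monoid.exponent (pauliGroup P) = 4 := by
  apply Nat.dvd_antisymm
  · exact Monoid.exponent_dvd_of_forall_pow_eq_one (pow_four_eq_one P hU4)
  · have h1 : orderOf (Es P i 0 0) = 2 ^ (1 + 1) := by
      apply orderOf_eq_prime_pow
      · rw [pow_one, pow_two, Es_scalar_mul, hi, ← Es_one P]
        intro h
        have h3 := (Es_injective P h2 _ _ _ _ _ _ h).1
        have h4 := congrArg Units.val h3
        rw [Units.val_neg, Units.val_one] at h4
        apply h2
        have : (1 : F) + 1 = 0 := by nth_rewrite 1 [← h4]; ring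
        rw [← this]; norm_num
      · exact pow_four_eq_one P hU4 _
    have h3 : orderOf (Es P i 0 0) = 4 := by rw [h1]; norm_num
    have h4 := Monoid.order_dvd_exponent (Es P i 0 0)
    rwa [h3] at h4

theorem isSymplecticTypeGroup [Fintype F] (h2 : (2 : F) ≠ 0) (hq : Fintype.card F = 5)
    (hU4 : ∀ c : Fˣ, c ^ 4 = 1) (i : Fˣ) (hi : i * i = -1) :
    IsSymplecticTypeGroup 2 (pauliGroup P) where
  prime := Nat.prime_two
  pGroup := IsPGroup.of_card (n := 6) (by rw [card_pauliGroup P h2 hq]; norm_num)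
  cyclic_of_characteristic := by
    intro A hA hAc
    have : Finite (pauliGroup P) := Nat.finite_of_card_ne_zero (by rw [card_pauliGroup P h2 hq]; norm_num)
    exact isCyclic_of_characteristic (Es P (-1) 0 0) (Es_scalar_central P (-1)) (Es_neg_one_sq P)
      (Es_comm_or P) (Es_exists_sq P hU4 i hi) (isCyclic_center P h2) A hA hAc
  exponent_eq := by
    rw [exponent_eq P h2 hU4 i hi]
    norm_num

end structure_

end Cfsg.Agent.Lib.Helper15.BhrE4
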