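import Mathlib
import Cfsg.Prelude.Def_GeometricClasses
import Cfsg.Agent.Lib.Helper99.AschDefs
import Cfsg.Agent.Lib.Helper99.AschDefsR
import Cfsg.Agent.Lib.Helper98.BhrLines
import Cfsg.Agent.Lib.Helper15.BhrE4Group
import Cfsg.Agent.Lib.Helper15.BhrE4Mat
import Cfsg.Agent.Lib.Helper15.BhrE4Str
import Cfsg.Agent.Lib.Helper15.BhrE4Irr
import Cfsg.Agent.Lib.Helper15.BhrE4Norm

/-!
# Project ASCH / BHR, module [E4] (helper15): `n = 4`, `q = 5`
the stabiliser of a decomposition into four lines, intersected with `SL_4(5)`, normalises a group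
`4 ∘ 2^(1+4)` of symplectic type.
-/

set_option autoImplicit false

namespace Cfsg.Agent.Lib.Helper15.BhrE4

open Cfsg Cfsg.Geo
open scoped MatrixGroups Matrix

variable {F : Type*} [Field F]

/-! ## determinant of a monomial matrix -/

theorem Mon_eq_mul (τ : Equiv.Perm (Fin 4)) (l : Fin 4 → F) :
    Mon τ l = (Equiv.Perm.permMatrix F τ)ᵀ * Matrix.diagonal l := by
  ext j' j
  rw [Matrix.mul_diagonal]
  simp only [Mon, Matrix.transpose_apply, Equiv.Perm.permMatrix, PEquiv.toMatrix_apply,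
    Equiv.toPEquiv_apply, Option.mem_def, Option.some.injEq]
  by_cases h : j' = τ j
  · rw [if_pos h, if_pos h.symm, one_mul]
  · rw [if_neg h, if_neg (fun h' => h h'.symm), zero_mul]

theorem det_Mon_sq (τ : Equiv.Perm (Fin 4)) (l : Fin 4 → F) :
    (Mon τ l).det ^ 2 = (∏ j, l j) ^ 2 := by
  rw [Mon_eq_mul, Matrix.det_mul, Matrix.det_transpose, Matrix.det_permutation, Matrix.det_diagonal,
    mul_pow]
  have : ((Equiv.Perm.sign τ : ℤˣ) : F) ^ 2 = 1 := by
    rcases Int.units_eq_one_or (Equiv.Perm.sign τ) with h | h <;> rw [h] <;> simp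
  rw [this, one_mul]

/-! ## the change of basis -/

/-- the matrix whose columns are the basis vectors, as an element of `GL`. -/
noncomputable def basisGL (B : Module.Basis (Fin 4) F (Fin 4 → F)) : GL (Fin 4) F where
  val := (Pi.basisFun F (Fin 4)).toMatrix B
  inv := B.toMatrix (Pi.basisFun F (Fin 4))
  val_inv := Module.Basis.toMatrix_mul_toMatrix_flip _ _
  inv_val := Module.Basis.toMatrix_mul_toMatrix_flip _ _

theorem basisGL_apply (B : Module.Basis (Fin 4) F (Fin 4 → F)) (i j : Fin 4) :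
    ((basisGL B : GL (Fin 4) F) : Matrix (Fin 4) (Fin 4) F) i j = B j i := by
  show (Pi.basisFun F (Fin 4)).toMatrix B i j = B j i
  rw [Module.Basis.toMatrix_apply, Pi.basisFun_repr]

theorem mul_basisGL (B : Module.Basis (Fin 4) F (Fin 4 → F)) (g : Matrix (Fin 4) (Fin 4) F)
    (τ : Equiv.Perm (Fin 4)) (l : Fin 4 → F) (hgl : ∀ j, g *ᵥ B j = l j • B (τ j)) :
    g * ((basisGL B : GL (Fin 4) F) : Matrix (Fin 4) (Fin 4) F) =
      ((basisGL B : GL (Fin 4) F) : Matrix (Fin 4) (Fin 4) F) * Mon τ l := by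
  ext i j
  have h1 : (g * ((basisGL B : GL (Fin 4) F) : Matrix (Fin 4) (Fin 4) F)) i j = (g *ᵥ B j) i := by
    simp only [Matrix.mul_apply, Matrix.mulVec, dotProduct, basisGL_apply]
  rw [h1, hgl j]
  simp only [Matrix.mul_apply, Mon, basisGL_apply]
  rw [Finset.sum_eq_single (τ j)]
  · rw [if_pos rfl, Pi.smul_apply, smul_eq_mul, mul_comm]
  · intro k _ hk
    rw [if_neg hk, mul_zero]
  · intro h; exact absurd (Finset.mem_univ _) h

/-! ## the normaliser statement -/

theorem conj_mem_pauliGroup (h2 : (2 : F) ≠ 0) (hU4 : ∀ x : F, x ≠ 0 → x ^ 4 = 1)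
    (B : Module.Basis (Fin 4) F (Fin 4 → F)) (g : GL (Fin 4) F) (τ : Equiv.Perm (Fin 4))
    (l : Fin 4 → F) (hgl : ∀ j, (g : Matrix (Fin 4) (Fin 4) F) *ᵥ B j = l j • B (τ j))
    (hdet : (g : Matrix (Fin 4) (Fin 4) F).det = 1) (x : GL (Fin 4) F)
    (hx : x ∈ pauliGroup (basisGL B)) : g * x * g⁻¹ ∈ pauliGroup (basisGL B) := by
  set P := basisGL B with hP
  have hPi : ((P⁻¹ : GL (Fin 4) F) : Matrix (Fin 4) (Fin 4) F) * (P : Matrix (Fin 4) (Fin 4) F) = 1 :=
    Units.inv_mul P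
  have hiP : (P : Matrix (Fin 4) (Fin 4) F) * ((P⁻¹ : GL (Fin 4) F) : Matrix (Fin 4) (Fin 4) F) = 1 :=
    Units.mul_inv P
  have hgP := mul_basisGL B (g : Matrix (Fin 4) (Fin 4) F) τ l hgl
  rw [← hP] at hgP
  -- `l j ≠ 0`
  have hl : ∀ j, l j ≠ 0 := by
    intro j h0
    have h1 := hgl j
    rw [h0, zero_smul] at h1
    have h3 := congrArg (fun v => ((g⁻¹ : GL (Fin 4) F) : Matrix (Fin 4) (Fin 4) F) *ᵥ v) h1
    simp only [Matrix.mulVec_mulVec, Matrix.mulVec_zero] at h3
    rw [← Units.val_mul, inv_mul_cancel, Units.val_one, Matrix.one_mulVec] at h3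
    exact B.ne_zero j h3
  -- the product of the `l j` has square one
  have hprod : (∏ j, l j) ^ 2 = 1 := by
    rw [← det_Mon_sq τ l]
    have h1 := congrArg Matrix.det hgP
    rw [Matrix.det_mul, Matrix.det_mul, hdet, one_mul] at h1
    have hPd : (P : Matrix (Fin 4) (Fin 4) F).det ≠ 0 := by
      intro h0
      have := congrArg Matrix.det hiP
      rw [Matrix.det_mul, h0, zero_mul, Matrix.det_one] at this
      exact zero_ne_one this
    have h3 : (Mon τ l).det = 1 := by
      have : (P : Matrix (Fin 4) (Fin 4) F).det * (Mon τ l).det =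
          (P : Matrix (Fin 4) (Fin 4) F).det * 1 := by rw [← h1, mul_one]
      exact mul_left_cancel₀ hPd this
    rw [h3, one_pow]
  -- `Mon τ l * P⁻¹ = P⁻¹ * g`
  have hMP : Mon τ l * ((P⁻¹ : GL (Fin 4) F) : Matrix (Fin 4) (Fin 4) F) =
      ((P⁻¹ : GL (Fin 4) F) : Matrix (Fin 4) (Fin 4) F) * (g : Matrix (Fin 4) (Fin 4) F) := by
    calc Mon τ l * ((P⁻¹ : GL (Fin 4) F) : Matrix (Fin 4) (Fin 4) F)
        = ((P⁻¹ : GL (Fin 4) F) : Matrix (Fin 4) (Fin 4) F) *
            ((P : Matrix (Fin 4) (Fin 4) F) * Mon τ l) *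
            ((P⁻¹ : GL (Fin 4) F) : Matrix (Fin 4) (Fin 4) F) := by
          rw [← mul_assoc, hPi, one_mul]
      _ = ((P⁻¹ : GL (Fin 4) F) : Matrix (Fin 4) (Fin 4) F) *
            ((g : Matrix (Fin 4) (Fin 4) F) * (P : Matrix (Fin 4) (Fin 4) F)) *
            ((P⁻¹ : GL (Fin 4) F) : Matrix (Fin 4) (Fin 4) F) := by rw [hgP]
      _ = ((P⁻¹ : GL (Fin 4) F) : Matrix (Fin 4) (Fin 4) F) * (g : Matrix (Fin 4) (Fin 4) F) := by
          rw [mul_assoc, mul_assoc, hiP, mul_one]
  obtain ⟨c, a, b, rfl⟩ := hx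
  obtain ⟨c', a', b', hc', hmm⟩ :=
    Mon_mul_Mstd_exists h2 hU4 τ l hl hprod (c : F) c.ne_zero a b
  refine ⟨Units.mk0 c' hc', a', b', ?_⟩
  rw [mul_inv_eq_iff_eq_mul]
  apply Units.ext
  rw [Units.val_mul, Units.val_mul, E_val, E_val, Units.val_mk0]
  calc (g : Matrix (Fin 4) (Fin 4) F) *
        ((P : Matrix (Fin 4) (Fin 4) F) * Mstd (c : F) a b *
          ((P⁻¹ : GL (Fin 4) F) : Matrix (Fin 4) (Fin 4) F))
      = ((g : Matrix (Fin 4) (Fin 4) F) * (P : Matrix (Fin 4) (Fin 4) F)) * Mstd (c : F) a b *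
          ((P⁻¹ : GL (Fin 4) F) : Matrix (Fin 4) (Fin 4) F) := by simp only [mul_assoc]
    _ = (P : Matrix (Fin 4) (Fin 4) F) * (Mon τ l * Mstd (c : F) a b) *
          ((P⁻¹ : GL (Fin 4) F) : Matrix (Fin 4) (Fin 4) F) := by rw [hgP]; simp only [mul_assoc]
    _ = (P : Matrix (Fin 4) (Fin 4) F) * Mstd c' a' b' *
          (Mon τ l * ((P⁻¹ : GL (Fin 4) F) : Matrix (Fin 4) (Fin 4) F)) := by
        rw [hmm]; simp only [mul_assoc]
    _ = (P : Matrix (Fin 4) (Fin 4) F) * Mstd c' a' b' *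
          ((P⁻¹ : GL (Fin 4) F) : Matrix (Fin 4) (Fin 4) F) * (g : Matrix (Fin 4) (Fin 4) F) := by
        rw [hMP]; simp only [mul_assoc]

/-! ## field facts for `|F| = 5` -/

section five

variable [Fintype F]

theorem five_eq_zero (hq : Fintype.card F = 5) : (5 : F) = 0 := by
  have := Nat.cast_card_eq_zero F
  rw [hq] at this
  exact_mod_cast this

theorem two_ne_zero_of_card (hq : Fintype.card F = 5) : (2 : F) ≠ 0 := by
  intro h
  have h5 := five_eq_zero hq
  have : (1 : F) = 0 := by linear_combination h5 - 2 * h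
  exact one_ne_zero this

theorem pow_four_of_card (hq : Fintype.card F = 5) (x : F) (hx : x ≠ 0) : x ^ 4 = 1 := by
  have := FiniteField.pow_card_sub_one_eq_one x hx
  rwa [hq] at this

theorem unit_pow_four_of_card (hq : Fintype.card F = 5) (c : Fˣ) : c ^ 4 = 1 := by
  apply Units.ext
  rw [Units.val_pow_eq_pow_val, Units.val_one]
  exact pow_four_of_card hq _ c.ne_zero

theorem exists_i (hq : Fintype.card F = 5) : ∃ i : Fˣ, i * i = -1 := by
  refine ⟨Units.mk0 2 (two_ne_zero_of_card hq), ?_⟩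
  apply Units.ext
  rw [Units.val_mul, Units.val_mk0, Units.val_neg, Units.val_one]
  have h5 := five_eq_zero hq
  linear_combination h5

theorem isMinimalFieldFor_four (hq : Fintype.card F = 5) : IsMinimalFieldFor 4 5 1 F := by
  have : Fact (Nat.Prime 5) := ⟨by norm_num⟩
  refine ⟨by norm_num, charP_of_card_eq_prime hq, by rw [hq]; norm_num, by norm_num, ?_⟩
  intro d hd hd1
  omega

end five

/-! ## the module statement -/

theorem decomp_lines_four_card_five' [Fintype F] (D : Fin 4 → Submodule F (Fin 4 → F))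
    (hD : IsMDecomposition 1 D) (hq : Fintype.card F = 5) :
    ∃ R : Subgroup (GL (Fin 4) F), IsLinearSymplecticTypeData 2 R ∧
      decompositionStabilizer D ⊓ specialLinear (Fin 4) F ≤ subgroupNormalizer R := by
  obtain ⟨B, hB⟩ := Cfsg.Agent.Lib.Helper98.Bhr.exists_basis_of_lines D hD
  have h2 := two_ne_zero_of_card hq
  have hU4 := pow_four_of_card hq
  have hU4' := unit_pow_four_of_card hq
  obtain ⟨i, hi⟩ := exists_i hq
  refine ⟨pauliGroup (basisGL B), ⟨isSymplecticTypeGroup _ h2 hq hU4' i hi, absIrred_pauliGroup h2 _,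
    ⟨5, 1, by norm_num, ?_, ?_⟩⟩, ?_⟩
  · rw [card_center _ h2 hq]
    exact isMinimalFieldFor_four hq
  · right; left
    refine ⟨rfl, rfl, card_center _ h2 hq, by simp, 2, ?_⟩
    rw [card_pauliGroup _ h2 hq]
    norm_num
  · -- the normaliser
    have key : ∀ g ∈ decompositionStabilizer D ⊓ specialLinear (Fin 4) F,
        ∀ x ∈ pauliGroup (basisGL B), g * x * g⁻¹ ∈ pauliGroup (basisGL B) := by
      rintro g ⟨hgD, hgS⟩ x hx
      obtain ⟨τ, hτ⟩ := hgD
      have h1 : ∀ j, ∃ c : F, (g : Matrix (Fin 4) (Fin 4) F) *ᵥ B j = c • B (τ j) := by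
        intro j
        have hmem : (g : Matrix (Fin 4) (Fin 4) F) *ᵥ B j ∈ D (τ j) := by
          rw [← hτ j]
          refine ⟨B j, ?_, by simp [Matrix.toLin'_apply]⟩
          rw [hB j]; exact Submodule.mem_span_singleton_self _
        rw [hB (τ j), Submodule.mem_span_singleton] at hmem
        obtain ⟨c, hc⟩ := hmem
        exact ⟨c, hc.symm⟩
      choose l hl using h1
      have hdet : (g : Matrix (Fin 4) (Fin 4) F).det = 1 := by
        have h3 : Matrix.GeneralLinearGroup.det g = 1 := hgS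
        have := congrArg Units.val h3
        rwa [Matrix.GeneralLinearGroup.val_det_apply, Units.val_one] at this
      exact conj_mem_pauliGroup h2 hU4 B g τ l hl hdet x hx
    intro g hg
    show g ∈ Subgroup.normalizer ((pauliGroup (basisGL B) : Subgroup (GL (Fin 4) F)) : Set (GL (Fin 4) F))
    rw [Subgroup.mem_set_normalizer_iff]
    intro x
    constructor
    · intro hx
      exact key g hg x hx
    · intro hx
      have hginv : g⁻¹ ∈ decompositionStabilizer D ⊓ specialLinear (Fin 4) F := Subgroup.inv_mem _ hg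
      have := key g⁻¹ hginv _ hx
      have e : g⁻¹ * (g * x * g⁻¹) * g⁻¹⁻¹ = x := by group
      rwa [e] at this

end Cfsg.Agent.Lib.Helper15.BhrE4

namespace Cfsg.Agent.Lib.Helper99.Asch

open Cfsg Cfsg.Geo
open scoped MatrixGroups Matrix Kronecker

variable {F : Type*} [Field F] [Fintype F]

/-- BHR-[E4]. -/
theorem decomp_lines_four_card_five (D : Fin 4 → Submodule F (Fin 4 → F))
    (hD : IsMDecomposition 1 D) (hq : Fintype.card F = 5) :
    ∃ R : Subgroup (GL (Fin 4) F), IsLinearSymplecticTypeData 2 R ∧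
      decompositionStabilizer D ⊓ specialLinear (Fin 4) F ≤ subgroupNormalizer R :=
  Cfsg.Agent.Lib.Helper15.BhrE4.decomp_lines_four_card_five' D hD hq

end Cfsg.Agent.Lib.Helper99.Asch
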