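import Mathlib
import Cfsg.Agent.Lib.Helper49.BrauerNRed

/-!
# S0996 module [SETUP96] (helper15 for helper79)

`G` perfect, `z` of prime order `p` with `C_G(z) = ⟨z⟩`, `2 |Syl_p G| < (p+1)(p+2)`:
the Sylow `p`-subgroup `P = ⟨z⟩` has order `p`, is self-centralizing on `P#`, not normal, and the
usual numerical data `q = |N : C|`, `|Syl_p| = 1 + n p`, `|G| = p q (1 + n p)`, `2 n < p + 3`.
-/

set_option autoImplicit false

namespace Cfsg.Agent.Lib.Helper15.Brauer96

open Subgroup

/-- a Sylow `p`-subgroup containing a self-centralizing element `z` of order `p` is `⟨z⟩` -/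
theorem sylow_eq_zpowers {G : Type*} [Group G] [Finite G] (p : ℕ)
    [Fact p.Prime] (z : G) (hz : orderOf z = p)
    (hC : Subgroup.centralizer ({z} : Set G) = Subgroup.zpowers z)
    (P : Sylow p G) (hzP : Subgroup.zpowers z ≤ (P : Subgroup G)) :
    (P : Subgroup G) = Subgroup.zpowers z := by
  classical
  have hp : p.Prime := Fact.out
  have hz1 : z ≠ 1 := by
    intro h
    rw [h, orderOf_one] at hz
    exact hp.one_lt.ne hz
  have hzmem : z ∈ (P : Subgroup G) := hzP (Subgroup.mem_zpowers z)
  have : Nontrivial (P : Subgroup G) :=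
    ⟨⟨⟨z, hzmem⟩, 1, fun h => hz1 (congrArg Subtype.val h)⟩⟩
  have := P.2.center_nontrivial
  obtain ⟨c, hc1⟩ := exists_ne (1 : Subgroup.center (P : Subgroup G))
  -- the element `c` of `G`
  set c' : G := ((c : (P : Subgroup G)) : G) with hc'
  have hc'1 : c' ≠ 1 := by
    intro h
    apply hc1
    apply Subtype.ext
    apply Subtype.ext
    exact h
  have hcP : c' ∈ (P : Subgroup G) := (c : (P : Subgroup G)).2
  have hccomm : ∀ y ∈ (P : Subgroup G), y * c' = c' * y := by
    intro y hy
    have := (Subgroup.mem_center_iff.1 c.2) ⟨y, hy⟩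
    exact congrArg Subtype.val this
  have hcz : c' ∈ Subgroup.zpowers z := by
    rw [← hC, Subgroup.mem_centralizer_iff]
    intro y hy
    rw [Set.mem_singleton_iff] at hy
    subst hy
    exact hccomm _ hzmem
  -- zpowers c' = zpowers z
  have hcard : Nat.card (Subgroup.zpowers z) = p := by rw [Nat.card_zpowers, hz]
  have hzc : Subgroup.zpowers c' = Subgroup.zpowers z := by
    have hle : Subgroup.zpowers c' ≤ Subgroup.zpowers z := by
      rw [Subgroup.zpowers_le]; exact hcz
    refine Subgroup.eq_of_le_of_card_ge hle ?_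
    rw [hcard, Nat.card_zpowers]
    have hd : orderOf c' ∣ p := by
      have := orderOf_dvd_natCard (⟨c', hcz⟩ : Subgroup.zpowers z)
      rw [hcard] at this
      rwa [← Subgroup.orderOf_mk c' hcz]
    rcases (Nat.dvd_prime hp).1 hd with h1 | h1
    · exact absurd (orderOf_eq_one_iff.1 h1) hc'1
    · exact h1.ge
  apply le_antisymm _ hzP
  intro y hy
  rw [← hC, Subgroup.mem_centralizer_iff]
  intro w hw
  rw [Set.mem_singleton_iff] at hw
  subst hw
  have hzin : w ∈ Subgroup.zpowers c' := by rw [hzc]; exact Subgroup.mem_zpowers w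
  obtain ⟨m, hm⟩ := Subgroup.mem_zpowers_iff.1 hzin
  rw [← hm]
  have hcomm : Commute c' y := (hccomm y hy).symm
  exact (hcomm.zpow_left m).eq

/-- **[SETUP96]** -/
theorem brauer_setup96 {G : Type*} [Group G] [Finite G] (hperf : commutator G = ⊤) (p : ℕ)
    [Fact p.Prime] (z : G) (hz : orderOf z = p)
    (hC : Subgroup.centralizer ({z} : Set G) = Subgroup.zpowers z)
    (hn : 2 * Nat.card (Sylow p G) < (p + 1) * (p + 2)) :
    ∃ P : Sylow p G, Nat.card (P : Subgroup G) = p ∧ ¬ (P : Subgroup G).Normal ∧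
      (∀ x : G, x ∈ (P : Subgroup G) → x ≠ 1 →
        Subgroup.centralizer ({x} : Set G) = (P : Subgroup G)) ∧
      ∃ q n : ℕ, 2 ≤ q ∧ 1 ≤ n ∧ q ∣ p - 1 ∧ 2 * n < p + 3 ∧
        (Subgroup.centralizer ((P : Subgroup G) : Set G)).relIndex
          (Subgroup.normalizer ((P : Subgroup G) : Set G)) = q ∧
        Nat.card (Subgroup.centralizer ((P : Subgroup G) : Set G)) = p ∧
        Nat.card (Subgroup.normalizer ((P : Subgroup G) : Set G)) = p * q ∧
        (Subgroup.centralizer ((P : Subgroup G) : Set G)).index = q * (1 + n * p) ∧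
        Nat.card (Sylow p G) = 1 + n * p ∧
        Nat.card G = p * q * (1 + n * p) := by
  classical
  have hp : p.Prime := Fact.out
  have hGpos : 0 < Nat.card G := Nat.card_pos
  have hz1 : z ≠ 1 := by
    intro h
    rw [h, orderOf_one] at hz
    exact hp.one_lt.ne hz
  -- the Sylow subgroup
  have hzp : IsPGroup p (Subgroup.zpowers z) := by
    apply IsPGroup.of_card (n := 1)
    rw [Nat.card_zpowers, hz, pow_one]
  obtain ⟨P, hzP⟩ := hzp.exists_le_sylow
  have hPz : (P : Subgroup G) = Subgroup.zpowers z := sylow_eq_zpowers p z hz hC P hzP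
  have hPcard : Nat.card (P : Subgroup G) = p := by rw [hPz, Nat.card_zpowers, hz]
  have hPnn : ¬ (P : Subgroup G).Normal :=
    Cfsg.Agent.Lib.Helper49.BrauerN.sylow_not_normal_of_perfect hperf P hPcard
  have hPcyc : IsCyclic (P : Subgroup G) := isCyclic_of_prime_card hPcard
  -- zpowers x = P for x ∈ P#
  have hzpx : ∀ x : G, x ∈ (P : Subgroup G) → x ≠ 1 → Subgroup.zpowers x = (P : Subgroup G) := by
    intro x hx hx1
    have hle : Subgroup.zpowers x ≤ (P : Subgroup G) := by
      rw [Subgroup.zpowers_le]; exact hx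
    refine Subgroup.eq_of_le_of_card_ge hle ?_
    rw [Nat.card_zpowers, hPcard]
    have hd : orderOf x ∣ p := by
      have := orderOf_dvd_natCard (⟨x, hx⟩ : (P : Subgroup G))
      rw [hPcard] at this
      rwa [← Subgroup.orderOf_mk x hx]
    rcases (Nat.dvd_prime hp).1 hd with h1 | h1
    · exact absurd (orderOf_eq_one_iff.1 h1) hx1
    · exact h1.ge
  have hcent0 : ∀ x : G, x ∈ (P : Subgroup G) → x ≠ 1 →
      Subgroup.centralizer ({x} : Set G) = Subgroup.centralizer ((P : Subgroup G) : Set G) := by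
    intro x hx hx1
    apply le_antisymm
    · intro y hy
      rw [Subgroup.mem_centralizer_iff] at hy ⊢
      intro w hw
      have hw' : w ∈ Subgroup.zpowers x := by rw [hzpx x hx hx1]; exact hw
      obtain ⟨m, rfl⟩ := Subgroup.mem_zpowers_iff.1 hw'
      have hc : Commute x y := hy x rfl
      exact (hc.zpow_left m).eq
    · exact Subgroup.centralizer_le (Set.singleton_subset_iff.2 hx)
  have hzmem : z ∈ (P : Subgroup G) := hzP (Subgroup.mem_zpowers z)
  have hCP : Subgroup.centralizer ((P : Subgroup G) : Set G) = (P : Subgroup G) := by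
    rw [← hcent0 z hzmem hz1, hC, hPz]
  have hcent : ∀ x : G, x ∈ (P : Subgroup G) → x ≠ 1 →
      Subgroup.centralizer ({x} : Set G) = (P : Subgroup G) := by
    intro x hx hx1
    rw [hcent0 x hx hx1, hCP]
  refine ⟨P, hPcard, hPnn, hcent, ?_⟩
  have hCN : Subgroup.centralizer ((P : Subgroup G) : Set G) ≤
      Subgroup.normalizer ((P : Subgroup G) : Set G) := Subgroup.centralizer_le_normalizer _
  have hPC : (P : Subgroup G) ≤ Subgroup.centralizer ((P : Subgroup G) : Set G) := by
    rw [hCP]
  set C := Subgroup.centralizer ((P : Subgroup G) : Set G) with hCdef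
  set N := Subgroup.normalizer ((P : Subgroup G) : Set G) with hNdef
  have hCcard : Nat.card C = p := by rw [hCP, hPcard]
  -- q
  have hqdvd : C.relIndex N ∣ p - 1 := by
    have key := Subgroup.card_dvd_of_injective _
      (QuotientGroup.kerLift_injective (P : Subgroup G).normalizerMonoidHom)
    rw [Subgroup.normalizerMonoidHom_ker, ← Subgroup.index, ← Subgroup.relIndex] at key
    rwa [hPcyc.card_mulAut, hPcard, Nat.totient_prime hp] at key
  have hNcard : Nat.card N = C.relIndex N * Nat.card C := by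
    have h1 := Subgroup.relIndex_mul_index (H := C) (K := N) hCN
    have h2 := Subgroup.card_mul_index C
    have h3 := Subgroup.card_mul_index N
    have hNidx : 0 < N.index := Nat.pos_of_ne_zero Subgroup.index_ne_zero_of_finite
    have : Nat.card N * N.index = C.relIndex N * Nat.card C * N.index := by
      rw [h3, ← h2, ← h1]; ring
    exact Nat.eq_of_mul_eq_mul_right hNidx this
  -- Sylow count
  have hmod : Nat.card (Sylow p G) ≡ 1 [MOD p] := card_sylow_modEq_one p G
  have hne1 : Nat.card (Sylow p G) ≠ 1 := fun h =>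
    hPnn (Cfsg.Agent.Lib.Helper49.BrauerN.sylow_normal_of_card_eq_one P h)
  have hsyl : Nat.card (Sylow p G) = N.index := Sylow.card_eq_index_normalizer P
  obtain ⟨n, hnn⟩ : ∃ n, Nat.card (Sylow p G) = 1 + n * p := by
    have h1 : Nat.card (Sylow p G) % p = 1 % p := hmod
    rw [Nat.mod_eq_of_lt hp.one_lt] at h1
    refine ⟨Nat.card (Sylow p G) / p, ?_⟩
    have := Nat.div_add_mod (Nat.card (Sylow p G)) p
    rw [h1] at this
    rw [mul_comm] at this
    omega
  have hn1 : 1 ≤ n := by
    rcases Nat.eq_zero_or_pos n with h0 | h0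
    · rw [h0] at hnn; simp at hnn; exact absurd hnn hne1
    · exact h0
  -- q ≥ 2
  have hq2 : 2 ≤ C.relIndex N := by
    have hq0 : C.relIndex N ≠ 0 := by
      intro h0
      rw [h0, zero_mul] at hNcard
      exact (Nat.card_pos (α := N)).ne' hNcard
    by_contra hlt
    push Not at hlt
    have hq1 : C.relIndex N = 1 := by omega
    have hNC : N ≤ C := Subgroup.relIndex_eq_one.1 hq1
    have := Cfsg.Agent.Lib.Helper49.BrauerN.card_sylow_eq_one_of_perfect_of_normalizer_le
      hperf P hNC
    rw [hPcard] at this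
    exact hp.one_lt.ne' this
  -- 2 n < p + 3
  have h2n : 2 * n < p + 3 := by
    rw [hnn] at hn
    have hppos : 0 < p := hp.pos
    by_contra hge
    push Not at hge
    have h1 : (p + 3) * p ≤ 2 * n * p := Nat.mul_le_mul_right p hge
    nlinarith
  refine ⟨C.relIndex N, n, hq2, hn1, hqdvd, h2n, rfl, hCcard, ?_, ?_, hnn, ?_⟩
  · rw [hNcard, hCcard]; ring
  · rw [← Subgroup.relIndex_mul_index hCN, ← hsyl, hnn]
  · rw [← Subgroup.card_mul_index N, ← hsyl, hnn, hNcard, hCcard]; ring

end Cfsg.Agent.Lib.Helper15.Brauer96
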