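import Mathlib
import Cfsg.Agent.Lib.Helper15.Brauer96Setup
import Cfsg.Agent.Lib.Helper6.BrauerNNGT

/-!
# S0996 module [OPK] (helper15 for helper79)

`G` perfect, `z` of prime order `p` with `C_G(z) = ⟨z⟩`, `2 |Syl_p G| < (p+1)(p+2)`:
every normal `p'`-subgroup of `G` is trivial.
-/

set_option autoImplicit false

namespace Cfsg.Agent.Lib.Helper15.Brauer96

open Subgroup

/-- a `p`-subgroup `P` acting by conjugation on a normal subgroup `K` with `K ∩ C(P) = 1`:
`|K| ≡ 1 (mod p)` -/
theorem card_normal_modEq_one {G : Type*} [Group G] [Finite G] (p : ℕ) [Fact p.Prime]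
    (P : Subgroup G) (hP : IsPGroup p P) (K : Subgroup G) [hK : K.Normal]
    (hfix : ∀ k ∈ K, (∀ x ∈ P, x * k * x⁻¹ = k) → k = 1) :
    Nat.card K ≡ 1 [MOD p] := by
  classical
  let _ : MulAction P K :=
    MulAction.compHom K ((MulAut.conjNormal (H := K)).comp P.subtype)
  have hsmul : ∀ (x : P) (k : K), ((x • k : K) : G) = (x : G) * (k : G) * (x : G)⁻¹ := by
    intro x k
    rfl
  have h1 := hP.card_modEq_card_fixedPoints (α := K)
  have h2 : Nat.card (MulAction.fixedPoints P K) = 1 := by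
    rw [Nat.card_eq_one_iff_unique]
    refine ⟨⟨fun a b => ?_⟩, ⟨⟨1, ?_⟩⟩⟩
    · have ha : (a : K) = 1 := by
        apply Subtype.ext
        apply hfix _ (a : K).2
        intro x hx
        have := a.2 ⟨x, hx⟩
        have h3 := congrArg Subtype.val this
        rw [hsmul] at h3
        exact h3
      have hb : (b : K) = 1 := by
        apply Subtype.ext
        apply hfix _ (b : K).2
        intro x hx
        have := b.2 ⟨x, hx⟩
        have h3 := congrArg Subtype.val this
        rw [hsmul] at h3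
        exact h3
      apply Subtype.ext
      rw [ha, hb]
    · intro x
      apply Subtype.ext
      rw [hsmul]
      simp
  rw [h2] at h1
  exact h1

/-- **[OPK]** -/
theorem pprime_normal_eq_bot {G : Type*} [Group G] [Finite G] (hperf : commutator G = ⊤) (p : ℕ)
    [Fact p.Prime] (z : G) (hz : orderOf z = p)
    (hC : Subgroup.centralizer ({z} : Set G) = Subgroup.zpowers z)
    (hn : 2 * Nat.card (Sylow p G) < (p + 1) * (p + 2)) :
    ∀ K : Subgroup G, K.Normal → (Nat.card K).Coprime p → K = ⊥ := by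
  classical
  intro K hK hcop
  have hp : p.Prime := Fact.out
  obtain ⟨P, hPcard, hPnn, hcent, q, n, hq2, hn1, hqdvd, h2n, hrel, hCcard, hNcard, hCidx, hsyl,
    hGcard⟩ := brauer_setup96 hperf p z hz hC hn
  by_contra hKbot
  set N := Subgroup.normalizer ((P : Subgroup G) : Set G) with hNdef
  have hPN : (P : Subgroup G) ≤ N := Subgroup.le_normalizer
  -- K ∩ P = ⊥
  have hKP : K ⊓ (P : Subgroup G) = ⊥ := by
    rw [← disjoint_iff]
    apply Subgroup.disjoint_of_coprime_natCard
    rw [hPcard]; exact hcop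
  -- a generator of P
  have hPnt : ∃ x₀ ∈ (P : Subgroup G), x₀ ≠ 1 := by
    by_contra hcon
    push Not at hcon
    have : (P : Subgroup G) = ⊥ := by
      rw [Subgroup.eq_bot_iff_forall]; exact hcon
    rw [this, Subgroup.card_bot] at hPcard
    exact hp.one_lt.ne hPcard
  obtain ⟨x₀, hx₀P, hx₀1⟩ := hPnt
  -- elements of K commuting with P are trivial
  have hfix : ∀ k ∈ K, (∀ x ∈ (P : Subgroup G), x * k * x⁻¹ = k) → k = 1 := by
    intro k hk hcomm
    have hkC : k ∈ Subgroup.centralizer ({x₀} : Set G) := by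
      rw [Subgroup.mem_centralizer_iff]
      intro y hy
      rw [Set.mem_singleton_iff] at hy
      subst hy
      have := hcomm y hx₀P
      calc y * k = y * k * y⁻¹ * y := by group
        _ = k * y := by rw [this]
    rw [hcent x₀ hx₀P hx₀1] at hkC
    have : k ∈ K ⊓ (P : Subgroup G) := ⟨hk, hkC⟩
    rw [hKP, Subgroup.mem_bot] at this
    exact this
  -- |K| ≡ 1 mod p
  have hKmod : Nat.card K ≡ 1 [MOD p] :=
    card_normal_modEq_one p (P : Subgroup G) P.2 K hfix
  -- K ∩ N = ⊥
  have hKN : K ⊓ N = ⊥ := by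
    rw [Subgroup.eq_bot_iff_forall]
    intro k hk
    obtain ⟨hkK, hkN⟩ := hk
    apply hfix k hkK
    intro x hx
    -- x k x⁻¹ k⁻¹ ∈ K ∩ P
    have h1 : x * k * x⁻¹ * k⁻¹ ∈ K := by
      have : x * k * x⁻¹ ∈ K := hK.conj_mem k hkK x
      exact K.mul_mem this (K.inv_mem hkK)
    have h2 : x * k * x⁻¹ * k⁻¹ ∈ (P : Subgroup G) := by
      have hkx : k * x⁻¹ * k⁻¹ ∈ (P : Subgroup G) :=
        (Subgroup.mem_normalizer_iff.mp hkN x⁻¹).mp ((P : Subgroup G).inv_mem hx)
      have : x * k * x⁻¹ * k⁻¹ = x * (k * x⁻¹ * k⁻¹) := by group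
      rw [this]
      exact (P : Subgroup G).mul_mem hx hkx
    have h3 : x * k * x⁻¹ * k⁻¹ ∈ K ⊓ (P : Subgroup G) := ⟨h1, h2⟩
    rw [hKP, Subgroup.mem_bot] at h3
    calc x * k * x⁻¹ = x * k * x⁻¹ * k⁻¹ * k := by group
      _ = k := by rw [h3, one_mul]
  -- counting: N.index = |K| * m
  set m := (K ⊔ N).index with hm
  have hcount : N.index = Nat.card K * m := by
    have h1 : K.relIndex (K ⊔ N) = Nat.card N := by
      rw [Subgroup.relIndex_sup_left, ← Subgroup.inf_relIndex_right, hKN,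
        Subgroup.relIndex_bot_left]
    have h2 : K.relIndex (K ⊔ N) * (K ⊔ N).index = K.index :=
      Subgroup.relIndex_mul_index le_sup_left
    have h3 := Subgroup.card_mul_index K
    have h4 := Subgroup.card_mul_index N
    have hNpos : 0 < Nat.card N := Nat.card_pos
    have : Nat.card N * N.index = Nat.card N * (Nat.card K * m) := by
      rw [h4, ← h3, ← h2, h1]; ring
    exact Nat.eq_of_mul_eq_mul_left hNpos this
  have hsylN : Nat.card (Sylow p G) = N.index := Sylow.card_eq_index_normalizer P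
  -- m ≠ 1
  have hm1 : m ≠ 1 := by
    intro h1
    have htop : K ⊔ N = ⊤ := Subgroup.index_eq_one.1 h1
    -- every element of G is k * n
    have hdecomp : ∀ g : G, ∃ k ∈ K, ∃ b ∈ N, g = k * b := by
      intro g
      have hg : g ∈ ((K ⊔ N : Subgroup G) : Set G) := by rw [htop]; trivial
      rw [Subgroup.normal_mul] at hg
      obtain ⟨k, hk, b, hb, hkb⟩ := Set.mem_mul.1 hg
      exact ⟨k, hk, b, hb, hkb.symm⟩
    have hfacts := Cfsg.Agent.Lib.Helper6.BrauerNInv.normalizer_sylow_facts p P hPcard hcent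
    have hperfH : commutator (G ⧸ K) = ⊤ :=
      Cfsg.Agent.Lib.Helper49.BrauerN.commutator_quotient_eq_top hperf K
    have hle : commutator (G ⧸ K) ≤ (P : Subgroup G).map (QuotientGroup.mk' K) := by
      rw [commutator_def, Subgroup.commutator_le]
      intro a _ b _
      obtain ⟨a', rfl⟩ := QuotientGroup.mk'_surjective K a
      obtain ⟨b', rfl⟩ := QuotientGroup.mk'_surjective K b
      obtain ⟨k1, hk1, a1, ha1, rfl⟩ := hdecomp a'
      obtain ⟨k2, hk2, b1, hb1, rfl⟩ := hdecomp b'
      have hk1' : QuotientGroup.mk' K k1 = 1 := (QuotientGroup.eq_one_iff k1).2 hk1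
      have hk2' : QuotientGroup.mk' K k2 = 1 := (QuotientGroup.eq_one_iff k2).2 hk2
      have e1 : QuotientGroup.mk' K (k1 * a1) = QuotientGroup.mk' K a1 := by
        rw [map_mul, hk1', one_mul]
      have e2 : QuotientGroup.mk' K (k2 * b1) = QuotientGroup.mk' K b1 := by
        rw [map_mul, hk2', one_mul]
      rw [e1, e2, commutatorElement_def, ← map_inv, ← map_inv, ← map_mul, ← map_mul, ← map_mul]
      exact Subgroup.mem_map_of_mem _ (hfacts.1 a1 b1 ha1 hb1)
    rw [hperfH, top_le_iff] at hle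
    have hcomm : ∀ a b : G ⧸ K, a * b = b * a := by
      intro a b
      have ha : a ∈ (P : Subgroup G).map (QuotientGroup.mk' K) := by rw [hle]; trivial
      have hb : b ∈ (P : Subgroup G).map (QuotientGroup.mk' K) := by rw [hle]; trivial
      obtain ⟨x, hx, rfl⟩ := Subgroup.mem_map.1 ha
      obtain ⟨y, hy, rfl⟩ := Subgroup.mem_map.1 hb
      rw [← map_mul, ← map_mul]
      congr 1
      -- P is abelian: y ∈ P ≤ C(x)
      by_cases hx1 : x = 1
      · rw [hx1, one_mul, mul_one]
      · have hyC : y ∈ Subgroup.centralizer ({x} : Set G) := by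
          rw [hcent x hx hx1]; exact hy
        rw [Subgroup.mem_centralizer_iff] at hyC
        exact (hyC x rfl)
    have hsub := Cfsg.Agent.Lib.Helper49.BrauerN.subsingleton_of_perfect_of_comm hperfH hcomm
    -- then K = ⊤, so x₀ ∈ K ∩ P
    have hx₀K : x₀ ∈ K := by
      rw [← QuotientGroup.eq_one_iff]
      exact Subsingleton.elim _ _
    have : x₀ ∈ K ⊓ (P : Subgroup G) := ⟨hx₀K, hx₀P⟩
    rw [hKP, Subgroup.mem_bot] at this
    exact hx₀1 this
  -- |K| ≥ p + 1, m ≥ p + 1
  have hKcard1 : Nat.card K ≠ 1 := by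
    intro h
    exact hKbot (Subgroup.card_eq_one.1 h)
  have hSmod : Nat.card (Sylow p G) ≡ 1 [MOD p] := card_sylow_modEq_one p G
  have hmmod : m ≡ 1 [MOD p] := by
    have h1 : Nat.card K * m ≡ 1 * m [MOD p] := Nat.ModEq.mul_right m hKmod
    rw [one_mul, ← hcount, ← hsylN] at h1
    exact h1.symm.trans hSmod
  have hge : ∀ a : ℕ, a ≡ 1 [MOD p] → a ≠ 1 → a ≠ 0 → p + 1 ≤ a := by
    intro a ha ha1 ha0
    have h1 : a % p = 1 := by
      have : a % p = 1 % p := ha
      rwa [Nat.mod_eq_of_lt hp.one_lt] at this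
    have h2 := Nat.div_add_mod a p
    rw [h1] at h2
    have h3 : a / p ≠ 0 := by
      intro h0
      rw [h0, mul_zero, zero_add] at h2
      exact ha1 h2.symm
    have h4 : p * 1 ≤ p * (a / p) := Nat.mul_le_mul_left p (Nat.one_le_iff_ne_zero.2 h3)
    omega
  have hK0 : Nat.card K ≠ 0 := (Nat.card_pos (α := K)).ne'
  have hm0 : m ≠ 0 := Subgroup.index_ne_zero_of_finite
  have hKge := hge _ hKmod hKcard1 hK0
  have hmge := hge _ hmmod hm1 hm0
  have hSge : (p + 1) * (p + 1) ≤ Nat.card (Sylow p G) := by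
    rw [hsylN, hcount]
    exact Nat.mul_le_mul hKge hmge
  nlinarith

end Cfsg.Agent.Lib.Helper15.Brauer96
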