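import Mathlib
import Cfsg.Prelude.Def_Transfer

/-!
# Elementary facts on extraspecial groups (helper15)

* `extraspecial_exists_conj_eq_central_mul`: a non-central element `x` of an extraspecial group has a
  conjugate `h * x * h⁻¹ = z * x` with `1 ≠ z` central.
* `extraspecial_mem_zpowers_of_center`: the centre is generated by each of its non-identity elements.
* `extraspecial_commutator_index`: the index of the commutator subgroup, for order `p ^ (2 n + 1)`.
-/

set_option autoImplicit false
open Cfsg

namespace Cfsg.Agent.Lib.Helper15

variable {P : Type*} [Group P]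

theorem extraspecial_commutator_eq_center {p : ℕ} (hP : Cfsg.IsExtraspecial p P) :
    commutator P = Subgroup.center P := hP.1.2.2

theorem extraspecial_card_center {p : ℕ} (hP : Cfsg.IsExtraspecial p P) :
    Nat.card (Subgroup.center P) = p := hP.2

/-- A non-central element of an extraspecial group has a conjugate differing from it by a
non-identity central element. -/
theorem extraspecial_exists_conj_eq_central_mul {p : ℕ} (hP : Cfsg.IsExtraspecial p P) (x : P)
    (hx : x ∉ Subgroup.center P) :
    ∃ h z : P, z ∈ Subgroup.center P ∧ z ≠ 1 ∧ h * x * h⁻¹ = z * x := by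
  rw [Subgroup.mem_center_iff] at hx
  push Not at hx
  obtain ⟨h, hh⟩ := hx
  refine ⟨h, h * x * h⁻¹ * x⁻¹, ?_, ?_, ?_⟩
  · rw [← extraspecial_commutator_eq_center hP, commutator_def]
    exact Subgroup.commutator_mem_commutator (Subgroup.mem_top h) (Subgroup.mem_top x)
  · intro h1
    apply hh
    have h2 : h * x * h⁻¹ = x := by
      have := congrArg (· * x) h1
      simpa using this
    have h3 := congrArg (· * h) h2
    simpa using h3
  · group

/-- The centre of an extraspecial group is generated by each of its non-identity elements. -/
theorem extraspecial_mem_zpowers_of_center {p : ℕ} [hp : Fact p.Prime]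
    (hP : Cfsg.IsExtraspecial p P) {z : P} (hz : z ∈ Subgroup.center P) (hz1 : z ≠ 1)
    {w : P} (hw : w ∈ Subgroup.center P) : w ∈ Subgroup.zpowers z := by
  have hcard := extraspecial_card_center hP
  have hne : (⟨z, hz⟩ : Subgroup.center P) ≠ 1 := by
    intro h
    exact hz1 (congrArg Subtype.val h)
  have htop := zpowers_eq_top_of_prime_card (G := Subgroup.center P) hcard hne
  have hmem : (⟨w, hw⟩ : Subgroup.center P) ∈ Subgroup.zpowers (⟨z, hz⟩ : Subgroup.center P) := by
    rw [htop]; exact Subgroup.mem_top _
  obtain ⟨k, hk⟩ := Subgroup.mem_zpowers_iff.mp hmem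
  refine Subgroup.mem_zpowers_iff.mpr ⟨k, ?_⟩
  have := congrArg (fun y : Subgroup.center P => (y : P)) hk
  simpa using this

/-- An extraspecial group is not commutative. -/
theorem extraspecial_not_comm {p : ℕ} [hp : Fact p.Prime] (hP : Cfsg.IsExtraspecial p P) :
    ¬ ∀ a b : P, a * b = b * a := by
  intro hc
  have h1 : commutator P = ⊥ := by
    rw [commutator_def, Subgroup.commutator_eq_bot_iff_le_centralizer]
    intro a _
    rw [Subgroup.mem_centralizer_iff]
    intro b _
    exact hc b a
  have h2 := extraspecial_card_center hP
  rw [← extraspecial_commutator_eq_center hP, h1, Subgroup.card_bot] at h2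
  exact hp.out.one_lt.ne h2

/-- In an extraspecial group of order `p ^ (2 n + 1)` we have `n ≠ 0`. -/
theorem extraspecial_width_ne_zero {p n : ℕ} [hp : Fact p.Prime] (hP : Cfsg.IsExtraspecial p P)
    (hcard : Nat.card P = p ^ (2 * n + 1)) : n ≠ 0 := by
  rintro rfl
  apply extraspecial_not_comm hP
  have hfin : Finite P := Nat.finite_of_card_ne_zero (by rw [hcard]; exact pow_ne_zero _ hp.out.ne_zero)
  have h1 : Nat.card (Subgroup.center P) = Nat.card P := by
    rw [extraspecial_card_center hP, hcard]; simp
  have htop : Subgroup.center P = ⊤ := Subgroup.eq_top_of_card_eq _ h1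
  intro a b
  have : a ∈ Subgroup.center P := by rw [htop]; exact Subgroup.mem_top a
  exact ((Subgroup.mem_center_iff.mp this) b).symm

/-- The commutator subgroup of an extraspecial group of order `p ^ (2 n + 1)` has index
`p ^ (2 n)`. -/
theorem extraspecial_commutator_index {p n : ℕ} [hp : Fact p.Prime] (hP : Cfsg.IsExtraspecial p P)
    (hcard : Nat.card P = p ^ (2 * n + 1)) : (commutator P).index = p ^ (2 * n) := by
  have h := Subgroup.card_mul_index (commutator P)
  rw [extraspecial_commutator_eq_center hP, extraspecial_card_center hP, hcard, pow_succ,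
    mul_comm] at h
  rw [extraspecial_commutator_eq_center hP]
  exact Nat.eq_of_mul_eq_mul_right hp.out.pos h

end Cfsg.Agent.Lib.Helper15
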