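import Mathlib
import Cfsg.Agent.Lib.Helper2.FWDefs

/-!
# Project FW (S3211), module [FW-NL] (helper15): no involution in the coset `n L₁L₂`.
-/

set_option autoImplicit false

namespace Cfsg.Agent.Lib.Helper15.FW

open Cfsg.Agent.Lib.Helper2.FW

variable {G : Type*} [Group G] {L₁ L₂ : Subgroup G} {j n : G}

/-- [FW-NL] no involution in the coset `n L₁L₂`. -/
theorem no_invol_nL (H : Hyp L₁ L₂ j n) {x y : G} (hx : x ∈ L₁) (hy : y ∈ L₂) :
    (n * (x * y)) * (n * (x * y)) ≠ 1 := by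
  intro ht
  have hcx : n * x * n⁻¹ ∈ L₂ := H.swap₁ x hx
  have hcy : n * y * n⁻¹ ∈ L₁ := H.swap₂ y hy
  have hjinv : j⁻¹ = j := inv_eq_of_mul_eq_one_right H.j_sq
  have hninv : n⁻¹ = j * n := by
    apply inv_eq_of_mul_eq_one_right
    rw [← mul_assoc, H.n_comm, mul_assoc, H.n_sq, H.j_sq]
  have hnj : n⁻¹ * j = j * n⁻¹ := by
    rw [hninv, mul_assoc, H.n_comm]
  have hyi : y⁻¹ * j = j * y⁻¹ := H.cent₂ _ (L₂.inv_mem hy)
  have hjyj : j * y⁻¹ * j = y⁻¹ := by rw [mul_assoc, hyi, ← mul_assoc, H.j_sq, one_mul]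
  have hp : (n * y * n⁻¹) * x ∈ L₁ := L₁.mul_mem hcy hx
  have hr : (n * x * n⁻¹) * y ∈ L₂ := L₂.mul_mem hcx hy
  -- t * t = j * p * r
  have key : (n * (x * y)) * (n * (x * y)) = j * ((n * y * n⁻¹) * x) * ((n * x * n⁻¹) * y) := by
    have e1 : n * (x * y) = (n * x * n⁻¹) * (n * y * n⁻¹) * n := by simp [mul_assoc]
    have hjx : (n * y * n⁻¹) * j * x ∈ L₁ := L₁.mul_mem (L₁.mul_mem hcy H.j_mem₁) hx
    calc (n * (x * y)) * (n * (x * y))
        = (n * x * n⁻¹) * (n * y * n⁻¹) * n * (n * (x * y)) := by rw [← e1]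
      _ = (n * x * n⁻¹) * ((n * y * n⁻¹) * j * x) * y := by
          rw [← H.n_sq]; simp only [mul_assoc]
      _ = ((n * y * n⁻¹) * j * x) * (n * x * n⁻¹) * y := by
          rw [H.comm _ hjx _ hcx]
      _ = j * ((n * y * n⁻¹) * x) * ((n * x * n⁻¹) * y) := by
          rw [H.cent₁ _ hcy]; simp only [mul_assoc]
  rw [key] at ht
  -- p ∈ L₂
  have hp2 : (n * y * n⁻¹) * x ∈ L₂ := by
    have : (n * y * n⁻¹) * x = j⁻¹ * ((n * x * n⁻¹) * y)⁻¹ := by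
      rw [← mul_inv_rev]
      apply eq_inv_of_mul_eq_one_left
      rw [← ht]
      have := H.cent₂ _ hr
      calc (n * y * n⁻¹) * x * ((n * x * n⁻¹) * y * j)
          = (n * y * n⁻¹) * x * (j * ((n * x * n⁻¹) * y)) := by rw [this]
        _ = ((n * y * n⁻¹) * x * j) * ((n * x * n⁻¹) * y) := by simp only [mul_assoc]
        _ = j * ((n * y * n⁻¹) * x) * ((n * x * n⁻¹) * y) := by rw [H.cent₁ _ hp]
    rw [this]
    exact L₂.mul_mem (L₂.inv_mem H.j_mem₂) (L₂.inv_mem hr)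
  rcases H.inter _ hp hp2 with h1 | h1
  · -- p = 1 : x = (n y n⁻¹)⁻¹
    have hxe : x = n * y⁻¹ * n⁻¹ := by
      have : x = (n * y * n⁻¹)⁻¹ := eq_inv_of_mul_eq_one_right h1
      rw [this]; simp [mul_assoc]
    have hre : (n * x * n⁻¹) * y = 1 := by
      rw [hxe]
      have : n * (n * y⁻¹ * n⁻¹) * n⁻¹ = (n * n) * y⁻¹ * (n * n)⁻¹ := by simp [mul_assoc]
      rw [this, H.n_sq, hjinv, hjyj, inv_mul_cancel]
    rw [h1, hre, mul_one, mul_one] at ht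
    exact H.j_ne ht
  · -- p = j
    have hxe : x = n * y⁻¹ * n⁻¹ * j := by
      have : x = (n * y * n⁻¹)⁻¹ * j := eq_inv_mul_of_mul_eq h1
      rw [this]; simp [mul_assoc]
    have hre : (n * x * n⁻¹) * y = j := by
      rw [hxe]
      have e1 : n * (n * y⁻¹ * n⁻¹ * j) * n⁻¹ = (n * n) * y⁻¹ * (n⁻¹ * j) * n⁻¹ := by
        simp only [mul_assoc]
      rw [e1, hnj, H.n_sq]
      have e2 : j * y⁻¹ * (j * n⁻¹) * n⁻¹ = j * y⁻¹ * j * (n * n)⁻¹ := by simp [mul_assoc]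
      rw [e2, H.n_sq, hjinv, hjyj, mul_assoc, ← mul_assoc y⁻¹, hyi, mul_assoc, inv_mul_cancel,
        mul_one]
    rw [h1, hre, H.j_sq, one_mul] at ht
    exact H.j_ne ht

end Cfsg.Agent.Lib.Helper15.FW
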