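import Mathlib
import Cfsg.Agent.Lib.Helper78.CharMore
import Cfsg.Agent.Lib.Helper79.Schur
import Cfsg.Agent.Lib.Helper80.CharBasic
import Cfsg.Agent.Lib.Helper77.CenterIrr
import Cfsg.Agent.Lib.Helper75.Clifford

/-!
# A Feit-Thompson inequality (Isaacs, end of chapter 8 / Feit-Thompson 1961)

Let `H ≤ G` be abelian with `H ∩ Z(G) = 1` such that every noncentral element of `G` commutes with
nontrivial elements of at most one conjugate of `H` (`TICent H`).  For `χ ∈ Irr(G)` nontrivial on `H`,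
`|H| |[χ_H, 1_H]|² < χ(1)²`.

* `avgR K f`: the average of `f` over right cosets of `K`; for `K` normal and `μ` irreducible it is
  `0` or `μ` (`avgR_irr`, `avgR_irr_scalar_idem`).
* `card_le_sum_normSq_sub_avgR`: the part of a character not fixed by a normal subgroup has norm `≥ 1`.
* `card_mul_sum_le`: the counting inequality over the conjugates of `H`.
* `feit_thompson_ineq`: the inequality.
-/

set_option autoImplicit false
set_option linter.unusedSectionVars false
set_option linter.unusedSimpArgs false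
set_option linter.unusedTactic false
open Cfsg

namespace Cfsg.Agent.Lib.Helper15

open Cfsg.Agent.Lib.Helper78
open scoped ComplexConjugate commutatorElement

universe u

section Avg

variable {M : Type u} [Group M] [Fintype M] (K : Subgroup M) [Fintype K]

/-- Averaging a function over the right cosets of `K`. -/
noncomputable def avgR (f : M → ℂ) : M → ℂ :=
  fun g => (Nat.card K : ℂ)⁻¹ * ∑ k : K, f (g * k)

theorem avgR_mul_right (f : M → ℂ) (g : M) (k : K) : avgR K f (g * k) = avgR K f g := by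
  unfold avgR
  congr 1
  apply Fintype.sum_equiv (Equiv.mulLeft k)
  intro x
  rw [Equiv.coe_mulLeft, Subgroup.coe_mul, mul_assoc]

theorem card_ne_zero_complex : (Nat.card K : ℂ) ≠ 0 := by
  exact_mod_cast (Nat.card_pos (α := K)).ne'

theorem avgR_idem (f : M → ℂ) : avgR K (avgR K f) = avgR K f := by
  funext g
  change (Nat.card K : ℂ)⁻¹ * ∑ k : K, avgR K f (g * k) = _
  simp only [avgR_mul_right]
  rw [Finset.sum_const, Finset.card_univ, nsmul_eq_mul, ← Nat.card_eq_fintype_card, ← mul_assoc,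
    inv_mul_cancel₀ (card_ne_zero_complex K), one_mul]

theorem sum_sub_avgR (f : M → ℂ) (g : M) : ∑ k : K, (f (g * k) - avgR K f (g * k)) = 0 := by
  simp only [avgR_mul_right]
  rw [Finset.sum_sub_distrib, Finset.sum_const, Finset.card_univ, nsmul_eq_mul,
    ← Nat.card_eq_fintype_card]
  unfold avgR
  rw [← mul_assoc, mul_inv_cancel₀ (card_ne_zero_complex K), one_mul, sub_self]

theorem classInner_avgR_left (f f' : M → ℂ) :
    classInner (avgR K f) f' = classInner f (avgR K f') := by
  unfold classInner avgR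
  congr 1
  have h1 : ∀ g : M, (Nat.card K : ℂ)⁻¹ * (∑ k : K, f (g * k)) * conj (f' g) =
      (Nat.card K : ℂ)⁻¹ * ∑ k : K, f (g * k) * conj (f' g) := by
    intro g
    rw [mul_assoc, Finset.sum_mul]
  have h2 : ∀ g : M, f g * conj ((Nat.card K : ℂ)⁻¹ * ∑ k : K, f' (g * k)) =
      (Nat.card K : ℂ)⁻¹ * ∑ k : K, f g * conj (f' (g * k)) := by
    intro g
    rw [map_mul, map_inv₀, Complex.conj_natCast, map_sum, Finset.mul_sum, Finset.mul_sum,
      Finset.mul_sum]
    apply Finset.sum_congr rfl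
    intro k _
    ring
  simp only [h1, h2]
  rw [← Finset.mul_sum, ← Finset.mul_sum]
  congr 1
  rw [Finset.sum_comm]
  conv_rhs => rw [Finset.sum_comm]
  rw [← Equiv.sum_comp (Equiv.inv K)]
  apply Finset.sum_congr rfl
  intro k _
  apply Fintype.sum_equiv (Equiv.mulRight ((k : M))⁻¹)
  intro g
  simp [mul_assoc]

theorem avgR_smul (c : ℂ) (f : M → ℂ) : avgR K (c • f) = c • avgR K f := by
  funext g
  unfold avgR
  simp only [Pi.smul_apply, smul_eq_mul, ← Finset.mul_sum]
  ring

theorem isClassFunction_avgR [hK : K.Normal] {f : M → ℂ} (hf : IsClassFunction M f) :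
    IsClassFunction M (avgR K f) := by
  intro g x
  unfold avgR
  congr 1
  apply Fintype.sum_equiv (MulAut.conjNormal x⁻¹ : MulAut K).toEquiv
  intro k
  have h1 : x * g * x⁻¹ * (k : M) = x * (g * (x⁻¹ * k * x)) * x⁻¹ := by group
  rw [h1, hf]
  simp [MulAut.conjNormal_apply]

/-- For an irreducible character `μ` and a normal subgroup `K`, the average of `μ` over cosets of
`K` is a scalar multiple of `μ`. -/
theorem avgR_irr [hK : K.Normal] (μ : IrrCharacter M) :
    avgR K (μ : M → ℂ) = (avgR K (μ : M → ℂ) 1 / (μ : M → ℂ) 1) • (μ : M → ℂ) := by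
  classical
  have hμcl : IsClassFunction M (μ : M → ℂ) := isClassFunction_irr μ
  have h1 : (μ : M → ℂ) 1 ≠ 0 := Cfsg.Agent.Lib.Helper79.irr_apply_one_ne_zero μ
  have hM : (Nat.card M : ℂ) ≠ 0 := by exact_mod_cast (Nat.card_pos (α := M)).ne'
  funext y
  -- the key identity
  have key : ∑ k : K, (μ : M → ℂ) (k * y) =
      (∑ k : K, (μ : M → ℂ) k) * (μ : M → ℂ) y / (μ : M → ℂ) 1 := by
    have h2 : ∑ k : K, ∑ a : M, (μ : M → ℂ) (a * k * a⁻¹ * y) =
        (Nat.card M : ℂ) * ∑ k : K, (μ : M → ℂ) (k * y) := by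
      rw [Finset.sum_comm]
      have h3 : ∀ a : M, ∑ k : K, (μ : M → ℂ) (a * k * a⁻¹ * y) =
          ∑ k : K, (μ : M → ℂ) (k * y) := by
        intro a
        apply Fintype.sum_equiv (MulAut.conjNormal a : MulAut K).toEquiv
        intro k
        simp [MulAut.conjNormal_apply]
      simp only [h3]
      rw [Finset.sum_const, Finset.card_univ, nsmul_eq_mul, ← Nat.card_eq_fintype_card]
    have h4 : ∑ k : K, ∑ a : M, (μ : M → ℂ) (a * k * a⁻¹ * y) =
        (Nat.card M : ℂ) * ((∑ k : K, (μ : M → ℂ) k) * (μ : M → ℂ) y / (μ : M → ℂ) 1) := by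
      simp only [Cfsg.Agent.Lib.Helper79.irr_sum_conj_mul μ]
      rw [Finset.sum_mul, Finset.sum_div, Finset.mul_sum]
      apply Finset.sum_congr rfl
      intro k _
      ring
    rw [h2] at h4
    exact mul_left_cancel₀ hM h4
  have h5 : ∀ k : K, (μ : M → ℂ) (y * k) = (μ : M → ℂ) (k * y) := by
    intro k
    have := hμcl (y * k) y⁻¹
    rw [← this]
    congr 1
    group
  unfold avgR
  simp only [Pi.smul_apply, smul_eq_mul, h5, one_mul]
  rw [key]
  field_simp

theorem avgR_irr_scalar_idem [hK : K.Normal] (μ : IrrCharacter M) :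
    (avgR K (μ : M → ℂ) 1 / (μ : M → ℂ) 1) = 0 ∨ (avgR K (μ : M → ℂ) 1 / (μ : M → ℂ) 1) = 1 := by
  set t := avgR K (μ : M → ℂ) 1 / (μ : M → ℂ) 1 with ht
  have h1 : (μ : M → ℂ) 1 ≠ 0 := Cfsg.Agent.Lib.Helper79.irr_apply_one_ne_zero μ
  have h2 := avgR_idem K (μ : M → ℂ)
  rw [avgR_irr K μ, ← ht, avgR_smul, avgR_irr K μ, ← ht] at h2
  have h3 := congrFun h2 1
  simp only [Pi.smul_apply, smul_eq_mul] at h3
  have h4 : t * t = t := by
    have : (t * t) * (μ : M → ℂ) 1 = t * (μ : M → ℂ) 1 := by rw [mul_assoc]; exact h3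
    exact mul_right_cancel₀ h1 this
  have h5 : t * (t - 1) = 0 := by rw [mul_sub, h4, mul_one, sub_self]
  rcases mul_eq_zero.mp h5 with h | h
  · left; exact h
  · right; exact sub_eq_zero.mp h

/-- The part of a character of `M` not fixed by the normal subgroup `K` is zero or has norm at
least one. -/
theorem card_le_sum_normSq_sub_avgR [hK : K.Normal] {ψ : M → ℂ} (hψ : IsCharacter M ψ)
    (hne : ψ - avgR K ψ ≠ 0) :
    (Nat.card M : ℝ) ≤ ∑ g : M, Complex.normSq ((ψ - avgR K ψ) g) := by
  classical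
  set β : M → ℂ := ψ - avgR K ψ with hβ
  have hψcl : IsClassFunction M ψ := IsCharacter.isClassFunction hψ
  have hβcl : IsClassFunction M β := isClassFunction_sub hψcl (isClassFunction_avgR K hψcl)
  -- the coefficients of `β` are natural numbers
  have hcoef : ∀ μ : IrrCharacter M, ∃ c : ℕ, classInner β (μ : M → ℂ) = c := by
    intro μ
    obtain ⟨b, hb⟩ := IsCharacter.exists_nat_classInner hψ μ
    have h1 : classInner β (μ : M → ℂ) =
        classInner ψ (μ : M → ℂ) - classInner (avgR K ψ) (μ : M → ℂ) := by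
      rw [hβ, sub_eq_add_neg, classInner_add_left, ← neg_one_smul ℂ (avgR K ψ),
        classInner_smul_left]
      ring
    rw [h1, classInner_avgR_left, avgR_irr K μ, classInner_smul_right, hb]
    rcases avgR_irr_scalar_idem K μ with h | h
    · refine ⟨b, ?_⟩
      rw [h]; simp
    · refine ⟨0, ?_⟩
      rw [h]; simp
  choose c hc using hcoef
  have hex : ∃ μ : IrrCharacter M, c μ ≠ 0 := by
    by_contra hcon
    push Not at hcon
    apply hne
    apply eq_zero_of_forall_classInner_irr_eq_zero hβcl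
    intro μ
    rw [hc μ, hcon μ]; simp
  obtain ⟨μ₀, hμ₀⟩ := hex
  have hpars := classInner_eq_sum_mul_conj β hβcl
  simp only [hc, Complex.conj_natCast] at hpars
  have h2 : (1 : ℝ) ≤ ∑ μ : IrrCharacter M, ((c μ : ℝ) * (c μ : ℝ)) := by
    have h3 : (c μ₀ : ℝ) * (c μ₀ : ℝ) ≤ ∑ μ : IrrCharacter M, ((c μ : ℝ) * (c μ : ℝ)) :=
      Finset.single_le_sum (f := fun μ : IrrCharacter M => (c μ : ℝ) * (c μ : ℝ))
        (fun μ _ => mul_self_nonneg _) (Finset.mem_univ μ₀)
    have h4 : (1 : ℝ) ≤ (c μ₀ : ℝ) := by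
      exact_mod_cast Nat.one_le_iff_ne_zero.mpr hμ₀
    nlinarith
  -- translate the inner product
  have h5 : classInner β β = (((Nat.card M : ℝ)⁻¹ * ∑ g : M, Complex.normSq (β g) : ℝ) : ℂ) := by
    unfold classInner
    push_cast
    congr 1
    apply Finset.sum_congr rfl
    intro g _
    rw [Complex.mul_conj]
  have h6 : ((Nat.card M : ℝ)⁻¹ * ∑ g : M, Complex.normSq (β g)) =
      ∑ μ : IrrCharacter M, ((c μ : ℝ) * (c μ : ℝ)) := by
    have : (((Nat.card M : ℝ)⁻¹ * ∑ g : M, Complex.normSq (β g) : ℝ) : ℂ) =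
        ((∑ μ : IrrCharacter M, ((c μ : ℝ) * (c μ : ℝ)) : ℝ) : ℂ) := by
      rw [← h5, hpars]
      push_cast
      rfl
    exact_mod_cast this
  have hM : (0 : ℝ) < (Nat.card M : ℝ) := by exact_mod_cast (Nat.card_pos (α := M))
  rw [← h6] at h2
  have h7 := mul_le_mul_of_nonneg_left h2 hM.le
  rw [mul_one, ← mul_assoc, mul_inv_cancel₀ hM.ne', one_mul] at h7
  exact h7

/-- For a class function, the right average is also invariant under left multiplication. -/
theorem avgR_mul_left {f : M → ℂ} (hf : IsClassFunction M f) (k : K) (g : M) :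
    avgR K f (k * g) = avgR K f g := by
  unfold avgR
  congr 1
  apply Fintype.sum_equiv (Equiv.mulRight k)
  intro x
  have h1 := hf (k * g * x) (k : M)⁻¹
  rw [← h1]
  congr 1
  simp [mul_assoc]

end Avg

section Count

variable {G : Type u} [Group G] [Fintype G] (H : Subgroup G)

/-- `g` commutes with a nontrivial element of the conjugate `a H a⁻¹`. -/
def MeetsConj (a g : G) : Prop :=
  ∃ k ∈ H, k ≠ 1 ∧ (a * k * a⁻¹) * g = g * (a * k * a⁻¹)

theorem meetsConj_iff_conj (a y : G) : MeetsConj H a y ↔ MeetsConj H 1 (a⁻¹ * y * a) := by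
  constructor
  · rintro ⟨k, hk, hk1, hc⟩
    refine ⟨k, hk, hk1, ?_⟩
    have h1 : 1 * k * 1⁻¹ * (a⁻¹ * y * a) = a⁻¹ * ((a * k * a⁻¹) * y) * a := by group
    rw [h1, hc]
    group
  · rintro ⟨k, hk, hk1, hc⟩
    refine ⟨k, hk, hk1, ?_⟩
    have h1 : a * k * a⁻¹ * y = a * ((1 * k * 1⁻¹) * (a⁻¹ * y * a)) * a⁻¹ := by group
    rw [h1, hc]
    group

/-- Each noncentral element commutes with nontrivial elements of at most one conjugate of `H`. -/
def TICent : Prop :=
  ∀ g : G, g ∉ Subgroup.center G → ∀ a b : G, MeetsConj H a g → MeetsConj H b g →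
    a⁻¹ * b ∈ Subgroup.normalizer (H : Set G)

theorem card_meetsConj_le (hTI : TICent H) [DecidablePred (fun a : G => a ∈ Subgroup.normalizer (H : Set G))]
    (y : G) (hy : y ∉ Subgroup.center G)
    [DecidablePred (fun a : G => MeetsConj H a y)] :
    (Finset.univ.filter (fun a : G => MeetsConj H a y)).card ≤
      Nat.card (Subgroup.normalizer (H : Set G)) := by
  classical
  by_cases hemp : (Finset.univ.filter (fun a : G => MeetsConj H a y)) = ∅
  · rw [hemp]; simp
  obtain ⟨a₀, ha₀⟩ := Finset.nonempty_iff_ne_empty.mpr hemp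
  have ha₀' : MeetsConj H a₀ y := (Finset.mem_filter.mp ha₀).2
  have h1 : (Finset.univ.filter (fun a : G => MeetsConj H a y)).card ≤
      (Finset.univ.filter (fun a : G => a ∈ Subgroup.normalizer (H : Set G))).card := by
    apply Finset.card_le_card_of_injOn (fun a => a₀⁻¹ * a)
    · intro a ha
      have ha' : MeetsConj H a y := (Finset.mem_filter.mp ha).2
      simp only [Finset.coe_filter, Finset.mem_univ, true_and, Set.mem_ofPred_eq]
      exact hTI y hy a₀ a ha₀' ha'
    · intro a _ b _ hab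
      exact mul_left_cancel hab
  refine h1.trans (le_of_eq ?_)
  rw [Nat.card_eq_fintype_card, Fintype.card_subtype]

open Classical in
theorem card_mul_sum_le (hTI : TICent H) (F : G → ℝ) (hF0 : ∀ g, 0 ≤ F g)
    (hFcl : ∀ g x, F (x * g * x⁻¹) = F g) :
    (Nat.card G : ℝ) * ∑ g : G,
        (if g ∉ Subgroup.center G ∧ MeetsConj H 1 g then F g else 0) ≤
      (Nat.card (Subgroup.normalizer (H : Set G)) : ℝ) * ∑ y : G,
        (if y ∉ Subgroup.center G then F y else 0) := by
  classical
  have h1 : ∀ a : G, ∑ g : G, (if g ∉ Subgroup.center G ∧ MeetsConj H 1 g then F g else 0) =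
      ∑ y : G, (if y ∉ Subgroup.center G ∧ MeetsConj H a y then F y else 0) := by
    intro a
    apply Fintype.sum_equiv (MulAut.conj a).toEquiv
    intro g
    have hc : (MulAut.conj a).toEquiv g = a * g * a⁻¹ := rfl
    rw [hc]
    have e1 : a * g * a⁻¹ ∉ Subgroup.center G ↔ g ∉ Subgroup.center G := by
      rw [not_iff_not]
      constructor
      · intro h
        have := (Subgroup.center G).normal_of_characteristic.conj_mem _ h a⁻¹
        simpa [mul_assoc] using this
      · intro h
        exact (Subgroup.center G).normal_of_characteristic.conj_mem _ h a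
    have e2 : MeetsConj H a (a * g * a⁻¹) ↔ MeetsConj H 1 g := by
      rw [meetsConj_iff_conj H a]
      have : a⁻¹ * (a * g * a⁻¹) * a = g := by group
      rw [this]
    simp only [e1, e2, hFcl]
  have h2 : (Nat.card G : ℝ) * ∑ g : G,
      (if g ∉ Subgroup.center G ∧ MeetsConj H 1 g then F g else 0) =
      ∑ a : G, ∑ y : G, (if y ∉ Subgroup.center G ∧ MeetsConj H a y then F y else 0) := by
    rw [Finset.sum_congr rfl (fun a _ => (h1 a).symm), Finset.sum_const, Finset.card_univ,
      nsmul_eq_mul, Nat.card_eq_fintype_card]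
  rw [h2, Finset.sum_comm, Finset.mul_sum]
  apply Finset.sum_le_sum
  intro y _
  by_cases hy : y ∈ Subgroup.center G
  · simp [hy]
  · simp only [hy, not_false_eq_true, true_and, if_true]
    rw [← Finset.sum_filter, Finset.sum_const, nsmul_eq_mul]
    apply mul_le_mul_of_nonneg_right _ (hF0 y)
    exact_mod_cast card_meetsConj_le H hTI y hy


theorem meetsConj_one_iff (g : G) : MeetsConj H 1 g ↔ ∃ k ∈ H, k ≠ 1 ∧ k * g = g * k := by
  unfold MeetsConj
  simp

variable {H}

theorem mem_normalizer_of_meetsConj (hTI : TICent H) (hZ : H ⊓ Subgroup.center G = ⊥) {g : G}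
    (hg : MeetsConj H 1 g) : g ∈ Subgroup.normalizer (H : Set G) := by
  obtain ⟨k, hk, hk1, hc⟩ := (meetsConj_one_iff H g).mp hg
  have hkZ : k ∉ Subgroup.center G := by
    intro h
    have : k ∈ H ⊓ Subgroup.center G := ⟨hk, h⟩
    rw [hZ, Subgroup.mem_bot] at this
    exact hk1 this
  have h1 : MeetsConj H 1 k := (meetsConj_one_iff H k).mpr ⟨k, hk, hk1, rfl⟩
  have h2 : MeetsConj H g k := by
    refine ⟨k, hk, hk1, ?_⟩
    have : g * k * g⁻¹ = k := by rw [← hc, mul_inv_cancel_right]
    rw [this]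
  have := hTI k hkZ 1 g h1 h2
  simpa using this

theorem meetsConj_of_mem_center {z : G} (hz : z ∈ Subgroup.center G) {h : G} (hh : h ∈ H)
    (hh1 : h ≠ 1) : MeetsConj H 1 z :=
  (meetsConj_one_iff H z).mpr ⟨h, hh, hh1, Subgroup.mem_center_iff.mp hz h⟩

theorem meetsConj_mul_right (hab : ∀ a ∈ H, ∀ b ∈ H, a * b = b * a) {g : G} {h : G} (hh : h ∈ H) :
    MeetsConj H 1 (g * h) ↔ MeetsConj H 1 g := by
  rw [meetsConj_one_iff, meetsConj_one_iff]
  constructor
  · rintro ⟨k, hk, hk1, hc⟩
    refine ⟨k, hk, hk1, ?_⟩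
    have h1 : k * g = (k * (g * h)) * h⁻¹ := by group
    rw [h1, hc, mul_assoc, mul_assoc, ← mul_assoc h k, hab h hh k hk, mul_assoc,
      mul_inv_cancel, mul_one]
  · rintro ⟨k, hk, hk1, hc⟩
    refine ⟨k, hk, hk1, ?_⟩
    rw [← mul_assoc, hc, mul_assoc, hab k hk h hh, mul_assoc]

/-- A class function minus its `H`-average vanishes at elements of the normalizer acting
fixed-point-freely on `H`. -/
theorem sub_avgR_eq_zero_of_not_meetsConj [Fintype H] {f : G → ℂ} (hf : IsClassFunction G f)
    {g : G} (hgN : g ∈ Subgroup.normalizer (H : Set G)) (hg : ¬ MeetsConj H 1 g) :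
    f g - avgR H f g = 0 := by
  classical
  have hmem : ∀ h : H, g⁻¹ * (h : G)⁻¹ * g * h ∈ H := by
    intro h
    have h1 : g⁻¹ * (h : G)⁻¹ * g ∈ H :=
      (Subgroup.mem_normalizer_iff''.mp hgN _).mp (H.inv_mem h.2)
    exact H.mul_mem h1 h.2
  let φ : H → H := fun h => ⟨g⁻¹ * (h : G)⁻¹ * g * h, hmem h⟩
  have hinj : Function.Injective φ := by
    intro h h' hhh
    have h1 : g⁻¹ * (h : G)⁻¹ * g * h = g⁻¹ * (h' : G)⁻¹ * g * h' := congrArg Subtype.val hhh
    have h2 : (h : G)⁻¹ * g * h = (h' : G)⁻¹ * g * h' := by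
      have := congrArg (fun x => g * x) h1
      simpa [mul_assoc] using this
    by_contra hne
    apply hg
    rw [meetsConj_one_iff]
    refine ⟨(h' : G) * (h : G)⁻¹, H.mul_mem h'.2 (H.inv_mem h.2), ?_, ?_⟩
    · intro h3
      apply hne
      apply Subtype.ext
      have : (h' : G) = h := by
        have := congrArg (fun x => x * (h : G)) h3
        simpa using this
      exact this.symm
    · have h3 : (h' : G) * (h : G)⁻¹ * g = (h' : G) * ((h : G)⁻¹ * g * h) * (h : G)⁻¹ := by group
      rw [h3, h2]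
      group
  have hbij : Function.Bijective φ := ⟨hinj, Finite.injective_iff_surjective.mp hinj⟩
  have h0 := sum_sub_avgR H f g
  rw [← Equiv.sum_comp (Equiv.ofBijective φ hbij)] at h0
  have h1 : ∀ h : H, f (g * ((Equiv.ofBijective φ hbij) h : H)) -
      avgR H f (g * ((Equiv.ofBijective φ hbij) h : H)) = f g - avgR H f g := by
    intro h
    have e1 : g * ((Equiv.ofBijective φ hbij) h : H) = (h : G)⁻¹ * g * h := by
      change g * (g⁻¹ * (h : G)⁻¹ * g * h) = _
      group
    rw [e1]
    have e2 : f ((h : G)⁻¹ * g * h) = f g := by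
      have := hf g (h : G)⁻¹
      rwa [inv_inv] at this
    have e3 : avgR H f ((h : G)⁻¹ * g * h) = avgR H f g := by
      rw [avgR_mul_right]
      have := avgR_mul_left H hf (h⁻¹ : H) g
      rwa [Subgroup.coe_inv] at this
    rw [e2, e3]
  simp only [h1] at h0
  rw [Finset.sum_const, Finset.card_univ, nsmul_eq_mul] at h0
  rcases mul_eq_zero.mp h0 with h | h
  · exfalso
    have : (Fintype.card H : ℂ) ≠ 0 := by exact_mod_cast Fintype.card_ne_zero
    exact this h
  · exact h

open Classical in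
theorem sum_meetsConj_avgR_mul_conj [Fintype H] (hab : ∀ a ∈ H, ∀ b ∈ H, a * b = b * a)
    (f : G → ℂ) :
    ∑ g : G, (if MeetsConj H 1 g then avgR H f g * conj (f g - avgR H f g) else 0) = 0 := by
  set S := ∑ g : G, (if MeetsConj H 1 g then avgR H f g * conj (f g - avgR H f g) else 0) with hS
  have h1 : ∀ k : H, S = ∑ g : G, (if MeetsConj H 1 g then
      avgR H f g * conj (f (g * k) - avgR H f (g * k)) else 0) := by
    intro k
    rw [hS, ← Equiv.sum_comp (Equiv.mulRight (k : G))]
    apply Finset.sum_congr rfl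
    intro g _
    simp only [Equiv.coe_mulRight, meetsConj_mul_right hab k.2, avgR_mul_right]
  have h2 : (Fintype.card H : ℂ) * S = 0 := by
    have : (Fintype.card H : ℂ) * S = ∑ k : H, S := by
      rw [Finset.sum_const, Finset.card_univ, nsmul_eq_mul]
    rw [this]
    rw [Finset.sum_congr rfl (fun k _ => h1 k), Finset.sum_comm]
    apply Finset.sum_eq_zero
    intro g _
    by_cases hg : MeetsConj H 1 g
    · simp only [hg, if_true]
      rw [← Finset.mul_sum, ← map_sum, sum_sub_avgR, map_zero, mul_zero]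
    · simp [hg]
  rcases mul_eq_zero.mp h2 with h | h
  · exfalso
    have : (Fintype.card H : ℂ) ≠ 0 := by exact_mod_cast Fintype.card_ne_zero
    exact this h
  · exact h

open Classical in
theorem sum_normSq_meetsConj_eq [Fintype H] (hab : ∀ a ∈ H, ∀ b ∈ H, a * b = b * a)
    (f : G → ℂ) :
    ∑ g : G, (if MeetsConj H 1 g then Complex.normSq (f g) else 0) =
      ∑ g : G, (if MeetsConj H 1 g then Complex.normSq (avgR H f g) else 0) +
      ∑ g : G, (if MeetsConj H 1 g then Complex.normSq (f g - avgR H f g) else 0) := by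
  have h1 : ∀ g : G, Complex.normSq (f g) = Complex.normSq (avgR H f g) +
      Complex.normSq (f g - avgR H f g) +
      2 * (avgR H f g * conj (f g - avgR H f g)).re := by
    intro g
    have : f g = avgR H f g + (f g - avgR H f g) := by ring
    conv_lhs => rw [this]
    rw [Complex.normSq_add]
  have h2 : ∑ g : G, (if MeetsConj H 1 g then
      2 * (avgR H f g * conj (f g - avgR H f g)).re else 0) = 0 := by
    have h3 := congrArg Complex.re (sum_meetsConj_avgR_mul_conj hab f)
    rw [Complex.re_sum, Complex.zero_re] at h3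
    have h4 : ∑ g : G, (if MeetsConj H 1 g then
        2 * (avgR H f g * conj (f g - avgR H f g)).re else 0) =
        2 * ∑ g : G, (if MeetsConj H 1 g then
          avgR H f g * conj (f g - avgR H f g) else 0).re := by
      rw [Finset.mul_sum]
      apply Finset.sum_congr rfl
      intro g _
      by_cases hg : MeetsConj H 1 g
      · simp [hg]
      · simp [hg]
    rw [h4, h3, mul_zero]
  have h5 : ∑ g : G, (if MeetsConj H 1 g then Complex.normSq (f g) else 0) =
      ∑ g : G, (if MeetsConj H 1 g then Complex.normSq (avgR H f g) else 0) +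
      ∑ g : G, (if MeetsConj H 1 g then Complex.normSq (f g - avgR H f g) else 0) +
      ∑ g : G, (if MeetsConj H 1 g then
        2 * (avgR H f g * conj (f g - avgR H f g)).re else 0) := by
    rw [← Finset.sum_add_distrib, ← Finset.sum_add_distrib]
    apply Finset.sum_congr rfl
    intro g _
    by_cases hg : MeetsConj H 1 g
    · simp only [hg, if_true]
      exact h1 g
    · simp only [hg, if_false, add_zero]
  rw [h5, h2, add_zero]

open Classical in
/-- The non-`H`-invariant part of a character has norm at least one on the normalizer, and is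
supported on the elements commuting with a nontrivial element of `H`. -/
theorem card_normalizer_le_sum [Fintype H] (hTI : TICent H) (hZ : H ⊓ Subgroup.center G = ⊥)
    {χ : G → ℂ} (hχ : IsCharacter G χ) (hker : ∃ h ∈ H, χ h ≠ χ 1) :
    (Nat.card (Subgroup.normalizer (H : Set G)) : ℝ) ≤
      ∑ g : G, (if MeetsConj H 1 g then Complex.normSq (χ g - avgR H χ g) else 0) := by
  set N : Subgroup G := Subgroup.normalizer (H : Set G) with hN
  have hHN : H ≤ N := Subgroup.le_normalizer
  have hKn : (H.subgroupOf N).Normal := Subgroup.normal_in_normalizer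
  have hχcl : IsClassFunction G χ := IsCharacter.isClassFunction hχ
  let e : H.subgroupOf N ≃* H := Subgroup.subgroupOfEquivOfLe hHN
  have hψ : IsCharacter N (fun g : N => χ g) := Cfsg.Agent.Lib.Helper75.isCharacter_res N hχ
  have havg : ∀ g : N, avgR (H.subgroupOf N) (fun g : N => χ g) g = avgR H χ (g : G) := by
    intro g
    unfold avgR
    rw [Nat.card_congr e.toEquiv]
    congr 1
    apply Fintype.sum_equiv e.toEquiv
    intro k
    rfl
  have hβ : ∀ g : N, ((fun g : N => χ g) - avgR (H.subgroupOf N) (fun g : N => χ g)) g =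
      χ g - avgR H χ g := by
    intro g
    rw [Pi.sub_apply, havg]
  have hne : (fun g : N => χ g) - avgR (H.subgroupOf N) (fun g : N => χ g) ≠ 0 := by
    intro h0
    obtain ⟨h, hh, hχh⟩ := hker
    apply hχh
    have h1 := congrFun h0 ⟨h, hHN hh⟩
    have h2 := congrFun h0 1
    rw [hβ] at h1 h2
    simp only [Pi.zero_apply, OneMemClass.coe_one] at h1 h2
    have h3 : avgR H χ h = avgR H χ 1 := by
      have := avgR_mul_right H χ 1 ⟨h, hh⟩
      rwa [one_mul] at this
    rw [sub_eq_zero] at h1 h2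
    rw [h1, h3, ← h2]
  have key := card_le_sum_normSq_sub_avgR (H.subgroupOf N) hψ hne
  simp only [hβ] at key
  refine key.trans (le_of_eq ?_)
  rw [← Finset.sum_subtype (Finset.univ.filter (fun g : G => g ∈ N)) (by simp)
    (fun g : G => Complex.normSq (χ g - avgR H χ g)), Finset.sum_filter]
  apply Finset.sum_congr rfl
  intro g _
  by_cases hg : MeetsConj H 1 g
  · have hgN : g ∈ N := mem_normalizer_of_meetsConj hTI hZ hg
    simp [hg, hgN]
  · by_cases hgN : g ∈ N
    · simp only [hg, hgN, if_true, if_false]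
      rw [sub_avgR_eq_zero_of_not_meetsConj hχcl hgN hg, map_zero]
    · simp [hg, hgN]

theorem center_le_irrCenter (χ : IrrCharacter G) :
    Subgroup.center G ≤ Cfsg.Agent.Lib.Helper77.irrCenter χ := by
  intro z hz
  rw [Cfsg.Agent.Lib.Helper77.mem_irrCenter_iff_commutator]
  intro h
  have : ⁅z, h⁆ = 1 := by
    rw [commutatorElement_eq_one_iff_mul_comm]
    exact (Subgroup.mem_center_iff.mp hz h).symm
  rw [this]
  exact Subgroup.one_mem _

theorem normSq_irr_center_mul {χ : G → ℂ} (hχ : IsIrrCharacter G χ) {z : G}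
    (hz : z ∈ Subgroup.center G) :
    ∃ ω : ℂ, Complex.normSq ω = 1 ∧ ∀ g : G, χ (z * g) = ω * χ g := by
  let χ' : IrrCharacter G := ⟨χ, hχ⟩
  have hz' : z ∈ Cfsg.Agent.Lib.Helper77.irrCenter χ' := center_le_irrCenter χ' hz
  refine ⟨Cfsg.Agent.Lib.Helper77.irrCenterScalar χ' ⟨z, hz'⟩, ?_,
    fun g => Cfsg.Agent.Lib.Helper77.irr_center_mul χ' ⟨z, hz'⟩ g⟩
  rw [Cfsg.Agent.Lib.Helper77.irrCenterScalar_apply]
  have h1 : ‖χ z‖ = ‖χ 1‖ := (Cfsg.Agent.Lib.Helper77.mem_irrCenter χ' z).mp hz'
  have h2 : χ 1 ≠ 0 := Cfsg.Agent.Lib.Helper79.irr_apply_one_ne_zero χ'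
  have h3 : ‖χ 1‖ ≠ 0 := norm_ne_zero_iff.mpr h2
  change Complex.normSq (χ z / χ 1) = 1
  rw [Complex.normSq_eq_norm_sq, norm_div, h1, div_self h3, one_pow]

open Classical in
theorem card_mul_card_mul_le_sum [Fintype H] (hab : ∀ a ∈ H, ∀ b ∈ H, a * b = b * a)
    (hZ : H ⊓ Subgroup.center G = ⊥) {χ : G → ℂ} (hχ : IsIrrCharacter G χ)
    (hH : ∃ h ∈ H, h ≠ 1) :
    (Nat.card H : ℝ) * (Nat.card (Subgroup.center G) : ℝ) * Complex.normSq (avgR H χ 1) ≤
      ∑ g : G, (if MeetsConj H 1 g then Complex.normSq (avgR H χ g) else 0) := by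
  obtain ⟨h₀, hh₀, hh₀1⟩ := hH
  let j : H × Subgroup.center G → G := fun p => (p.2 : G) * (p.1 : G)
  have hj : Function.Injective j := by
    rintro ⟨h, z⟩ ⟨h', z'⟩ hp
    have hp' : (z : G) * h = (z' : G) * h' := hp
    have h1 : (z' : G)⁻¹ * z = (h' : G) * (h : G)⁻¹ := by
      have := congrArg (fun x => (z' : G)⁻¹ * x * (h : G)⁻¹) hp'
      simpa [mul_assoc] using this
    have h2 : (h' : G) * (h : G)⁻¹ ∈ H ⊓ Subgroup.center G := by
      refine ⟨H.mul_mem h'.2 (H.inv_mem h.2), ?_⟩
      rw [← h1]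
      exact (Subgroup.center G).mul_mem ((Subgroup.center G).inv_mem z'.2) z.2
    rw [hZ, Subgroup.mem_bot] at h2
    have h3 : (h' : G) = h := by
      have := congrArg (fun x => x * (h : G)) h2
      simpa using this
    have h4 : (z : G) = z' := by
      rw [h3] at hp'
      exact mul_right_cancel hp'
    exact Prod.ext (Subtype.ext h3.symm) (Subtype.ext h4)
  have hval : ∀ p : H × Subgroup.center G,
      Complex.normSq (avgR H χ (j p)) = Complex.normSq (avgR H χ 1) := by
    rintro ⟨h, z⟩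
    change Complex.normSq (avgR H χ ((z : G) * h)) = _
    rw [avgR_mul_right]
    obtain ⟨ω, hω1, hω⟩ := normSq_irr_center_mul hχ z.2
    have : avgR H χ (z : G) = ω * avgR H χ 1 := by
      unfold avgR
      simp only [hω, one_mul, ← Finset.mul_sum]
      ring
    rw [this, map_mul, hω1, one_mul]
  have hmem : ∀ p : H × Subgroup.center G, MeetsConj H 1 (j p) := by
    rintro ⟨h, z⟩
    change MeetsConj H 1 ((z : G) * h)
    rw [meetsConj_mul_right hab h.2]
    exact meetsConj_of_mem_center z.2 hh₀ hh₀1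
  have h1 : ∑ g ∈ Finset.univ.image j, Complex.normSq (avgR H χ g) =
      (Nat.card H : ℝ) * (Nat.card (Subgroup.center G) : ℝ) * Complex.normSq (avgR H χ 1) := by
    rw [Finset.sum_image (fun a _ b _ hab' => hj hab')]
    simp only [hval]
    rw [Finset.sum_const, Finset.card_univ, nsmul_eq_mul, Fintype.card_prod,
      Nat.card_eq_fintype_card, Nat.card_eq_fintype_card]
    push_cast
    rfl
  rw [← h1, ← Finset.sum_filter]
  apply Finset.sum_le_sum_of_subset_of_nonneg
  · intro g hg
    obtain ⟨p, -, rfl⟩ := Finset.mem_image.mp hg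
    exact Finset.mem_filter.mpr ⟨Finset.mem_univ _, hmem p⟩
  · intro g _ _
    exact Complex.normSq_nonneg _

open Classical in
/-- **Feit-Thompson inequality**, first part: `|H| |[χ_H, 1_H]|² < χ(1)²`. -/
theorem feit_thompson_ineq [Fintype H] (hab : ∀ a ∈ H, ∀ b ∈ H, a * b = b * a)
    (hZ : H ⊓ Subgroup.center G = ⊥) (hTI : TICent H) {χ : G → ℂ} (hχ : IsIrrCharacter G χ)
    (hker : ∃ h ∈ H, χ h ≠ χ 1) :
    (Nat.card H : ℝ) * Complex.normSq (avgR H χ 1) < Complex.normSq (χ 1) := by
  have hχc : IsCharacter G χ := IsIrrCharacter.isCharacter hχ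
  have hχcl : IsClassFunction G χ := IsCharacter.isClassFunction hχc
  have hH : ∃ h ∈ H, h ≠ 1 := by
    obtain ⟨h, hh, hne⟩ := hker
    exact ⟨h, hh, fun h1 => hne (by rw [h1])⟩
  set F : G → ℝ := fun g => Complex.normSq (χ g) with hF
  have hF0 : ∀ g, 0 ≤ F g := fun g => Complex.normSq_nonneg _
  have hFcl : ∀ g x, F (x * g * x⁻¹) = F g := by
    intro g x
    simp only [hF, hχcl g x]
  have hcount := card_mul_sum_le H hTI F hF0 hFcl
  -- total sum
  have htot : ∑ g : G, F g = (Nat.card G : ℝ) := by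
    have := Cfsg.Agent.Lib.Helper77.sum_normSq_irr (⟨χ, hχ⟩ : IrrCharacter G)
    rw [← this]
    apply Finset.sum_congr rfl
    intro g _
    simp only [hF, Complex.normSq_eq_norm_sq]
  -- the centre
  have hFz : ∀ z ∈ Subgroup.center G, F z = F 1 := by
    intro z hz
    obtain ⟨ω, hω1, hω⟩ := normSq_irr_center_mul hχ hz
    have := hω 1
    rw [mul_one] at this
    simp only [hF, this, map_mul, hω1, one_mul]
  have hcen : ∑ g : G, (if g ∈ Subgroup.center G then F g else 0) =
      (Nat.card (Subgroup.center G) : ℝ) * F 1 := by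
    rw [← Finset.sum_filter, Finset.sum_congr rfl (fun g hg => hFz g (Finset.mem_filter.mp hg).2),
      Finset.sum_const, nsmul_eq_mul, Nat.card_eq_fintype_card, Fintype.card_subtype]
  have hB : ∑ y : G, (if y ∉ Subgroup.center G then F y else 0) =
      (Nat.card G : ℝ) - (Nat.card (Subgroup.center G) : ℝ) * F 1 := by
    rw [← htot, ← hcen, eq_sub_iff_add_eq, ← Finset.sum_add_distrib]
    apply Finset.sum_congr rfl
    intro g _
    by_cases hg : g ∈ Subgroup.center G
    · simp [hg]
    · simp [hg]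
  have hA : ∑ g : G, (if g ∉ Subgroup.center G ∧ MeetsConj H 1 g then F g else 0) =
      ∑ g : G, (if MeetsConj H 1 g then F g else 0) -
        (Nat.card (Subgroup.center G) : ℝ) * F 1 := by
    rw [← hcen, eq_sub_iff_add_eq, ← Finset.sum_add_distrib]
    apply Finset.sum_congr rfl
    intro g _
    obtain ⟨h₀, hh₀, hh₀1⟩ := hH
    by_cases hg : g ∈ Subgroup.center G
    · have : MeetsConj H 1 g := meetsConj_of_mem_center hg hh₀ hh₀1
      simp [hg, this]
    · simp [hg]
  have hsplit := sum_normSq_meetsConj_eq hab χ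
  have hα := card_mul_card_mul_le_sum hab hZ hχ hH
  have hβ := card_normalizer_le_sum hTI hZ hχc hker
  have hN0 : (Nat.card H : ℝ) * (Nat.card (Subgroup.center G) : ℝ) *
      Complex.normSq (avgR H χ 1) + (Nat.card (Subgroup.normalizer (H : Set G)) : ℝ) ≤
      ∑ g : G, (if MeetsConj H 1 g then F g else 0) := by
    simp only [hF]
    rw [hsplit]
    exact add_le_add hα hβ
  rw [hA, hB] at hcount
  -- arithmetic
  set a : ℝ := (Nat.card G : ℝ) with ha
  set b : ℝ := (Nat.card (Subgroup.normalizer (H : Set G)) : ℝ) with hb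
  set z : ℝ := (Nat.card (Subgroup.center G) : ℝ) with hz
  set h : ℝ := (Nat.card H : ℝ) with hh
  set c : ℝ := Complex.normSq (avgR H χ 1) with hc
  set S : ℝ := ∑ g : G, (if MeetsConj H 1 g then F g else 0) with hS
  have ha0 : 0 < a := by rw [ha]; exact_mod_cast Nat.card_pos
  have hb0 : 0 < b := by rw [hb]; exact_mod_cast Nat.card_pos
  have hz0 : 0 < z := by rw [hz]; exact_mod_cast Nat.card_pos
  have hf0 : 0 < F 1 := by
    simp only [hF]
    rw [Complex.normSq_pos]
    exact Cfsg.Agent.Lib.Helper79.irr_apply_one_ne_zero (⟨χ, hχ⟩ : IrrCharacter G)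
  have h1 : a * (h * z * c + b - z * F 1) ≤ b * (a - z * F 1) := by
    refine le_trans ?_ hcount
    apply mul_le_mul_of_nonneg_left _ ha0.le
    linarith
  have h2 : a * z * (h * c) ≤ a * z * F 1 - b * z * F 1 := by nlinarith
  have h3 : a * z * (h * c) < a * z * F 1 := by
    have : 0 < b * z * F 1 := by positivity
    linarith
  have haz : 0 < a * z := by positivity
  exact lt_of_mul_lt_mul_left h3 haz.le

end Count

section Part2

variable {G : Type u} [Group G] [Fintype G] {H : Subgroup G}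

/-- The principal character as an element of `IrrCharacter G`. -/
noncomputable def irrOne (G : Type u) [Group G] : IrrCharacter G :=
  ⟨fun _ => 1, isIrrCharacter_one⟩

/-- A nonprincipal irreducible character is nontrivial on a subgroup with full normal closure. -/
theorem exists_ne_of_normal_closure (hnorm : ∀ M : Subgroup G, M.Normal → H ≤ M → M = ⊤)
    (ξ : IrrCharacter G) (hξ : ξ ≠ irrOne G) : ∃ h ∈ H, (ξ : G → ℂ) h ≠ (ξ : G → ℂ) 1 := by
  classical
  by_contra hcon
  push Not at hcon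
  have h1 : H ≤ Cfsg.Agent.Lib.Helper77.irrKer ξ := by
    intro h hh
    rw [Cfsg.Agent.Lib.Helper77.mem_irrKer]
    exact hcon h hh
  have hn : (Cfsg.Agent.Lib.Helper77.irrKer ξ).Normal := by
    unfold Cfsg.Agent.Lib.Helper77.irrKer
    exact MonoidHom.normal_ker _
  have h2 := hnorm _ hn h1
  have h3 : ∀ g : G, (ξ : G → ℂ) g = (ξ : G → ℂ) 1 := by
    intro g
    rw [← Cfsg.Agent.Lib.Helper77.mem_irrKer, h2]
    exact Subgroup.mem_top g
  have h4 : classInner (ξ : G → ℂ) (irrOne G : G → ℂ) = (ξ : G → ℂ) 1 := by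
    unfold classInner
    have hG : (Nat.card G : ℂ) ≠ 0 := by exact_mod_cast (Nat.card_pos (α := G)).ne'
    simp only [h3]
    change (Nat.card G : ℂ)⁻¹ * ∑ g : G, (ξ : G → ℂ) 1 * conj (1 : ℂ) = _
    rw [Finset.sum_const, Finset.card_univ, nsmul_eq_mul, map_one, mul_one,
      ← Nat.card_eq_fintype_card, ← mul_assoc, inv_mul_cancel₀ hG, one_mul]
  rw [classInner_irr ξ.2 (irrOne G).2] at h4
  have h5 : (ξ : G → ℂ) 1 ≠ 0 := Cfsg.Agent.Lib.Helper79.irr_apply_one_ne_zero ξ
  by_cases h6 : (ξ : G → ℂ) = (irrOne G : G → ℂ)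
  · exact hξ (Subtype.ext h6)
  · rw [if_neg h6] at h4
    exact h5 h4.symm

/-- For an abelian subgroup, `[χ_H, χ_H] ≥ χ(1)`: in the form of natural numbers. -/
theorem exists_nat_classInner_res_self [Fintype H] (hab : ∀ a ∈ H, ∀ b ∈ H, a * b = b * a)
    {χ : G → ℂ} (hχ : IsCharacter G χ) (d : ℕ) (hd : χ 1 = d) :
    ∃ w : ℕ, d ≤ w ∧ classInner (fun h : H => χ h) (fun h : H => χ h) = w := by
  classical
  have hc : IsMulCommutative H := ⟨⟨fun a b => Subtype.ext (hab a a.2 b b.2)⟩⟩
  have hres : IsCharacter H (fun h : H => χ h) := Cfsg.Agent.Lib.Helper75.isCharacter_res H hχ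
  obtain ⟨a, ha⟩ := (isCharacter_iff_exists_nat_combination _).mp hres
  have hcl : IsClassFunction H (fun h : H => χ h) := IsCharacter.isClassFunction hres
  have h1 : classInner (fun h : H => χ h) (fun h : H => χ h) =
      ∑ μ : IrrCharacter H, ((a μ : ℂ)) * conj ((a μ : ℂ)) := by
    rw [classInner_eq_sum_mul_conj _ hcl]
    apply Finset.sum_congr rfl
    intro μ _
    have : classInner (fun h : H => χ h) (μ : H → ℂ) = a μ := by
      conv_lhs => rw [ha]
      exact classInner_nat_combination (fun μ => (a μ : ℂ)) μ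
    rw [this]
  have h2 : (d : ℂ) = ∑ μ : IrrCharacter H, (a μ : ℂ) := by
    rw [← hd]
    have := congrFun ha 1
    simp only [OneMemClass.coe_one, Finset.sum_apply, Pi.smul_apply, smul_eq_mul] at this
    rw [this]
    apply Finset.sum_congr rfl
    intro μ _
    rw [Cfsg.Agent.Lib.Helper78.IsIrrCharacter.map_one_of_comm μ.2, mul_one]
  refine ⟨∑ μ : IrrCharacter H, a μ * a μ, ?_, ?_⟩
  · have h3 : d = ∑ μ : IrrCharacter H, a μ := by exact_mod_cast h2
    rw [h3]
    apply Finset.sum_le_sum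
    intro μ _
    exact Nat.le_mul_self (a μ)
  · rw [h1]
    push_cast
    apply Finset.sum_congr rfl
    intro μ _
    rw [Complex.conj_natCast]

theorem avgR_one_eq_classInner [Fintype H] (f : G → ℂ) :
    avgR H f 1 = classInner (fun h : H => f h) (fun _ => 1) := by
  unfold avgR classInner
  simp

open Classical in
/-- **Feit-Thompson inequality**, second part: `|H| < (1 + χ(1))²` when `χ(1) ≠ 1` and the normal
closure of `H` is `G`. -/
theorem feit_thompson_ineq2 [Fintype H] (hab : ∀ a ∈ H, ∀ b ∈ H, a * b = b * a)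
    (hZ : H ⊓ Subgroup.center G = ⊥) (hTI : TICent H) {χ : G → ℂ} (hχ : IsIrrCharacter G χ)
    (h1 : χ 1 ≠ 1) (hnorm : ∀ M : Subgroup G, M.Normal → H ≤ M → M = ⊤) :
    (Nat.card H : ℝ) < (1 + (χ 1).re) ^ 2 := by
  obtain ⟨dχ, hdχ0, hdχ⟩ := Cfsg.Agent.Lib.Helper79.irr_apply_one_eq_natCast (⟨χ, hχ⟩ : IrrCharacter G)
  change χ 1 = dχ at hdχ
  have hdχ1 : dχ ≠ 1 := fun h => h1 (by rw [hdχ, h]; simp)
  have hre : (χ 1).re = dχ := by rw [hdχ]; simp
  rw [hre]
  by_contra hcon
  push Not at hcon
  have hχc := IsIrrCharacter.isCharacter hχ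
  have hψc : IsCharacter G (χ * fun g => conj (χ g)) :=
    Cfsg.Agent.Lib.Helper80.isCharacter_mul hχc (Cfsg.Agent.Lib.Helper80.isCharacter_conj hχc)
  obtain ⟨m, hm⟩ := (isCharacter_iff_exists_nat_combination _).mp hψc
  choose d hd0 hd using fun ξ : IrrCharacter G => Cfsg.Agent.Lib.Helper79.irr_apply_one_eq_natCast ξ
  have hk : ∀ ξ : IrrCharacter G, ∃ k : ℕ,
      classInner (fun h : H => (ξ : G → ℂ) h) (fun _ => 1) = k := fun ξ =>
    IsCharacter.exists_nat_classInner
      (Cfsg.Agent.Lib.Helper75.isCharacter_res H (IsIrrCharacter.isCharacter ξ.2)) (irrOne H)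
  choose k hk using hk
  -- the principal character
  have hm1 : m (irrOne G) = 1 := by
    have h2 : classInner (χ * fun g => conj (χ g)) (irrOne G : G → ℂ) = m (irrOne G) := by
      conv_lhs => rw [hm]
      exact classInner_nat_combination (fun ξ => (m ξ : ℂ)) (irrOne G)
    have h3 : classInner (χ * fun g => conj (χ g)) (irrOne G : G → ℂ) = classInner χ χ := by
      unfold classInner
      congr 1
      apply Finset.sum_congr rfl
      intro g _
      change χ g * conj (χ g) * conj (1 : ℂ) = _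
      rw [map_one, mul_one]
    rw [h3, classInner_irr_self hχ] at h2
    exact_mod_cast h2.symm
  have hd1 : d (irrOne G) = 1 := by
    have := hd (irrOne G)
    change (1 : ℂ) = _ at this
    exact_mod_cast this.symm
  have hk1 : k (irrOne G) = 1 := by
    have h2 := hk (irrOne G)
    have h3 : classInner (fun h : H => (irrOne G : G → ℂ) h) (fun _ => 1) = 1 :=
      classInner_irr_self (irrOne H).2
    rw [h3] at h2
    exact_mod_cast h2.symm
  -- the key inequality
  have hkey : ∀ ξ : IrrCharacter G, ξ ≠ irrOne G → (1 + dχ) * k ξ + 1 ≤ d ξ := by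
    intro ξ hξ
    have hex := exists_ne_of_normal_closure hnorm ξ hξ
    have h2 := feit_thompson_ineq hab hZ hTI ξ.2 hex
    rw [avgR_one_eq_classInner, hk ξ, hd ξ, Complex.normSq_natCast, Complex.normSq_natCast] at h2
    have h3 : ((1 + dχ : ℕ) : ℝ) ^ 2 * ((k ξ : ℝ) * (k ξ : ℝ)) < (d ξ : ℝ) * (d ξ : ℝ) := by
      refine lt_of_le_of_lt ?_ h2
      apply mul_le_mul_of_nonneg_right _ (mul_self_nonneg _)
      push_cast
      exact hcon
    have h4 : ((1 + dχ) * k ξ) ^ 2 < (d ξ) ^ 2 := by
      have : (((1 + dχ) * k ξ : ℕ) : ℝ) ^ 2 < ((d ξ : ℕ) : ℝ) ^ 2 := by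
        push_cast
        push_cast at h3
        nlinarith
      exact_mod_cast this
    have h5 : (1 + dχ) * k ξ < d ξ := lt_of_pow_lt_pow_left₀ 2 (Nat.zero_le _) h4
    omega
  -- the two sums
  have hsum1 : dχ * dχ = ∑ ξ : IrrCharacter G, m ξ * d ξ := by
    have h2 := congrFun hm 1
    simp only [Pi.mul_apply, Finset.sum_apply, Pi.smul_apply, smul_eq_mul, hd, hdχ,
      Complex.conj_natCast] at h2
    exact_mod_cast h2
  obtain ⟨w, hw, hw2⟩ := exists_nat_classInner_res_self (H := H) hab hχc dχ hdχ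
  have hsum2 : w = ∑ ξ : IrrCharacter G, m ξ * k ξ := by
    have h2 : classInner (fun h : H => (χ * fun g => conj (χ g)) h) (fun _ => 1) = w := by
      rw [← hw2]
      unfold classInner
      congr 1
      apply Finset.sum_congr rfl
      intro h _
      change χ h * conj (χ h) * conj (1 : ℂ) = _
      rw [map_one, mul_one]
    have h3 : (fun h : H => (χ * fun g => conj (χ g)) h) =
        ∑ ξ : IrrCharacter G, (m ξ : ℂ) • (fun h : H => (ξ : G → ℂ) h) := by
      rw [hm]
      funext h
      simp only [Finset.sum_apply, Pi.smul_apply, smul_eq_mul]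
    rw [h3, classInner_sum_left] at h2
    simp only [classInner_smul_left, hk] at h2
    exact_mod_cast h2.symm
  -- split off the principal character
  rw [← Finset.add_sum_erase Finset.univ _ (Finset.mem_univ (irrOne G)), hm1, hd1] at hsum1
  rw [← Finset.add_sum_erase Finset.univ _ (Finset.mem_univ (irrOne G)), hm1, hk1] at hsum2
  have hle : ∑ ξ ∈ Finset.univ.erase (irrOne G), m ξ * ((1 + dχ) * k ξ + 1) ≤
      ∑ ξ ∈ Finset.univ.erase (irrOne G), m ξ * d ξ := by
    apply Finset.sum_le_sum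
    intro ξ hξ
    exact Nat.mul_le_mul_left _ (hkey ξ (Finset.ne_of_mem_erase hξ))
  have hexp : ∑ ξ ∈ Finset.univ.erase (irrOne G), m ξ * ((1 + dχ) * k ξ + 1) =
      (1 + dχ) * ∑ ξ ∈ Finset.univ.erase (irrOne G), m ξ * k ξ +
        ∑ ξ ∈ Finset.univ.erase (irrOne G), m ξ := by
    rw [Finset.mul_sum, ← Finset.sum_add_distrib]
    apply Finset.sum_congr rfl
    intro ξ _
    ring
  set T := ∑ ξ ∈ Finset.univ.erase (irrOne G), m ξ * k ξ with hT
  set U := ∑ ξ ∈ Finset.univ.erase (irrOne G), m ξ with hU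
  set V := ∑ ξ ∈ Finset.univ.erase (irrOne G), m ξ * d ξ with hV
  rw [hexp] at hle
  -- `dχ ≤ w = 1 + T`, `dχ² = 1 + V`, `(1 + dχ) T + U ≤ V`
  have hU0 : U = 0 := by
    have h2 : dχ ≤ 1 + T := by omega
    have h3 : (1 + dχ) * (dχ - 1) ≤ (1 + dχ) * T := Nat.mul_le_mul_left _ (by omega)
    have h4 : (1 + dχ) * (dχ - 1) + 1 = dχ * dχ := by
      obtain ⟨e, rfl⟩ : ∃ e, dχ = e + 1 := ⟨dχ - 1, by omega⟩
      simp only [Nat.add_sub_cancel]
      ring
    omega
  have hm0 : ∀ ξ ∈ Finset.univ.erase (irrOne G), m ξ = 0 := by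
    intro ξ hξ
    exact (Finset.sum_eq_zero_iff.mp hU0) ξ hξ
  have hT0 : T = 0 := by
    apply Finset.sum_eq_zero
    intro ξ hξ
    rw [hm0 ξ hξ, zero_mul]
  omega

end Part2

section Translate

variable {G : Type u} [Group G] [Fintype G] {H : Subgroup G}

/-- The hypothesis in the form "the centralizer of a noncentral element meets at most one conjugate
of `H`" gives `TICent`. -/
theorem ticent_of_map_conj
    (hone : ∀ g : G, g ∉ Subgroup.center G → ∀ a b : G,
      Subgroup.centralizer ({g} : Set G) ⊓ H.map (MulAut.conj a).toMonoidHom ≠ ⊥ →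
      Subgroup.centralizer ({g} : Set G) ⊓ H.map (MulAut.conj b).toMonoidHom ≠ ⊥ →
      H.map (MulAut.conj a).toMonoidHom = H.map (MulAut.conj b).toMonoidHom) : TICent H := by
  intro g hg a b ha hb
  have key : ∀ a : G, MeetsConj H a g →
      Subgroup.centralizer ({g} : Set G) ⊓ H.map (MulAut.conj a).toMonoidHom ≠ ⊥ := by
    rintro a ⟨k, hk, hk1, hc⟩ hbot
    have hx : a * k * a⁻¹ ∈ Subgroup.centralizer ({g} : Set G) ⊓
        H.map (MulAut.conj a).toMonoidHom := by
      refine ⟨?_, ⟨k, hk, rfl⟩⟩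
      change a * k * a⁻¹ ∈ Subgroup.centralizer ({g} : Set G)
      rw [Subgroup.mem_centralizer_iff]
      intro y hy
      rw [Set.mem_singleton_iff] at hy
      rw [hy]
      exact hc.symm
    rw [hbot, Subgroup.mem_bot] at hx
    apply hk1
    have := congrArg (fun x => a⁻¹ * x * a) hx
    simpa [mul_assoc] using this
  have heq := hone g hg a b (key a ha) (key b hb)
  rw [Subgroup.mem_normalizer_iff]
  intro h
  constructor
  · intro hh
    have h1 : b * h * b⁻¹ ∈ H.map (MulAut.conj a).toMonoidHom := by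
      rw [heq]; exact ⟨h, hh, rfl⟩
    obtain ⟨h', hh', he⟩ := h1
    have he' : a * h' * a⁻¹ = b * h * b⁻¹ := he
    have h2 : a⁻¹ * b * h * (a⁻¹ * b)⁻¹ = h' := by
      have : a⁻¹ * b * h * (a⁻¹ * b)⁻¹ = a⁻¹ * (b * h * b⁻¹) * a := by group
      rw [this, ← he']
      group
    rw [h2]; exact hh'
  · intro hh
    have h1 : b * h * b⁻¹ ∈ H.map (MulAut.conj a).toMonoidHom := by
      refine ⟨a⁻¹ * b * h * (a⁻¹ * b)⁻¹, hh, ?_⟩
      change a * (a⁻¹ * b * h * (a⁻¹ * b)⁻¹) * a⁻¹ = _
      group
    rw [heq] at h1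
    obtain ⟨h', hh', he⟩ := h1
    have he' : b * h' * b⁻¹ = b * h * b⁻¹ := he
    have : h' = h := by
      have := congrArg (fun x => b⁻¹ * x * b) he'
      simpa [mul_assoc] using this
    rw [← this]; exact hh'

end Translate

end Cfsg.Agent.Lib.Helper15
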