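import Mathlib
import Cfsg.Agent.Lib.Helper76.GOut.PLDefs

/-!
# GOUT-[PL-TOP] (hedge by helper15): `PL_main` from `PL_core`, in `_of` form

`T` a finite `2`-group whose elements with `x ^ 2 = 1` are central: `cOmega T` is solvable, given the core
statement (`PLHyp α`, `Q` a finite `2`-group, `R` finite is impossible) as a hypothesis.
-/

set_option autoImplicit false

namespace Cfsg.Agent.Lib.Helper76.GOut

universe u

/-- A finite nonsolvable group has a nontrivial perfect subgroup (own copy for the hedge). -/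
theorem exists_perfect_of_not_solvable_h15 {Γ : Type*} [Group Γ] [Finite Γ] (h : ¬ Group.IsSolvable Γ) :
    ∃ R : Subgroup Γ, R ≠ ⊥ ∧ commutator R = ⊤ := by
  classical
  -- the derived series is antitone; by finiteness it stabilises
  have hanti : Antitone (derivedSeries Γ) := by
    apply antitone_nat_of_succ_le
    intro n
    rw [derivedSeries_succ]
    exact Subgroup.commutator_le_left _ _
  obtain ⟨n, hn⟩ : ∃ n, derivedSeries Γ (n + 1) = derivedSeries Γ n := by
    obtain ⟨m, n, hne, heq⟩ := Finite.exists_ne_map_eq_of_infinite (derivedSeries Γ)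
    wlog hlt : m < n generalizing m n
    · exact this n m hne.symm heq.symm (lt_of_le_of_ne (not_lt.mp hlt) hne.symm)
    refine ⟨m, le_antisymm (hanti (Nat.le_succ m)) ?_⟩
    calc derivedSeries Γ m = derivedSeries Γ n := heq
      _ ≤ derivedSeries Γ (m + 1) := hanti hlt
  refine ⟨derivedSeries Γ n, ?_, ?_⟩
  · intro hbot
    exact h ⟨⟨n, hbot⟩⟩
  · -- `⁅R, R⁆ = R` gives `commutator ↥R = ⊤`
    rw [derivedSeries_succ] at hn
    set R := derivedSeries Γ n with hR
    have hmap : (commutator R).map R.subtype = ⁅R, R⁆ := by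
      rw [commutator_def, Subgroup.map_commutator, ← MonoidHom.range_eq_map, Subgroup.range_subtype]
    apply Subgroup.map_injective R.subtype_injective
    rw [hmap, hn, ← MonoidHom.range_eq_map, Subgroup.range_subtype]

/-- Restriction of a group `R` of automorphisms of `T` to an `R`-invariant subgroup `Q₀`. -/
noncomputable def restrictAut_h15 {T : Type*} [Group T] (R : Subgroup (MulAut T)) (Q₀ : Subgroup T)
    (hinv : ∀ r ∈ R, ∀ u ∈ Q₀, (r : MulAut T) u ∈ Q₀) : R →* MulAut Q₀ where
  toFun r :=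
    { toFun := fun u => ⟨(r : MulAut T) u, hinv r r.2 u u.2⟩
      invFun := fun u => ⟨(r⁻¹ : MulAut T) u, hinv _ (R.inv_mem r.2) u u.2⟩
      left_inv := fun u => by
        apply Subtype.ext
        show ((r : MulAut T)⁻¹) ((r : MulAut T) (u : T)) = u
        rw [MulAut.inv_apply_self]
      right_inv := fun u => by
        apply Subtype.ext
        show (r : MulAut T) (((r : MulAut T)⁻¹) (u : T)) = u
        rw [MulAut.apply_inv_self]
      map_mul' := fun u v => by
        apply Subtype.ext
        show (r : MulAut T) ((u : T) * (v : T)) = (r : MulAut T) u * (r : MulAut T) v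
        rw [map_mul] }
  map_one' := by
    apply MulEquiv.ext
    intro u
    rfl
  map_mul' r s := by
    apply MulEquiv.ext
    intro u
    rfl

theorem restrictAut_h15_apply {T : Type*} [Group T] (R : Subgroup (MulAut T)) (Q₀ : Subgroup T)
    (hinv : ∀ r ∈ R, ∀ u ∈ Q₀, (r : MulAut T) u ∈ Q₀) (r : R) (u : Q₀) :
    ((restrictAut_h15 R Q₀ hinv r) u : T) = (r : MulAut T) (u : T) := rfl

/-- **GOUT-[PL-TOP]**, `_of` form: block PL from its core. -/
theorem PL_main_of {T : Type u} [Group T] [Finite T]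
    (hcore : ∀ (Q : Type u) (R : Type u) [Group Q] [Finite Q] [Group R] [Finite R]
      (α : R →* MulAut Q), IsPGroup 2 Q → PLHyp α → False)
    (hT : IsPGroup 2 T)
    (hc : ∀ x : T, x ^ 2 = 1 → x ∈ Subgroup.center T) : IsSolvable (cOmega T) := by
  classical
  by_contra hns
  have : Finite (MulAut T) := Finite.of_injective (fun e : MulAut T => (e : T → T)) DFunLike.coe_injective
  obtain ⟨R', hR'ne, hR'perf⟩ := exists_perfect_of_not_solvable_h15 hns
  -- transport to a subgroup of `MulAut T`
  set R : Subgroup (MulAut T) := R'.map (cOmega T).subtype with hRdef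
  have hRle : R ≤ cOmega T := by
    rw [hRdef]; exact Subgroup.map_subtype_le R'
  have hRne : R ≠ ⊥ := by
    intro hbot
    apply hR'ne
    rw [hRdef] at hbot
    exact (Subgroup.map_eq_bot_iff_of_injective R' (cOmega T).subtype_injective).mp hbot
  have hRperf : commutator R = ⊤ := by
    -- `R ≃* R'`
    have e : R' ≃* R := R'.equivMapOfInjective (cOmega T).subtype (cOmega T).subtype_injective
    have : (commutator R').map e.toMonoidHom = commutator R := by
      rw [commutator_def, commutator_def, Subgroup.map_commutator]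
      have htop : (⊤ : Subgroup R').map e.toMonoidHom = ⊤ := by
        rw [← MonoidHom.range_eq_map]
        exact MonoidHom.range_eq_top.mpr e.surjective
      rw [htop]
    rw [← this, hR'perf, ← MonoidHom.range_eq_map]
    exact MonoidHom.range_eq_top.mpr e.surjective
  -- the invariant subgroups not fixed pointwise
  let P : Subgroup T → Prop := fun Q₀ =>
    (∀ r ∈ R, ∀ u ∈ Q₀, (r : MulAut T) u ∈ Q₀) ∧ ∃ r ∈ R, ∃ u ∈ Q₀, (r : MulAut T) u ≠ u
  have hPtop : P ⊤ := by
    refine ⟨fun _ _ _ _ => Subgroup.mem_top _, ?_⟩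
    obtain ⟨r', hr'1⟩ := (Subgroup.ne_bot_iff_exists_ne_one).mp hRne
    obtain ⟨r, hr, hr1⟩ : ∃ r ∈ R, r ≠ 1 := ⟨r'.1, r'.2, fun h1 => hr'1 (Subtype.ext h1)⟩
    by_contra hcon
    push_neg at hcon
    apply hr1
    apply MulEquiv.ext
    intro u
    exact hcon r hr u (Subgroup.mem_top _)
  -- a minimal one
  obtain ⟨Q₀, hPQ, hmin⟩ : ∃ Q₀ : Subgroup T, P Q₀ ∧ ∀ M : Subgroup T, M < Q₀ → ¬ P M := by
    have : Finite (Subgroup T) := inferInstance
    have hwf : WellFounded ((· < ·) : Subgroup T → Subgroup T → Prop) := wellFounded_lt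
    obtain ⟨Q₀, hQ₀, hQmin⟩ := hwf.has_min {Q₀ | P Q₀} ⟨⊤, hPtop⟩
    exact ⟨Q₀, hQ₀, fun M hM hPM => hQmin M hPM hM⟩
  obtain ⟨hinv, r₀, hr₀, u₀, hu₀, hmove⟩ := hPQ
  set α : R →* MulAut Q₀ := restrictAut_h15 R Q₀ hinv with hα
  have : Finite R := inferInstance
  refine hcore Q₀ R α (hT.to_subgroup Q₀) ⟨hRperf, ?_, ?_, ?_⟩
  · -- min
    intro M hMtop hMinv r u hu
    have hlt : M.map Q₀.subtype < Q₀ := by
      refine lt_of_le_of_ne (Subgroup.map_subtype_le M) ?_
      intro heq
      apply hMtop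
      rw [eq_top_iff]
      intro x _
      have hx : (x : T) ∈ M.map Q₀.subtype := by rw [heq]; exact x.2
      obtain ⟨y, hy, hyx⟩ := hx
      have : y = x := Subtype.ext hyx
      rw [← this]; exact hy
    have hnP := hmin _ hlt
    have hinvM : ∀ r ∈ R, ∀ u ∈ M.map Q₀.subtype, (r : MulAut T) u ∈ M.map Q₀.subtype := by
      intro r hr u hu
      obtain ⟨y, hy, rfl⟩ := hu
      exact ⟨α ⟨r, hr⟩ y, hMinv ⟨r, hr⟩ y hy, rfl⟩
    have hfix : ∀ r ∈ R, ∀ u ∈ M.map Q₀.subtype, (r : MulAut T) u = u := by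
      intro r hr u hu
      by_contra hne
      exact hnP ⟨hinvM, r, hr, u, hu, hne⟩
    apply Subtype.ext
    rw [hα, restrictAut_h15_apply]
    exact hfix r r.2 u ⟨u, hu, rfl⟩
  · -- inv
    intro u hu
    have hu' : (u : T) ^ 2 = 1 := by
      have := congrArg (fun x : Q₀ => (x : T)) hu
      simpa using this
    refine ⟨?_, fun r => ?_⟩
    · rw [Subgroup.mem_center_iff]
      intro g
      apply Subtype.ext
      have := (Subgroup.mem_center_iff.mp (hc _ hu')) (g : T)
      simpa using this
    · apply Subtype.ext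
      rw [hα, restrictAut_h15_apply]
      exact hRle r.2 _ hu'
  · -- nontriv
    refine ⟨⟨r₀, hr₀⟩, ⟨u₀, hu₀⟩, ?_⟩
    intro heq
    apply hmove
    have := congrArg (fun x : Q₀ => (x : T)) heq
    simpa [hα, restrictAut_h15_apply] using this

end Cfsg.Agent.Lib.Helper76.GOut
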