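import Mathlib
import Cfsg.Prelude.Def_Solvable
import Cfsg.Agent.Lib.Helper55.Cores
import Cfsg.Agent.Lib.Helper80.Gagola2

/-!
# Camina pairs `(G, N)` with `N` an abelian `p`-group and one class of nonidentity elements (helper15)

Group-theoretic part of Gagola's theorem: `N = O_p(G)` forces `G` to be a doubly transitive
Frobenius group with kernel `N`.  Part A: basic consequences, Frobenius from a complement.
-/

set_option autoImplicit false
set_option linter.unusedSectionVars false

namespace Cfsg.Agent.Lib.Helper15.Gagola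

open Cfsg

variable {G : Type*} [Group G] [Finite G]

/-- The group-theoretic data extracted from a Gagola character. -/
structure Cam (N : Subgroup G) (p : ℕ) : Prop where
  pgroup : IsPGroup p N
  comm : ∀ a ∈ N, ∀ b ∈ N, a * b = b * a
  ne_bot : ∃ g₀ ∈ N, g₀ ≠ 1
  conj : ∀ x ∈ N, x ≠ 1 → ∀ y : G, IsConj x y ↔ (y ∈ N ∧ y ≠ 1)
  camina : ∀ y : G, y ∉ N → ∀ n ∈ N, IsConj y (y * n)
  card_cent : ∀ x ∈ N, x ≠ 1 →
    Nat.card (Subgroup.centralizer ({x} : Set G)) * (Nat.card N - 1) = Nat.card G
  card_gt : 2 < Nat.card G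

variable {N : Subgroup G} {p : ℕ}

/-- An element of order prime to `p` lying in `N` is trivial. -/
theorem Cam.eq_one_of_coprime_mem [Fact p.Prime] (h : Cam N p) {y : G}
    (hy : (orderOf y).Coprime p) (hyN : y ∈ N) : y = 1 := by
  obtain ⟨k, hk⟩ := h.pgroup ⟨y, hyN⟩
  have hk' : y ^ p ^ k = 1 := by
    have := congrArg Subtype.val hk
    simpa using this
  have hd : orderOf y ∣ p ^ k := orderOf_dvd_of_pow_eq_one hk'
  have hc : (orderOf y).Coprime (p ^ k) := Nat.Coprime.pow_right k hy
  have : orderOf y = 1 := Nat.Coprime.eq_one_of_dvd hc hd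
  exact orderOf_eq_one_iff.1 this

/-- Elements of order prime to `p` act fixed-point-freely on `N`. -/
theorem Cam.fpf [Fact p.Prime] (h : Cam N p) {y c : G} (hy : (orderOf y).Coprime p)
    (hy1 : y ≠ 1) (hc : c ∈ N) (hyc : y * c = c * y) : c = 1 := by
  have hyN : y ∉ N := fun hyN => hy1 (h.eq_one_of_coprime_mem hy hyN)
  have hconj := h.camina y hyN c hc
  obtain ⟨g, hg⟩ := isConj_iff.1 hconj
  have hord : orderOf y = orderOf (y * c) := by
    have hs : SemiconjBy g y (y * c) := by
      unfold SemiconjBy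
      rw [← hg]; group
    exact hs.orderOf_eq g
  obtain ⟨k, hk⟩ := h.pgroup ⟨c, hc⟩
  have hk' : c ^ p ^ k = 1 := by
    have := congrArg Subtype.val hk
    simpa using this
  have hd : orderOf c ∣ p ^ k := orderOf_dvd_of_pow_eq_one hk'
  have hcop : (orderOf y).Coprime (orderOf c) :=
    Nat.Coprime.coprime_dvd_right hd (Nat.Coprime.pow_right k hy)
  have hmul := Commute.orderOf_mul_eq_mul_orderOf_of_coprime (show Commute y c from hyc) hcop
  have hpos : 0 < orderOf y := orderOf_pos y
  have : orderOf c = 1 := by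
    have h1 : orderOf y * orderOf c = orderOf y * 1 := by rw [mul_one, ← hmul, ← hord]
    exact Nat.eq_of_mul_eq_mul_left hpos h1
  exact orderOf_eq_one_iff.1 this

/-- If `N = O_p(G)` then `N` is self-centralizing. -/
theorem Cam.mem_of_centralizes [Fact p.Prime] [N.Normal] (h : Cam N p) (hcore : N = pCore p G)
    {g : G} (hg : ∀ n ∈ N, g * n = n * g) : g ∈ N := by
  have hCn : (Subgroup.centralizer (N : Set G)).Normal := Subgroup.normal_centralizer
  have hCp : IsPGroup p (Subgroup.centralizer (N : Set G)) := by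
    apply Cfsg.Agent.Lib.Helper80.isPGroup_of_prime_orders
    intro z hz q hq hzq
    by_contra hqp
    obtain ⟨g₀, hg₀, hg₀1⟩ := h.ne_bot
    have hcop : (orderOf z).Coprime p := by
      rw [hzq]
      exact (Nat.coprime_primes hq (Fact.out : p.Prime)).2 hqp
    have hz1 : z ≠ 1 := by
      rintro rfl
      rw [orderOf_one] at hzq
      exact hq.one_lt.ne' hzq.symm
    have hzc : z * g₀ = g₀ * z := by
      rw [Subgroup.mem_centralizer_iff] at hz
      exact (hz g₀ hg₀).symm
    exact hg₀1 (h.fpf hcop hz1 hg₀ hzc)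
  have hle : Subgroup.centralizer (N : Set G) ≤ pCore p G :=
    Cfsg.Agent.Lib.Helper55.le_pCore hCn hCp
  rw [hcore]
  apply hle
  rw [Subgroup.mem_centralizer_iff]
  intro n hn
  exact (hg n hn).symm


/-- Decomposition along a complement. -/
theorem exists_mul_of_compl {H : Subgroup G} (hc : N.IsComplement' H) (g : G) :
    ∃ n ∈ N, ∃ x ∈ H, g = n * x := by
  obtain ⟨⟨⟨n, hn⟩, ⟨x, hx⟩⟩, hnx⟩ := (Subgroup.isComplement_iff_existsUnique.1 hc g).exists
  exact ⟨n, hn, x, hx, hnx.symm⟩

theorem eq_one_of_mem_compl {H : Subgroup G} (hc : N.IsComplement' H) {x : G} (hxN : x ∈ N)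
    (hxH : x ∈ H) : x = 1 :=
  Subgroup.disjoint_def.1 hc.disjoint hxN hxH

/-- A complement of `N` acts fixed-point-freely on `N`. -/
theorem Cam.compl_fpf [hN : N.Normal] (h : Cam N p) {H : Subgroup G} (hc : N.IsComplement' H)
    {x c : G} (hx : x ∈ H) (hx1 : x ≠ 1) (hcN : c ∈ N) (hxc : x * c = c * x) : c = 1 := by
  have hxN : x ∉ N := fun hxN => hx1 (eq_one_of_mem_compl hc hxN hx)
  let φ : N → N := fun n => ⟨x⁻¹ * n * x * (n : G)⁻¹, by
    have h1 : x⁻¹ * (n : G) * x ∈ N := by
      have := hN.conj_mem n n.2 x⁻¹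
      simpa using this
    exact N.mul_mem h1 (N.inv_mem n.2)⟩
  have hsurj : Function.Surjective φ := by
    rintro ⟨c', hc'⟩
    obtain ⟨g, hg⟩ := isConj_iff.1 (h.camina x hxN c' hc')
    obtain ⟨n, hn, x₁, hx₁, rfl⟩ := exists_mul_of_compl hc g
    have hx' : x₁ * x * x₁⁻¹ ∈ H := H.mul_mem (H.mul_mem hx₁ hx) (H.inv_mem hx₁)
    set x' := x₁ * x * x₁⁻¹ with hx'def
    have hm : x'⁻¹ * n * x' * n⁻¹ ∈ N := by
      have h1 : x'⁻¹ * n * x' ∈ N := by
        have := hN.conj_mem n hn x'⁻¹
        simpa using this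
      exact N.mul_mem h1 (N.inv_mem hn)
    have heq : x * c' = x' * (x'⁻¹ * n * x' * n⁻¹) := by
      rw [← hg, hx'def]; group
    have hxx : x'⁻¹ * x = 1 := by
      apply eq_one_of_mem_compl hc
      · have : x'⁻¹ * x = (x'⁻¹ * n * x' * n⁻¹) * c'⁻¹ := by
          have h2 : x = x' * (x'⁻¹ * n * x' * n⁻¹) * c'⁻¹ := by
            rw [← heq]; group
          calc x'⁻¹ * x = x'⁻¹ * (x' * (x'⁻¹ * n * x' * n⁻¹) * c'⁻¹) := by rw [← h2]
            _ = _ := by group
        rw [this]
        exact N.mul_mem hm (N.inv_mem hc')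
      · exact H.mul_mem (H.inv_mem hx') hx
    have hxeq : x' = x := by
      have := inv_mul_eq_one.1 hxx
      exact this
    refine ⟨⟨n, hn⟩, ?_⟩
    apply Subtype.ext
    show x⁻¹ * n * x * n⁻¹ = c'
    rw [hxeq] at heq
    have := mul_left_cancel heq
    exact this.symm
  have hinj : Function.Injective φ := Finite.injective_iff_surjective.2 hsurj
  have h1 : φ ⟨c, hcN⟩ = φ 1 := by
    apply Subtype.ext
    show x⁻¹ * c * x * c⁻¹ = x⁻¹ * ((1 : N) : G) * x * ((1 : N) : G)⁻¹
    have hcx : x⁻¹ * c * x = c := by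
      rw [mul_assoc, ← hxc, inv_mul_cancel_left]
    rw [hcx]; simp
  have := hinj h1
  exact congrArg Subtype.val this


/-- With a complement `H`, the centralizer of a nonidentity element of `N` is `N`. -/
theorem Cam.centralizer_eq_of_compl [hN : N.Normal] (h : Cam N p) {H : Subgroup G}
    (hc : N.IsComplement' H) {g₀ : G} (hg₀ : g₀ ∈ N) (hg₀1 : g₀ ≠ 1) :
    Subgroup.centralizer ({g₀} : Set G) = N := by
  ext z
  rw [Subgroup.mem_centralizer_singleton_iff]
  constructor
  · intro hz
    obtain ⟨n, hn, x, hx, rfl⟩ := exists_mul_of_compl hc z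
    by_cases hx1 : x = 1
    · rw [hx1, mul_one]; exact hn
    · exfalso
      apply hg₀1
      apply h.compl_fpf hc hx hx1 hg₀
      have h1 : n * g₀ = g₀ * n := h.comm n hn g₀ hg₀
      -- hz : n * x * g₀ = g₀ * (n * x)
      have h2 : n * (x * g₀) = n * (g₀ * x) := by
        calc n * (x * g₀) = n * x * g₀ := by group
          _ = g₀ * (n * x) := hz
          _ = g₀ * n * x := by group
          _ = n * g₀ * x := by rw [h1]
          _ = n * (g₀ * x) := by group
      exact mul_left_cancel h2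
  · intro hz
    exact h.comm z hz g₀ hg₀

theorem Cam.card_compl [hN : N.Normal] (h : Cam N p) {H : Subgroup G}
    (hc : N.IsComplement' H) : Nat.card H + 1 = Nat.card N := by
  obtain ⟨g₀, hg₀, hg₀1⟩ := h.ne_bot
  have h1 := h.card_cent g₀ hg₀ hg₀1
  rw [h.centralizer_eq_of_compl hc hg₀ hg₀1] at h1
  have h2 := hc.card_mul_card
  have hpos : 0 < Nat.card N := Nat.card_pos
  have h3 : Nat.card N * (Nat.card N - 1) = Nat.card N * Nat.card H := by rw [h1, h2]
  have h4 := Nat.eq_of_mul_eq_mul_left hpos h3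
  omega

/-- **Frobenius from a complement**: a complement of `N` is a Frobenius complement with kernel `N`
and order `|N| - 1`. -/
theorem Cam.frob_of_compl [hN : N.Normal] (h : Cam N p) {H : Subgroup G}
    (hc : N.IsComplement' H) :
    IsFrobeniusComplement H ∧ frobeniusKernel H = (N : Set G) ∧ Nat.card H + 1 = Nat.card N := by
  have hcard := h.card_compl hc
  obtain ⟨g₀, hg₀, hg₀1⟩ := h.ne_bot
  refine ⟨⟨?_, ?_, ?_⟩, ?_, hcard⟩
  · intro hbot
    have h1 : Nat.card H = 1 := by rw [hbot]; exact Subgroup.card_bot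
    have h2 := hc.card_mul_card
    have h3 := h.card_gt
    rw [h1] at hcard h2
    omega
  · intro htop
    exact hg₀1 (eq_one_of_mem_compl hc hg₀ (htop ▸ Subgroup.mem_top g₀))
  · intro g hg
    rw [eq_bot_iff]
    intro w hw
    rw [Subgroup.mem_bot]
    obtain ⟨hwH, hw2⟩ := Subgroup.mem_inf.1 hw
    obtain ⟨s, hs, hsw⟩ := (Subgroup.mem_smul_pointwise_iff_exists _ _ _).1 hw2
    rw [MulAut.smul_def, MulAut.conj_apply] at hsw
    obtain ⟨n, hn, x₁, hx₁, rfl⟩ := exists_mul_of_compl hc g
    have hn1 : n ≠ 1 := by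
      rintro rfl
      apply hg
      rw [one_mul]; exact hx₁
    have hs' : x₁ * s * x₁⁻¹ ∈ H := H.mul_mem (H.mul_mem hx₁ hs) (H.inv_mem hx₁)
    set s' := x₁ * s * x₁⁻¹ with hs'def
    have hw' : w = n * s' * n⁻¹ := by rw [← hsw, hs'def]; group
    have hws : w * s'⁻¹ = 1 := by
      apply eq_one_of_mem_compl hc
      · have : w * s'⁻¹ = n * (s' * n⁻¹ * s'⁻¹) := by rw [hw']; group
        rw [this]
        exact N.mul_mem hn (hN.conj_mem _ (N.inv_mem hn) s')
      · exact H.mul_mem hwH (H.inv_mem hs')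
    have hws' : w = s' := mul_inv_eq_one.1 hws
    by_cases hs1 : s' = 1
    · rw [hws', hs1]
    · exfalso
      apply hn1
      apply h.compl_fpf hc hs' hs1 hn
      -- s' * n = n * s'
      have : n * s' * n⁻¹ = s' := by rw [← hw', hws']
      calc s' * n = (n * s' * n⁻¹) * n := by rw [this]
        _ = n * s' := by group
  · ext w
    simp only [frobeniusKernel, Set.mem_ofPred_eq, SetLike.mem_coe]
    constructor
    · intro hw
      by_contra hwN
      have hw1 : w ≠ 1 := fun h1 => hwN (h1 ▸ N.one_mem)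
      have hall := hw.resolve_left hw1
      obtain ⟨n, hn, x, hx, rfl⟩ := exists_mul_of_compl hc w
      have hxN : x ∉ N := by
        intro hxN
        exact hwN (N.mul_mem hn hxN)
      have hn' : x⁻¹ * n * x ∈ N := by
        have := hN.conj_mem n hn x⁻¹
        simpa using this
      obtain ⟨g, hg⟩ := isConj_iff.1 (h.camina x hxN _ hn')
      apply hall g
      rw [Subgroup.mem_smul_pointwise_iff_exists]
      refine ⟨x, hx, ?_⟩
      rw [MulAut.smul_def, MulAut.conj_apply, hg]
      group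
    · intro hwN
      by_cases hw1 : w = 1
      · exact Or.inl hw1
      · right
        intro g hg
        obtain ⟨s, hs, hsw⟩ := (Subgroup.mem_smul_pointwise_iff_exists _ _ _).1 hg
        rw [MulAut.smul_def, MulAut.conj_apply] at hsw
        have hsN : s ∈ N := by
          have : s = g⁻¹ * w * g⁻¹⁻¹ := by rw [← hsw]; group
          rw [this]
          exact hN.conj_mem w hwN g⁻¹
        have hs1 : s = 1 := eq_one_of_mem_compl hc hsN hs
        apply hw1
        rw [← hsw, hs1]; group

end Cfsg.Agent.Lib.Helper15.Gagola
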