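import Cfsg.Agent.Lib.Helper15.GagolaA
import Cfsg.Agent.Lib.Helper96.BaerSuzuki

/-!
# Gagola's theorem, group part B (helper15): existence of a complement when `N = O_p(G)`, `p` odd
-/

set_option autoImplicit false
set_option linter.unusedSectionVars false

namespace Cfsg.Agent.Lib.Helper15.Gagola

open Cfsg

variable {G : Type*} [Group G] [Finite G] {N : Subgroup G} {p : ℕ}

/-- `p` odd, `N = O_p(G)`: a complement exists (the centralizer of an involution). -/
theorem Cam.exists_compl_odd [hN : N.Normal] [hp : Fact p.Prime] (h : Cam N p) (hp2 : p ≠ 2)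
    (hcore : N = pCore p G) : ∃ H : Subgroup G, N.IsComplement' H := by
  obtain ⟨g₀, hg₀, hg₀1⟩ := h.ne_bot
  obtain ⟨k, hk⟩ := IsPGroup.iff_card.1 h.pgroup
  have hpodd : Odd p := hp.out.odd_of_ne_two hp2
  have hNodd : Odd (Nat.card N) := by rw [hk]; exact hpodd.pow
  -- 2 ∣ |G|
  have h2G : 2 ∣ Nat.card G := by
    rw [← h.card_cent g₀ hg₀ hg₀1]
    apply Dvd.dvd.mul_left
    obtain ⟨r, hr⟩ := hNodd
    exact ⟨r, by omega⟩
  haveI : Fact (Nat.Prime 2) := ⟨Nat.prime_two⟩
  obtain ⟨t, ht⟩ := exists_prime_orderOf_dvd_card' (G := G) 2 h2G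
  have htt : t * t = 1 := by
    have := pow_orderOf_eq_one t
    rw [ht, pow_two] at this
    exact this
  have htinv : t⁻¹ = t := inv_eq_of_mul_eq_one_right htt
  have ht1 : t ≠ 1 := by
    rintro rfl
    rw [orderOf_one] at ht
    omega
  have htcop : (orderOf t).Coprime p := by
    rw [ht]
    exact (Nat.coprime_primes Nat.prime_two hp.out).2 (Ne.symm hp2)
  -- t inverts N
  have hinvert : ∀ n ∈ N, t * n * t⁻¹ = n⁻¹ := by
    intro n hn
    have htn : t * n * t⁻¹ ∈ N := hN.conj_mem n hn t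
    have hw : n * (t * n * t⁻¹) ∈ N := N.mul_mem hn htn
    have hcomm : t * (n * (t * n * t⁻¹)) = (n * (t * n * t⁻¹)) * t := by
      have h1 : (t * n * t⁻¹) * n = n * (t * n * t⁻¹) := h.comm _ htn n hn
      calc t * (n * (t * n * t⁻¹)) = (t * n * t⁻¹) * (t * t) * n * t⁻¹ := by group
        _ = (t * n * t⁻¹) * n * t⁻¹ := by rw [htt, mul_one]
        _ = n * (t * n * t⁻¹) * t⁻¹ := by rw [h1]
        _ = n * (t * n * t⁻¹) * t := by rw [htinv]
    have := h.fpf htcop ht1 hw hcomm
    exact (eq_inv_of_mul_eq_one_right this)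
  refine ⟨Subgroup.centralizer ({t} : Set G), ?_⟩
  apply Subgroup.isComplement'_of_disjoint_and_mul_eq_univ
  · rw [Subgroup.disjoint_def]
    intro x hxN hxC
    rw [Subgroup.mem_centralizer_singleton_iff] at hxC
    exact h.fpf htcop ht1 hxN hxC.symm
  · rw [Set.eq_univ_iff_forall]
    intro g
    rw [Set.mem_mul]
    set u := g * t * g⁻¹ with hu
    -- u inverts N as well
    have huinv : ∀ n ∈ N, u * n * u⁻¹ = n⁻¹ := by
      intro n hn
      have hn' : g⁻¹ * n * g ∈ N := by
        have := hN.conj_mem n hn g⁻¹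
        simpa using this
      have h1 := hinvert _ hn'
      calc u * n * u⁻¹ = g * (t * (g⁻¹ * n * g) * t⁻¹) * g⁻¹ := by rw [hu]; group
        _ = g * (g⁻¹ * n * g)⁻¹ * g⁻¹ := by rw [h1]
        _ = n⁻¹ := by group
    have hmN : t * u ∈ N := by
      apply h.mem_of_centralizes hcore
      intro n hn
      have h1 := huinv n hn
      have h2 := hinvert n⁻¹ (N.inv_mem hn)
      rw [inv_inv] at h2
      have : (t * u) * n * (t * u)⁻¹ = n := by
        calc (t * u) * n * (t * u)⁻¹ = t * (u * n * u⁻¹) * t⁻¹ := by group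
          _ = t * n⁻¹ * t⁻¹ := by rw [h1]
          _ = n := h2
      calc t * u * n = (t * u * n * (t * u)⁻¹) * (t * u) := by group
        _ = n * (t * u) := by rw [this]
    -- square root of (t u)⁻¹ in N
    have hcop2 : (Nat.card N).Coprime 2 := Nat.Coprime.symm (Nat.coprime_two_left.2 hNodd)
    obtain ⟨kk, hkk⟩ := (powCoprime hcop2).surjective ⟨(t * u)⁻¹, N.inv_mem hmN⟩
    have hkk' : (kk : G) * (kk : G) = (t * u)⁻¹ := by
      have := congrArg Subtype.val hkk
      simpa [powCoprime, pow_two] using this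
    set n := (kk : G) with hn
    have hnN : n ∈ N := kk.2
    have h3 := hinvert n hnN
    -- n t n⁻¹ = u
    have hntn : n * t * n⁻¹ = u := by
      have h4 : t⁻¹ * n * t = n⁻¹ := by
        have : t⁻¹ * n * t = t * n * t⁻¹ := by rw [htinv]
        rw [this, h3]
      calc n * t * n⁻¹ = t * (t⁻¹ * n * t) * n⁻¹ := by group
        _ = t * n⁻¹ * n⁻¹ := by rw [h4]
        _ = t * (n * n)⁻¹ := by group
        _ = t * (t * u) := by rw [hkk', inv_inv]
        _ = (t * t) * u := by group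
        _ = u := by rw [htt, one_mul]
    refine ⟨n, hnN, n⁻¹ * g, ?_, by group⟩
    rw [SetLike.mem_coe, Subgroup.mem_centralizer_singleton_iff]
    -- (n⁻¹ g) t = t (n⁻¹ g)
    have : n⁻¹ * g * t * (n⁻¹ * g)⁻¹ = t := by
      calc n⁻¹ * g * t * (n⁻¹ * g)⁻¹ = n⁻¹ * (g * t * g⁻¹) * n := by group
        _ = n⁻¹ * (n * t * n⁻¹) * n := by rw [hntn]
        _ = t := by group
    calc n⁻¹ * g * t = (n⁻¹ * g * t * (n⁻¹ * g)⁻¹) * (n⁻¹ * g) := by group
      _ = t * (n⁻¹ * g) := by rw [this]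

end Cfsg.Agent.Lib.Helper15.Gagola
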