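import Cfsg.Agent.Lib.Helper15.GagolaA
import Cfsg.Agent.Lib.Helper96.BaerSuzuki

/-!
# Gagola's theorem, group part C (helper15): `p = 2`, `N = O_2(G)` forces `|G : N|` odd
-/

set_option autoImplicit false
set_option linter.unusedSectionVars false

namespace Cfsg.Agent.Lib.Helper15.Gagola

open Cfsg

variable {G : Type*} [Group G] [Finite G] {N : Subgroup G}

/-- `N` has exponent 2. -/
theorem Cam.sq_eq_one (h : Cam N 2) {n : G} (hn : n ∈ N) : n * n = 1 := by
  haveI : Fact (Nat.Prime 2) := ⟨Nat.prime_two⟩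
  obtain ⟨g₀, hg₀, hg₀1⟩ := h.ne_bot
  obtain ⟨k, hk⟩ := IsPGroup.iff_card.1 h.pgroup
  have hk0 : k ≠ 0 := by
    rintro rfl
    rw [pow_zero] at hk
    have := Subgroup.card_eq_one.1 hk
    rw [this, Subgroup.mem_bot] at hg₀
    exact hg₀1 hg₀
  have h2 : 2 ∣ Nat.card N := by rw [hk]; exact dvd_pow_self 2 hk0
  obtain ⟨x, hx⟩ := exists_prime_orderOf_dvd_card' (G := N) 2 h2
  have hx' : orderOf (x : G) = 2 := by rw [Subgroup.orderOf_coe]; exact hx
  have hx1 : (x : G) ≠ 1 := by
    intro h1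
    rw [h1, orderOf_one] at hx'
    omega
  by_cases hn1 : n = 1
  · rw [hn1, mul_one]
  · have hc := (h.conj (x : G) x.2 hx1 n).2 ⟨hn, hn1⟩
    obtain ⟨g, hg⟩ := isConj_iff.1 hc
    have hs : SemiconjBy g (x : G) n := by
      unfold SemiconjBy
      rw [← hg]; group
    have hord : orderOf n = 2 := by rw [← hs.orderOf_eq g, hx']
    have := pow_orderOf_eq_one n
    rw [hord, pow_two] at this
    exact this

/-- If `N = O_2(G)`, there is no involution outside `N`. -/
theorem Cam.no_involution [hN : N.Normal] (h : Cam N 2) (hcore : N = pCore 2 G) {t : G}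
    (htN : t ∉ N) (htt : t * t = 1) : False := by
  haveI : Fact (Nat.Prime 2) := ⟨Nat.prime_two⟩
  apply htN
  apply h.mem_of_centralizes hcore
  intro n hn
  have htinv : t⁻¹ = t := inv_eq_of_mul_eq_one_right htt
  obtain ⟨g, hg⟩ := isConj_iff.1 (h.camina t htN n hn)
  have hsq : (t * n) * (t * n) = 1 := by
    rw [← hg]
    calc g * t * g⁻¹ * (g * t * g⁻¹) = g * (t * t) * g⁻¹ := by group
      _ = 1 := by rw [htt]; group
  have hnn := h.sq_eq_one hn
  -- t n t n = 1, n n = 1, t t = 1 ⇒ t n = n t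
  have h1 : t * n * t = n⁻¹ := by
    have : t * n * t * n = 1 := by rw [← hsq]; group
    exact eq_inv_of_mul_eq_one_left this
  have h2 : n⁻¹ = n := inv_eq_of_mul_eq_one_right hnn
  calc t * n = t * n * (t * t) := by rw [htt, mul_one]
    _ = (t * n * t) * t := by group
    _ = n * t := by rw [h1, h2]

/-- The pair lemma: two elements of `G ∖ N` with squares in `N` whose product is a `2`-element
generate a `2`-group. -/
theorem Cam.pair_isPGroup [hN : N.Normal] (h : Cam N 2) {a b : G} (ha : a * a ∈ N)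
    (hb : b * b ∈ N) {j : ℕ} (hz : orderOf (a * b) = 2 ^ j) :
    IsPGroup 2 (Subgroup.closure ({a, b} : Set G)) := by
  haveI : Fact (Nat.Prime 2) := ⟨Nat.prime_two⟩
  set z := a * b with hzdef
  have hZ : IsPGroup 2 (Subgroup.zpowers z) := by
    apply IsPGroup.of_card (n := j)
    rw [Nat.card_zpowers, hz]
  have hM : IsPGroup 2 (N ⊔ Subgroup.zpowers z : Subgroup G) :=
    IsPGroup.to_sup_of_normal_left h.pgroup hZ
  -- a is a 2-element
  have hA : IsPGroup 2 (Subgroup.zpowers a) := by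
    obtain ⟨k, hk⟩ := h.pgroup ⟨a * a, ha⟩
    have hk' : (a * a) ^ 2 ^ k = 1 := by
      have := congrArg Subtype.val hk
      simpa using this
    have h1 : a ^ 2 ^ (k + 1) = 1 := by
      rw [pow_succ, mul_comm, pow_mul, pow_two]; exact hk'
    have hd : orderOf a ∣ 2 ^ (k + 1) := orderOf_dvd_of_pow_eq_one h1
    obtain ⟨i, -, hi⟩ := (Nat.dvd_prime_pow Nat.prime_two).1 hd
    apply IsPGroup.of_card (n := i)
    rw [Nat.card_zpowers, hi]
  -- a normalizes M
  have hnorm : a ∈ Subgroup.normalizer ((N ⊔ Subgroup.zpowers z : Subgroup G) : Set G) := by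
    apply Subgroup.mem_normalizer_fintype
    intro x hx
    have hle : (N ⊔ Subgroup.zpowers z : Subgroup G) ≤
        (N ⊔ Subgroup.zpowers z : Subgroup G).comap (MulAut.conj a).toMonoidHom := by
      apply sup_le
      · intro x hx
        rw [Subgroup.mem_comap]
        show a * x * a⁻¹ ∈ _
        exact Subgroup.mem_sup_left (hN.conj_mem x hx a)
      · rw [Subgroup.zpowers_le, Subgroup.mem_comap]
        show a * z * a⁻¹ ∈ _
        have : a * z * a⁻¹ = (a * a) * (b * b) * z⁻¹ := by rw [hzdef]; group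
        rw [this]
        exact Subgroup.mul_mem_sup (N.mul_mem ha hb)
          (Subgroup.inv_mem _ (Subgroup.mem_zpowers z))
    have := hle hx
    rw [Subgroup.mem_comap] at this
    exact this
  have hsup : IsPGroup 2 (Subgroup.zpowers a ⊔ (N ⊔ Subgroup.zpowers z) : Subgroup G) :=
    IsPGroup.to_sup_of_normal_right' hA hM (Subgroup.zpowers_le.2 hnorm)
  apply hsup.to_le
  rw [Subgroup.closure_le]
  intro x hx
  rcases hx with rfl | rfl
  · exact Subgroup.mem_sup_left (Subgroup.mem_zpowers _)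
  · have : x = a⁻¹ * (a * x) := by group
    rw [this]
    exact Subgroup.mul_mem_sup (Subgroup.inv_mem _ (Subgroup.mem_zpowers a))
      (Subgroup.mem_sup_right (Subgroup.mem_zpowers _))

/-- Baer–Suzuki step: if `N = O_2(G)` and some `a ∉ N` has `a² ∈ N`, there are two such elements
whose product does not have `2`-power order. -/
theorem Cam.exists_pair [hN : N.Normal] (h : Cam N 2) (hcore : N = pCore 2 G) {a₀ : G}
    (ha₀ : a₀ ∉ N) (ha₀2 : a₀ * a₀ ∈ N) :
    ∃ a b : G, a ∉ N ∧ a * a ∈ N ∧ b * b ∈ N ∧ ∀ j : ℕ, orderOf (a * b) ≠ 2 ^ j := by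
  haveI : Fact (Nat.Prime 2) := ⟨Nat.prime_two⟩
  by_contra hno
  push Not at hno
  let K : Set G := {g | g ∉ N ∧ g * g ∈ N}
  have hK : ∀ k ∈ K, ∀ g : G, g * k * g⁻¹ ∈ K := by
    rintro k ⟨hk1, hk2⟩ g
    refine ⟨?_, ?_⟩
    · intro hmem
      apply hk1
      have := hN.conj_mem _ hmem g⁻¹
      have h2 : g⁻¹ * (g * k * g⁻¹) * g⁻¹⁻¹ = k := by group
      rwa [h2] at this
    · have : g * k * g⁻¹ * (g * k * g⁻¹) = g * (k * k) * g⁻¹ := by group
      rw [this]
      exact hN.conj_mem _ hk2 g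
  have hpairs : ∀ a ∈ K, ∀ b ∈ K, IsPGroup 2 (Subgroup.closure ({a, b} : Set G)) := by
    rintro a ⟨ha1, ha2⟩ b ⟨hb1, hb2⟩
    obtain ⟨j, hj⟩ := hno a b ha1 ha2 hb2
    exact h.pair_isPGroup ha2 hb2 hj
  have hP := Cfsg.Agent.Lib.Helper96.isPGroup_closure_of_pairwise (p := 2) K hK hpairs
  have hnormal : (Subgroup.closure K).Normal := by
    constructor
    intro n hn g
    have hle : Subgroup.closure K ≤ (Subgroup.closure K).comap (MulAut.conj g).toMonoidHom := by
      rw [Subgroup.closure_le]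
      intro k hk
      rw [SetLike.mem_coe, Subgroup.mem_comap]
      show g * k * g⁻¹ ∈ _
      exact Subgroup.subset_closure (hK k hk g)
    have := hle hn
    rw [Subgroup.mem_comap] at this
    exact this
  have hle : Subgroup.closure K ≤ pCore 2 G := Cfsg.Agent.Lib.Helper55.le_pCore hnormal hP
  apply ha₀
  rw [hcore]
  exact hle (Subgroup.subset_closure ⟨ha₀, ha₀2⟩)

end Cfsg.Agent.Lib.Helper15.Gagola
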