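import Cfsg.Agent.Lib.Helper15.GagolaC

/-!
# Gagola's theorem, group part D (helper15): the free-module contradiction for `p = 2`
-/

set_option autoImplicit false
set_option linter.unusedSectionVars false

namespace Cfsg.Agent.Lib.Helper15.Gagola

open Cfsg

variable {G : Type*} [Group G] [Finite G] {N : Subgroup G}

/-- Core computation: an element `a ∉ N` with `a² ∈ N` cannot invert (mod `N`) a nontrivial
element `y₁` of odd order. -/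
theorem Cam.false_of_inverted [hN : N.Normal] (h : Cam N 2) (hcore : N = pCore 2 G) {a y₁ : G}
    (haN : a ∉ N) (ha : a * a ∈ N) (hy₁odd : Odd (orderOf y₁)) (hy₁1 : y₁ ≠ 1)
    (hinv : a * y₁ * a⁻¹ * y₁ ∈ N) : False := by
  haveI : Fact (Nat.Prime 2) := ⟨Nat.prime_two⟩
  -- (R)
  have hR : ∀ n ∈ N, a * (y₁ * n * y₁⁻¹) * a⁻¹ = y₁⁻¹ * (a * n * a⁻¹) * y₁ := by
    intro n hn
    have hq : y₁⁻¹ * (a * n * a⁻¹) * y₁ ∈ N := by
      have := hN.conj_mem _ (hN.conj_mem n hn a) y₁⁻¹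
      simpa using this
    have hc := h.comm _ hinv _ hq
    calc a * (y₁ * n * y₁⁻¹) * a⁻¹
        = (a * y₁ * a⁻¹ * y₁) * (y₁⁻¹ * (a * n * a⁻¹) * y₁) * (a * y₁ * a⁻¹ * y₁)⁻¹ := by group
      _ = (y₁⁻¹ * (a * n * a⁻¹) * y₁) * (a * y₁ * a⁻¹ * y₁) * (a * y₁ * a⁻¹ * y₁)⁻¹ := by rw [hc]
      _ = y₁⁻¹ * (a * n * a⁻¹) * y₁ := by group
  set y := y₁ * y₁ with hy
  have hE1 : ∀ n ∈ N, a * (y * n * y⁻¹) * a⁻¹ = y⁻¹ * (a * n * a⁻¹) * y := by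
    intro n hn
    have hn' : y₁ * n * y₁⁻¹ ∈ N := hN.conj_mem n hn y₁
    have h1 := hR _ hn'
    have h2 := hR n hn
    calc a * (y * n * y⁻¹) * a⁻¹ = a * (y₁ * (y₁ * n * y₁⁻¹) * y₁⁻¹) * a⁻¹ := by rw [hy]; group
      _ = y₁⁻¹ * (a * (y₁ * n * y₁⁻¹) * a⁻¹) * y₁ := h1
      _ = y₁⁻¹ * (y₁⁻¹ * (a * n * a⁻¹) * y₁) * y₁ := by rw [h2]
      _ = y⁻¹ * (a * n * a⁻¹) * y := by rw [hy]; group
  -- y is a nontrivial element of odd order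
  have hyord : orderOf y ∣ orderOf y₁ := by
    rw [hy, ← pow_two]; exact orderOf_pow_dvd 2
  have hycop : (orderOf y).Coprime 2 :=
    Nat.Coprime.coprime_dvd_left hyord (Nat.coprime_two_left.2 hy₁odd).symm
  have hy1 : y ≠ 1 := by
    intro h1
    have h2 : y₁ ^ 2 = 1 := by rw [pow_two]; exact h1
    have hd : orderOf y₁ ∣ 2 := orderOf_dvd_of_pow_eq_one h2
    have hc : (orderOf y₁).Coprime 2 := (Nat.coprime_two_left.2 hy₁odd).symm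
    have := Nat.Coprime.eq_one_of_dvd hc hd
    exact hy₁1 (orderOf_eq_one_iff.1 this)
  -- ψ
  let ψ : N → N := fun w => ⟨(w : G) * (y * w * y⁻¹), N.mul_mem w.2 (hN.conj_mem w w.2 y)⟩
  have hψinj : Function.Injective ψ := by
    rintro ⟨w, hw⟩ ⟨w', hw'⟩ hww
    have hww' : w * (y * w * y⁻¹) = w' * (y * w' * y⁻¹) := congrArg Subtype.val hww
    apply Subtype.ext
    show w = w'
    have hd : w * w'⁻¹ ∈ N := N.mul_mem hw (N.inv_mem hw')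
    have hyw : y * w * y⁻¹ ∈ N := hN.conj_mem w hw y
    have hyw' : y * w' * y⁻¹ ∈ N := hN.conj_mem w' hw' y
    -- d * (y d y⁻¹) = 1
    have h1 : (w * w'⁻¹) * (y * (w * w'⁻¹) * y⁻¹) = 1 := by
      have hc1 : w'⁻¹ * (y * w * y⁻¹) = (y * w * y⁻¹) * w'⁻¹ :=
        h.comm _ (N.inv_mem hw') _ hyw
      calc (w * w'⁻¹) * (y * (w * w'⁻¹) * y⁻¹)
          = w * (w'⁻¹ * (y * w * y⁻¹)) * (y * w' * y⁻¹)⁻¹ := by group
        _ = w * ((y * w * y⁻¹) * w'⁻¹) * (y * w' * y⁻¹)⁻¹ := by rw [hc1]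
        _ = (w * (y * w * y⁻¹)) * w'⁻¹ * (y * w' * y⁻¹)⁻¹ := by group
        _ = (w' * (y * w' * y⁻¹)) * w'⁻¹ * (y * w' * y⁻¹)⁻¹ := by rw [hww']
        _ = w' * ((y * w' * y⁻¹) * w'⁻¹) * (y * w' * y⁻¹)⁻¹ := by group
        _ = w' * (w'⁻¹ * (y * w' * y⁻¹)) * (y * w' * y⁻¹)⁻¹ := by
            rw [h.comm _ hyw' _ (N.inv_mem hw')]
        _ = 1 := by group
    have h2 : y * (w * w'⁻¹) * y⁻¹ = (w * w'⁻¹)⁻¹ := eq_inv_of_mul_eq_one_right h1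
    have h3 : (w * w'⁻¹)⁻¹ = w * w'⁻¹ := inv_eq_of_mul_eq_one_right (h.sq_eq_one hd)
    have h4 : y * (w * w'⁻¹) = (w * w'⁻¹) * y := by
      calc y * (w * w'⁻¹) = (y * (w * w'⁻¹) * y⁻¹) * y := by group
        _ = (w * w'⁻¹) * y := by rw [h2, h3]
    have := h.fpf hycop hy1 hd h4
    exact mul_inv_eq_one.1 this
  have hψsurj : Function.Surjective ψ := Finite.injective_iff_surjective.1 hψinj
  -- the equation
  set v := a * a with hv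
  have hT : y₁ * v * y₁⁻¹ ∈ N := hN.conj_mem v ha y₁
  obtain ⟨⟨w, hw⟩, hwψ⟩ := hψsurj ⟨y₁ * v * y₁⁻¹, hT⟩
  have hweq : w * (y * w * y⁻¹) = y₁ * v * y₁⁻¹ := congrArg Subtype.val hwψ
  have hw' : a * w * a⁻¹ ∈ N := hN.conj_mem w hw a
  have hava : a * v * a⁻¹ = v := by rw [hv]; group
  -- w' solves the same equation
  have hstar : (a * w * a⁻¹) * (y⁻¹ * (a * w * a⁻¹) * y) = y₁⁻¹ * v * y₁ := by
    calc (a * w * a⁻¹) * (y⁻¹ * (a * w * a⁻¹) * y)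
        = (a * w * a⁻¹) * (a * (y * w * y⁻¹) * a⁻¹) := by rw [hE1 w hw]
      _ = a * (w * (y * w * y⁻¹)) * a⁻¹ := by group
      _ = a * (y₁ * v * y₁⁻¹) * a⁻¹ := by rw [hweq]
      _ = y₁⁻¹ * (a * v * a⁻¹) * y₁ := hR v ha
      _ = y₁⁻¹ * v * y₁ := by rw [hava]
  have hw'eq : (a * w * a⁻¹) * (y * (a * w * a⁻¹) * y⁻¹) = y₁ * v * y₁⁻¹ := by
    have hyw' : y * (a * w * a⁻¹) * y⁻¹ ∈ N := hN.conj_mem _ hw' y
    rw [h.comm _ hw' _ hyw']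
    calc (y * (a * w * a⁻¹) * y⁻¹) * (a * w * a⁻¹)
        = y * ((a * w * a⁻¹) * (y⁻¹ * (a * w * a⁻¹) * y)) * y⁻¹ := by group
      _ = y * (y₁⁻¹ * v * y₁) * y⁻¹ := by rw [hstar]
      _ = y₁ * v * y₁⁻¹ := by rw [hy]; group
  have hfix : a * w * a⁻¹ = w := by
    have : ψ ⟨a * w * a⁻¹, hw'⟩ = ψ ⟨w, hw⟩ := by
      apply Subtype.ext
      show (a * w * a⁻¹) * (y * (a * w * a⁻¹) * y⁻¹) = w * (y * w * y⁻¹)
      rw [hw'eq, hweq]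
    exact congrArg Subtype.val (hψinj this)
  -- u
  have hu : y₁ * w * y₁⁻¹ ∈ N := hN.conj_mem w hw y₁
  have hau : a * (y₁ * w * y₁⁻¹) * a⁻¹ = y₁⁻¹ * w * y₁ := by
    rw [hR w hw, hfix]
  have huv : (y₁ * w * y₁⁻¹) * (a * (y₁ * w * y₁⁻¹) * a⁻¹) = v := by
    have hyw : y * w * y⁻¹ ∈ N := hN.conj_mem w hw y
    rw [hau]
    calc (y₁ * w * y₁⁻¹) * (y₁⁻¹ * w * y₁) = y₁⁻¹ * ((y * w * y⁻¹) * w) * y₁ := by rw [hy]; group
      _ = y₁⁻¹ * (w * (y * w * y⁻¹)) * y₁ := by rw [h.comm _ hyw _ hw]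
      _ = y₁⁻¹ * (y₁ * v * y₁⁻¹) * y₁ := by rw [hweq]
      _ = v := by group
  -- the involution t = u * a
  have htN : (y₁ * w * y₁⁻¹) * a ∉ N := by
    intro hmem
    apply haN
    have : a = (y₁ * w * y₁⁻¹)⁻¹ * ((y₁ * w * y₁⁻¹) * a) := by group
    rw [this]
    exact N.mul_mem (N.inv_mem hu) hmem
  have htt : ((y₁ * w * y₁⁻¹) * a) * ((y₁ * w * y₁⁻¹) * a) = 1 := by
    calc ((y₁ * w * y₁⁻¹) * a) * ((y₁ * w * y₁⁻¹) * a)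
        = ((y₁ * w * y₁⁻¹) * (a * (y₁ * w * y₁⁻¹) * a⁻¹)) * (a * a) := by group
      _ = v * v := by rw [huv]
      _ = 1 := h.sq_eq_one ha
  exact h.no_involution hcore htN htt

end Cfsg.Agent.Lib.Helper15.Gagola
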