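import Cfsg.Agent.Lib.Helper15.GagolaB
import Cfsg.Agent.Lib.Helper15.GagolaD
import Cfsg.Agent.S0034

/-!
# Gagola's theorem (helper15): `N = O_p(G)` iff `G` is a doubly transitive Frobenius group with
kernel `N`, for a Camina pair `(G, N)` coming from a character nonzero on exactly two classes.
-/

set_option autoImplicit false
set_option linter.unusedSectionVars false

namespace Cfsg.Agent.Lib.Helper15.Gagola

open Cfsg

variable {G : Type*} [Group G] [Finite G] {N : Subgroup G}

theorem Cam.false_of_pair [hN : N.Normal] (h : Cam N 2) (hcore : N = pCore 2 G) {a b : G}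
    (haN : a ∉ N) (ha : a * a ∈ N) (hb : b * b ∈ N) (hz : ∀ j : ℕ, orderOf (a * b) ≠ 2 ^ j) :
    False := by
  set z := a * b with hzdef
  have hz0 : orderOf z ≠ 0 := (orderOf_pos z).ne'
  obtain ⟨k, m, hm, hkm⟩ := Nat.exists_eq_two_pow_mul_odd hz0
  have hm1 : m ≠ 1 := by
    rintro rfl
    rw [mul_one] at hkm
    exact hz k hkm
  have hord : orderOf (z ^ 2 ^ k) = m := by
    rw [orderOf_pow_of_dvd (pow_ne_zero k two_ne_zero) ⟨m, hkm⟩, hkm]
    exact Nat.mul_div_cancel_left m (pow_pos two_pos k)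
  have hy1 : z ^ 2 ^ k ≠ 1 := by
    intro h1
    rw [h1, orderOf_one] at hord
    exact hm1 hord.symm
  have hn₁ : a * z * a⁻¹ * z ∈ N := by
    have : a * z * a⁻¹ * z = (a * a) * (b * b) := by rw [hzdef]; group
    rw [this]
    exact N.mul_mem ha hb
  have hall : ∀ i : ℕ, a * z ^ i * a⁻¹ * z ^ i ∈ N := by
    intro i
    induction i with
    | zero => simp
    | succ i ih =>
      have h1 : (z ^ i)⁻¹ * (a * z * a⁻¹ * z) * z ^ i ∈ N := by
        have := hN.conj_mem _ hn₁ (z ^ i)⁻¹
        simpa using this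
      have h2 : a * z ^ (i + 1) * a⁻¹ * z ^ (i + 1) =
          (a * z ^ i * a⁻¹ * z ^ i) * ((z ^ i)⁻¹ * (a * z * a⁻¹ * z) * z ^ i) := by
        rw [pow_succ]
        have hc : z ^ i * z = z * z ^ i := (pow_mul_comm' z i)
        calc a * (z ^ i * z) * a⁻¹ * (z ^ i * z)
            = a * z ^ i * a⁻¹ * (a * z * a⁻¹) * (z ^ i * z) := by group
          _ = a * z ^ i * a⁻¹ * (a * z * a⁻¹) * (z * z ^ i) := by rw [hc]
          _ = _ := by group
      rw [h2]
      exact N.mul_mem ih h1
  exact h.false_of_inverted hcore haN ha (hord ▸ hm) hy1 (hall (2 ^ k))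

/-- `p = 2`, `N = O_2(G)`: the index of `N` is odd. -/
theorem Cam.index_odd [hN : N.Normal] (h : Cam N 2) (hcore : N = pCore 2 G) : ¬ 2 ∣ N.index := by
  haveI : Fact (Nat.Prime 2) := ⟨Nat.prime_two⟩
  intro h2
  rw [Subgroup.index_eq_card] at h2
  obtain ⟨q, hq⟩ := exists_prime_orderOf_dvd_card' (G := G ⧸ N) 2 h2
  obtain ⟨a, rfl⟩ := QuotientGroup.mk_surjective q
  have haN : a ∉ N := by
    intro haN
    have : ((a : G) : G ⧸ N) = 1 := (QuotientGroup.eq_one_iff a).2 haN
    rw [this, orderOf_one] at hq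
    omega
  have ha2 : a * a ∈ N := by
    rw [← QuotientGroup.eq_one_iff]
    have := pow_orderOf_eq_one ((a : G) : G ⧸ N)
    rw [hq, pow_two] at this
    exact this
  obtain ⟨a', b', ha'N, ha', hb', hz⟩ := h.exists_pair hcore haN ha2
  exact h.false_of_pair hcore ha'N ha' hb' hz

theorem Cam.exists_compl_two [hN : N.Normal] (h : Cam N 2) (hcore : N = pCore 2 G) :
    ∃ H : Subgroup G, N.IsComplement' H := by
  apply Subgroup.exists_right_complement'_of_coprime
  obtain ⟨k, hk⟩ := IsPGroup.iff_card.1 h.pgroup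
  rw [hk]
  apply Nat.Coprime.pow_left
  rw [Nat.coprime_two_left]
  rw [← Nat.not_even_iff_odd, even_iff_two_dvd]
  exact h.index_odd hcore

/-- **Forward direction of Gagola's theorem.** -/
theorem Cam.forward [hN : N.Normal] {p : ℕ} [hp : Fact p.Prime] (h : Cam N p)
    (hcore : N = pCore p G) :
    ∃ H : Subgroup G, IsFrobeniusComplement H ∧ frobeniusKernel H = (N : Set G) ∧
      Nat.card H + 1 = Nat.card N := by
  by_cases hp2 : p = 2
  · subst hp2
    obtain ⟨H, hH⟩ := h.exists_compl_two hcore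
    exact ⟨H, h.frob_of_compl hH⟩
  · obtain ⟨H, hH⟩ := h.exists_compl_odd hp2 hcore
    exact ⟨H, h.frob_of_compl hH⟩

/-- **Backward direction**: a doubly transitive Frobenius group with kernel the normal `p`-subgroup
`N` has `O_p(G) = N`. -/
theorem backward [hN : N.Normal] {p : ℕ} [hp : Fact p.Prime] (hNp : IsPGroup p N)
    (H : Subgroup G) (hH : IsFrobeniusComplement H) (hker : frobeniusKernel H = (N : Set G))
    (hcard : Nat.card H + 1 = Nat.card N) : N = pCore p G := by
  have hle : N ≤ pCore p G := Cfsg.Agent.Lib.Helper55.le_pCore hN hNp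
  apply Subgroup.eq_of_le_of_card_ge hle
  obtain ⟨j, hj⟩ := IsPGroup.iff_card.1 (Cfsg.Agent.Lib.Helper55.isPGroup_pCore (G := G) p)
  obtain ⟨k, hk⟩ := IsPGroup.iff_card.1 hNp
  have hidx : H.index = Nat.card N := by
    rw [← Cfsg.Agent.S0034.card_kernel H hH, hker]
    rfl
  have hG : Nat.card G = Nat.card H * Nat.card N := by
    rw [← hidx]; exact (H.card_mul_index).symm
  have hHpos : 0 < Nat.card H := Nat.card_pos
  have hk0 : k ≠ 0 := by
    rintro rfl
    rw [pow_zero] at hk
    omega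
  have hpN : p ∣ Nat.card N := by rw [hk]; exact dvd_pow_self p hk0
  have hcop : (p ^ j).Coprime (Nat.card H) := by
    apply Nat.Coprime.pow_left
    rw [Nat.Prime.coprime_iff_not_dvd hp.out]
    intro hpH
    have : p ∣ Nat.card H + 1 := by rw [hcard]; exact hpN
    have h1 : p ∣ 1 := (Nat.dvd_add_right hpH).1 this
    exact hp.out.one_lt.ne' (Nat.dvd_one.1 h1)
  have hdvd : p ^ j ∣ Nat.card H * Nat.card N := by
    rw [← hG, ← hj]
    exact Subgroup.card_subgroup_dvd_card _
  have hdvd' : p ^ j ∣ Nat.card N := hcop.dvd_of_dvd_mul_left hdvd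
  rw [hj]
  exact Nat.le_of_dvd Nat.card_pos hdvd'

end Cfsg.Agent.Lib.Helper15.Gagola
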