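import Cfsg.Agent.Lib.Helper15.HHCore
import Cfsg.Agent.Lib.Helper15.GallagherExt
import Cfsg.Agent.Lib.Helper63.HHAbGroup
import Cfsg.Agent.Lib.Helper77.Linear

/-!
# Applications of the Hall-Higman type lemma `hh_core` (helper15)
-/

set_option autoImplicit false
set_option linter.unusedSectionVars false

namespace Cfsg.Agent.Lib.Helper15

open Cfsg Cfsg.Agent.Lib.Helper78 Cfsg.Agent.Lib.Helper77
open scoped ComplexConjugate commutatorElement

universe u

/-- **Ito-type bound.** Let `N` be a normal `p'`-subgroup of `G` and `x` a `p`-element not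
centralizing `N`. If `χ` is a faithful character of `G` of degree at most `p - 1`, then
`χ(1) = p - 1` is a power of `2` and `χ` is irreducible. -/
theorem faithful_degree_of_p_element_on_p'_normal {G : Type u} [Group G] [Finite G] {p : ℕ}
    [hp : Fact p.Prime] (N : Subgroup G) [hN : N.Normal] (hNp : (Nat.card N).Coprime p) (x : G)
    (m : ℕ) (hx : x ^ p ^ m = 1) (hxN : ∃ a ∈ N, x * a ≠ a * x)
    {χ : G → ℂ} (hχ : IsCharacter G χ) (hfaith : ∀ g, χ g = χ 1 → g = 1)
    (hdeg : charDegree χ + 1 ≤ p) :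
    charDegree χ + 1 = p ∧ (∃ k, charDegree χ = 2 ^ k) ∧ IsIrrCharacter G χ := by
  classical
  have hpk : 0 < p ^ m := pow_pos hp.out.pos m
  set γ : MulAut ↥N := MulAut.conjNormal x with hγ
  have hγpow : γ ^ p ^ m = 1 := by rw [hγ, ← map_pow, hx, map_one]
  -- an invariant Sylow subgroup not centralized by `x`
  have hex : ∃ (q : ℕ) (_ : Fact q.Prime) (R : Sylow q ↥N), (∀ k : ↥N, k ∈ R → γ k ∈ R) ∧
      ∃ a : ↥N, a ∈ R ∧ γ a ≠ a := by
    by_contra hcon
    push Not at hcon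
    have hall : ∀ (q : ℕ) [Fact q.Prime], ∃ Q : Sylow q ↥N,
        (Q : Subgroup ↥N).map N.subtype ≤ N ⊓ Subgroup.centralizer {x} := by
      intro q hq
      obtain ⟨R, hR⟩ := Cfsg.Agent.Lib.Helper63.exists_invariant_sylow N p q hNp x m hx
      refine ⟨R, ?_⟩
      rintro _ ⟨a, ha, rfl⟩
      refine ⟨a.2, ?_⟩
      show (a : G) ∈ Subgroup.centralizer {x}
      rw [Subgroup.mem_centralizer_singleton_iff]
      have h1 := hcon q hq R hR a ha
      have h2 : ((γ a : ↥N) : G) = x * a * x⁻¹ := MulAut.conjNormal_apply x a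
      rw [h1] at h2
      show (a : G) * x = x * a
      conv_lhs => rw [h2]
      group
    have h1 := Cfsg.Agent.Lib.Helper63.eq_of_forall_sylow_le N (N ⊓ Subgroup.centralizer {x})
      inf_le_left hall
    obtain ⟨a, ha, hax⟩ := hxN
    apply hax
    have h2 : a ∈ N ⊓ Subgroup.centralizer {x} := by rw [h1]; exact ha
    have h3 := Subgroup.mem_centralizer_singleton_iff.mp h2.2
    exact h3.symm
  obtain ⟨q, hq, R, hRinv, a, haR, haγ⟩ := hex
  have hRinv' : ∀ a, γ a ∈ (R : Subgroup ↥N) ↔ a ∈ (R : Subgroup ↥N) :=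
    invariant_iff_of_pow_eq_one γ hpk hγpow _ hRinv
  -- `q ≠ p`
  have hpq : p ≠ q := by
    intro hpq
    have h1 : q ∣ Nat.card (R : Subgroup ↥N) := by
      obtain ⟨j, hj⟩ := IsPGroup.iff_card.mp R.isPGroup'
      rw [hj]
      have hj0 : j ≠ 0 := by
        intro h0
        rw [h0, pow_zero] at hj
        have : (R : Subgroup ↥N) = ⊥ := Subgroup.card_eq_one.mp hj
        have ha1 : a = 1 := by
          have : a ∈ (⊥ : Subgroup ↥N) := by rw [← this]; exact haR
          exact Subgroup.mem_bot.mp this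
        apply haγ
        rw [ha1, map_one]
      exact dvd_pow_self q hj0
    have h2 : q ∣ Nat.card N := dvd_trans h1 (Subgroup.card_subgroup_dvd_card _)
    rw [← hpq] at h2
    have := Nat.Coprime.eq_one_of_dvd hNp.symm h2
    exact hp.out.one_lt.ne' this
  -- set up the core lemma
  set α : MulAut ↥(R : Subgroup ↥N) := restrictAut γ (R : Subgroup ↥N) hRinv' with hα
  have hαpow : α ^ p ^ m = 1 := restrictAut_pow_eq_one γ _ hRinv' hγpow
  have := Fintype.ofFinite ↥(R : Subgroup ↥N)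
  have hψc : IsCharacter ↥(R : Subgroup ↥N) (fun b : ↥(R : Subgroup ↥N) => χ ((b : ↥N) : G)) :=
    Cfsg.Agent.Lib.Helper75.isCharacter_res (R : Subgroup ↥N)
      (Cfsg.Agent.Lib.Helper75.isCharacter_res N hχ)
  have hcl : IsClassFunction G χ := IsCharacter.isClassFunction hχ
  have hψinv : ∀ b : ↥(R : Subgroup ↥N),
      (fun b : ↥(R : Subgroup ↥N) => χ ((b : ↥N) : G)) (α b) =
      (fun b : ↥(R : Subgroup ↥N) => χ ((b : ↥N) : G)) b := by
    intro b
    show χ ((γ (b : ↥N) : ↥N) : G) = χ ((b : ↥N) : G)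
    rw [hγ, MulAut.conjNormal_apply]
    exact hcl _ x
  have hψdeg : charDegree (fun b : ↥(R : Subgroup ↥N) => χ ((b : ↥N) : G)) = charDegree χ := rfl
  have hg : (fun b : ↥(R : Subgroup ↥N) => χ ((b : ↥N) : G)) (α ⟨a, haR⟩ * (⟨a, haR⟩)⁻¹) ≠
      (fun b : ↥(R : Subgroup ↥N) => χ ((b : ↥N) : G)) 1 := by
    intro h
    have h1 := hfaith _ h
    have h2 : (α ⟨a, haR⟩ * (⟨a, haR⟩ : ↥(R : Subgroup ↥N))⁻¹) = 1 := by
      apply Subtype.ext
      apply Subtype.ext
      exact h1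
    apply haγ
    have h3 : α ⟨a, haR⟩ = ⟨a, haR⟩ := mul_inv_eq_one.mp h2
    exact congrArg Subtype.val h3
  obtain ⟨φ, hφ, hφg⟩ := exists_constituent_ne hψc _ hg
  have hφinv := constituent_invariant α hαpow hψc hψinv (by rw [hψdeg]; omega) φ hφ
  have hcore := hh_core hpq R.isPGroup' α m hαpow φ hφinv ⟨⟨a, haR⟩, hφg⟩
  have hle := Cfsg.Agent.Lib.Helper75.constituent_degree hψc φ hφ
  rw [hψdeg] at hle
  have hdeq : charDegree (φ : ↥(R : Subgroup ↥N) → ℂ) = charDegree χ := by omega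
  refine ⟨by omega, ?_, ?_⟩
  · -- power of two
    have hdvd : charDegree χ ∣ Nat.card ↥(R : Subgroup ↥N) := by
      rw [← hdeq]
      exact Cfsg.Agent.Lib.Helper79.irr_charDegree_dvd_card φ
    obtain ⟨j, hj⟩ := IsPGroup.iff_card.mp R.isPGroup'
    rw [hj] at hdvd
    obtain ⟨i, -, hi⟩ := (Nat.dvd_prime_pow hq.out).mp hdvd
    have hp1 : charDegree χ + 1 = p := by omega
    by_cases hq2 : q = 2
    · exact ⟨i, by rw [hi, hq2]⟩
    · -- `q` odd, so `p` is even, `p = 2`
      have hqodd : Odd q := hq.out.odd_of_ne_two hq2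
      have hodd : Odd (charDegree χ) := by rw [hi]; exact hqodd.pow
      have hpeven : Even p := by rw [← hp1]; exact hodd.add_one
      have hp2 : p = 2 := (Nat.Prime.even_iff hp.out).mp hpeven
      exact ⟨0, by omega⟩
  · -- irreducible
    have h1 := hle.2 (by omega)
    have h2 : IsIrrCharacter ↥(R : Subgroup ↥N) (fun b : ↥(R : Subgroup ↥N) => χ ((b : ↥N) : G)) := by
      rw [h1]; exact φ.2
    have h3 : IsIrrCharacter ↥N (fun b : ↥N => χ (b : G)) :=
      isIrrCharacter_of_res (R : Subgroup ↥N) (Cfsg.Agent.Lib.Helper75.isCharacter_res N hχ) h2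
    exact isIrrCharacter_of_res N hχ h3


/-- A Sylow `p`-subgroup of a group with a faithful character of degree `< p` is abelian. -/
theorem sylow_abelian_of_faithful_small {G : Type u} [Group G] [Finite G] {p : ℕ}
    [hp : Fact p.Prime] {χ : G → ℂ} (hχ : IsCharacter G χ) (hfaith : ∀ g, χ g = χ 1 → g = 1)
    (hdeg : charDegree χ < p) (P : Subgroup G) (hP : IsPGroup p P) :
    ∀ x ∈ P, ∀ y ∈ P, x * y = y * x := by
  classical
  have := Fintype.ofFinite ↥P
  intro x hx y hy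
  have hψc : IsCharacter ↥P (fun b : ↥P => χ (b : G)) :=
    Cfsg.Agent.Lib.Helper75.isCharacter_res P hχ
  by_contra hne
  have hg : (fun b : ↥P => χ (b : G)) ⁅(⟨x, hx⟩ : ↥P), ⟨y, hy⟩⁆ ≠ (fun b : ↥P => χ (b : G)) 1 := by
    intro h
    have h1 := hfaith _ h
    apply hne
    have h2 : ⁅x, y⁆ = 1 := h1
    exact commutatorElement_eq_one_iff_mul_comm.mp h2
  obtain ⟨φ, hφ, hφg⟩ := exists_constituent_ne hψc _ hg
  have hle := (Cfsg.Agent.Lib.Helper75.constituent_degree hψc φ hφ).1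
  have hψdeg : charDegree (fun b : ↥P => χ (b : G)) = charDegree χ := rfl
  have hdvd := Cfsg.Agent.Lib.Helper79.irr_charDegree_dvd_card φ
  obtain ⟨j, hj⟩ := IsPGroup.iff_card.mp hP
  rw [hj] at hdvd
  obtain ⟨i, -, hi⟩ := (Nat.dvd_prime_pow hp.out).mp hdvd
  have hi0 : i = 0 := by
    by_contra h0
    have : p ≤ p ^ i := Nat.le_self_pow h0 p
    omega
  rw [hi0, pow_zero] at hi
  have h1 : (φ : ↥P → ℂ) 1 = 1 := by
    rw [Cfsg.Agent.Lib.Helper79.irr_apply_one_eq_charDegree φ, hi]; simp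
  obtain ⟨f, hf⟩ := Cfsg.Agent.Lib.Helper77.exists_monoidHom_of_degree_one
    (IsIrrCharacter.isCharacter φ.2) h1
  apply hφg
  rw [hf, hf, commutatorElement_def, map_mul, map_mul, map_mul, map_inv, map_inv, map_one]
  congr 1
  rw [mul_comm (f ⟨x, hx⟩) (f ⟨y, hy⟩)]
  group

end Cfsg.Agent.Lib.Helper15
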