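import Mathlib
import Cfsg.Prelude.Def_Characters
import Cfsg.Agent.Lib.Helper75.BGChar
import Cfsg.Agent.Lib.Helper77.CenterIrr
import Cfsg.Agent.Lib.Helper81.IrrTwist
import Cfsg.Agent.Lib.Helper75.Clifford2
import Cfsg.Agent.Lib.Helper78.CharMore

/-!
# A Hall-Higman type lemma for characters (helper15)

`Q` a finite `q`-group, `α` an automorphism of `p`-power order (`p ≠ q`), `θ ∈ Irr(Q)` an
`α`-invariant character with `[Q, α] ⊄ ker θ`.  Then `p ≤ θ(1) + 1`.
-/

set_option autoImplicit false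
set_option linter.unusedSectionVars false

namespace Cfsg.Agent.Lib.Helper15

open Cfsg Cfsg.Agent.Lib.Helper78 Cfsg.Agent.Lib.Helper77
open scoped ComplexConjugate commutatorElement

universe u


section RestrictAut

variable {Q : Type u} [Group Q]

/-- Restriction of an automorphism to an invariant subgroup. -/
def restrictAut (α : MulAut Q) (M : Subgroup Q) (hM : ∀ a, α a ∈ M ↔ a ∈ M) : MulAut M where
  toFun a := ⟨α a, (hM a).mpr a.2⟩
  invFun a := ⟨α.symm a, (hM _).mp (by rw [MulEquiv.apply_symm_apply]; exact a.2)⟩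
  left_inv a := by ext; simp
  right_inv a := by ext; simp
  map_mul' a b := by ext; simp

@[simp] theorem restrictAut_apply (α : MulAut Q) (M : Subgroup Q) (hM : ∀ a, α a ∈ M ↔ a ∈ M)
    (a : M) : ((restrictAut α M hM a : M) : Q) = α a := rfl

theorem restrictAut_pow_apply (α : MulAut Q) (M : Subgroup Q) (hM : ∀ a, α a ∈ M ↔ a ∈ M)
    (j : ℕ) (a : M) : ((((restrictAut α M hM) ^ j) a : M) : Q) = (α ^ j) a := by
  induction j generalizing a with
  | zero => simp
  | succ j ih =>
    rw [pow_succ, pow_succ, MulAut.mul_apply, MulAut.mul_apply, ih, restrictAut_apply]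

theorem restrictAut_pow_eq_one (α : MulAut Q) (M : Subgroup Q) (hM : ∀ a, α a ∈ M ↔ a ∈ M)
    {n : ℕ} (h : α ^ n = 1) : (restrictAut α M hM) ^ n = 1 := by
  ext a
  rw [restrictAut_pow_apply, h]
  simp

/-- For an automorphism of finite order, forward invariance suffices. -/
theorem invariant_iff_of_pow_eq_one (α : MulAut Q) {n : ℕ} (hn : 0 < n) (h : α ^ n = 1)
    (M : Subgroup Q) (hM : ∀ a ∈ M, α a ∈ M) : ∀ a, α a ∈ M ↔ a ∈ M := by
  have hpow : ∀ j : ℕ, ∀ a ∈ M, (α ^ j) a ∈ M := by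
    intro j
    induction j with
    | zero => intro a ha; simpa using ha
    | succ j ih =>
      intro a ha
      rw [pow_succ, MulAut.mul_apply]
      exact ih _ (hM a ha)
  intro a
  refine ⟨fun ha => ?_, hM a⟩
  have h1 := hpow (n - 1) (α a) ha
  have h2 : (α ^ (n - 1)) (α a) = a := by
    rw [← MulAut.mul_apply, ← pow_succ, Nat.sub_add_cancel hn, h]
    simp
  rwa [h2] at h1

end RestrictAut



section Constituent

variable {M : Type u} [Group M] [Fintype M]

/-- The number of distinct irreducible constituents is at most the degree. -/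
theorem card_le_charDegree_of_constituents {ψ : M → ℂ} (hψ : IsCharacter M ψ)
    (s : Finset (IrrCharacter M)) (hs : ∀ φ ∈ s, classInner ψ (φ : M → ℂ) ≠ 0) :
    s.card ≤ charDegree ψ := by
  classical
  obtain ⟨m, hm⟩ := (isCharacter_iff_exists_nat_combination ψ).mp hψ
  have hm' : ∀ φ : IrrCharacter M, classInner ψ (φ : M → ℂ) = m φ := by
    intro φ
    conv_lhs => rw [hm]
    exact classInner_nat_combination (fun φ => (m φ : ℂ)) φ
  rw [Cfsg.Agent.Lib.Helper75.charDegree_nat_combination m hψ hm]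
  calc s.card = ∑ φ ∈ s, 1 := by simp
    _ ≤ ∑ φ ∈ s, m φ * charDegree (φ : M → ℂ) := by
      apply Finset.sum_le_sum
      intro φ hφ
      have h1 : m φ ≠ 0 := by
        intro h0
        apply hs φ hφ
        rw [hm' φ, h0]
        simp
      have h2 := Cfsg.Agent.Lib.Helper79.irr_charDegree_pos φ
      have : 1 ≤ m φ := Nat.one_le_iff_ne_zero.mpr h1
      nlinarith
    _ ≤ ∑ φ : IrrCharacter M, m φ * charDegree (φ : M → ℂ) :=
      Finset.sum_le_sum_of_subset_of_nonneg (Finset.subset_univ _) (fun _ _ _ => Nat.zero_le _)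

/-- Twisting an irreducible character by an automorphism. -/
def twistIrr (φ : IrrCharacter M) (β : MulAut M) : IrrCharacter M :=
  ⟨(φ : M → ℂ) ∘ β, Cfsg.Agent.Lib.Helper81.isIrrCharacter_comp_mulEquiv φ.2 β⟩

theorem twistIrr_apply (φ : IrrCharacter M) (β : MulAut M) (a : M) :
    (twistIrr φ β : M → ℂ) a = (φ : M → ℂ) (β a) := rfl

theorem twistIrr_mul (φ : IrrCharacter M) (β γ : MulAut M) :
    twistIrr φ (β * γ) = twistIrr (twistIrr φ β) γ := by
  apply Subtype.ext
  funext a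
  rfl

theorem twistIrr_one (φ : IrrCharacter M) : twistIrr φ 1 = φ := by
  apply Subtype.ext
  funext a
  rfl

theorem twistIrr_pow_of_fixed {φ : IrrCharacter M} {γ : MulAut M} (h : twistIrr φ γ = φ) (e : ℕ) :
    twistIrr φ (γ ^ e) = φ := by
  induction e with
  | zero => rw [pow_zero, twistIrr_one]
  | succ e ih => rw [pow_succ, twistIrr_mul, ih, h]

/-- If a character of degree `< p` is invariant under an automorphism of `p`-power order, so is each
irreducible constituent. -/
theorem constituent_invariant {p k : ℕ} [hp : Fact p.Prime] (β : MulAut M) (hβ : β ^ p ^ k = 1)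
    {ψ : M → ℂ} (hψ : IsCharacter M ψ) (hinv : ∀ a, ψ (β a) = ψ a) (hdeg : charDegree ψ < p)
    (φ : IrrCharacter M) (hφ : classInner ψ (φ : M → ℂ) ≠ 0) :
    ∀ a, (φ : M → ℂ) (β a) = (φ : M → ℂ) a := by
  classical
  by_contra hcon
  have hne : twistIrr φ β ≠ φ := by
    intro h
    apply hcon
    intro a
    rw [← twistIrr_apply, h]
  have hinvpow : ∀ (i : ℕ) (a : M), ψ ((β ^ i) a) = ψ a := by
    intro i
    induction i with
    | zero => intro a; simp
    | succ i ih => intro a; rw [pow_succ, MulAut.mul_apply, ih, hinv]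
  -- multiplicities
  have hmult : ∀ i : ℕ, classInner ψ (twistIrr φ (β ^ i) : M → ℂ) ≠ 0 := by
    intro i
    have h1 : ψ = ψ ∘ (β ^ i : MulAut M) := by
      funext a
      exact (hinvpow i a).symm
    have h2 : (twistIrr φ (β ^ i) : M → ℂ) = (φ : M → ℂ) ∘ ((β ^ i : MulAut M) : M ≃ M) := rfl
    rw [h2]
    conv_lhs => rw [h1]
    have := Cfsg.Agent.Lib.Helper75.classInner_comp_equiv ((β ^ i : MulAut M) : M ≃ M) ψ (φ : M → ℂ)
    rw [show ψ ∘ (β ^ i : MulAut M) = ψ ∘ ((β ^ i : MulAut M) : M ≃ M) from rfl, this]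
    exact hφ
  -- injectivity
  have hord : orderOf β ∣ p ^ k := orderOf_dvd_of_pow_eq_one hβ
  have hinj : Set.InjOn (fun i : ℕ => twistIrr φ (β ^ i)) (Finset.range p : Set ℕ) := by
    have key : ∀ i j : ℕ, i < j → j < p → twistIrr φ (β ^ i) = twistIrr φ (β ^ j) → False := by
      intro i j hij hjp heq
      set d := j - i with hd
      have hd0 : 0 < d := by omega
      have hdp : d < p := by omega
      have hfix : twistIrr φ (β ^ d) = φ := by
        have h1 : twistIrr (twistIrr φ (β ^ d)) (β ^ i) = twistIrr φ (β ^ i) := by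
          rw [← twistIrr_mul, ← pow_add, heq]
          congr 2
          omega
        have h2 := congrArg (fun χ => twistIrr χ ((β ^ i)⁻¹)) h1
        simp only [← twistIrr_mul, mul_inv_cancel_right, mul_inv_cancel, twistIrr_one] at h2
        exact h2
      have hcop : d.Coprime (orderOf β) := by
        apply Nat.Coprime.coprime_dvd_right hord
        apply Nat.Coprime.pow_right
        rw [Nat.coprime_comm]
        exact (Nat.Prime.coprime_iff_not_dvd hp.out).mpr (Nat.not_dvd_of_pos_of_lt hd0 hdp)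
      obtain ⟨e, he⟩ := exists_pow_eq_self_of_coprime hcop
      apply hne
      have := twistIrr_pow_of_fixed hfix e
      rwa [he] at this
    intro i hi j hj heq
    simp only [Finset.coe_range, Set.mem_Iio] at hi hj
    by_contra hne'
    rcases Nat.lt_or_gt_of_ne hne' with h | h
    · exact key i j h hj heq
    · exact key j i h hi heq.symm
  have hcard : ((Finset.range p).image (fun i : ℕ => twistIrr φ (β ^ i))).card = p := by
    rw [Finset.card_image_of_injOn hinj, Finset.card_range]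
  have hle := card_le_charDegree_of_constituents hψ
    ((Finset.range p).image (fun i : ℕ => twistIrr φ (β ^ i))) (by
      intro χ hχ
      obtain ⟨i, -, rfl⟩ := Finset.mem_image.mp hχ
      exact hmult i)
  omega

end Constituent



section FixMod

variable {Q : Type u} [Group Q]

/-- The elements fixed by `α` modulo the normal subgroup `K`. -/
def fixMod (α : MulAut Q) (K : Subgroup Q) [hK : K.Normal] : Subgroup Q where
  carrier := {a | α a * a⁻¹ ∈ K}
  one_mem' := by
    show α 1 * 1⁻¹ ∈ K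
    simp
  mul_mem' := by
    intro a b ha hb
    show α (a * b) * (a * b)⁻¹ ∈ K
    have h : α (a * b) * (a * b)⁻¹ = (α a * a⁻¹) * (a * (α b * b⁻¹) * a⁻¹) := by
      rw [map_mul]; group
    rw [h]
    exact K.mul_mem ha (hK.conj_mem _ hb a)
  inv_mem' := by
    intro a ha
    show α a⁻¹ * a⁻¹⁻¹ ∈ K
    have h : α a⁻¹ * a⁻¹⁻¹ = a⁻¹ * (α a * a⁻¹)⁻¹ * a⁻¹⁻¹ := by
      rw [map_inv]; group
    rw [h]
    exact hK.conj_mem _ (K.inv_mem ha) a⁻¹

theorem mem_fixMod (α : MulAut Q) (K : Subgroup Q) [hK : K.Normal] (a : Q) :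
    a ∈ fixMod α K ↔ α a * a⁻¹ ∈ K := Iff.rfl

theorem mem_fixMod_iff_quot (α : MulAut Q) (K : Subgroup Q) [hK : K.Normal] (a : Q) :
    a ∈ fixMod α K ↔ (QuotientGroup.mk (α a) : Q ⧸ K) = QuotientGroup.mk a := by
  rw [mem_fixMod, QuotientGroup.eq]
  constructor
  · intro h
    have : (α a)⁻¹ * a = (α a)⁻¹ * (α a * a⁻¹)⁻¹ * (α a)⁻¹⁻¹ := by group
    rw [this]
    exact hK.conj_mem _ (K.inv_mem h) _
  · intro h
    have : α a * a⁻¹ = α a * ((α a)⁻¹ * a)⁻¹ * (α a)⁻¹ := by group
    rw [this]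
    exact hK.conj_mem _ (K.inv_mem h) _

theorem fixMod_invariant (α : MulAut Q) (K : Subgroup Q) [hK : K.Normal]
    (hKinv : ∀ a, α a ∈ K ↔ a ∈ K) (a : Q) : α a ∈ fixMod α K ↔ a ∈ fixMod α K := by
  rw [mem_fixMod, mem_fixMod, ← hKinv (α a * a⁻¹), map_mul, map_inv]

/-- If `α` has `p`-power order, `Q` is a `q`-group (`q ≠ p`), and every `a⁻¹ α(a)` is fixed by `α`
modulo `K`, then `α` is trivial modulo `K`. -/
theorem fixMod_eq_top {p q k : ℕ} [hp : Fact p.Prime] [hq : Fact q.Prime] (hpq : p ≠ q)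
    [Finite Q] (hQ : IsPGroup q Q) (α : MulAut Q) (hα : α ^ p ^ k = 1) (K : Subgroup Q)
    [hK : K.Normal] (hKinv : ∀ a, α a ∈ K ↔ a ∈ K)
    (h : ∀ a : Q, a⁻¹ * α a ∈ fixMod α K) : fixMod α K = ⊤ := by
  rw [eq_top_iff]
  intro a _
  obtain ⟨c, hc⟩ : ∃ c, c = a⁻¹ * α a := ⟨_, rfl⟩
  have hcfix : (QuotientGroup.mk (α c) : Q ⧸ K) = QuotientGroup.mk c :=
    (mem_fixMod_iff_quot α K c).mp (by rw [hc]; exact h a)
  -- α respects cosets
  have hresp : ∀ x y : Q, (QuotientGroup.mk x : Q ⧸ K) = QuotientGroup.mk y →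
      (QuotientGroup.mk (α x) : Q ⧸ K) = QuotientGroup.mk (α y) := by
    intro x y hxy
    rw [QuotientGroup.eq] at hxy ⊢
    rw [← map_inv, ← map_mul]
    exact (hKinv _).mpr hxy
  have hiter : ∀ j : ℕ, (QuotientGroup.mk ((α ^ j) a) : Q ⧸ K) =
      QuotientGroup.mk a * (QuotientGroup.mk c) ^ j := by
    intro j
    induction j with
    | zero => simp
    | succ j ih =>
      rw [pow_succ', MulAut.mul_apply]
      have h1 : (QuotientGroup.mk ((α ^ j) a) : Q ⧸ K) = QuotientGroup.mk (a * c ^ j) := by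
        rw [ih, QuotientGroup.mk_mul, QuotientGroup.mk_pow]
      rw [hresp _ _ h1, map_mul, map_pow, QuotientGroup.mk_mul, QuotientGroup.mk_pow, hcfix]
      have h2 : α a = a * c := by rw [hc]; group
      rw [h2, QuotientGroup.mk_mul, pow_succ', mul_assoc]
  have h1 := hiter (p ^ k)
  rw [hα, MulAut.one_apply] at h1
  have h2 : (QuotientGroup.mk c : Q ⧸ K) ^ p ^ k = 1 := by
    have := mul_left_cancel (a := (QuotientGroup.mk a : Q ⧸ K)) (b := 1)
      (c := (QuotientGroup.mk c : Q ⧸ K) ^ p ^ k) (by rw [mul_one]; exact h1)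
    exact this.symm
  have hQK : IsPGroup q (Q ⧸ K) := hQ.to_quotient K
  obtain ⟨l, hl⟩ := hQK (QuotientGroup.mk c)
  have h3 : orderOf (QuotientGroup.mk c : Q ⧸ K) ∣ p ^ k := orderOf_dvd_of_pow_eq_one h2
  have h4 : orderOf (QuotientGroup.mk c : Q ⧸ K) ∣ q ^ l := orderOf_dvd_of_pow_eq_one hl
  have hcop : Nat.Coprime (p ^ k) (q ^ l) :=
    Nat.Coprime.pow _ _ ((Nat.coprime_primes hp.out hq.out).mpr hpq)
  have h5 : orderOf (QuotientGroup.mk c : Q ⧸ K) = 1 :=
    Nat.eq_one_of_dvd_coprimes hcop h3 h4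
  have h6 : (QuotientGroup.mk c : Q ⧸ K) = 1 := orderOf_eq_one_iff.mp h5
  have h7 : c ∈ K := (QuotientGroup.eq_one_iff c).mp h6
  rw [mem_fixMod]
  have h8 : α a * a⁻¹ = a * c * a⁻¹ := by rw [hc]; group
  rw [h8]
  exact hK.conj_mem _ h7 a

end FixMod


section Analysis

variable {Q : Type u} [Group Q] [Fintype Q]

theorem invariant_of_map_eq (α : MulAut Q) {n : ℕ} (hn : 0 < n) (h : α ^ n = 1)
    (M : Subgroup Q) (hM : M.map α.toMonoidHom = M) : ∀ a, α a ∈ M ↔ a ∈ M := by
  apply invariant_iff_of_pow_eq_one α hn h M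
  intro a ha
  rw [← hM]
  exact Subgroup.mem_map_of_mem _ ha

/-- The permutation induced by `α` on the complement of an invariant subgroup. -/
def complPerm (α : MulAut Q) (Z : Subgroup Q) (hZ : ∀ a, α a ∈ Z ↔ a ∈ Z) :
    Equiv.Perm {a : Q // a ∉ Z} :=
  (α.toEquiv).subtypeEquiv (fun a => not_congr (hZ a).symm)

theorem complPerm_pow_apply (α : MulAut Q) (Z : Subgroup Q) (hZ : ∀ a, α a ∈ Z ↔ a ∈ Z)
    (j : ℕ) (x : {a : Q // a ∉ Z}) : ((((complPerm α Z hZ) ^ j) x : {a : Q // a ∉ Z}) : Q) =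
      (α ^ j) x := by
  induction j generalizing x with
  | zero => simp
  | succ j ih =>
    rw [pow_succ, pow_succ, Equiv.Perm.mul_apply, MulAut.mul_apply, ih]
    rfl

/-- Analysis of a minimal configuration. -/
theorem core_analysis {p q k : ℕ} [hp : Fact p.Prime] [hq : Fact q.Prime] (hpq : p ≠ q)
    (hQ : IsPGroup q Q) (α : MulAut Q) (hα : α ^ p ^ k = 1) (θ : IrrCharacter Q)
    (hinv : ∀ a, (θ : Q → ℂ) (α a) = (θ : Q → ℂ) a)
    (H1 : ∀ M : Subgroup Q, (∀ a, α a ∈ M ↔ a ∈ M) → M ≠ ⊤ → M ≤ fixMod α (irrKer θ))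
    (H2 : fixMod α (irrKer θ) ≠ ⊤) : p ≤ charDegree (θ : Q → ℂ) + 1 := by
  classical
  have hpk : 0 < p ^ k := pow_pos hp.out.pos k
  have hK1 : ∀ a, a ∈ irrKer θ ↔ (θ : Q → ℂ) a = (θ : Q → ℂ) 1 := mem_irrKer θ
  have hKinv : ∀ a, α a ∈ irrKer θ ↔ a ∈ irrKer θ := by
    intro a
    rw [hK1, hK1, hinv]
  have hZinv : ∀ a, α a ∈ irrCenter θ ↔ a ∈ irrCenter θ := by
    intro a
    rw [mem_irrCenter, mem_irrCenter, hinv]
  set C := fixMod α (irrKer θ) with hC
  have hCinv : ∀ a, α a ∈ C ↔ a ∈ C := fixMod_invariant α (irrKer θ) hKinv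
  -- `θ 1 ≠ 0`
  have hθ1 : (θ : Q → ℂ) 1 ≠ 0 := Cfsg.Agent.Lib.Helper80.char_one_ne_zero_of_isIrr θ.2
  -- (d) `Z ≠ ⊤`
  have hZtop : irrCenter θ ≠ ⊤ := by
    intro htop
    apply H2
    rw [eq_top_iff]
    intro a _
    rw [hC, mem_fixMod, hK1]
    have haZ : α a ∈ irrCenter θ := by rw [htop]; trivial
    have haZ' : a ∈ irrCenter θ := by rw [htop]; trivial
    have h1 := irr_center_mul θ ⟨α a, haZ⟩ a⁻¹
    have h2 := irr_center_mul θ ⟨a, haZ'⟩ a⁻¹
    rw [irrCenterScalar_apply] at h1 h2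
    simp only at h1 h2
    rw [h1, hinv, ← h2, mul_inv_cancel]
  have hZC : irrCenter θ ≤ C := H1 _ hZinv hZtop
  -- (e) `C` is normal
  have hCn : C.Normal := by
    have hnil : Group.IsNilpotent Q := hQ.isNilpotent
    have hnc := Group.normalizerCondition_of_isNilpotent (G := Q)
    have hlt : C < Subgroup.normalizer (C : Set Q) := hnc C (lt_top_iff_ne_top.mpr H2)
    have hNinv : ∀ a, a ∈ Subgroup.normalizer (C : Set Q) → α a ∈ Subgroup.normalizer (C : Set Q) := by
      intro a ha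
      rw [Subgroup.mem_normalizer_iff] at ha ⊢
      intro h
      have h1 := ha (α⁻¹ h)
      rw [← hCinv (α⁻¹ h), ← hCinv (a * α⁻¹ h * a⁻¹), MulAut.apply_inv_self, map_mul, map_mul,
        MulAut.apply_inv_self, map_inv] at h1
      exact h1
    have hNinv' := invariant_iff_of_pow_eq_one α hpk hα _ hNinv
    by_contra hnn
    have hNtop : Subgroup.normalizer (C : Set Q) ≠ ⊤ := by
      intro h
      apply hnn
      exact Subgroup.normalizer_eq_top_iff.mp h
    have := H1 _ hNinv' hNtop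
    exact absurd (lt_of_lt_of_le hlt this) (lt_irrefl _)
  -- (f) the elements `a⁻¹ α(a)` generate `Q`
  set Q₁ : Subgroup Q := Subgroup.closure {x | ∃ a : Q, x = a⁻¹ * α a} with hQ₁
  have hQ₁top : Q₁ = ⊤ := by
    by_contra hne
    have hinv₁ : ∀ a ∈ Q₁, α a ∈ Q₁ := by
      intro a ha
      induction ha using Subgroup.closure_induction with
      | mem x hx =>
        obtain ⟨b, rfl⟩ := hx
        apply Subgroup.subset_closure
        exact ⟨α b, by rw [map_mul, map_inv]⟩
      | one => rw [map_one]; exact Subgroup.one_mem _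
      | mul x y _ _ hx hy => rw [map_mul]; exact Subgroup.mul_mem _ hx hy
      | inv x _ hx => rw [map_inv]; exact Subgroup.inv_mem _ hx
    have hinv₁' := invariant_iff_of_pow_eq_one α hpk hα _ hinv₁
    have hle := H1 _ hinv₁' hne
    apply H2
    apply fixMod_eq_top hpq hQ α hα (irrKer θ) hKinv
    intro a
    apply hle
    exact Subgroup.subset_closure ⟨a, rfl⟩
  -- (g) `C ≤ Z`
  have hCZ : C ≤ irrCenter θ := by
    intro c hc
    rw [mem_irrCenter_iff_commutator]
    -- the centralizer of `c` modulo `K`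
    have hcent : Q₁ ≤ (Subgroup.centralizer {(QuotientGroup.mk c : Q ⧸ irrKer θ)}).comap
        (QuotientGroup.mk' (irrKer θ)) := by
      rw [hQ₁, Subgroup.closure_le]
      rintro x ⟨a, rfl⟩
      show (QuotientGroup.mk' (irrKer θ)) (a⁻¹ * α a) ∈ Subgroup.centralizer _
      rw [Subgroup.mem_centralizer_singleton_iff]
      have h1 : a * c * a⁻¹ ∈ C := hCn.conj_mem c hc a
      have h2 := (mem_fixMod_iff_quot α (irrKer θ) _).mp h1
      have h3 := (mem_fixMod_iff_quot α (irrKer θ) _).mp hc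
      rw [map_mul, map_mul, map_inv, QuotientGroup.mk_mul, QuotientGroup.mk_mul, h3,
        QuotientGroup.mk_mul, QuotientGroup.mk_mul] at h2
      simp only [QuotientGroup.mk'_apply, QuotientGroup.mk_mul, QuotientGroup.mk_inv] at h2 ⊢
      calc (↑a : Q ⧸ irrKer θ)⁻¹ * ↑(α a) * ↑c
          = (↑a : Q ⧸ irrKer θ)⁻¹ * (↑(α a) * ↑c * (↑(α a))⁻¹) * ↑(α a) := by group
        _ = (↑a : Q ⧸ irrKer θ)⁻¹ * (↑a * ↑c * (↑a)⁻¹) * ↑(α a) := by rw [h2]
        _ = ↑c * ((↑a : Q ⧸ irrKer θ)⁻¹ * ↑(α a)) := by group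
    intro h
    have hh : h ∈ Q₁ := by rw [hQ₁top]; trivial
    have h1 := hcent hh
    rw [Subgroup.mem_comap, Subgroup.mem_centralizer_singleton_iff] at h1
    rw [← QuotientGroup.eq_one_iff, commutatorElement_def]
    simp only [QuotientGroup.mk'_apply] at h1
    simp only [QuotientGroup.mk_mul, QuotientGroup.mk_inv]
    rw [← h1]
    group
  have hCeq : C = irrCenter θ := le_antisymm hCZ hZC
  have hZn : (irrCenter θ).Normal := inferInstance
  -- (h) `Q' ≤ Z`
  have hder : ∀ a b : Q, ⁅a, b⁆ ∈ irrCenter θ := by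
    set M : Subgroup Q := irrCenter θ ⊔ commutator Q with hM
    have hMinv : ∀ a ∈ M, α a ∈ M := by
      intro a ha
      have h1 : α a ∈ M.map α.toMonoidHom := Subgroup.mem_map_of_mem _ ha
      rw [hM, Subgroup.map_sup] at h1
      have h2 : (irrCenter θ).map α.toMonoidHom ⊔ (commutator Q).map α.toMonoidHom ≤
          irrCenter θ ⊔ commutator Q := by
        apply sup_le_sup
        · rw [Subgroup.map_le_iff_le_comap]
          intro z hz
          exact (hZinv z).mpr hz
        · rw [commutator_def, Subgroup.map_commutator]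
          exact Subgroup.commutator_mono le_top le_top
      exact h2 h1
    have hMinv' := invariant_iff_of_pow_eq_one α hpk hα _ hMinv
    have hMtop : M ≠ ⊤ := by
      intro htop
      have hsol : Group.IsSolvable (Q ⧸ irrCenter θ) := by
        have : Group.IsNilpotent (Q ⧸ irrCenter θ) := (hQ.to_quotient (irrCenter θ)).isNilpotent
        infer_instance
      have : Nontrivial (Q ⧸ irrCenter θ) := by
        obtain ⟨a, -, ha⟩ := SetLike.exists_of_lt (lt_top_iff_ne_top.mpr hZtop)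
        refine ⟨⟨(QuotientGroup.mk a : Q ⧸ irrCenter θ), 1, ?_⟩⟩
        intro h
        exact ha ((QuotientGroup.eq_one_iff a).mp h)
      have h1 := Group.IsSolvable.commutator_lt_top_of_nontrivial (Q ⧸ irrCenter θ)
      have h2 : M.map (QuotientGroup.mk' (irrCenter θ)) = ⊤ := by
        rw [htop]
        exact Subgroup.map_top_of_surjective _ (QuotientGroup.mk'_surjective _)
      rw [hM, Subgroup.map_sup, QuotientGroup.map_mk'_self, bot_sup_eq, commutator_def,
        Subgroup.map_commutator, Subgroup.map_top_of_surjective _ (QuotientGroup.mk'_surjective _),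
        ← commutator_def] at h2
      exact absurd h2 (ne_of_lt h1)
    have hMC := H1 _ hMinv' hMtop
    intro a b
    rw [← hCeq]
    apply hMC
    apply (le_sup_right : commutator Q ≤ M)
    rw [commutator_def]
    exact Subgroup.commutator_mem_commutator (Subgroup.mem_top a) (Subgroup.mem_top b)
  -- (i) vanishing off `Z`
  have hvan : ∀ a : Q, a ∉ irrCenter θ → (θ : Q → ℂ) a = 0 := by
    intro a ha
    rw [mem_irrCenter_iff_commutator] at ha
    push Not at ha
    obtain ⟨b, hb⟩ := ha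
    have hz : ⁅b, a⁆ ∈ irrCenter θ := hder b a
    have hzK : ⁅b, a⁆ ∉ irrKer θ := by
      intro h
      apply hb
      have : ⁅a, b⁆ = ⁅b, a⁆⁻¹ := (commutatorElement_inv b a).symm
      rw [this]
      exact Subgroup.inv_mem _ h
    have h1 := irr_center_mul θ ⟨⁅b, a⁆, hz⟩ a
    rw [irrCenterScalar_apply] at h1
    simp only at h1
    have h2 : ⁅b, a⁆ * a = b * a * b⁻¹ := by rw [commutatorElement_def]; group
    have hcl : IsClassFunction Q (θ : Q → ℂ) :=
      IsCharacter.isClassFunction (IsIrrCharacter.isCharacter θ.2)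
    rw [h2, hcl a b] at h1
    rw [hK1] at hzK
    by_contra h0
    apply hzK
    have h3 : (θ : Q → ℂ) ⁅b, a⁆ / (θ : Q → ℂ) 1 = 1 := by
      have h4 : 1 * (θ : Q → ℂ) a = (θ : Q → ℂ) ⁅b, a⁆ / (θ : Q → ℂ) 1 * (θ : Q → ℂ) a := by
        rw [one_mul]; exact h1
      exact (mul_right_cancel₀ h0 h4).symm
    rw [div_eq_one_iff_eq hθ1] at h3
    exact h3
  -- (j) `|Q| = |Z| θ(1)²`
  set d := charDegree (θ : Q → ℂ) with hd
  have hdpos : 0 < d := Cfsg.Agent.Lib.Helper79.irr_charDegree_pos θ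
  have hθ1d : (θ : Q → ℂ) 1 = (d : ℂ) := Cfsg.Agent.Lib.Helper79.irr_apply_one_eq_charDegree θ
  have hcard : Nat.card Q = Nat.card (irrCenter θ) * d ^ 2 := by
    have h1 := sum_normSq_irr θ
    have h2 : ∑ g : Q, ‖(θ : Q → ℂ) g‖ ^ 2 =
        ∑ g : Q, if g ∈ irrCenter θ then (d : ℝ) ^ 2 else 0 := by
      apply Finset.sum_congr rfl
      intro g _
      by_cases hg : g ∈ irrCenter θ
      · rw [if_pos hg, (mem_irrCenter θ g).mp hg, hθ1d]
        simp
      · rw [if_neg hg, hvan g hg]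
        simp
    rw [h2, ← Finset.sum_filter, Finset.sum_const, nsmul_eq_mul] at h1
    have h3 : (Finset.univ.filter (fun g : Q => g ∈ irrCenter θ)).card = Nat.card (irrCenter θ) := by
      rw [Nat.card_eq_fintype_card, Fintype.card_subtype]
    rw [h3] at h1
    exact_mod_cast h1.symm
  -- (k) counting fixed points outside `Z`
  have hdvd : p ∣ Fintype.card {a : Q // a ∉ irrCenter θ} := by
    by_contra hnd
    have hσ : (complPerm α (irrCenter θ) hZinv) ^ p ^ k = 1 := by
      ext x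
      rw [complPerm_pow_apply, hα]
      simp
    obtain ⟨x, hx⟩ := Equiv.Perm.exists_fixed_point_of_prime hnd hσ
    have hx' : α (x : Q) = x := congrArg Subtype.val hx
    apply x.2
    apply hCZ
    rw [hC, mem_fixMod, hx', mul_inv_cancel]
    exact Subgroup.one_mem _
  rw [Fintype.card_subtype_compl, ← Nat.card_eq_fintype_card, ← Nat.card_eq_fintype_card, hcard] at hdvd
  have hZq : ¬ p ∣ Nat.card (irrCenter θ) := by
    intro h
    obtain ⟨n, hn⟩ := IsPGroup.iff_card.mp hQ
    have h1 : p ∣ q ^ n := by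
      rw [← hn]
      exact dvd_trans h (Subgroup.card_subgroup_dvd_card _)
    have h2 := (Nat.prime_dvd_prime_iff_eq hp.out hq.out).mp (hp.out.dvd_of_dvd_pow h1)
    exact hpq h2
  have hd1 : d ≠ 1 := by
    intro h1
    rw [h1, one_pow, mul_one] at hcard
    exact hZtop ((Subgroup.card_eq_iff_eq_top _).mp hcard.symm)
  have hfact : Nat.card (irrCenter θ) * d ^ 2 - Nat.card (irrCenter θ) =
      Nat.card (irrCenter θ) * ((d - 1) * (d + 1)) := by
    have : d ^ 2 = (d - 1) * (d + 1) + 1 := by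
      obtain ⟨e, he⟩ : ∃ e, d = e + 1 := ⟨d - 1, by omega⟩
      rw [he]
      simp only [Nat.add_sub_cancel]
      ring
    rw [this, mul_add, mul_one, Nat.add_sub_cancel]
  rw [hfact] at hdvd
  rcases (Nat.Prime.dvd_mul hp.out).mp hdvd with h | h
  · exact absurd h hZq
  · rcases (Nat.Prime.dvd_mul hp.out).mp h with h | h
    · have := Nat.le_of_dvd (by omega) h
      omega
    · exact Nat.le_of_dvd (by omega) h

end Analysis

section Main

/-- If all irreducible constituents of a character take the same value at `g` as at `1`, so does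
the character. -/
theorem exists_constituent_ne {M : Type u} [Group M] [Fintype M] {ψ : M → ℂ} (hψ : IsCharacter M ψ)
    (g : M) (hg : ψ g ≠ ψ 1) :
    ∃ φ : IrrCharacter M, classInner ψ (φ : M → ℂ) ≠ 0 ∧ (φ : M → ℂ) g ≠ (φ : M → ℂ) 1 := by
  by_contra hall
  push Not at hall
  apply hg
  have h := IsCharacter.eq_sum_irr hψ
  have h1 := congrFun h g
  have h2 := congrFun h 1
  rw [h1, h2, Finset.sum_apply, Finset.sum_apply]
  apply Finset.sum_congr rfl
  intro φ _
  rw [Pi.smul_apply, Pi.smul_apply]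
  by_cases h0 : classInner ψ (φ : M → ℂ) = 0
  · rw [h0, zero_smul, zero_smul]
  · rw [hall φ h0]

theorem hh_core_aux {p q : ℕ} [hp : Fact p.Prime] [hq : Fact q.Prime] (hpq : p ≠ q) :
    ∀ (n : ℕ) (Q : Type u) [Group Q] [Finite Q], Nat.card Q = n → IsPGroup q Q →
    ∀ (α : MulAut Q) (k : ℕ), α ^ p ^ k = 1 → ∀ θ : IrrCharacter Q,
    (∀ a, (θ : Q → ℂ) (α a) = (θ : Q → ℂ) a) →
    (∃ a, (θ : Q → ℂ) (α a * a⁻¹) ≠ (θ : Q → ℂ) 1) → p ≤ charDegree (θ : Q → ℂ) + 1 := by
  intro n
  induction n using Nat.strong_induction_on with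
  | _ n ih =>
  intro Q _ _ hcard hQ α k hα θ hinv hnt
  classical
  have := Fintype.ofFinite Q
  by_contra hlt
  push Not at hlt
  apply absurd _ (not_le.mpr hlt)
  apply core_analysis hpq hQ α hα θ hinv
  · intro M hMinv hMtop a ha
    rw [mem_fixMod]
    by_contra hak
    rw [mem_irrKer] at hak
    have hψc : IsCharacter M (fun m : M => (θ : Q → ℂ) m) :=
      Cfsg.Agent.Lib.Helper75.isCharacter_res M (IsIrrCharacter.isCharacter θ.2)
    have hβ : (restrictAut α M hMinv) ^ p ^ k = 1 := restrictAut_pow_eq_one α M hMinv hα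
    have hψinv : ∀ m : M, (fun m : M => (θ : Q → ℂ) m) ((restrictAut α M hMinv) m) =
        (fun m : M => (θ : Q → ℂ) m) m := fun m => hinv m
    have hψdeg : charDegree (fun m : M => (θ : Q → ℂ) m) = charDegree (θ : Q → ℂ) := rfl
    have hgM : α a * a⁻¹ ∈ M := M.mul_mem ((hMinv a).mpr ha) (M.inv_mem ha)
    obtain ⟨φ, hφ, hφg⟩ := exists_constituent_ne hψc ⟨α a * a⁻¹, hgM⟩ hak
    have hφinv := constituent_invariant (restrictAut α M hMinv) hβ hψc hψinv (by omega) φ hφ
    have hMcard : Nat.card M < n := by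
      rw [← hcard]
      apply lt_of_le_of_ne (Subgroup.card_le_card_group M)
      intro h
      exact hMtop ((Subgroup.card_eq_iff_eq_top M).mp h)
    have h1 := ih (Nat.card M) hMcard M rfl (hQ.to_subgroup M) (restrictAut α M hMinv) k hβ φ hφinv
      ⟨⟨a, ha⟩, hφg⟩
    have hle := (Cfsg.Agent.Lib.Helper75.constituent_degree hψc φ hφ).1
    omega
  · intro htop
    obtain ⟨a, ha⟩ := hnt
    apply ha
    rw [← mem_irrKer]
    have : a ∈ fixMod α (irrKer θ) := by rw [htop]; trivial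
    exact this

/-- **Hall-Higman type lemma.** Let `Q` be a finite `q`-group, `α` an automorphism of `Q` of
`p`-power order with `p ≠ q`, and `θ` an `α`-invariant irreducible character of `Q` whose kernel
does not contain `[Q, α]`. Then `p ≤ θ(1) + 1`. -/
theorem hh_core {Q : Type u} [Group Q] [Finite Q] {p q : ℕ} [hp : Fact p.Prime] [hq : Fact q.Prime]
    (hpq : p ≠ q) (hQ : IsPGroup q Q) (α : MulAut Q) (k : ℕ) (hα : α ^ p ^ k = 1)
    (θ : IrrCharacter Q) (hinv : ∀ a, (θ : Q → ℂ) (α a) = (θ : Q → ℂ) a)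
    (hnt : ∃ a, (θ : Q → ℂ) (α a * a⁻¹) ≠ (θ : Q → ℂ) 1) : p ≤ charDegree (θ : Q → ℂ) + 1 :=
  hh_core_aux hpq _ Q rfl hQ α k hα θ hinv hnt

end Main


end Cfsg.Agent.Lib.Helper15
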