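import Mathlib
import Cfsg.Prelude.Def_HallClasses
import Cfsg.Agent.Lib.Helper66.HallBasic
import Cfsg.Agent.Lib.Helper66.HallExist
import Cfsg.Agent.Lib.Helper73.HallConjRed
import Cfsg.Agent.Lib.Helper73.HallSeries
import Cfsg.Agent.Lib.Helper39.HallConjFin
import Cfsg.Agent.Lib.Helper1.HallDomStep

/-!
helper15: Chunikhin's theorem (`C_π` is closed under extensions) and Hall's theorems for
`π`-separable groups, modulo the Odd Order Theorem (hypothesis `FT`).  Assembly of the modules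
[HALLBASIC] [TRIV] [EXIST] (helper66), [CONJ-RED] [SERIES] (helper73), [CONJ-FIN] (helper39),
[DOM] (helper1).
-/

set_option autoImplicit false

namespace Cfsg.Agent.Lib.Helper15.HallAssembly

open Cfsg
open Cfsg.Agent.Lib.Helper66.Hall (isPiHall_map_conj isPiHall_top_of_pi isCPiGroup_of_pi
  isCPiGroup_of_pi' isEPiGroup_of_normal)
open Cfsg.Agent.Lib.Helper73.Hall (exists_conj_sup_eq exists_conj_inf_eq series_quotient)
open Cfsg.Agent.Lib.Helper39.HallConjFin (conj_of_sup_eq_of_inf_eq)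
open Cfsg.Agent.Lib.Helper1.HallDomStep (dom_step)

universe u

variable {G : Type u} [Group G]

theorem eq_map_conj_of_map_conj_eq {K L : Subgroup G} {x : G}
    (h : K.map (MulAut.conj x).toMonoidHom = L) : K = L.map (MulAut.conj x⁻¹).toMonoidHom := by
  rw [← h, Subgroup.map_map]
  have : (MulAut.conj x⁻¹).toMonoidHom.comp (MulAut.conj x).toMonoidHom = MonoidHom.id G := by
    ext y
    simp [MulAut.conj_apply]
    group
  rw [this, Subgroup.map_id]

theorem map_conj_map_conj (K : Subgroup G) (x y : G) :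
    (K.map (MulAut.conj x).toMonoidHom).map (MulAut.conj y).toMonoidHom =
      K.map (MulAut.conj (y * x)).toMonoidHom := by
  rw [Subgroup.map_map]
  congr 1
  ext z
  simp [MulAut.conj_apply, mul_assoc]

/-- **Chunikhin** modulo FT. -/
theorem chunikhin [Finite G]
    (FT : ∀ (X : Type u) [Group X] [Finite X], Odd (Nat.card X) → Group.IsSolvable X)
    (π : Set ℕ) (A : Subgroup G) [A.Normal]
    (hA : Cfsg.IsCPiGroup π ↥A) (hQ : Cfsg.IsCPiGroup π (G ⧸ A)) : Cfsg.IsCPiGroup π G := by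
  refine ⟨isEPiGroup_of_normal π A hA hQ.1, ?_⟩
  intro H K hH hK
  obtain ⟨g₁, hg₁⟩ := exists_conj_sup_eq π A hQ hH hK
  have hK₁ : Cfsg.IsPiHall π (K.map (MulAut.conj g₁).toMonoidHom) := isPiHall_map_conj hK g₁
  obtain ⟨a, -, ha1, ha2⟩ := exists_conj_inf_eq π A hA hH hK₁ hg₁
  have hK₂ := isPiHall_map_conj hK₁ a
  obtain ⟨g₃, hg₃⟩ := conj_of_sup_eq_of_inf_eq FT π A hH hK₂ ha2 ha1
  rw [map_conj_map_conj] at hg₃
  have h := eq_map_conj_of_map_conj_eq hg₃
  rw [map_conj_map_conj] at h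
  exact ⟨_, h⟩

/-- Hall's theorems for `π`-separable groups, modulo FT, by induction on the length of the
series. -/
theorem hall_sep
    (FT : ∀ (X : Type u) [Group X] [Finite X], Odd (Nat.card X) → Group.IsSolvable X)
    (π : Set ℕ) : ∀ (n : ℕ) (G : Type u) [Group G] [Finite G] (H : Fin (n + 1) → Subgroup G),
      H 0 = ⊥ → H (Fin.last n) = ⊤ → Monotone H → (∀ i, (H i).Normal) →
      (∀ i : Fin n,
        (∀ q : ℕ, q.Prime → q ∣ (H i.castSucc).relIndex (H i.succ) → q ∈ π) ∨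
          (∀ q : ℕ, q.Prime → q ∣ (H i.castSucc).relIndex (H i.succ) → q ∉ π)) →
      Cfsg.IsCPiGroup π G ∧
        ∀ U : Subgroup G, (∀ q : ℕ, q.Prime → q ∣ Nat.card U → q ∈ π) →
          ∃ K : Subgroup G, Cfsg.IsPiHall π K ∧ U ≤ K := by
  intro n
  induction n with
  | zero =>
    intro G _ _ H h0 hlast _ _ _
    have hbt : (⊥ : Subgroup G) = ⊤ := by
      rw [← h0, ← hlast]
      rfl
    have hcard : Nat.card G = 1 := by
      rw [← Subgroup.card_top (G := G), ← hbt, Subgroup.card_bot]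
    have hpi : ∀ p : ℕ, p.Prime → p ∣ Nat.card G → p ∈ π := by
      intro p hp hd
      rw [hcard, Nat.dvd_one] at hd
      exact absurd hd hp.ne_one
    exact ⟨isCPiGroup_of_pi π hpi, fun U _ => ⟨⊤, isPiHall_top_of_pi hpi, le_top⟩⟩
  | succ n ih =>
    intro G _ _ H h0 hlast hmono hnorm hfac
    have hN : (H 1).Normal := hnorm 1
    obtain ⟨H', h0', hlast', hmono', hnorm', hfac'⟩ :=
      series_quotient π H hlast hmono hnorm hfac (H 1) rfl
    obtain ⟨hCQ, hDQ⟩ := ih (G ⧸ H 1) H' h0' hlast' hmono' hnorm' hfac'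
    -- `H 1` is a π-group or a π'-group
    have hN0 : (∀ p : ℕ, p.Prime → p ∣ Nat.card (H 1) → p ∈ π) ∨
        (∀ p : ℕ, p.Prime → p ∣ Nat.card (H 1) → p ∉ π) := by
      have h := hfac 0
      have e1 : (0 : Fin (n + 1)).castSucc = 0 := rfl
      have e2 : (0 : Fin (n + 1)).succ = 1 := rfl
      rw [e1, e2, h0, Subgroup.relIndex_bot_left] at h
      exact h
    have hCN : Cfsg.IsCPiGroup π ↥(H 1) := by
      rcases hN0 with h | h
      · exact isCPiGroup_of_pi π h
      · exact isCPiGroup_of_pi' π h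
    exact ⟨chunikhin FT π (H 1) hCN hCQ, fun U hU => dom_step FT π (H 1) hN0 hDQ U hU⟩

end Cfsg.Agent.Lib.Helper15.HallAssembly
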