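import Mathlib
import Cfsg.Agent.Lib.Helper48.Hig.Act
import Cfsg.Agent.Lib.Helper24.Maschke
import Cfsg.Agent.Lib.Helper19.NatSL2Main

/-!
# Higman's lemma (S3050), project HIG (helper48): module [EXP8] (helper15)

`exp_two_of`: the statement of `exp_two` with the statements of `eq_V0_of_elem` ([ELEM8]), `key_lemma` ([KEYFIN]),
`fixU_sq` ([FIXEXP]) and `uu_ww_fix` ([V0INV]) as hypotheses.
-/

set_option autoImplicit false

namespace Cfsg.Agent.Lib.Helper15.Hig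

open Matrix Matrix.SpecialLinearGroup
open scoped MatrixGroups
open Cfsg.Agent.Lib.Helper19.NatSL2
open Cfsg.Agent.Lib.Helper48.Hig

section general

/-- restriction of an action to an invariant subgroup (general acting group) -/
def resActG {A M : Type*} [Group A] [Group M] (ψ : A →* MulAut M) (Q : Subgroup M)
    (hQ : ∀ a, ∀ m ∈ Q, ψ a m ∈ Q) : A →* MulAut Q where
  toFun g :=
    { toFun := fun x => ⟨ψ g x, hQ g x x.2⟩
      invFun := fun x => ⟨ψ g⁻¹ x, hQ g⁻¹ x x.2⟩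
      left_inv := fun x => by
        apply Subtype.ext
        simp
      right_inv := fun x => by
        apply Subtype.ext
        simp
      map_mul' := fun x y => by
        apply Subtype.ext
        simp }
  map_one' := by
    ext x
    simp
  map_mul' g h := by
    ext x
    simp

@[simp] theorem resActG_coe {A M : Type*} [Group A] [Group M] (ψ : A →* MulAut M) (Q : Subgroup M)
    (hQ : ∀ a, ∀ m ∈ Q, ψ a m ∈ Q) (a : A) (x : Q) : ((resActG ψ Q hQ a x : Q) : M) = ψ a x := rfl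

/-- the induced action on the quotient by an invariant subgroup -/
def quotActG {A Q : Type*} [Group A] [CommGroup Q] (ψ : A →* MulAut Q) (W : Subgroup Q)
    (hW : ∀ a, ∀ m ∈ W, ψ a m ∈ W) : A →* MulAut (Q ⧸ W) where
  toFun a :=
    { toFun := QuotientGroup.map W W (ψ a).toMonoidHom (fun w hw => hW a w hw)
      invFun := QuotientGroup.map W W (ψ a⁻¹).toMonoidHom (fun w hw => hW a⁻¹ w hw)
      left_inv := fun x => by
        induction x using QuotientGroup.induction_on with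
        | H x => simp
      right_inv := fun x => by
        induction x using QuotientGroup.induction_on with
        | H x => simp
      map_mul' := fun x y => map_mul _ x y }
  map_one' := by
    ext x
    induction x using QuotientGroup.induction_on with
    | H x => simp
  map_mul' a b := by
    ext x
    induction x using QuotientGroup.induction_on with
    | H x => simp

theorem quotActG_mk {A Q : Type*} [Group A] [CommGroup Q] (ψ : A →* MulAut Q) (W : Subgroup Q)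
    (hW : ∀ a, ∀ m ∈ W, ψ a m ∈ W) (a : A) (x : Q) :
    quotActG ψ W hW a (x : Q ⧸ W) = ((ψ a x : Q) : Q ⧸ W) := rfl

/-- Maschke modulo a subgroup: `Q/W` of exponent 2, `A` of odd order, `W ≤ Ω` invariant. -/
theorem exists_invariant_compl_mod {Q : Type*} [CommGroup Q] {A : Type*} [Group A] [Finite A]
    (ψ : A →* MulAut Q) (hcop : (Nat.card A).Coprime 2)
    (W Ω : Subgroup Q) (_hWΩ : W ≤ Ω) (hexp : ∀ q : Q, q * q ∈ W)
    (hW : ∀ a, ∀ w ∈ W, ψ a w ∈ W) (hΩ : ∀ a, ∀ w ∈ Ω, ψ a w ∈ Ω) :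
    ∃ D : Subgroup Q, (∀ a, ∀ d ∈ D, ψ a d ∈ D) ∧ D ⊓ Ω ≤ W ∧ D ⊔ Ω = ⊤ := by
  have hexpV : ∀ x : Q ⧸ W, x ^ 2 = 1 := by
    intro x
    induction x using QuotientGroup.induction_on with
    | H x =>
      rw [← QuotientGroup.mk_pow, QuotientGroup.eq_one_iff, pow_two]
      exact hexp x
  have hUinv : ∀ a, ∀ u ∈ Ω.map (QuotientGroup.mk' W), quotActG ψ W hW a u ∈
      Ω.map (QuotientGroup.mk' W) := by
    rintro a _ ⟨ω, hω, rfl⟩
    exact ⟨ψ a ω, hΩ a ω hω, rfl⟩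
  obtain ⟨U', hU'inv, hinf, hsup⟩ := Cfsg.Agent.Lib.Helper24.exists_invariant_compl 2
    (fun x y : Q ⧸ W => mul_comm x y) hexpV (quotActG ψ W hW) hcop
    (Ω.map (QuotientGroup.mk' W)) hUinv
  refine ⟨U'.comap (QuotientGroup.mk' W), ?_, ?_, ?_⟩
  · intro a d hd
    rw [Subgroup.mem_comap] at hd ⊢
    exact hU'inv a _ hd
  · rintro d ⟨hdD, hdΩ⟩
    have h1 : (QuotientGroup.mk' W d) ∈ Ω.map (QuotientGroup.mk' W) ⊓ U' :=
      ⟨⟨d, hdΩ, rfl⟩, hdD⟩
    rw [hinf, Subgroup.mem_bot] at h1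
    exact (QuotientGroup.eq_one_iff d).mp h1
  · rw [eq_top_iff]
    intro v _
    have hv : (QuotientGroup.mk' W v) ∈ Ω.map (QuotientGroup.mk' W) ⊔ U' := by
      rw [hsup]; exact Subgroup.mem_top _
    obtain ⟨u, ⟨ω, hω, rfl⟩, u', hu', huv⟩ := Subgroup.mem_sup.mp hv
    have h2 : QuotientGroup.mk' W (ω⁻¹ * v) = u' := by
      rw [map_mul, map_inv, ← huv]; group
    have h3 : ω⁻¹ * v ∈ U'.comap (QuotientGroup.mk' W) := by
      rw [Subgroup.mem_comap, h2]; exact hu'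
    have : v = (ω⁻¹ * v) * ω := by
      rw [mul_comm ω⁻¹ v]; group
    rw [this]
    exact Subgroup.mul_mem_sup h3 hω

end general

section abstract

universe uM

variable {F : Type*} [Field F] [CharP F 2] {M : Type uM} [CommGroup M] (φ : SL(2, F) →* MulAut M)

/-- the torus as a homomorphism -/
def hhHom : Fˣ →* SL(2, F) where
  toFun := hh
  map_one' := hh_one
  map_mul' := hh_mul

omit [CharP F 2] in
@[simp] theorem hhHom_apply (t : Fˣ) : (hhHom t : SL(2, F)) = hh t := rfl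

/-- `Fˣ` has odd order in characteristic 2 -/
theorem card_units_coprime_two [Finite F] : (Nat.card Fˣ).Coprime 2 := by
  rw [Nat.coprime_comm, Nat.Prime.coprime_iff_not_dvd Nat.prime_two]
  intro hdvd
  obtain ⟨t, ht⟩ := exists_prime_orderOf_dvd_card' (G := Fˣ) 2 hdvd
  have h1 : t ^ 2 = 1 := by rw [← ht]; exact pow_orderOf_eq_one t
  have h2 : ((t : F) + 1) ^ 2 = 0 := by
    rw [CharTwo.add_sq, one_pow, ← Units.val_pow_eq_pow_val, h1, Units.val_one]
    exact CharTwo.add_self_eq_zero 1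
  have h3 : (t : F) + 1 = 0 := by simpa using h2
  have h4 : t = 1 := by
    apply Units.ext
    rw [Units.val_one]
    calc (t : F) = -1 := eq_neg_of_add_eq_zero_left h3
      _ = 1 := CharTwo.neg_eq 1
  rw [h4, orderOf_one] at ht
  omega

theorem exp_two_of [Finite F] [Finite M] (hM : IsPGroup 2 M) (hf : FPF φ)
    (h_elem : ∀ {M' : Type uM} [CommGroup M'] [Finite M'] (φ' : SL(2, F) →* MulAut M'), FPF φ' →
      (∀ m : M', m * m = 1) → V0 φ' = ⊤)
    (h_key : ∀ D : Subgroup M, (∀ (t : Fˣ), ∀ d ∈ D, φ (hh t) d ∈ D) →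
      (∀ d ∈ D, ∀ s : F, φ (uu s) d / d ∈ fixU φ) → (∀ d ∈ D, d ∈ V0 φ → d ∈ fixU φ) → D ≤ fixU φ)
    (h_sq : ∀ w ∈ fixU φ, w * w = 1)
    (h_uw : ∀ (c : Fˣ), ∀ w ∈ fixU φ,
      φ (uu (c : F)) (φ ww w) = (φ (hh c) w)⁻¹ * (φ ww w)⁻¹)
    (m : M) : m * m = 1 := by
  classical
  -- (b) the subgroup `Ω` of elements of order dividing 2
  let Ω : Subgroup M :=
    { carrier := {m | m * m = 1}
      mul_mem' := by
        intro a b ha hb
        show a * b * (a * b) = 1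
        rw [mul_mul_mul_comm, show a * a = 1 from ha, show b * b = 1 from hb, one_mul]
      one_mem' := by show (1 : M) * 1 = 1; simp
      inv_mem' := by
        intro a ha
        show a⁻¹ * a⁻¹ = 1
        rw [← mul_inv, show a * a = 1 from ha, inv_one] }
  have hΩmem : ∀ x : M, x ∈ Ω ↔ x * x = 1 := fun x => Iff.rfl
  have hΩinv : ∀ g, ∀ x ∈ Ω, φ g x ∈ Ω := by
    intro g x hx
    rw [hΩmem] at hx ⊢
    rw [← map_mul, hx, map_one]
  have hWΩ : fixU φ ≤ Ω := fun w hw => h_sq w hw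
  -- (c) `V0 φ = Ω`
  have hΩV0 : Ω ≤ V0 φ := by
    intro x hx
    have hexpΩ : ∀ y : Ω, y * y = 1 := fun y => Subtype.ext y.2
    have htop := h_elem (resAct φ Ω hΩinv) (hf.resAct Ω hΩinv) hexpΩ
    have hmem : (⟨x, hx⟩ : Ω) ∈ V0 (resAct φ Ω hΩinv) := by rw [htop]; exact Subgroup.mem_top _
    obtain ⟨w, hw, w', hw', hxw⟩ := (mem_V0 _).mp hmem
    rw [mem_fixU_resAct] at hw hw'
    refine (mem_V0 φ).mpr ⟨w, hw, w', hw', ?_⟩
    have := congrArg Subtype.val hxw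
    simpa using this
  have hV0Ω : V0 φ ≤ Ω := by
    intro x hx
    obtain ⟨w, hw, w', hw', rfl⟩ := (mem_V0 φ).mp hx
    exact Ω.mul_mem (hWΩ hw) (hΩinv ww w' (hWΩ hw'))
  -- (d) the subgroup `Q0`
  let Q0 : Subgroup M :=
    { carrier := {v | v * v ∈ fixU φ}
      mul_mem' := by
        intro a b ha hb
        show a * b * (a * b) ∈ fixU φ
        rw [mul_mul_mul_comm]
        exact (fixU φ).mul_mem ha hb
      one_mem' := by show (1 : M) * 1 ∈ fixU φ; simp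
      inv_mem' := by
        intro a ha
        show a⁻¹ * a⁻¹ ∈ fixU φ
        rw [← mul_inv]
        exact (fixU φ).inv_mem ha }
  have hQ0mem : ∀ x : M, x ∈ Q0 ↔ x * x ∈ fixU φ := fun x => Iff.rfl
  have hΩQ0 : Ω ≤ Q0 := by
    intro x hx
    rw [hQ0mem, (hΩmem x).mp hx]
    exact (fixU φ).one_mem
  have hQ0H : ∀ (t : Fˣ), ∀ v ∈ Q0, φ (hh t) v ∈ Q0 := by
    intro t v hv
    rw [hQ0mem] at hv ⊢
    rw [← map_mul]
    exact fixU_hh φ hv t
  -- (e) commutators of `Q0` with `U` are in `W`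
  have hβ : ∀ v ∈ Q0, ∀ s : F, φ (uu s) v / v ∈ fixU φ := by
    intro v hv s
    rw [hQ0mem] at hv
    by_cases hs : s = 0
    · rw [hs, uu_zero, map_one, MulAut.one_apply, div_self']
      exact (fixU φ).one_mem
    have hββ : (φ (uu s) v / v) * (φ (uu s) v / v) = 1 := by
      rw [div_mul_div_comm, ← map_mul, hv s, div_self']
    have hfixβ : φ (uu s) (φ (uu s) v / v) = φ (uu s) v / v := by
      rw [map_div, ← phi_mul, uu_mul_self, map_one, MulAut.one_apply]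
      exact (inv_div _ _).symm.trans (inv_eq_of_mul_eq_one_left hββ)
    obtain ⟨w₁, hw₁, w₂, hw₂, hβeq⟩ := (mem_V0 φ).mp (hΩV0 ((hΩmem _).mpr hββ))
    have hc : ((Units.mk0 s hs : Fˣ) : F) = s := rfl
    have huw := h_uw (Units.mk0 s hs) w₂ hw₂
    rw [hc] at huw
    rw [hβeq, map_mul, hw₁ s, huw] at hfixβ
    have h1 : (φ (hh (Units.mk0 s hs)) w₂)⁻¹ * (φ ww w₂)⁻¹ = φ ww w₂ := mul_left_cancel hfixβ
    have h2 : (φ (hh (Units.mk0 s hs)) w₂)⁻¹ = 1 := by
      have : (φ (hh (Units.mk0 s hs)) w₂)⁻¹ = φ ww w₂ * φ ww w₂ := mul_inv_eq_iff_eq_mul.mp h1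
      rw [this, ← map_mul, h_sq w₂ hw₂, map_one]
    have h3 : w₂ = 1 := by
      rw [inv_eq_one] at h2
      exact (map_eq_one_iff (φ (hh (Units.mk0 s hs))) (MulEquiv.injective _)).mp h2
    rw [hβeq, h3, map_one, mul_one]
    exact hw₁
  -- (f) Maschke
  have hQ0H' : ∀ (t : Fˣ), ∀ v ∈ Q0, (φ.comp hhHom) t v ∈ Q0 := fun t v hv => hQ0H t v hv
  obtain ⟨D', hD'inv, hD'inf, hD'sup⟩ := exists_invariant_compl_mod
    (resActG (φ.comp hhHom) Q0 hQ0H') card_units_coprime_two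
    ((fixU φ).subgroupOf Q0) (Ω.subgroupOf Q0)
    (fun x hx => hWΩ (Subgroup.mem_subgroupOf.mp hx))
    (fun q => Subgroup.mem_subgroupOf.mpr q.2)
    (fun a w hw => Subgroup.mem_subgroupOf.mpr (fixU_hh φ (Subgroup.mem_subgroupOf.mp hw) a))
    (fun a w hw => Subgroup.mem_subgroupOf.mpr (hΩinv (hh a) _ (Subgroup.mem_subgroupOf.mp hw)))
  -- (g) `Q0 ≤ Ω`
  have hDH : ∀ (t : Fˣ), ∀ d ∈ D'.map Q0.subtype, φ (hh t) d ∈ D'.map Q0.subtype := by
    rintro t _ ⟨d', hd', rfl⟩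
    exact ⟨_, hD'inv t d' hd', rfl⟩
  have hDQ0 : D'.map Q0.subtype ≤ Q0 := by
    rintro _ ⟨d', -, rfl⟩
    exact d'.2
  have hDΩW : ∀ d ∈ D'.map Q0.subtype, d ∈ Ω → d ∈ fixU φ := by
    rintro _ ⟨d', hd', rfl⟩ hdΩ
    exact Subgroup.mem_subgroupOf.mp (hD'inf ⟨hd', Subgroup.mem_subgroupOf.mpr hdΩ⟩)
  have hDW : D'.map Q0.subtype ≤ fixU φ :=
    h_key _ hDH (fun d hd s => hβ d (hDQ0 hd) s) (fun d hd hdV => hDΩW d hd (hV0Ω hdV))
  have hQ0Ω : Q0 ≤ Ω := by
    intro v hv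
    have hmem : (⟨v, hv⟩ : Q0) ∈ D' ⊔ Ω.subgroupOf Q0 := by rw [hD'sup]; exact Subgroup.mem_top _
    obtain ⟨d', hd', ω', hω', hv'⟩ := Subgroup.mem_sup.mp hmem
    have hveq : v = (d' : M) * (ω' : M) := by
      have := congrArg Subtype.val hv'
      simpa using this.symm
    rw [hveq]
    exact Ω.mul_mem (hWΩ (hDW ⟨d', hd', rfl⟩)) (Subgroup.mem_subgroupOf.mp hω')
  -- (h) the squares
  by_contra hm
  have hM2inv : ∀ g, ∀ x ∈ (powMonoidHom 2 : M →* M).range, φ g x ∈ (powMonoidHom 2 : M →* M).range := by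
    rintro g _ ⟨u, rfl⟩
    exact ⟨φ g u, by simp [powMonoidHom_apply, map_pow]⟩
  have hM2 : IsPGroup 2 ↥(powMonoidHom 2 : M →* M).range := hM.to_subgroup _
  have hnt : Nontrivial ↥(powMonoidHom 2 : M →* M).range := by
    refine ⟨⟨⟨m ^ 2, m, rfl⟩, 1, ?_⟩⟩
    intro h
    apply hm
    have := congrArg Subtype.val h
    simpa [pow_two] using this
  obtain ⟨v, hvfix, hv1⟩ := exists_fixU_ne_one (resAct φ _ hM2inv) 2 hM2 hnt
  rw [mem_fixU_resAct] at hvfix
  obtain ⟨u, hu⟩ := v.2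
  rw [powMonoidHom_apply, pow_two] at hu
  have huQ0 : u ∈ Q0 := by rw [hQ0mem, hu]; exact hvfix
  have := (hΩmem u).mp (hQ0Ω huQ0)
  apply hv1
  apply Subtype.ext
  rw [← hu, this]
  rfl

omit [CharP F 2] in
/-- the hypothesis `hF` of `fixU_sq` from the hypothesis `hr` (characteristic 2) -/
theorem exists_ab_of_r [CharP F 2] (hr : ∃ r : F, r ≠ 0 ∧ r ≠ 1 ∧ r * r + r + 1 ≠ 0) :
    ∃ a b : F, a ≠ 0 ∧ b ≠ 0 ∧ a + b ≠ 0 := by
  obtain ⟨r, hr0, hr1, -⟩ := hr
  refine ⟨r, 1, hr0, one_ne_zero, fun h => hr1 ?_⟩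
  calc r = -1 := eq_neg_of_add_eq_zero_left h
    _ = 1 := CharTwo.neg_eq 1

end abstract

end Cfsg.Agent.Lib.Helper15.Hig
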