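import Mathlib
import Cfsg.Agent.Lib.Helper48.Hig.Act

/-!
# Higman's lemma (S3050), project HIG (helper48): module [FPFSEC] (helper15)

`fpf_secAct_of` takes the statement of HIG-[CONJ3] (`conj_of_order_three`) as a hypothesis.
-/

set_option autoImplicit false

namespace Cfsg.Agent.Lib.Helper15.Hig

open Matrix Matrix.SpecialLinearGroup
open scoped MatrixGroups
open Cfsg.Agent.Lib.Helper19.NatSL2
open Cfsg.Agent.Lib.Helper48.Hig

section concrete

open scoped IsMulCommutative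

variable {G : Type*} [Group G] [Finite G] {K : Type*} [Field K] [Finite K] [CharP K 2]

theorem fpf_secAct_of
    (hconj : ∀ s t : SL(2, K), orderOf s = 3 → orderOf t = 3 → ∃ a : SL(2, K), t = a * s * a⁻¹)
    (Q : Subgroup G) [Q.Normal] (hQ : IsPGroup 2 Q) (e : G ⧸ Q ≃* SL(2, K))
    (x : G) (hx : orderOf x = 3) (hfpf : ∀ q ∈ Q, x * q * x⁻¹ = q → q = 1)
    (Y : Subgroup G) [Y.Normal] [IsMulCommutative ↥Y] (hYQ : Y ≤ Q)
    (hQY : Q ≤ Subgroup.centralizer (Y : Set G)) : FPF (secAct Q Y hQY e) := by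
  intro s hs y hy
  have hxQ : x ∉ Q := by
    intro hxQ
    have h1 : x = 1 := hfpf x hxQ (by group)
    rw [h1, orderOf_one] at hx
    omega
  have hx3 : x ^ 3 = 1 := by rw [← hx]; exact pow_orderOf_eq_one x
  have hxbar : orderOf (e (x : G ⧸ Q)) = 3 := by
    have : Fact (Nat.Prime 3) := ⟨by norm_num⟩
    apply orderOf_eq_prime
    · rw [← map_pow, ← QuotientGroup.mk_pow, hx3, QuotientGroup.mk_one, map_one]
    · intro h
      apply hxQ
      have : (x : G ⧸ Q) = 1 := e.injective (h.trans (map_one e).symm)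
      exact (QuotientGroup.eq_one_iff x).mp this
  obtain ⟨a, ha⟩ := hconj _ s hxbar hs
  obtain ⟨gq, rfl⟩ := e.surjective a
  obtain ⟨g, rfl⟩ := QuotientGroup.mk_surjective gq
  have hs' : s = e ((g * x * g⁻¹ : G) : G ⧸ Q) := by
    rw [ha, QuotientGroup.mk_mul, QuotientGroup.mk_mul, QuotientGroup.mk_inv, map_mul, map_mul,
      map_inv]
  rw [hs'] at hy
  have h1 : (g * x * g⁻¹) * (y : G) * (g * x * g⁻¹)⁻¹ = y := by
    rw [← secAct_apply Q Y hQY e (g * x * g⁻¹) y, hy]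
  have hmem : g⁻¹ * (y : G) * g ∈ Y := by
    have := ‹Y.Normal›.conj_mem (y : G) y.2 g⁻¹
    simpa using this
  have h2 : x * (g⁻¹ * (y : G) * g) * x⁻¹ = g⁻¹ * (y : G) * g := by
    calc x * (g⁻¹ * (y : G) * g) * x⁻¹
        = g⁻¹ * ((g * x * g⁻¹) * (y : G) * (g * x * g⁻¹)⁻¹) * g := by group
      _ = g⁻¹ * (y : G) * g := by rw [h1]
  have h3 := hfpf _ (hYQ hmem) h2
  apply Subtype.ext
  have : (y : G) = g * (g⁻¹ * (y : G) * g) * g⁻¹ := by group
  rw [this, h3]
  simp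

end concrete

end Cfsg.Agent.Lib.Helper15.Hig
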