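import Mathlib
import Cfsg.Agent.Lib.Helper80.ItoMichler
import Cfsg.Agent.Lib.Helper41.IndInner
import Cfsg.Agent.Lib.Helper15.PermChar
import Cfsg.Agent.Lib.Helper25.Constituent
import Cfsg.Agent.S0148

/-!
# Groups all of whose irreducible character degrees are less than `p` (helper15)

Such a group has a normal abelian Sylow `p`-subgroup (Isaacs, Theorem 12.33 / Ito--Michler for
small degrees).  The reduction to the simple case is `Helper80.ito_michler_aux`; the simple case
is handled by a trivial-intersection argument on the permutation character of `N_G(P)`.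
-/

set_option autoImplicit false
set_option linter.unusedSectionVars false
set_option linter.unusedVariables false
set_option linter.style.haveILetI false

namespace Cfsg.Agent.Lib.Helper15.ItoDeg

open Cfsg
open scoped ComplexConjugate

universe u

section GroupPart

variable {H : Type u} [Group H] [Finite H]

/-- A normal subgroup which is a `p`-group of index prime to `p` contains every `p`-subgroup. -/
theorem le_of_normal_hall (p : ℕ) [hp : Fact p.Prime] {L : Type u} [Group L] [Finite L]
    (S : Subgroup L) [hS : S.Normal] (hSp : IsPGroup p S) (hidx : ¬ p ∣ S.index)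
    (Q : Subgroup L) (hQ : IsPGroup p Q) : Q ≤ S := by
  have h1 : IsPGroup p (Q ⊔ S : Subgroup L) := hQ.to_sup_of_normal_right hSp
  have h2 := (hSp.toSylow hidx).is_maximal' h1 (by
    show S ≤ Q ⊔ S
    exact le_sup_right)
  have h3 : Q ⊔ S = S := h2
  exact sup_eq_right.mp h3

/-- In a nonabelian simple group whose proper subgroups have normal Sylow `p`-subgroups, an abelian
Sylow `p`-subgroup `P` meets its conjugates `g P g⁻¹`, `g ∉ N(P)`, trivially. -/
theorem sylow_TI (p : ℕ) [hp : Fact p.Prime] [IsSimpleGroup H]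
    (hnc : ∃ a b : H, a * b ≠ b * a) (P : Sylow p H)
    (hPab : ∀ x ∈ (P : Subgroup H), ∀ y ∈ (P : Subgroup H), x * y = y * x)
    (hsub : ∀ L : Subgroup H, L ≠ ⊤ →
      ∃ S : Subgroup L, S.Normal ∧ IsPGroup p S ∧ ¬ p ∣ S.index)
    (g : H) (hg : g ∉ Subgroup.normalizer ((P : Subgroup H) : Set H))
    (y : H) (hy : y ∈ (P : Subgroup H)) (hy' : g⁻¹ * y * g ∈ (P : Subgroup H)) : y = 1 := by
  classical
  obtain ⟨P', hP'⟩ : ∃ P' : Sylow p H, P' = g • P := ⟨_, rfl⟩
  have hne : P' ≠ P := by
    rw [hP']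
    intro h
    exact hg (Sylow.smul_eq_iff_mem_normalizer.mp h)
  have hmem' : ∀ x : H, x ∈ (P' : Subgroup H) ↔ g⁻¹ * x * g ∈ (P : Subgroup H) := by
    intro x
    rw [hP', Sylow.coe_subgroup_smul, Subgroup.mem_pointwise_smul_iff_inv_smul_mem]
    simp [MulAut.smul_def]
  have hP'ab : ∀ x ∈ (P' : Subgroup H), ∀ z ∈ (P' : Subgroup H), x * z = z * x := by
    intro x hx z hz
    have h1 := hPab _ ((hmem' x).mp hx) _ ((hmem' z).mp hz)
    have h2 : g⁻¹ * (x * z) * g = g⁻¹ * (z * x) * g := by
      calc g⁻¹ * (x * z) * g = (g⁻¹ * x * g) * (g⁻¹ * z * g) := by group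
        _ = (g⁻¹ * z * g) * (g⁻¹ * x * g) := h1
        _ = g⁻¹ * (z * x) * g := by group
    calc x * z = g * (g⁻¹ * (x * z) * g) * g⁻¹ := by group
      _ = g * (g⁻¹ * (z * x) * g) * g⁻¹ := by rw [h2]
      _ = z * x := by group
  have hyP' : y ∈ (P' : Subgroup H) := (hmem' y).mpr hy'
  obtain ⟨L, hLdef⟩ : ∃ L : Subgroup H, L = (P : Subgroup H) ⊔ (P' : Subgroup H) := ⟨_, rfl⟩
  by_cases hL : L = ⊤
  · -- `y` is central
    rw [hLdef] at hL
    have hcent : (P : Subgroup H) ⊔ (P' : Subgroup H) ≤ Subgroup.centralizer {y} := by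
      apply sup_le
      · intro x hx
        rw [Subgroup.mem_centralizer_iff]
        intro z hz
        rw [Set.mem_singleton_iff] at hz
        rw [hz]
        exact hPab y hy x hx
      · intro x hx
        rw [Subgroup.mem_centralizer_iff]
        intro z hz
        rw [Set.mem_singleton_iff] at hz
        rw [hz]
        exact hP'ab y hyP' x hx
    rw [hL] at hcent
    have hyc : y ∈ Subgroup.center H := by
      rw [Subgroup.mem_center_iff]
      intro x
      have := hcent (Subgroup.mem_top x)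
      rw [Subgroup.mem_centralizer_iff] at this
      exact (this y rfl).symm
    rcases (Subgroup.center H).normal_of_characteristic.eq_bot_or_eq_top with h | h
    · rw [h, Subgroup.mem_bot] at hyc
      exact hyc
    · exfalso
      obtain ⟨a, b, hab⟩ := hnc
      apply hab
      have ha : a ∈ Subgroup.center H := by rw [h]; trivial
      rw [Subgroup.mem_center_iff] at ha
      exact (ha b).symm
  · exfalso
    obtain ⟨S, hSn, hSp, hSidx⟩ := hsub L hL
    have hPL : (P : Subgroup H) ≤ L := by rw [hLdef]; exact le_sup_left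
    have hP'L : (P' : Subgroup H) ≤ L := by rw [hLdef]; exact le_sup_right
    have hmapS : IsPGroup p (S.map L.subtype) := hSp.map _
    have h1 : (P : Subgroup H).subgroupOf L ≤ S :=
      le_of_normal_hall p S hSp hSidx _ (P.isPGroup'.comap_of_injective L.subtype
        (Subgroup.subtype_injective L))
    have h2 : (P' : Subgroup H).subgroupOf L ≤ S :=
      le_of_normal_hall p S hSp hSidx _ (P'.isPGroup'.comap_of_injective L.subtype
        (Subgroup.subtype_injective L))
    have h3 : (P : Subgroup H) ≤ S.map L.subtype := by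
      rw [← Subgroup.map_subgroupOf_eq_of_le hPL]
      exact Subgroup.map_mono h1
    have h4 : (P' : Subgroup H) ≤ S.map L.subtype := by
      rw [← Subgroup.map_subgroupOf_eq_of_le hP'L]
      exact Subgroup.map_mono h2
    have h5 := P.is_maximal' hmapS h3
    have h6 := P'.is_maximal' hmapS h4
    apply hne
    apply Sylow.ext
    rw [← h5, ← h6]

/-- For `z ∉ N = N(P)`: the elements `h ∈ N` with `z⁻¹ h z ∈ N` number at most `|N| / |P|`. -/
theorem card_mul_card_le (p : ℕ) [hp : Fact p.Prime] (P : Sylow p H)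
    (hTI : ∀ g : H, g ∉ Subgroup.normalizer ((P : Subgroup H) : Set H) →
      ∀ y : H, y ∈ (P : Subgroup H) → g⁻¹ * y * g ∈ (P : Subgroup H) → y = 1)
    (z : H) (hz : z ∉ Subgroup.normalizer ((P : Subgroup H) : Set H)) :
    Nat.card {h : H // h ∈ Subgroup.normalizer ((P : Subgroup H) : Set H) ∧
      z⁻¹ * h * z ∈ Subgroup.normalizer ((P : Subgroup H) : Set H)} * Nat.card (P : Subgroup H)
      ≤ Nat.card (Subgroup.normalizer ((P : Subgroup H) : Set H)) := by
  classical
  obtain ⟨N, hN⟩ : ∃ N : Subgroup H, N = Subgroup.normalizer ((P : Subgroup H) : Set H) := ⟨_, rfl⟩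
  rw [← hN] at hz ⊢
  have hPN : (P : Subgroup H) ≤ N := by rw [hN]; exact Subgroup.le_normalizer
  rw [← Nat.card_prod]
  let f : {h : H // h ∈ N ∧ z⁻¹ * h * z ∈ N} × (P : Subgroup H) → N :=
    fun x => ⟨x.1.1 * x.2.1, N.mul_mem x.1.2.1 (hPN x.2.2)⟩
  apply Nat.card_le_card_of_injective f
  rintro ⟨⟨h, hh1, hh2⟩, ⟨y, hy⟩⟩ ⟨⟨h', hh1', hh2'⟩, ⟨y', hy'⟩⟩ hf
  have hf' : h * y = h' * y' := congrArg Subtype.val hf
  -- `w = h'⁻¹ h = y' y⁻¹`
  have hw : h'⁻¹ * h = y' * y⁻¹ := by
    have : h'⁻¹ * (h * y) * y⁻¹ = h'⁻¹ * (h' * y') * y⁻¹ := by rw [hf']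
    calc h'⁻¹ * h = h'⁻¹ * (h * y) * y⁻¹ := by group
      _ = h'⁻¹ * (h' * y') * y⁻¹ := this
      _ = y' * y⁻¹ := by group
  have hwP : y' * y⁻¹ ∈ (P : Subgroup H) := (P : Subgroup H).mul_mem hy' ((P : Subgroup H).inv_mem hy)
  have hwN : z⁻¹ * (y' * y⁻¹) * z ∈ N := by
    rw [← hw]
    have : z⁻¹ * (h'⁻¹ * h) * z = (z⁻¹ * h' * z)⁻¹ * (z⁻¹ * h * z) := by group
    rw [this]
    exact N.mul_mem (N.inv_mem hh2') hh2
  -- a `p`-element of the normalizer lies in `P`
  have hwP' : z⁻¹ * (y' * y⁻¹) * z ∈ (P : Subgroup H) := by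
    have hpz : IsPGroup p (Subgroup.zpowers (z⁻¹ * (y' * y⁻¹) * z)) := by
      have h1 : IsPGroup p (Subgroup.zpowers (y' * y⁻¹)) :=
        P.isPGroup'.to_le (by
          rw [Subgroup.zpowers_le]
          exact hwP)
      have h2 : Subgroup.zpowers (z⁻¹ * (y' * y⁻¹) * z)
          = (Subgroup.zpowers (y' * y⁻¹)).map (MulAut.conj z⁻¹).toMonoidHom := by
        rw [MonoidHom.map_zpowers]
        simp
      rw [h2]
      exact h1.map _
    have h3 := hpz.inf_normalizer_sylow P
    have h4 : z⁻¹ * (y' * y⁻¹) * z ∈ Subgroup.zpowers (z⁻¹ * (y' * y⁻¹) * z) ⊓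
        Subgroup.normalizer ((P : Subgroup H) : Set H) := by
      refine ⟨Subgroup.mem_zpowers _, ?_⟩
      rw [← hN]
      exact hwN
    exact (h3.le h4).2
  have h1 := hTI z (by rw [← hN]; exact hz) _ hwP hwP'
  have hyy : y' = y := by
    calc y' = (y' * y⁻¹) * y := by group
      _ = y := by rw [h1, one_mul]
  have hhh : h = h' := by
    have : h'⁻¹ * h = 1 := by rw [hw, h1]
    calc h = h' * (h'⁻¹ * h) := by group
      _ = h' := by rw [this, mul_one]
  subst hyy
  subst hhh
  rfl

end GroupPart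

/-- The counting contradiction: a proper subgroup `N` such that `N ∩ N^z` has order at most
`|N| / c` for all `z ∉ N`, in a group whose irreducible character degrees are all less than
`p ≤ c`, cannot exist. -/
theorem false_of_small_intersections {H : Type u} [Group H] [Fintype H] (p c : ℕ) (hpc : p ≤ c)
    (hdeg : ∀ χ : IrrCharacter H, charDegree (χ : H → ℂ) < p)
    (N : Subgroup H) (hN : N ≠ ⊤)
    (hcnt : ∀ z : H, z ∉ N →
      Nat.card {h : H // h ∈ N ∧ z⁻¹ * h * z ∈ N} * c ≤ Nat.card N) : False := by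
  classical
  have : Fintype N := Fintype.ofFinite N
  obtain ⟨π, hπdef⟩ : ∃ π : H → ℂ, π = indFun N (fun _ => (1 : ℂ)) := ⟨_, rfl⟩
  have h1N : IsIrrCharacter N (fun _ : N => (1 : ℂ)) := Helper78.isIrrCharacter_one
  have hπ : IsCharacter H π := by
    rw [hπdef]
    exact Cfsg.Agent.S0148.result N _ (Helper78.IsIrrCharacter.isCharacter h1N)
  have hcl : IsClassFunction H π := Helper78.IsCharacter.isClassFunction hπ
  choose m hm using fun ψ : IrrCharacter H => Helper78.IsCharacter.exists_nat_classInner hπ ψ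
  let triv : IrrCharacter H := ⟨fun _ => (1 : ℂ), Helper78.isIrrCharacter_one⟩
  -- the trivial character has multiplicity one
  have E3 : m triv = 1 := by
    have h1 := hm triv
    rw [hπdef, Helper75.frobenius_reciprocity N _
      (Helper78.IsCharacter.isClassFunction (Helper78.IsIrrCharacter.isCharacter triv.2))] at h1
    have h2 : classInner (fun _ : N => (1 : ℂ)) (fun h : N => (triv : H → ℂ) h) = 1 :=
      Helper78.classInner_irr_self h1N
    rw [h2] at h1
    exact_mod_cast h1.symm
  have hd3 : charDegree (triv : H → ℂ) = 1 := by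
    simp [triv, charDegree]
  -- degree
  have E1 : N.index = ∑ ψ : IrrCharacter H, m ψ * charDegree (ψ : H → ℂ) := by
    have h1 := congrFun (Helper78.IsCharacter.eq_sum_irr hπ) 1
    rw [Finset.sum_apply] at h1
    have h2 : π 1 = (N.index : ℂ) := by
      rw [hπdef, Helper75.indFun_one, mul_one]
    rw [h2] at h1
    have h3 : ∀ ψ : IrrCharacter H, (classInner π (ψ : H → ℂ) • (ψ : H → ℂ)) 1
        = ((m ψ * charDegree (ψ : H → ℂ) : ℕ) : ℂ) := by
      intro ψ
      rw [Pi.smul_apply, smul_eq_mul, hm ψ, Helper79.irr_apply_one_eq_charDegree ψ]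
      push_cast
      rfl
    simp only [h3] at h1
    exact_mod_cast h1
  -- norm
  have E2 : Nat.card N * Nat.card N * ∑ ψ : IrrCharacter H, m ψ * m ψ
      = ∑ z : H, Nat.card {h : H // h ∈ N ∧ z⁻¹ * h * z ∈ N} := by
    have h1 := Helper78.classInner_eq_sum_mul_conj π hcl
    have h2 : ∀ ψ : IrrCharacter H, classInner π (ψ : H → ℂ) * conj (classInner π (ψ : H → ℂ))
        = ((m ψ * m ψ : ℕ) : ℂ) := by
      intro ψ
      rw [hm ψ, Complex.conj_natCast]
      push_cast
      rfl
    simp only [h2] at h1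
    rw [hπdef, Helper41.classInner_indFun_indFun] at h1
    have h3 : ∀ z : H, ∑ h : H, extendByZero N (fun _ => (1 : ℂ)) h *
        conj (extendByZero N (fun _ => (1 : ℂ)) (z⁻¹ * h * z))
        = ((Nat.card {h : H // h ∈ N ∧ z⁻¹ * h * z ∈ N} : ℕ) : ℂ) := by
      intro z
      simp only [Helper15.extendByZero_one_apply]
      have : ∀ h : H, (if h ∈ N then (1 : ℂ) else 0) * conj (if z⁻¹ * h * z ∈ N then (1 : ℂ) else 0)
          = if (h ∈ N ∧ z⁻¹ * h * z ∈ N) then 1 else 0 := by
        intro h
        by_cases h1 : h ∈ N <;> by_cases h2 : z⁻¹ * h * z ∈ N <;> simp [h1, h2]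
      simp only [this]
      rw [Finset.sum_boole, Nat.card_eq_fintype_card, Fintype.card_subtype]
    simp only [h3] at h1
    have hN0 : (Nat.card N : ℂ) ≠ 0 := by
      have : Nat.card N ≠ 0 := Nat.card_pos.ne'
      exact_mod_cast this
    have h4 : (Nat.card N : ℂ) * (Nat.card N : ℂ) * ∑ ψ : IrrCharacter H, ((m ψ * m ψ : ℕ) : ℂ)
        = ∑ z : H, ((Nat.card {h : H // h ∈ N ∧ z⁻¹ * h * z ∈ N} : ℕ) : ℂ) := by
      rw [← h1]
      field_simp
    exact_mod_cast h4
  -- arithmetic
  obtain ⟨A, hA⟩ : ∃ A : ℕ, A = Nat.card N := ⟨_, rfl⟩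
  have hApos : 0 < A := by rw [hA]; exact Nat.card_pos
  obtain ⟨cnt, hcntdef⟩ : ∃ cnt : H → ℕ,
      cnt = fun z => Nat.card {h : H // h ∈ N ∧ z⁻¹ * h * z ∈ N} := ⟨_, rfl⟩
  have hcnt' : ∀ z : H, z ∉ N → cnt z * c ≤ A := by
    intro z hz
    rw [hcntdef, hA]
    exact hcnt z hz
  have hcntA : ∀ z : H, cnt z ≤ A := by
    intro z
    rw [hcntdef, hA]
    exact Nat.card_le_card_of_injective (fun x => (⟨x.1, x.2.1⟩ : N))
      (fun x y hxy => Subtype.ext (by
        have := congrArg (fun w : N => (w : H)) hxy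
        exact this))
  rw [← hA] at E2
  have E2' : A * A * ∑ ψ : IrrCharacter H, m ψ * m ψ = ∑ z : H, cnt z := by
    rw [E2, hcntdef]
  obtain ⟨k, hk⟩ : ∃ k : ℕ, k = (Finset.univ.filter (fun z : H => ¬ z ∈ N)).card := ⟨_, rfl⟩
  have hkA : A + k = A * N.index := by
    rw [hA, Subgroup.card_mul_index, hk, Nat.card_eq_fintype_card, Nat.card_eq_fintype_card,
      Fintype.card_subtype, ← Finset.card_univ (α := H)]
    exact Finset.card_filter_add_card_filter_not (s := (Finset.univ : Finset H)) (fun z => z ∈ N)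
  have hbound : (∑ z : H, cnt z) * c ≤ A * (A * c) + k * A := by
    rw [Finset.sum_mul]
    have h1 : ∀ z ∈ (Finset.univ : Finset H), cnt z * c ≤ if z ∈ N then A * c else A := by
      intro z _
      by_cases hz : z ∈ N
      · rw [if_pos hz]
        exact Nat.mul_le_mul_right c (hcntA z)
      · rw [if_neg hz]
        exact hcnt' z hz
    refine (Finset.sum_le_sum h1).trans ?_
    rw [Finset.sum_ite, Finset.sum_const, Finset.sum_const, smul_eq_mul, smul_eq_mul, ← hk]
    have : (Finset.univ.filter (fun z : H => z ∈ N)).card = A := by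
      rw [hA, Nat.card_eq_fintype_card, Fintype.card_subtype]
    rw [this]
  -- split off the trivial character
  obtain ⟨S', hS'⟩ : ∃ S' : ℕ, S' = ∑ ψ ∈ Finset.univ.erase triv, m ψ * m ψ := ⟨_, rfl⟩
  obtain ⟨T', hT'⟩ : ∃ T' : ℕ,
      T' = ∑ ψ ∈ Finset.univ.erase triv, m ψ * charDegree (ψ : H → ℂ) := ⟨_, rfl⟩
  have hS : ∑ ψ : IrrCharacter H, m ψ * m ψ = 1 + S' := by
    rw [← Finset.add_sum_erase _ _ (Finset.mem_univ triv), E3, hS']
  have hT : N.index = 1 + T' := by
    rw [E1, ← Finset.add_sum_erase _ _ (Finset.mem_univ triv), E3, hd3, hT']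
  have hp2 : 2 ≤ p := by
    have := hdeg triv
    rw [hd3] at this
    omega
  obtain ⟨q, hq⟩ : ∃ q : ℕ, p = q + 1 := ⟨p - 1, by omega⟩
  have hTS : T' ≤ q * S' := by
    rw [hT', hS', Finset.mul_sum]
    apply Finset.sum_le_sum
    intro ψ _
    have h1 : charDegree (ψ : H → ℂ) ≤ q := by
      have := hdeg ψ
      omega
    calc m ψ * charDegree (ψ : H → ℂ) ≤ m ψ * q := Nat.mul_le_mul_left _ h1
      _ = q * m ψ := Nat.mul_comm _ _
      _ ≤ q * (m ψ * m ψ) := Nat.mul_le_mul_left _ (Nat.le_mul_self _)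
  have hkT : k = A * T' := by
    rw [hT] at hkA
    have : A + k = A + A * T' := by rw [hkA]; ring
    omega
  have hSc : S' * c ≤ T' := by
    rw [← E2', hS, hkT] at hbound
    have h1 : A * A * (S' * c) ≤ A * A * T' := by nlinarith [hbound]
    exact Nat.le_of_mul_le_mul_left h1 (Nat.mul_pos hApos hApos)
  have hS0 : S' = 0 := by
    by_contra h0
    have h1 : S' * (q + 1) ≤ q * S' := by
      calc S' * (q + 1) ≤ S' * c := Nat.mul_le_mul_left _ (by omega)
        _ ≤ T' := hSc
        _ ≤ q * S' := hTS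
    have : 0 < S' := Nat.pos_of_ne_zero h0
    nlinarith
  have hT0 : T' = 0 := by
    rw [hS0] at hTS
    omega
  apply hN
  rw [← Subgroup.index_eq_one, hT, hT0]

section Closure

variable {H : Type u} [Group H] [Finite H]

/-- Degrees of irreducible characters of subgroups are bounded by those of the group. -/
theorem degree_lt_subgroup (p : ℕ) (hdeg : ∀ χ : IrrCharacter H, charDegree (χ : H → ℂ) < p)
    (K : Subgroup H) (θ : IrrCharacter K) : charDegree (θ : K → ℂ) < p := by
  classical
  let _ : Fintype H := Fintype.ofFinite H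
  let _ : Fintype K := Fintype.ofFinite K
  obtain ⟨χ, hχ, hover⟩ := Helper80.exists_irr_over' K θ.2
  have h1 := (Helper25.constituent_facts
    (Helper75.isCharacter_res K (Helper78.IsIrrCharacter.isCharacter hχ)) θ hover).2
  have h2 : charDegree (fun k : K => χ k) = charDegree χ := rfl
  rw [h2] at h1
  exact lt_of_le_of_lt h1 (hdeg ⟨χ, hχ⟩)

/-- Degrees of irreducible characters of quotients are degrees of the group. -/
theorem degree_lt_quotient (p : ℕ) (hdeg : ∀ χ : IrrCharacter H, charDegree (χ : H → ℂ) < p)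
    (N : Subgroup H) [N.Normal] (χ' : IrrCharacter (H ⧸ N)) :
    charDegree (χ' : H ⧸ N → ℂ) < p := by
  classical
  let _ : Fintype H := Fintype.ofFinite H
  rw [← Helper80.charDegree_inflate N χ']
  exact hdeg _

end Closure

/-- The simple case. -/
theorem not_dvd_card_of_simple (p : ℕ) [hp : Fact p.Prime] {H : Type u} [Group H] [Finite H]
    [IsSimpleGroup H] (hnc : ∃ a b : H, a * b ≠ b * a)
    (hdeg : ∀ χ : IrrCharacter H, charDegree (χ : H → ℂ) < p)
    (hsub : ∀ L : Subgroup H, L ≠ ⊤ →
      ∃ S : Subgroup L, S.Normal ∧ IsPGroup p S ∧ ¬ p ∣ S.index) :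
    ¬ p ∣ Nat.card H := by
  classical
  intro hdvd
  let _ : Fintype H := Fintype.ofFinite H
  obtain ⟨P⟩ : Nonempty (Sylow p H) := inferInstance
  have hPbot : (P : Subgroup H) ≠ ⊥ := P.ne_bot_of_dvd_card hdvd
  -- `P` is abelian, as its character degrees are `p`-powers less than `p`
  have hPab : ∀ x ∈ (P : Subgroup H), ∀ y ∈ (P : Subgroup H), x * y = y * x := by
    let _ : Fintype (P : Subgroup H) := Fintype.ofFinite _
    have h1 : ∀ θ : IrrCharacter (P : Subgroup H), charDegree (θ : ↥(P : Subgroup H) → ℂ) = 1 := by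
      intro θ
      have hlt := degree_lt_subgroup p hdeg (P : Subgroup H) θ
      have hdv := Helper79.irr_charDegree_dvd_card θ
      have hpos := Helper79.irr_charDegree_pos θ
      obtain ⟨k, hk⟩ := IsPGroup.iff_card.mp P.isPGroup'
      rw [hk] at hdv
      obtain ⟨j, _, hj⟩ := (Nat.dvd_prime_pow hp.out).mp hdv
      rcases Nat.eq_zero_or_pos j with h0 | h0
      · rw [hj, h0, pow_zero]
      · exfalso
        have : p ≤ charDegree (θ : ↥(P : Subgroup H) → ℂ) := by
          rw [hj]
          calc p = p ^ 1 := (pow_one p).symm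
            _ ≤ p ^ j := Nat.pow_le_pow_right hp.out.pos h0
        omega
    have h2 := Helper80.commutative_of_forall_charDegree_eq_one h1
    intro x hx y hy
    exact congrArg Subtype.val (h2 ⟨x, hx⟩ ⟨y, hy⟩)
  have hPtop : (P : Subgroup H) ≠ ⊤ := by
    intro htop
    obtain ⟨a, b, hab⟩ := hnc
    apply hab
    exact hPab a (by rw [htop]; trivial) b (by rw [htop]; trivial)
  have hNtop : Subgroup.normalizer ((P : Subgroup H) : Set H) ≠ ⊤ := by
    intro htop
    have hn : (P : Subgroup H).Normal := Subgroup.normalizer_eq_top_iff.mp htop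
    rcases hn.eq_bot_or_eq_top with h | h
    · exact hPbot h
    · exact hPtop h
  have hTI := sylow_TI p hnc P hPab hsub
  have hcnt := card_mul_card_le p P hTI
  have hpc : p ≤ Nat.card (P : Subgroup H) :=
    Nat.le_of_dvd Nat.card_pos (P.dvd_card_of_dvd_card hdvd)
  exact false_of_small_intersections p (Nat.card (P : Subgroup H)) hpc hdeg _ hNtop
    (fun z hz => hcnt z hz)

/-- A finite group all of whose irreducible character degrees are less than the prime `p` has a
normal abelian Sylow `p`-subgroup. -/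
theorem normal_abelian_sylow_of_degree_lt (p : ℕ) [hp : Fact p.Prime] :
    ∀ (n : ℕ) (G : Type u) [Group G] [Finite G], Nat.card G ≤ n →
      (∀ χ : IrrCharacter G, charDegree (χ : G → ℂ) < p) →
      ∃ P : Subgroup G, P.Normal ∧ (∀ x ∈ P, ∀ y ∈ P, x * y = y * x) ∧ IsPGroup p P ∧
        ¬ p ∣ P.index := by
  intro n
  induction n with
  | zero =>
    intro G _ _ hcard _
    exfalso
    have : 0 < Nat.card G := Nat.card_pos
    omega
  | succ n ih =>
    intro G _ _ hcard hdeg
    classical
    let _ : Fintype G := Fintype.ofFinite G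
    have hdeg' : ∀ χ : IrrCharacter G, ¬ p ∣ charDegree (χ : G → ℂ) := by
      intro χ hdv
      have h1 := Helper79.irr_charDegree_pos χ
      have h2 := hdeg χ
      have := Nat.le_of_dvd h1 hdv
      omega
    refine Helper80.ito_michler_aux p
      (fun (H : Type u) [Group H] =>
        (∀ χ : IrrCharacter H, charDegree (χ : H → ℂ) < p) ∧ Nat.card H ≤ n + 1)
      ?_ ?_ ?_ (Nat.card G) G rfl ⟨hdeg, hcard⟩ hdeg'
    · -- quotients
      intro H _ _ N _ hC
      refine ⟨degree_lt_quotient p hC.1 N, ?_⟩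
      exact (Nat.le_of_dvd Nat.card_pos (Subgroup.card_quotient_dvd_card N)).trans hC.2
    · -- subgroups
      intro H _ _ K hC
      refine ⟨degree_lt_subgroup p hC.1 K, ?_⟩
      exact (Subgroup.card_le_card_group K).trans hC.2
    · -- minimal normal subgroups
      intro H _ _ _ hC
      obtain ⟨hdegH, hcardH⟩ := hC
      -- every proper subgroup has a normal abelian Sylow `p`-subgroup
      have hprop : ∀ L : Subgroup H, L ≠ ⊤ →
          ∃ S : Subgroup L, S.Normal ∧ (∀ x ∈ S, ∀ y ∈ S, x * y = y * x) ∧ IsPGroup p S ∧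
            ¬ p ∣ S.index := by
        intro L hL
        have hlt : Nat.card L < Nat.card H := by
          rcases lt_or_eq_of_le (Subgroup.card_le_card_group L) with h | h
          · exact h
          · exact absurd (L.eq_top_of_card_eq h) hL
        exact ih L (by omega) (degree_lt_subgroup p hdegH L)
      by_cases hpd : p ∣ Nat.card H
      swap
      · refine ⟨⊤, inferInstance, ?_, Or.inr ?_⟩
        · exact top_ne_bot
        · rw [Subgroup.card_top]
          exact ((Nat.Prime.coprime_iff_not_dvd hp.out).mpr hpd).symm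
      by_cases hab : ∀ a b : H, a * b = b * a
      · -- abelian: Cauchy
        obtain ⟨x, hx⟩ := exists_prime_orderOf_dvd_card' p hpd
        refine ⟨Subgroup.zpowers x, ?_, ?_, Or.inl ?_⟩
        · constructor
          intro y hy g
          have : g * y * g⁻¹ = y := by rw [hab g y, mul_assoc, mul_inv_cancel, mul_one]
          rw [this]
          exact hy
        · intro h
          rw [Subgroup.zpowers_eq_bot] at h
          rw [h, orderOf_one] at hx
          exact hp.out.one_lt.ne' hx.symm
        · apply IsPGroup.of_card (n := 1)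
          rw [Nat.card_zpowers, hx, pow_one]
      by_cases hsimple : ∃ K : Subgroup H, K.Normal ∧ K ≠ ⊥ ∧ K ≠ ⊤
      · obtain ⟨K, hKn, hKbot, hKtop⟩ := hsimple
        obtain ⟨S, hSn, _, hSp, hSidx⟩ := hprop K hKtop
        have hchar : S.Characteristic :=
          (hSp.toSylow hSidx).characteristic_of_normal (by
            show S.Normal
            exact hSn)
        have hMn : (S.map K.subtype).Normal := ConjAct.normal_of_characteristic_of_normal
        by_cases hS1 : S = ⊥
        · refine ⟨K, hKn, hKbot, Or.inr ?_⟩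
          rw [hS1, Subgroup.index_bot] at hSidx
          exact ((Nat.Prime.coprime_iff_not_dvd hp.out).mpr hSidx).symm
        · refine ⟨S.map K.subtype, hMn, ?_, Or.inl (hSp.map _)⟩
          intro h
          apply hS1
          exact (Subgroup.map_eq_bot_iff_of_injective S (Subgroup.subtype_injective K)).mp h
      · -- simple nonabelian
        exfalso
        push Not at hsimple
        have hs : IsSimpleGroup H := by
          refine ⟨?_⟩
          intro K hK
          by_cases hKb : K = ⊥
          · exact Or.inl hKb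
          · exact Or.inr (hsimple K hK hKb)
        push Not at hab
        obtain ⟨a, b, hab⟩ := hab
        refine not_dvd_card_of_simple p ⟨a, b, hab⟩ hdegH ?_ hpd
        intro L hL
        obtain ⟨S, h1, _, h3, h4⟩ := hprop L hL
        exact ⟨S, h1, h3, h4⟩

end Cfsg.Agent.Lib.Helper15.ItoDeg
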