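import Mathlib

set_option autoImplicit false
set_option linter.unusedSectionVars false

namespace Cfsg.Agent.Lib.Helper15.Jordan

open scoped ComplexConjugate InnerProductSpace

variable {G : Type*} [Group G] {E : Type*} [NormedAddCommGroup E] [InnerProductSpace ℂ E]
  [CompleteSpace E]

/-- The constant `√3 / 2`. -/
noncomputable def cc : ℂ := ((Real.sqrt 3 / 2 : ℝ) : ℂ)

/-- Distance of the operator of `g` from the scalar `cc`. -/
noncomputable def devC (U : G →* unitary (E →L[ℂ] E)) (g : G) : ℝ :=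
  ‖((U g : E →L[ℂ] E)) - cc • (1 : E →L[ℂ] E)‖

/-- Distance of the operator of `g` from the identity. -/
noncomputable def devOne (U : G →* unitary (E →L[ℂ] E)) (g : G) : ℝ :=
  ‖((U g : E →L[ℂ] E)) - 1‖

variable (U : G →* unitary (E →L[ℂ] E))

theorem coe_mul (g h : G) : ((U (g * h) : E →L[ℂ] E)) = (U g : E →L[ℂ] E) * (U h : E →L[ℂ] E) := by
  rw [map_mul]; rfl

theorem coe_one : ((U 1 : E →L[ℂ] E)) = 1 := by
  rw [map_one]; rfl

theorem coe_mul_inv (g : G) : (U g : E →L[ℂ] E) * (U g⁻¹ : E →L[ℂ] E) = 1 := by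
  rw [← coe_mul, mul_inv_cancel, coe_one]

theorem coe_inv_mul (g : G) : (U g⁻¹ : E →L[ℂ] E) * (U g : E →L[ℂ] E) = 1 := by
  rw [← coe_mul, inv_mul_cancel, coe_one]

theorem devC_conj (x g : G) : devC U (x * g * x⁻¹) = devC U g := by
  unfold devC
  have h : ((U (x * g * x⁻¹) : E →L[ℂ] E)) - cc • (1 : E →L[ℂ] E)
      = (U x : E →L[ℂ] E) * (((U g : E →L[ℂ] E)) - cc • (1 : E →L[ℂ] E)) * (U x⁻¹ : E →L[ℂ] E) := by
    rw [coe_mul, coe_mul, mul_sub, sub_mul, mul_smul_comm, mul_one, smul_mul_assoc, coe_mul_inv]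
  rw [h, CStarRing.norm_mul_coe_unitary, CStarRing.norm_coe_unitary_mul]

/-- `‖[g,h] - 1‖ = ‖gh - hg‖`. -/
theorem devOne_comm (g h : G) : devOne U (g * h * g⁻¹ * h⁻¹)
    = ‖(U g : E →L[ℂ] E) * (U h : E →L[ℂ] E) - (U h : E →L[ℂ] E) * (U g : E →L[ℂ] E)‖ := by
  unfold devOne
  have h1 : ((U (g * h * g⁻¹ * h⁻¹) : E →L[ℂ] E)) - 1
      = ((U g : E →L[ℂ] E) * (U h : E →L[ℂ] E) - (U h : E →L[ℂ] E) * (U g : E →L[ℂ] E))
        * ((U (g⁻¹ * h⁻¹) : E →L[ℂ] E)) := by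
    rw [sub_mul, ← coe_mul, ← coe_mul, ← coe_mul, ← coe_mul]
    have e1 : g * h * (g⁻¹ * h⁻¹) = g * h * g⁻¹ * h⁻¹ := by group
    have e2 : h * g * (g⁻¹ * h⁻¹) = 1 := by group
    rw [e1, e2, coe_one]
  rw [h1, CStarRing.norm_mul_coe_unitary]

theorem devOne_comm_le (g h : G) :
    devOne U (g * h * g⁻¹ * h⁻¹) ≤ 2 * devC U g * devOne U h := by
  rw [devOne_comm]
  unfold devC devOne
  have h1 : (U g : E →L[ℂ] E) * (U h : E →L[ℂ] E) - (U h : E →L[ℂ] E) * (U g : E →L[ℂ] E)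
      = ((U g : E →L[ℂ] E) - cc • (1 : E →L[ℂ] E)) * ((U h : E →L[ℂ] E) - 1)
        - ((U h : E →L[ℂ] E) - 1) * ((U g : E →L[ℂ] E) - cc • (1 : E →L[ℂ] E)) := by
    simp only [mul_sub, sub_mul, mul_one, one_mul, smul_mul_assoc, mul_smul_comm, smul_sub]
    abel
  rw [h1]
  calc _ ≤ ‖((U g : E →L[ℂ] E) - cc • (1 : E →L[ℂ] E)) * ((U h : E →L[ℂ] E) - 1)‖
        + ‖((U h : E →L[ℂ] E) - 1) * ((U g : E →L[ℂ] E) - cc • (1 : E →L[ℂ] E))‖ := norm_sub_le _ _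
    _ ≤ ‖((U g : E →L[ℂ] E) - cc • (1 : E →L[ℂ] E))‖ * ‖((U h : E →L[ℂ] E) - 1)‖
        + ‖((U h : E →L[ℂ] E) - 1)‖ * ‖((U g : E →L[ℂ] E) - cc • (1 : E →L[ℂ] E))‖ :=
        add_le_add (norm_mul_le _ _) (norm_mul_le _ _)
    _ = _ := by ring

/-- `‖[g,h] - 1‖ ≤ 2 ‖h - 1‖`. -/
theorem devOne_comm_le_two (g h : G) :
    devOne U (g * h * g⁻¹ * h⁻¹) ≤ 2 * devOne U h := by
  rw [devOne_comm]
  unfold devOne
  have h1 : (U g : E →L[ℂ] E) * (U h : E →L[ℂ] E) - (U h : E →L[ℂ] E) * (U g : E →L[ℂ] E)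
      = (U g : E →L[ℂ] E) * ((U h : E →L[ℂ] E) - 1)
        - ((U h : E →L[ℂ] E) - 1) * (U g : E →L[ℂ] E) := by
    simp only [mul_sub, sub_mul, mul_one, one_mul]
    abel
  rw [h1]
  calc _ ≤ ‖(U g : E →L[ℂ] E) * ((U h : E →L[ℂ] E) - 1)‖
        + ‖((U h : E →L[ℂ] E) - 1) * (U g : E →L[ℂ] E)‖ := norm_sub_le _ _
    _ = _ := by rw [CStarRing.norm_mul_coe_unitary, CStarRing.norm_coe_unitary_mul]; ring

theorem devOne_eq_zero_iff (hU : Function.Injective U) (g : G) : devOne U g = 0 ↔ g = 1 := by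
  unfold devOne
  rw [norm_eq_zero, sub_eq_zero]
  constructor
  · intro h
    apply hU
    apply Subtype.ext
    rw [h]; exact (coe_one U).symm
  · rintro rfl
    exact coe_one U

end Cfsg.Agent.Lib.Helper15.Jordan
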