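import Mathlib
import Cfsg.Agent.Lib.Helper15.JordanA

set_option autoImplicit false
set_option linter.unusedSectionVars false

namespace Cfsg.Agent.Lib.Helper15.Jordan

open scoped ComplexConjugate InnerProductSpace

variable {G : Type*} [Group G] {E : Type*} [NormedAddCommGroup E] [InnerProductSpace ℂ E]
  [CompleteSpace E]

/-- A unitary operator of finite order other than `1` has a power at distance `> √2` from `1`. -/
theorem exists_pow_far (t : E →L[ℂ] E) (ht : t ∈ unitary (E →L[ℂ] E)) {m : ℕ} (hm0 : 0 < m)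
    (hm : t ^ m = 1) (hne : t ≠ 1) : ∃ j : ℕ, Real.sqrt 2 < ‖t ^ j - 1‖ := by
  by_contra hcon
  push Not at hcon
  obtain ⟨v, hv⟩ : ∃ v : E, t v ≠ v := by
    by_contra h
    push Not at h
    exact hne (ContinuousLinearMap.ext h)
  obtain ⟨w, hw⟩ : ∃ w : E, w = t v - v := ⟨_, rfl⟩
  have hw0 : w ≠ 0 := by
    rw [hw]; exact sub_ne_zero.mpr hv
  have hsum : ∑ j ∈ Finset.range m, (t ^ j) w = 0 := by
    have h1 : ∀ j : ℕ, (t ^ j) w = (t ^ (j + 1)) v - (t ^ j) v := by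
      intro j
      rw [hw, map_sub, pow_succ, mul_apply_eq_comp]
    rw [Finset.sum_congr rfl (fun j _ => h1 j), Finset.sum_range_sub (fun j => (t ^ j) v) m, hm]
    simp
  have hinner : ∑ j ∈ Finset.range m, RCLike.re (⟪(t ^ j) w, w⟫_ℂ) = 0 := by
    rw [← map_sum, ← sum_inner, hsum, inner_zero_left]
    simp
  have hnonneg : ∀ j : ℕ, 0 ≤ RCLike.re (⟪(t ^ j) w, w⟫_ℂ) := by
    intro j
    have hj : t ^ j ∈ unitary (E →L[ℂ] E) := Submonoid.pow_mem _ ht j
    have h1 : ‖(t ^ j) w‖ = ‖w‖ := ContinuousLinearMap.norm_map_of_mem_unitary hj w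
    have h2 : ‖(t ^ j) w - w‖ ≤ Real.sqrt 2 * ‖w‖ := by
      have := (t ^ j - 1).le_opNorm w
      rw [sub_apply, one_apply_eq_self] at this
      exact this.trans (mul_le_mul_of_nonneg_right (hcon j) (norm_nonneg _))
    have h3 : ‖(t ^ j) w - w‖ ^ 2 ≤ 2 * ‖w‖ ^ 2 := by
      have h4 : ‖(t ^ j) w - w‖ ^ 2 ≤ (Real.sqrt 2 * ‖w‖) ^ 2 :=
        pow_le_pow_left₀ (norm_nonneg _) h2 2
      rw [mul_pow, Real.sq_sqrt (by norm_num : (0:ℝ) ≤ 2)] at h4
      exact h4
    have h5 := @norm_sub_sq ℂ E _ _ _ ((t ^ j) w) w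
    rw [h1] at h5
    linarith
  have h0 : RCLike.re (⟪(t ^ 0) w, w⟫_ℂ) = 0 :=
    (Finset.sum_eq_zero_iff_of_nonneg (fun j _ => hnonneg j)).mp hinner 0
      (Finset.mem_range.mpr hm0)
  rw [pow_zero, one_apply_eq_self, inner_self_eq_norm_sq (𝕜 := ℂ)] at h0
  have : ‖w‖ = 0 := by
    exact pow_eq_zero_iff (two_ne_zero) |>.mp h0
  exact hw0 (norm_eq_zero.mp this)

variable (U : G →* unitary (E →L[ℂ] E))

theorem coe_pow (g : G) (j : ℕ) : ((U (g ^ j) : E →L[ℂ] E)) = (U g : E →L[ℂ] E) ^ j := by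
  rw [map_pow]; rfl

theorem conj_pow_of_commute {g h t : G} (ht : t = g * h * g⁻¹ * h⁻¹) (hc : g * t = t * g) (j : ℕ) :
    g ^ j * h * (g ^ j)⁻¹ * h⁻¹ = t ^ j := by
  have key : ∀ j : ℕ, g ^ j * h * (g ^ j)⁻¹ = t ^ j * h := by
    intro j
    induction j with
    | zero => simp
    | succ j ih =>
      have e1 : g ^ (j + 1) * h * (g ^ (j + 1))⁻¹ = g * (g ^ j * h * (g ^ j)⁻¹) * g⁻¹ := by
        rw [pow_succ']; group
      have hcj : g * t ^ j = t ^ j * g := (Commute.pow_right (show Commute g t from hc) j).eq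
      have e2 : g * h * g⁻¹ = t * h := by rw [ht]; group
      rw [e1, ih]
      calc g * (t ^ j * h) * g⁻¹ = (g * t ^ j) * h * g⁻¹ := by group
        _ = t ^ j * (g * h * g⁻¹) := by rw [hcj]; group
        _ = t ^ (j + 1) * h := by rw [e2, pow_succ]; group
  rw [key j]; group

theorem eq_one_of_commute_comm [Finite G] (hU : Function.Injective U) {g h t : G}
    (ht : t = g * h * g⁻¹ * h⁻¹) (hc : g * t = t * g) (hd : devOne U h ≤ Real.sqrt 2 / 2) :
    t = 1 := by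
  by_contra hne
  have hne' : (U t : E →L[ℂ] E) ≠ 1 := by
    intro h1
    apply hne
    rw [← devOne_eq_zero_iff U hU]
    unfold devOne
    rw [h1, sub_self, norm_zero]
  have hpow : (U t : E →L[ℂ] E) ^ orderOf t = 1 := by
    rw [← coe_pow, pow_orderOf_eq_one, coe_one]
  obtain ⟨j, hj⟩ := exists_pow_far (U t : E →L[ℂ] E) (U t).2 (orderOf_pos t) hpow hne'
  have h1 : devOne U (t ^ j) ≤ 2 * devOne U h := by
    rw [← conj_pow_of_commute ht hc j]
    exact devOne_comm_le_two U _ _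
  have h2 : devOne U (t ^ j) = ‖(U t : E →L[ℂ] E) ^ j - 1‖ := by
    unfold devOne; rw [coe_pow]
  rw [h2] at h1
  linarith

end Cfsg.Agent.Lib.Helper15.Jordan
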