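import Mathlib
import Cfsg.Agent.Lib.Helper15.JordanB

set_option autoImplicit false
set_option linter.unusedSectionVars false

namespace Cfsg.Agent.Lib.Helper15.Jordan

open scoped ComplexConjugate InnerProductSpace

variable {G : Type*} [Group G] {E : Type*} [NormedAddCommGroup E] [InnerProductSpace ℂ E]
  [CompleteSpace E]

variable (U : G →* unitary (E →L[ℂ] E))

/-- The set of elements whose operator is within `1/2` of the scalar `√3/2`. -/
def nearSet : Set G := {g | devC U g < 1 / 2}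

theorem sqrt_numeric : 1 / 2 + (1 - Real.sqrt 3 / 2) ≤ Real.sqrt 2 / 2 := by
  have h3 : (1.73 : ℝ) ≤ Real.sqrt 3 := by
    apply Real.le_sqrt_of_sq_le
    norm_num
  have h2 : (1.41 : ℝ) ≤ Real.sqrt 2 := by
    apply Real.le_sqrt_of_sq_le
    norm_num
  linarith

theorem sqrt_three_le : Real.sqrt 3 / 2 ≤ 1 := by
  have : Real.sqrt 3 ≤ 2 := by
    rw [Real.sqrt_le_left (by norm_num)]
    norm_num
  linarith

theorem devOne_le_of_mem_nearSet {g : G} (hg : g ∈ nearSet U) :
    devOne U g ≤ Real.sqrt 2 / 2 := by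
  have hg' : devC U g < 1 / 2 := hg
  unfold devOne
  unfold devC at hg'
  have h1 : (U g : E →L[ℂ] E) - 1
      = ((U g : E →L[ℂ] E) - cc • (1 : E →L[ℂ] E)) + (cc - 1) • (1 : E →L[ℂ] E) := by
    rw [sub_smul, one_smul]; abel
  have h2 : ‖(cc - 1) • (1 : E →L[ℂ] E)‖ ≤ 1 - Real.sqrt 3 / 2 := by
    rw [norm_smul]
    have h3 : ‖cc - 1‖ = 1 - Real.sqrt 3 / 2 := by
      have : cc - 1 = ((Real.sqrt 3 / 2 - 1 : ℝ) : ℂ) := by
        unfold cc; push_cast; ring
      rw [this, Complex.norm_real, Real.norm_eq_abs, abs_of_nonpos (by linarith [sqrt_three_le])]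
      ring
    rw [h3]
    have h4 : ‖(1 : E →L[ℂ] E)‖ ≤ 1 := ContinuousLinearMap.norm_id_le
    have h5 : 0 ≤ 1 - Real.sqrt 3 / 2 := by linarith [sqrt_three_le]
    calc (1 - Real.sqrt 3 / 2) * ‖(1 : E →L[ℂ] E)‖ ≤ (1 - Real.sqrt 3 / 2) * 1 :=
          mul_le_mul_of_nonneg_left h4 h5
      _ = _ := mul_one _
  rw [h1]
  calc _ ≤ ‖(U g : E →L[ℂ] E) - cc • (1 : E →L[ℂ] E)‖ + ‖(cc - 1) • (1 : E →L[ℂ] E)‖ :=
        norm_add_le _ _
    _ ≤ 1 / 2 + (1 - Real.sqrt 3 / 2) := add_le_add hg'.le h2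
    _ ≤ _ := sqrt_numeric

theorem comm_eq_one_of_mem_nearSet [Finite G] (hU : Function.Injective U) {g : G}
    (hg : g ∈ nearSet U) (h : G) (hd : devOne U h ≤ Real.sqrt 2 / 2) :
    g * h * g⁻¹ * h⁻¹ = 1 := by
  have wf : WellFounded (fun a b : G => devOne U a < devOne U b) := by
    have : IsTrans G (fun a b => devOne U a < devOne U b) := ⟨fun a b c h1 h2 => lt_trans h1 h2⟩
    have : Std.Irrefl (fun a b : G => devOne U a < devOne U b) := ⟨fun a => lt_irrefl _⟩
    exact Finite.wellFounded_of_trans_of_irrefl _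
  induction h using wf.induction with
  | _ h ih =>
    by_cases h1 : h = 1
    · rw [h1]; group
    obtain ⟨t, ht⟩ : ∃ t : G, t = g * h * g⁻¹ * h⁻¹ := ⟨_, rfl⟩
    have hpos : 0 < devOne U h := by
      have : devOne U h ≠ 0 := fun h0 => h1 ((devOne_eq_zero_iff U hU h).mp h0)
      exact lt_of_le_of_ne (norm_nonneg _) (Ne.symm this)
    have hg' : devC U g < 1 / 2 := hg
    have hlt : devOne U t < devOne U h := by
      rw [ht]
      calc _ ≤ 2 * devC U g * devOne U h := devOne_comm_le U g h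
        _ < 2 * (1 / 2) * devOne U h := by
            apply mul_lt_mul_of_pos_right _ hpos
            linarith
        _ = devOne U h := by ring
    have h2 := ih t hlt (hlt.le.trans hd)
    have hc : g * t = t * g := by
      have : g * t * g⁻¹ * t⁻¹ * t * g = 1 * t * g := by rw [h2]
      rw [one_mul] at this
      rw [← this]; group
    rw [← ht]
    exact eq_one_of_commute_comm U hU ht hc hd

theorem comm_of_mem_nearSet [Finite G] (hU : Function.Injective U) {g h : G}
    (hg : g ∈ nearSet U) (hh : h ∈ nearSet U) : g * h = h * g := by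
  have h1 := comm_eq_one_of_mem_nearSet U hU hg h (devOne_le_of_mem_nearSet U hh)
  have : g * h * g⁻¹ * h⁻¹ * h * g = 1 * h * g := by rw [h1]
  rw [one_mul] at this
  rw [← this]; group

/-- The subgroup generated by `nearSet`. -/
def nearSubgroup : Subgroup G := Subgroup.closure (nearSet U)

theorem nearSubgroup_normal : (nearSubgroup U).Normal := by
  refine ⟨fun n h g => ?_⟩
  unfold nearSubgroup at h ⊢
  refine Subgroup.closure_induction (fun x hx => ?_) ?_ (fun x y _ _ ihx ihy => ?_)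
      (fun x _ ihx => ?_) h
  · apply Subgroup.subset_closure
    show devC U (g * x * g⁻¹) < 1 / 2
    rw [devC_conj]
    exact hx
  · simp
  · rw [← conj_mul]
    exact mul_mem ihx ihy
  · rw [← conj_inv]
    exact inv_mem ihx

theorem nearSubgroup_comm [Finite G] (hU : Function.Injective U) :
    ∀ x ∈ nearSubgroup U, ∀ y ∈ nearSubgroup U, x * y = y * x := by
  intro x hx y hy
  have hc := Subgroup.isMulCommutative_closure (k := nearSet U)
    (fun a ha b hb => comm_of_mem_nearSet U hU ha hb)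
  have := hc.is_comm.comm (⟨x, hx⟩ : Subgroup.closure (nearSet U)) ⟨y, hy⟩
  exact congrArg Subtype.val this

end Cfsg.Agent.Lib.Helper15.Jordan
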