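import Mathlib
import Cfsg.Agent.Lib.Helper15.JordanC
import Cfsg.Agent.Lib.Helper15.GallagherExt

set_option autoImplicit false
set_option linter.unusedSectionVars false
set_option linter.style.haveILetI false

namespace Cfsg.Agent.Lib.Helper15.Jordan

open scoped ComplexConjugate InnerProductSpace

variable {E : Type*} [NormedAddCommGroup E] [InnerProductSpace ℂ E] [CompleteSpace E]

section Decomp

variable {Q : Type*} [Group Q] [Fintype Q] [Fintype (Q →* ℂˣ)] (V : Q →* unitary (E →L[ℂ] E))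

theorem norm_monoidHom_apply (lam : Q →* ℂˣ) (x : Q) : ‖((lam x : ℂˣ) : ℂ)‖ = 1 := by
  apply Complex.norm_eq_one_of_pow_eq_one (n := orderOf x) _ (orderOf_pos x).ne'
  rw [← Units.val_pow_eq_pow_val, ← map_pow, pow_orderOf_eq_one, map_one, Units.val_one]

theorem monoidHom_mul_conj (lam : Q →* ℂˣ) (x : Q) :
    ((lam x : ℂˣ) : ℂ) * conj ((lam x : ℂˣ) : ℂ) = 1 := by
  rw [Complex.mul_conj, Complex.normSq_eq_norm_sq, norm_monoidHom_apply]
  simp

/-- The isotypic projection attached to the linear character `lam`. -/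
noncomputable def proj (lam : Q →* ℂˣ) : E →L[ℂ] E :=
  (Nat.card Q : ℂ)⁻¹ • ∑ y : Q, conj ((lam y : ℂˣ) : ℂ) • (V y : E →L[ℂ] E)

theorem op_mul_proj (lam : Q →* ℂˣ) (x : Q) :
    (V x : E →L[ℂ] E) * proj V lam = ((lam x : ℂˣ) : ℂ) • proj V lam := by
  unfold proj
  rw [mul_smul_comm, smul_comm ((lam x : ℂˣ) : ℂ), Finset.mul_sum]
  congr 1
  rw [Finset.smul_sum]
  rw [← Equiv.sum_comp (Equiv.mulLeft x)
    (fun y => ((lam x : ℂˣ) : ℂ) • conj ((lam y : ℂˣ) : ℂ) • (V y : E →L[ℂ] E))]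
  apply Finset.sum_congr rfl
  intro y _
  rw [Equiv.coe_mulLeft, mul_smul_comm, ← coe_mul, smul_smul]
  congr 1
  rw [map_mul, Units.val_mul, map_mul, ← mul_assoc, monoidHom_mul_conj, one_mul]

theorem op_proj_apply (lam : Q →* ℂˣ) (x : Q) (v : E) :
    (V x : E →L[ℂ] E) (proj V lam v) = ((lam x : ℂˣ) : ℂ) • proj V lam v := by
  have := congrArg (fun T : E →L[ℂ] E => T v) (op_mul_proj V lam x)
  simpa using this

theorem inner_proj_proj {lam mu : Q →* ℂˣ} (hne : lam ≠ mu) (v w : E) :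
    ⟪proj V lam v, proj V mu w⟫_ℂ = 0 := by
  obtain ⟨x, hx⟩ : ∃ x : Q, lam x ≠ mu x := by
    by_contra h
    push Not at h
    exact hne (MonoidHom.ext h)
  have h1 : ⟪proj V lam v, proj V mu w⟫_ℂ
      = conj ((lam x : ℂˣ) : ℂ) * ((mu x : ℂˣ) : ℂ) * ⟪proj V lam v, proj V mu w⟫_ℂ := by
    conv_lhs => rw [← Unitary.inner_map_map (V x) (proj V lam v) (proj V mu w)]
    rw [op_proj_apply, op_proj_apply, inner_smul_left, inner_smul_right, mul_assoc]
  have h2 : conj ((lam x : ℂˣ) : ℂ) * ((mu x : ℂˣ) : ℂ) ≠ 1 := by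
    intro h
    apply hx
    apply Units.ext
    have h3 := monoidHom_mul_conj lam x
    calc ((lam x : ℂˣ) : ℂ) = ((lam x : ℂˣ) : ℂ) * (conj ((lam x : ℂˣ) : ℂ) * ((mu x : ℂˣ) : ℂ)) := by
          rw [h, mul_one]
      _ = ((mu x : ℂˣ) : ℂ) := by rw [← mul_assoc, h3, one_mul]
  have h4 : (1 - conj ((lam x : ℂˣ) : ℂ) * ((mu x : ℂˣ) : ℂ)) * ⟪proj V lam v, proj V mu w⟫_ℂ = 0 := by
    rw [sub_mul, one_mul, ← h1, sub_self]
  rcases mul_eq_zero.mp h4 with h | h
  · exact absurd (sub_eq_zero.mp h).symm h2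
  · exact h

theorem sum_proj (hcomm : ∀ a b : Q, a * b = b * a) :
    ∑ lam : Q →* ℂˣ, proj V lam = 1 := by
  classical
  unfold proj
  rw [← Finset.smul_sum, Finset.sum_comm]
  have h1 : ∀ y : Q, ∑ lam : Q →* ℂˣ, conj ((lam y : ℂˣ) : ℂ) • (V y : E →L[ℂ] E)
      = (if y = 1 then (Nat.card Q : ℂ) else 0) • (V y : E →L[ℂ] E) := by
    intro y
    rw [← Finset.sum_smul]
    congr 1
    letI : CommGroup Q := { (inferInstance : Group Q) with mul_comm := hcomm }
    rw [← map_sum]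
    split_ifs with hy
    · rw [hy]
      have := sum_monoidHom_apply_one (Q := Q)
      rw [this, Complex.conj_natCast]
    · have := sum_monoidHom_apply_ne (Q := Q) hy
      rw [this, map_zero]
  rw [Finset.sum_congr rfl (fun y _ => h1 y)]
  rw [Finset.sum_eq_single (1 : Q)]
  · rw [if_pos rfl, smul_smul, inv_mul_cancel₀, one_smul, coe_one]
    have : Nat.card Q ≠ 0 := Nat.card_pos.ne'
    exact_mod_cast this
  · intro y _ hy
    rw [if_neg hy, zero_smul]
  · intro h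
    exact absurd (Finset.mem_univ _) h

end Decomp

end Cfsg.Agent.Lib.Helper15.Jordan
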