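import Mathlib
import Cfsg.Agent.Lib.Helper15.JordanD

set_option autoImplicit false
set_option linter.unusedSectionVars false
set_option linter.style.haveILetI false

namespace Cfsg.Agent.Lib.Helper15.Jordan

open scoped ComplexConjugate InnerProductSpace

variable {E : Type*} [NormedAddCommGroup E] [InnerProductSpace ℂ E] [CompleteSpace E]

theorem norm_sq_sum_of_orthogonal {ι : Type*} (s : Finset ι) (u : ι → E)
    (h : ∀ i ∈ s, ∀ j ∈ s, i ≠ j → ⟪u i, u j⟫_ℂ = 0) :
    ‖∑ i ∈ s, u i‖ ^ 2 = ∑ i ∈ s, ‖u i‖ ^ 2 := by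
  classical
  induction s using Finset.induction_on with
  | empty => simp
  | insert a s ha ih =>
    rw [Finset.sum_insert ha, Finset.sum_insert ha, @norm_add_sq ℂ E _ _ _]
    have h0 : ⟪u a, ∑ i ∈ s, u i⟫_ℂ = 0 := by
      rw [inner_sum]
      apply Finset.sum_eq_zero
      intro j hj
      apply h a (Finset.mem_insert_self a s) j (Finset.mem_insert_of_mem hj)
      rintro rfl
      exact ha hj
    rw [h0, ih (fun i hi j hj hij => h i (Finset.mem_insert_of_mem hi) j
      (Finset.mem_insert_of_mem hj) hij)]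
    simp

section Decomp

variable {Q : Type*} [Group Q] [Fintype Q] [Fintype (Q →* ℂˣ)] (V : Q →* unitary (E →L[ℂ] E))

theorem devC_le_of_forall (hcomm : ∀ a b : Q, a * b = b * a) (x : Q) (r : ℝ) (hr : 0 ≤ r)
    (h : ∀ lam : Q →* ℂˣ, proj V lam ≠ 0 → ‖((lam x : ℂˣ) : ℂ) - cc‖ ≤ r) :
    ‖(V x : E →L[ℂ] E) - cc • (1 : E →L[ℂ] E)‖ ≤ r := by
  apply ContinuousLinearMap.opNorm_le_bound _ hr
  intro v
  have hv : v = ∑ lam : Q →* ℂˣ, proj V lam v := by
    have := congrArg (fun T : E →L[ℂ] E => T v) (sum_proj V hcomm)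
    simp only [sum_apply, one_apply_eq_self] at this
    exact this.symm
  have h1 : ((V x : E →L[ℂ] E) - cc • (1 : E →L[ℂ] E)) v
      = ∑ lam : Q →* ℂˣ, (((lam x : ℂˣ) : ℂ) - cc) • proj V lam v := by
    conv_lhs => rw [hv]
    rw [map_sum]
    apply Finset.sum_congr rfl
    intro lam _
    rw [sub_apply, smul_apply, one_apply_eq_self, op_proj_apply, sub_smul]
  have h2 : ‖((V x : E →L[ℂ] E) - cc • (1 : E →L[ℂ] E)) v‖ ^ 2
      = ∑ lam : Q →* ℂˣ, ‖(((lam x : ℂˣ) : ℂ) - cc) • proj V lam v‖ ^ 2 := by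
    rw [h1]
    apply norm_sq_sum_of_orthogonal
    intro lam _ mu _ hne
    rw [inner_smul_left, inner_smul_right, inner_proj_proj V hne, mul_zero, mul_zero]
  have h3 : ‖v‖ ^ 2 = ∑ lam : Q →* ℂˣ, ‖proj V lam v‖ ^ 2 := by
    conv_lhs => rw [hv]
    apply norm_sq_sum_of_orthogonal
    intro lam _ mu _ hne
    exact inner_proj_proj V hne v v
  have h4 : ∀ lam : Q →* ℂˣ, ‖(((lam x : ℂˣ) : ℂ) - cc) • proj V lam v‖ ^ 2
      ≤ r ^ 2 * ‖proj V lam v‖ ^ 2 := by
    intro lam
    by_cases h0 : proj V lam = 0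
    · simp [h0]
    · rw [norm_smul, mul_pow]
      have := h lam h0
      gcongr
  have h5 : ‖((V x : E →L[ℂ] E) - cc • (1 : E →L[ℂ] E)) v‖ ^ 2 ≤ (r * ‖v‖) ^ 2 := by
    rw [h2, mul_pow, h3, Finset.mul_sum]
    exact Finset.sum_le_sum (fun lam _ => h4 lam)
  exact (pow_le_pow_iff_left₀ (norm_nonneg _) (mul_nonneg hr (norm_nonneg _)) two_ne_zero).mp h5

theorem card_support_le [FiniteDimensional ℂ E] :
    Nat.card {lam : Q →* ℂˣ // proj V lam ≠ 0} ≤ Module.finrank ℂ E := by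
  classical
  have hex : ∀ lam : {lam : Q →* ℂˣ // proj V lam ≠ 0}, ∃ v : E, proj V lam.1 v ≠ 0 := by
    intro lam
    by_contra h
    push Not at h
    exact lam.2 (ContinuousLinearMap.ext (fun v => by rw [h v]; rfl))
  choose vv hvv using hex
  have hli : LinearIndependent ℂ
      (fun lam : {lam : Q →* ℂˣ // proj V lam ≠ 0} => proj V lam.1 (vv lam)) := by
    apply linearIndependent_of_ne_zero_of_inner_eq_zero hvv
    intro a b hab
    exact inner_proj_proj V (fun h => hab (Subtype.ext h)) _ _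
  have := hli.fintype_card_le_finrank
  rw [Nat.card_eq_fintype_card]
  exact this

end Decomp

end Cfsg.Agent.Lib.Helper15.Jordan
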