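import Mathlib
import Cfsg.Agent.Lib.Helper15.JordanA

set_option autoImplicit false
set_option linter.unusedSectionVars false
set_option linter.style.haveILetI false

namespace Cfsg.Agent.Lib.Helper15.Jordan

open scoped ComplexConjugate InnerProductSpace

/-- The index in `{1,…,12}` of the arc of width `π/6` containing the argument of `z`. -/
noncomputable def box (z : ℂ) : ℤ := ⌈(Complex.arg z + Real.pi) * 6 / Real.pi⌉

theorem box_mem (z : ℂ) : box z ∈ Finset.Icc (1 : ℤ) 12 := by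
  unfold box
  have hpi := Real.pi_pos
  have h1 := Complex.neg_pi_lt_arg z
  have h2 := Complex.arg_le_pi z
  rw [Finset.mem_Icc]
  constructor
  · have : (0 : ℤ) < ⌈(Complex.arg z + Real.pi) * 6 / Real.pi⌉ := by
      rw [Int.ceil_pos]
      apply div_pos _ hpi
      nlinarith
    omega
  · rw [Int.ceil_le]
    rw [div_le_iff₀ hpi]
    push_cast
    nlinarith

theorem abs_arg_sub_lt_of_box_eq {z w : ℂ} (h : box z = box w) :
    |Complex.arg w - Complex.arg z| < Real.pi / 6 := by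
  unfold box at h
  have hpi := Real.pi_pos
  obtain ⟨x, hx⟩ : ∃ x : ℝ, x = (Complex.arg z + Real.pi) * 6 / Real.pi := ⟨_, rfl⟩
  obtain ⟨y, hy⟩ : ∃ y : ℝ, y = (Complex.arg w + Real.pi) * 6 / Real.pi := ⟨_, rfl⟩
  rw [← hx, ← hy] at h
  have h1 := Int.ceil_lt_add_one x
  have h2 := Int.le_ceil x
  have h3 := Int.ceil_lt_add_one y
  have h4 := Int.le_ceil y
  rw [h] at h1 h2
  have h5 : |y - x| < 1 := by
    rw [abs_lt]; constructor <;> linarith
  have h6 : y - x = (Complex.arg w - Complex.arg z) * (6 / Real.pi) := by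
    rw [hx, hy]; field_simp; ring
  rw [h6, abs_mul, abs_of_pos (div_pos (by norm_num : (0:ℝ) < 6) hpi)] at h5
  rw [← lt_div_iff₀ (div_pos (by norm_num : (0:ℝ) < 6) hpi)] at h5
  calc _ < 1 / (6 / Real.pi) := h5
    _ = Real.pi / 6 := by field_simp

theorem norm_exp_sub_cc_lt {θ : ℝ} (hθ : |θ| < Real.pi / 6) :
    ‖Complex.exp ((θ : ℂ) * Complex.I) - cc‖ < 1 / 2 := by
  have hcos : Real.sqrt 3 / 2 < Real.cos θ := by
    rw [← Real.cos_pi_div_six, ← Real.cos_abs θ]
    apply Real.cos_lt_cos_of_nonneg_of_le_pi (abs_nonneg _) _ hθ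
    linarith [Real.pi_pos]
  have h1 : Complex.exp ((θ : ℂ) * Complex.I) - cc
      = ((Real.cos θ - Real.sqrt 3 / 2 : ℝ) : ℂ) + ((Real.sin θ : ℝ) : ℂ) * Complex.I := by
    rw [Complex.exp_mul_I]
    unfold cc
    push_cast
    ring
  rw [h1, Complex.norm_add_mul_I, Real.sqrt_lt' (by norm_num)]
  have h2 := Real.sin_sq_add_cos_sq θ
  have h3 : Real.sqrt 3 ^ 2 = 3 := Real.sq_sqrt (by norm_num)
  have h4 : 0 < Real.sqrt 3 := Real.sqrt_pos.mpr (by norm_num)
  nlinarith

theorem norm_sub_cc_lt_of_box_eq {z w : ℂ} (hz : ‖z‖ = 1) (hw : ‖w‖ = 1) (h : box z = box w) :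
    ‖z⁻¹ * w - cc‖ < 1 / 2 := by
  have h1 : z = Complex.exp ((Complex.arg z : ℂ) * Complex.I) := by
    have := Complex.norm_mul_exp_arg_mul_I z
    rw [hz] at this
    simpa using this.symm
  have h2 : w = Complex.exp ((Complex.arg w : ℂ) * Complex.I) := by
    have := Complex.norm_mul_exp_arg_mul_I w
    rw [hw] at this
    simpa using this.symm
  have h3 : z⁻¹ * w = Complex.exp (((Complex.arg w - Complex.arg z : ℝ) : ℂ) * Complex.I) := by
    conv_lhs => rw [h1, h2]
    rw [← Complex.exp_neg, ← Complex.exp_add]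
    congr 1
    push_cast
    ring
  rw [h3]
  exact norm_exp_sub_cc_lt (abs_arg_sub_lt_of_box_eq h)

end Cfsg.Agent.Lib.Helper15.Jordan
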