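import Mathlib
import Cfsg.Agent.Lib.Helper15.JordanE
import Cfsg.Agent.Lib.Helper15.JordanF

set_option autoImplicit false
set_option linter.unusedSectionVars false
set_option linter.style.haveILetI false

namespace Cfsg.Agent.Lib.Helper15.Jordan

open scoped ComplexConjugate InnerProductSpace

variable {E : Type*} [NormedAddCommGroup E] [InnerProductSpace ℂ E] [CompleteSpace E]
  [FiniteDimensional ℂ E]

variable {G : Type*} [Group G] [Finite G] (U : G →* unitary (E →L[ℂ] E))

theorem index_le (H : Subgroup G)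
    (hab : ∀ x ∈ H, ∀ y ∈ H, x * y = y * x) :
    ((nearSubgroup U).subgroupOf H).index ≤ 12 ^ Module.finrank ℂ E := by
  classical
  have : Fintype H := Fintype.ofFinite _
  have hcomm : ∀ a b : H, a * b = b * a := fun a b => Subtype.ext (hab a a.2 b b.2)
  have : Fintype (H →* ℂˣ) := by
    letI : CommGroup H := { (inferInstance : Group H) with mul_comm := hcomm }
    exact Fintype.ofFinite _
  obtain ⟨V, hV⟩ : ∃ V : H →* unitary (E →L[ℂ] E), V = U.comp H.subtype := ⟨_, rfl⟩
  let β : H → ({lam : H →* ℂˣ // proj V lam ≠ 0} → Finset.Icc (1 : ℤ) 12) :=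
    fun x lam => ⟨box ((lam.1 x : ℂˣ) : ℂ), box_mem _⟩
  have key : ∀ x y : H, β x = β y → x⁻¹ * y ∈ (nearSubgroup U).subgroupOf H := by
    intro x y hxy
    rw [Subgroup.mem_subgroupOf]
    apply Subgroup.subset_closure
    show devC U ((x⁻¹ * y : H) : G) < 1 / 2
    have h1 : ∀ lam : {lam : H →* ℂˣ // proj V lam ≠ 0},
        ‖((lam.1 (x⁻¹ * y) : ℂˣ) : ℂ) - cc‖ < 1 / 2 := by
      intro lam
      have h2 := congrFun hxy lam
      have hb : box ((lam.1 x : ℂˣ) : ℂ) = box ((lam.1 y : ℂˣ) : ℂ) :=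
        congrArg (fun t : Finset.Icc (1 : ℤ) 12 => (t : ℤ)) h2
      have h3 := norm_sub_cc_lt_of_box_eq (norm_monoidHom_apply lam.1 x)
        (norm_monoidHom_apply lam.1 y) hb
      rw [map_mul, map_inv, Units.val_mul, Units.val_inv_eq_inv_val]
      exact h3
    obtain ⟨r, hr0, hr, hrle⟩ : ∃ r : ℝ, 0 ≤ r ∧ r < 1 / 2 ∧
        ∀ lam : {lam : H →* ℂˣ // proj V lam ≠ 0}, ‖((lam.1 (x⁻¹ * y) : ℂˣ) : ℂ) - cc‖ ≤ r := by
      let r : NNReal := Finset.univ.sup
        (fun lam : {lam : H →* ℂˣ // proj V lam ≠ 0} => ‖((lam.1 (x⁻¹ * y) : ℂˣ) : ℂ) - cc‖₊)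
      refine ⟨r, r.2, ?_, ?_⟩
      · have : r < (1 / 2 : NNReal) := by
          rw [Finset.sup_lt_iff (by norm_num : (⊥ : NNReal) < 1 / 2)]
          intro lam _
          have := h1 lam
          rw [← NNReal.coe_lt_coe]
          push_cast
          exact this
        have h4 : (r : ℝ) < ((1 / 2 : NNReal) : ℝ) := NNReal.coe_lt_coe.mpr this
        push_cast at h4
        exact h4
      · intro lam
        have : ‖((lam.1 (x⁻¹ * y) : ℂˣ) : ℂ) - cc‖₊ ≤ r :=
          Finset.le_sup (f := fun lam : {lam : H →* ℂˣ // proj V lam ≠ 0} =>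
            ‖((lam.1 (x⁻¹ * y) : ℂˣ) : ℂ) - cc‖₊) (Finset.mem_univ lam)
        exact_mod_cast this
    calc devC U ((x⁻¹ * y : H) : G)
        = ‖(V (x⁻¹ * y) : E →L[ℂ] E) - cc • (1 : E →L[ℂ] E)‖ := by rw [hV]; rfl
      _ ≤ r := devC_le_of_forall V hcomm _ r hr0 (fun lam hlam => hrle ⟨lam, hlam⟩)
      _ < 1 / 2 := hr
  have hinj : Function.Injective
      (fun q : H ⧸ (nearSubgroup U).subgroupOf H => β q.out) := by
    intro q q' hqq
    have h1 := key _ _ hqq
    rw [← QuotientGroup.eq] at h1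
    rwa [QuotientGroup.out_eq', QuotientGroup.out_eq'] at h1
  calc ((nearSubgroup U).subgroupOf H).index
      = Nat.card (H ⧸ (nearSubgroup U).subgroupOf H) := rfl
    _ ≤ Nat.card ({lam : H →* ℂˣ // proj V lam ≠ 0} → Finset.Icc (1 : ℤ) 12) :=
        Nat.card_le_card_of_injective _ hinj
    _ = 12 ^ Nat.card {lam : H →* ℂˣ // proj V lam ≠ 0} := by
        rw [Nat.card_fun]
        congr 1
        rw [Nat.card_eq_fintype_card, Fintype.card_coe, Int.card_Icc]
        rfl
    _ ≤ 12 ^ Module.finrank ℂ E := Nat.pow_le_pow_right (by norm_num) (card_support_le V)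

/-- Abstract Jordan-type theorem: a finite group of unitary operators on an `n`-dimensional space has
an abelian normal subgroup `A` with `|H : H ∩ A| ≤ 12 ^ n` for every abelian subgroup `H`. -/
theorem exists_abelian_normal (hU : Function.Injective U) :
    ∃ A : Subgroup G, A.Normal ∧ (∀ x ∈ A, ∀ y ∈ A, x * y = y * x) ∧
      ∀ H : Subgroup G, (∀ x ∈ H, ∀ y ∈ H, x * y = y * x) →
        (A.subgroupOf H).index ≤ 12 ^ Module.finrank ℂ E :=
  ⟨nearSubgroup U, nearSubgroup_normal U, nearSubgroup_comm U hU, fun H hH => index_le U H hH⟩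

end Cfsg.Agent.Lib.Helper15.Jordan
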