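import Mathlib
import Cfsg.Agent.Lib.Helper15.JordanG

set_option autoImplicit false
set_option linter.unusedSectionVars false
set_option linter.style.haveILetI false

namespace Cfsg.Agent.Lib.Helper15.Jordan

open scoped ComplexConjugate InnerProductSpace

variable {E : Type*} [NormedAddCommGroup E] [InnerProductSpace ℂ E] [CompleteSpace E]
  [FiniteDimensional ℂ E]

variable {G : Type*} [Group G] [Finite G]

theorem exists_unitary_hom (T : G →* (E →ₗ[ℂ] E)) (hT : ∀ g v, ‖T g v‖ = ‖v‖)
    (hinj : ∀ g, T g = 1 → g = 1) :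
    ∃ U : G →* unitary (E →L[ℂ] E), Function.Injective U := by
  obtain ⟨T', hT'⟩ : ∃ T' : G →* (E →L[ℂ] E),
      T' = (MonoidHomClass.toMonoidHom (Module.End.toContinuousLinearMap E)).comp T := ⟨_, rfl⟩
  have happ : ∀ g v, T' g v = T g v := by
    intro g v
    rw [hT']
    rfl
  have hmem : ∀ g, T' g ∈ unitary (E →L[ℂ] E) := by
    intro g
    apply IsUnit.mem_unitary_of_star_mul_self ((Group.isUnit g).map T')
    rw [ContinuousLinearMap.star_eq_adjoint, ContinuousLinearMap.mul_def]
    apply (ContinuousLinearMap.norm_map_iff_adjoint_comp_self (T' g)).mp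
    intro v
    rw [happ, hT]
  refine ⟨T'.codRestrict (unitary (E →L[ℂ] E)) hmem, ?_⟩
  intro g h hgh
  have h1 : T' g = T' h := congrArg Subtype.val hgh
  have h2 : T g = T h := by
    apply LinearMap.ext
    intro v
    rw [← happ, ← happ, h1]
  have h3 : T (g⁻¹ * h) = 1 := by
    rw [map_mul, ← h2, ← map_mul, inv_mul_cancel, map_one]
  have h4 := hinj _ h3
  calc g = g * (g⁻¹ * h) := by rw [h4, mul_one]
    _ = h := by group

/-- Jordan-type theorem for a faithful norm-preserving representation. -/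
theorem exists_abelian_normal_of_rep (T : G →* (E →ₗ[ℂ] E)) (hT : ∀ g v, ‖T g v‖ = ‖v‖)
    (hinj : ∀ g, T g = 1 → g = 1) :
    ∃ A : Subgroup G, A.Normal ∧ (∀ x ∈ A, ∀ y ∈ A, x * y = y * x) ∧
      ∀ H : Subgroup G, (∀ x ∈ H, ∀ y ∈ H, x * y = y * x) →
        (A.subgroupOf H).index ≤ 12 ^ Module.finrank ℂ E := by
  obtain ⟨U, hU⟩ := exists_unitary_hom T hT hinj
  exact exists_abelian_normal U hU

end Cfsg.Agent.Lib.Helper15.Jordan
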