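import Mathlib
import Cfsg.Agent.Lib.Helper15.JordanH

set_option autoImplicit false
set_option linter.unusedSectionVars false
set_option linter.style.haveILetI false

namespace Cfsg.Agent.Lib.Helper15.Jordan

open scoped ComplexConjugate InnerProductSpace

/-- Type synonym of `Fin n → ℂ` carrying the inner product averaged over the group. -/
def AvgSpace {G : Type*} [Group G] {n : ℕ} (_ρ : Representation ℂ G (Fin n → ℂ)) : Type :=
  Fin n → ℂ

namespace AvgSpace

variable {G : Type*} [Group G] [Fintype G] {n : ℕ} (ρ : Representation ℂ G (Fin n → ℂ))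

instance : AddCommGroup (AvgSpace ρ) := inferInstanceAs (AddCommGroup (Fin n → ℂ))
instance : Module ℂ (AvgSpace ρ) := inferInstanceAs (Module ℂ (Fin n → ℂ))
instance : Module.Finite ℂ (AvgSpace ρ) := inferInstanceAs (Module.Finite ℂ (Fin n → ℂ))

/-- The averaged inner product. -/
noncomputable def avgInner (v w : Fin n → ℂ) : ℂ :=
  ∑ g : G, ∑ i : Fin n, conj (ρ g v i) * ρ g w i

theorem avgInner_self_re (v : Fin n → ℂ) :
    (avgInner ρ v v).re = ∑ g : G, ∑ i : Fin n, Complex.normSq (ρ g v i) := by
  unfold avgInner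
  rw [Complex.re_sum]
  apply Finset.sum_congr rfl
  intro g _
  rw [Complex.re_sum]
  apply Finset.sum_congr rfl
  intro i _
  rw [mul_comm, Complex.mul_conj]
  exact Complex.ofReal_re _

theorem avgInner_map (h : G) (v w : Fin n → ℂ) :
    avgInner ρ (ρ h v) (ρ h w) = avgInner ρ v w := by
  unfold avgInner
  rw [← Equiv.sum_comp (Equiv.mulRight h)
    (fun g => ∑ i : Fin n, conj (ρ g v i) * ρ g w i)]
  apply Finset.sum_congr rfl
  intro g _
  rw [Equiv.coe_mulRight, map_mul]
  rfl

noncomputable instance : InnerProductSpace.Core ℂ (AvgSpace ρ) where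
  inner v w := avgInner ρ v w
  conj_inner_symm v w := by
    unfold avgInner
    rw [map_sum]
    apply Finset.sum_congr rfl
    intro g _
    rw [map_sum]
    apply Finset.sum_congr rfl
    intro i _
    rw [map_mul, Complex.conj_conj, mul_comm]
  re_inner_nonneg v := by
    have h0 : (0 : ℝ) ≤ ∑ g : G, ∑ i : Fin n, Complex.normSq (ρ g v i) :=
      Finset.sum_nonneg (fun g _ => Finset.sum_nonneg (fun i _ => Complex.normSq_nonneg _))
    exact h0.trans (avgInner_self_re ρ v).ge
  add_left u v w := by
    unfold avgInner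
    rw [← Finset.sum_add_distrib]
    apply Finset.sum_congr rfl
    intro g _
    rw [← Finset.sum_add_distrib]
    apply Finset.sum_congr rfl
    intro i _
    have : ρ g (u + v) = ρ g u + ρ g v := map_add _ _ _
    rw [this, Pi.add_apply, map_add, add_mul]
  smul_left v w r := by
    unfold avgInner
    rw [Finset.mul_sum]
    apply Finset.sum_congr rfl
    intro g _
    rw [Finset.mul_sum]
    apply Finset.sum_congr rfl
    intro i _
    have : ρ g (r • v) = r • ρ g v := map_smul _ _ _
    rw [this, Pi.smul_apply, smul_eq_mul, map_mul, mul_assoc]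
  definite v hv := by
    have h1 : ∑ g : G, ∑ i : Fin n, Complex.normSq (ρ g v i) = 0 := by
      have h0 : avgInner ρ v v = 0 := hv
      have h0' : (avgInner ρ v v).re = 0 := by rw [h0]; rfl
      exact (avgInner_self_re ρ v).symm.trans h0'
    have h2 := (Finset.sum_eq_zero_iff_of_nonneg
      (fun g _ => Finset.sum_nonneg (fun i _ => Complex.normSq_nonneg _))).mp h1 1
      (Finset.mem_univ _)
    have h3 := (Finset.sum_eq_zero_iff_of_nonneg
      (fun i _ => Complex.normSq_nonneg _)).mp h2
    funext i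
    have h4 := h3 i (Finset.mem_univ _)
    rw [map_one] at h4
    exact Complex.normSq_eq_zero.mp h4

noncomputable instance : NormedAddCommGroup (AvgSpace ρ) :=
  InnerProductSpace.Core.toNormedAddCommGroup (𝕜 := ℂ)

noncomputable instance : InnerProductSpace ℂ (AvgSpace ρ) :=
  InnerProductSpace.ofCore _

instance : CompleteSpace (AvgSpace ρ) := FiniteDimensional.complete ℂ _

theorem inner_eq (v w : AvgSpace ρ) : ⟪v, w⟫_ℂ = avgInner ρ v w := rfl

/-- The representation, acting on `AvgSpace`. -/
def rep : G →* (AvgSpace ρ →ₗ[ℂ] AvgSpace ρ) := ρ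

theorem norm_rep (h : G) (v : AvgSpace ρ) : ‖rep ρ h v‖ = ‖v‖ := by
  rw [@norm_eq_sqrt_re_inner ℂ, @norm_eq_sqrt_re_inner ℂ, inner_eq, inner_eq]
  congr 2
  exact avgInner_map ρ h v v

theorem finrank_eq : Module.finrank ℂ (AvgSpace ρ) = n := by
  show Module.finrank ℂ (Fin n → ℂ) = n
  exact Module.finrank_fin_fun ℂ

end AvgSpace

/-- Jordan-type theorem for a faithful representation on `Fin n → ℂ`. -/
theorem exists_abelian_normal_of_faithful {G : Type*} [Group G] [Finite G] {n : ℕ}
    (ρ : Representation ℂ G (Fin n → ℂ)) (hinj : ∀ g, ρ g = 1 → g = 1) :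
    ∃ A : Subgroup G, A.Normal ∧ (∀ x ∈ A, ∀ y ∈ A, x * y = y * x) ∧
      ∀ H : Subgroup G, (∀ x ∈ H, ∀ y ∈ H, x * y = y * x) →
        (A.subgroupOf H).index ≤ 12 ^ n := by
  have : Fintype G := Fintype.ofFinite G
  have h := exists_abelian_normal_of_rep (AvgSpace.rep ρ) (AvgSpace.norm_rep ρ) hinj
  rw [AvgSpace.finrank_eq] at h
  exact h

end Cfsg.Agent.Lib.Helper15.Jordan
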