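import Cfsg.Agent.Lib.Helper87.LinRepEigen
import Cfsg.Agent.Lib.Helper87.LinRepBlocksP

set_option autoImplicit false
open scoped commutatorElement

namespace Cfsg.Agent.Lib.Helper15.LinRepLogP

open Cfsg.Agent.Lib.Helper87.LinRep

universe u v

/-- The inductive step (faithful case) for the coprime-characteristic bound, base `p`. -/
theorem step_faithful_p {K : Type*} [Field K] [IsAlgClosed K] {p : ℕ} [Fact p.Prime]
    (hpK : (p : K) ≠ 0) (n : ℕ)
    (IH : ∀ m < n, ∀ (P : Type u) [Group P] [Finite P] (_ : IsPGroup p P) (V : Type v)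
      [AddCommGroup V] [Module K V] [FiniteDimensional K V] (ρ : P →* (V ≃ₗ[K] V)),
      Module.finrank K V = m → derivedSeries P (Nat.log p m + 1) ≤ ρ.ker)
    (P : Type u) [Group P] [Finite P] (hP : IsPGroup p P) (V : Type v)
    [AddCommGroup V] [Module K V] [FiniteDimensional K V] (ρ : P →* (V ≃ₗ[K] V))
    (hρ : Function.Injective ρ) (hn : Module.finrank K V = n) :
    derivedSeries P (Nat.log p n + 1) = ⊥ := by
  classical
  have hp : p.Prime := Fact.out
  rcases Nat.eq_zero_or_pos n with h0 | hpos
  · rw [h0] at hn
    have hsub : Subsingleton V := Module.finrank_zero_iff.1 hn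
    have : Subsingleton P := ⟨fun a b => hρ (by ext v; exact Subsingleton.elim _ _)⟩
    exact Subsingleton.elim _ _
  have hnt : Nontrivial V := Module.finrank_pos_iff.1 (hn ▸ hpos)
  by_cases hred : ∃ W : Submodule K V, Inv ρ W ∧ W ≠ ⊥ ∧ W ≠ ⊤
  · obtain ⟨W, hW, hWbot, hWtop⟩ := hred
    have hm1 : Module.finrank K W < n := hn ▸ Submodule.finrank_lt hWtop
    have hm2 : Module.finrank K (V ⧸ W) < n := by
      have h1 := W.finrank_quotient_add_finrank
      have h2 : 1 ≤ Module.finrank K W := Submodule.one_le_finrank_iff.2 hWbot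
      omega
    have h1 := IH _ hm1 P hP W (subRep ρ W hW) rfl
    have h2 := IH _ hm2 P hP (V ⧸ W) (quotRep ρ W hW) rfl
    rw [eq_bot_iff]
    intro g hg
    rw [Subgroup.mem_bot]
    apply hρ
    rw [map_one]
    have hg1 : g ∈ (subRep ρ W hW).ker :=
      h1 (derivedSeries_antitone P (Nat.add_le_add_right (Nat.log_mono_right hm1.le) 1) hg)
    have hg2 : g ∈ (quotRep ρ W hW).ker :=
      h2 (derivedSeries_antitone P (Nat.add_le_add_right (Nat.log_mono_right hm2.le) 1) hg)
    obtain ⟨e, he⟩ := hP g
    apply eq_one_of_unipotent hpK (ρ g) e (by rw [← map_pow, he, map_one]) W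
    · intro w hw
      have h3 := MonoidHom.mem_ker.1 hg1
      have h4 := subRep_apply ρ W hW g ⟨w, hw⟩
      rw [h3] at h4
      simpa using h4.symm
    · intro v
      have h3 := MonoidHom.mem_ker.1 hg2
      have h4 := quotRep_mk ρ W hW g v
      rw [h3] at h4
      exact (Submodule.Quotient.eq _).1 h4.symm
  · have hirr : ∀ W : Submodule K V, Inv ρ W → W = ⊥ ∨ W = ⊤ := by
      intro W hW
      by_contra h
      push Not at h
      exact hred ⟨W, hW, h.1, h.2⟩
    by_cases hab : Subgroup.center P = ⊤
    · have h1 : derivedSeries P 1 = ⊥ := by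
        rw [derivedSeries_one, commutator_eq_bot_iff_center_eq_top]; exact hab
      rw [eq_bot_iff, ← h1]
      exact derivedSeries_antitone P (by omega)
    · obtain ⟨M, E, hcM, hinv, hsup, hE1, hE2⟩ := exists_blocks_p hP ρ hρ hirr hab
      have hp2 : 2 ≤ p := hp.two_le
      have hMder : derivedSeries M (Nat.log p n) = ⊥ := by
        rw [eq_bot_iff]
        intro x hx
        rw [Subgroup.mem_bot]
        have hfix : ∀ g : P, ∀ w ∈ E.map ((ρ g : V ≃ₗ[K] V) : V →ₗ[K] V),
            ρ (x : P) w = w := by
          intro g w hw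
          have hdim : Module.finrank K (E.map ((ρ g : V ≃ₗ[K] V) : V →ₗ[K] V)) =
              Module.finrank K E := LinearEquiv.finrank_map_eq (ρ g) E
          have hlt : Module.finrank K (E.map ((ρ g : V ≃ₗ[K] V) : V →ₗ[K] V)) < n := by
            rw [hdim]
            have : 2 * Module.finrank K E ≤ p * Module.finrank K E :=
              Nat.mul_le_mul_right _ hp2
            omega
          have h1 := IH _ hlt M (hP.to_subgroup M) (E.map ((ρ g : V ≃ₗ[K] V) : V →ₗ[K] V))
            (subRep (ρ.comp M.subtype) _ (hinv g)) rfl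
          have hlog : Nat.log p (Module.finrank K (E.map ((ρ g : V ≃ₗ[K] V) : V →ₗ[K] V))) + 1
              ≤ Nat.log p n := by
            rw [hdim]
            calc Nat.log p (Module.finrank K E) + 1
                = Nat.log p (Module.finrank K E * p) :=
                  (Nat.log_mul_base hp.one_lt (by omega)).symm
              _ ≤ Nat.log p n := Nat.log_mono_right (by rw [mul_comm]; omega)
          have hx1 := h1 (derivedSeries_antitone M hlog hx)
          have h3 := MonoidHom.mem_ker.1 hx1
          have h4 := subRep_apply (ρ.comp M.subtype) _ (hinv g) x ⟨w, hw⟩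
          rw [h3] at h4
          simpa using h4.symm
        have hall : ∀ v : V, ρ (x : P) v = v := by
          let Fx : Submodule K V :=
            LinearMap.eqLocus ((ρ (x : P) : V ≃ₗ[K] V) : V →ₗ[K] V) LinearMap.id
          have hle : (⨆ g : P, E.map ((ρ g : V ≃ₗ[K] V) : V →ₗ[K] V)) ≤ Fx := by
            apply iSup_le
            intro g w hw
            rw [LinearMap.mem_eqLocus]
            exact hfix g w hw
          intro v
          have hv : v ∈ Fx := hle (by rw [hsup]; trivial)
          rw [LinearMap.mem_eqLocus] at hv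
          exact hv
        apply Subtype.ext
        apply hρ
        ext v
        simp [hall]
      rw [eq_bot_iff]
      refine (derivedSeries_succ_le_map M hcM _).trans ?_
      rw [hMder, Subgroup.map_bot]

/-- **Coprime characteristic case, base `p`**: a finite `p`-group acting on an `n`-dimensional
space over an algebraically closed field in which `p` is invertible acts through a group of
derived length at most `⌊log_p n⌋ + 1`. -/
theorem derivedSeries_le_ker_of_coprime_p {K : Type*} [Field K] [IsAlgClosed K] {p : ℕ}
    [Fact p.Prime] (hpK : (p : K) ≠ 0) :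
    ∀ (n : ℕ) (P : Type u) [Group P] [Finite P] (_ : IsPGroup p P) (V : Type v)
      [AddCommGroup V] [Module K V] [FiniteDimensional K V] (ρ : P →* (V ≃ₗ[K] V)),
      Module.finrank K V = n → derivedSeries P (Nat.log p n + 1) ≤ ρ.ker := by
  intro n
  induction n using Nat.strong_induction_on with
  | _ n IH =>
    intro P _ _ hP V _ _ _ ρ hn
    apply derivedSeries_le_ker_of_quotient
    exact step_faithful_p hpK n IH (P ⧸ ρ.ker) (hP.to_quotient _) V (QuotientGroup.kerLift ρ)
      (QuotientGroup.kerLift_injective ρ) hn

/-- Bound in terms of eigenspace dimensions of non-identity eigenvalues, base `p`. -/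
theorem derivedSeries_le_ker_of_eigen_bound_p {K : Type*} [Field K] [IsAlgClosed K] {p : ℕ}
    [Fact p.Prime] (hpK : (p : K) ≠ 0) {P : Type u} [Group P] [Finite P] (hP : IsPGroup p P)
    (d : ℕ) :
    ∀ (n : ℕ) (V : Type v) [AddCommGroup V] [Module K V] [FiniteDimensional K V]
      (ρ : P →* (V ≃ₗ[K] V)), Module.finrank K V = n →
      (∀ (z : P) (ζ : K), ζ ≠ 1 → Module.finrank K
        (Module.End.eigenspace ((ρ z : V ≃ₗ[K] V) : V →ₗ[K] V) ζ) ≤ d) →
      derivedSeries P (Nat.log p d + 1) ≤ ρ.ker := by
  intro n
  induction n using Nat.strong_induction_on with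
  | _ n IH =>
    intro V _ _ _ ρ hn H
    by_cases hred : ∃ W : Submodule K V, Inv ρ W ∧ W ≠ ⊥ ∧ W ≠ ⊤
    · obtain ⟨W, hW, hWbot, hWtop⟩ := hred
      have hm1 : Module.finrank K W < n := hn ▸ Submodule.finrank_lt hWtop
      have hm2 : Module.finrank K (V ⧸ W) < n := by
        have h1 := W.finrank_quotient_add_finrank
        have h2 : 1 ≤ Module.finrank K W := Submodule.one_le_finrank_iff.2 hWbot
        omega
      have h1 := IH _ hm1 W (subRep ρ W hW) rfl
        (fun z ζ hζ => (finrank_eigenspace_subRep_le ρ W hW z ζ).trans (H z ζ hζ))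
      have h2 := IH _ hm2 (V ⧸ W) (quotRep ρ W hW) rfl
        (fun z ζ hζ => (finrank_eigenspace_quotRep_le hpK hP ρ W hW z ζ).trans (H z ζ hζ))
      intro g hg
      rw [MonoidHom.mem_ker]
      have hg1 : g ∈ (subRep ρ W hW).ker := h1 hg
      have hg2 : g ∈ (quotRep ρ W hW).ker := h2 hg
      obtain ⟨e, he⟩ := hP g
      apply eq_one_of_unipotent hpK (ρ g) e (by rw [← map_pow, he, map_one]) W
      · intro w hw
        have h3 := MonoidHom.mem_ker.1 hg1
        have h4 := subRep_apply ρ W hW g ⟨w, hw⟩
        rw [h3] at h4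
        simpa using h4.symm
      · intro v
        have h3 := MonoidHom.mem_ker.1 hg2
        have h4 := quotRep_mk ρ W hW g v
        rw [h3] at h4
        exact (Submodule.Quotient.eq _).1 h4.symm
    · have hirr : ∀ W : Submodule K V, Inv ρ W → W = ⊥ ∨ W = ⊤ := by
        intro W hW
        by_contra h
        push Not at h
        exact hred ⟨W, hW, h.1, h.2⟩
      rcases Nat.eq_zero_or_pos n with h0 | hpos
      · rw [h0] at hn
        have hsub : Subsingleton V := Module.finrank_zero_iff.1 hn
        intro g _
        rw [MonoidHom.mem_ker]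
        ext v
        exact Subsingleton.elim _ _
      have hnt : Nontrivial V := Module.finrank_pos_iff.1 (hn ▸ hpos)
      by_cases hker : ρ.ker = ⊤
      · rw [hker]; exact le_top
      · have hntQ : Nontrivial (P ⧸ ρ.ker) := by
          by_contra h
          rw [not_nontrivial_iff_subsingleton] at h
          apply hker
          rw [eq_top_iff]
          intro g _
          have : (QuotientGroup.mk g : P ⧸ ρ.ker) = QuotientGroup.mk 1 :=
            Subsingleton.elim _ _
          rw [QuotientGroup.mk_one, QuotientGroup.eq_one_iff] at this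
          exact this
        have hQ : IsPGroup p (P ⧸ ρ.ker) := hP.to_quotient _
        have hcen := hQ.center_nontrivial
        obtain ⟨⟨zb, hzb⟩, hzne⟩ := exists_ne (1 : Subgroup.center (P ⧸ ρ.ker))
        obtain ⟨z, rfl⟩ := QuotientGroup.mk_surjective zb
        have hzker : z ∉ ρ.ker := by
          intro hz
          apply hzne
          ext
          exact (QuotientGroup.eq_one_iff z).2 hz
        have hcomm : ∀ (g : P) (v : V), ρ z (ρ g v) = ρ g (ρ z v) := by
          intro g v
          have h1 := Subgroup.mem_center_iff.1 hzb (QuotientGroup.mk g)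
          have h2 : ρ (g * z) = ρ (z * g) := by
            rw [← QuotientGroup.kerLift_mk ρ (g * z), ← QuotientGroup.kerLift_mk ρ (z * g)]
            congr 1
          rw [← LinearEquiv.mul_apply, ← LinearEquiv.mul_apply, ← map_mul, ← map_mul, h2]
        obtain ⟨ζ, hζ⟩ := schur ρ hirr ((ρ z : V ≃ₗ[K] V) : V →ₗ[K] V) hcomm
        have hζ1 : ζ ≠ 1 := by
          intro h
          apply hzker
          rw [MonoidHom.mem_ker]
          ext v
          have := hζ v
          rw [h, one_smul] at this
          simpa using this
        have htop : Module.End.eigenspace ((ρ z : V ≃ₗ[K] V) : V →ₗ[K] V) ζ = ⊤ := by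
          rw [eq_top_iff]
          intro v _
          rw [Module.End.mem_eigenspace_iff]
          exact hζ v
        have hnd : n ≤ d := by
          have := H z ζ hζ1
          rw [htop, finrank_top, hn] at this
          exact this
        have h1 := derivedSeries_le_ker_of_coprime_p hpK n P hP V ρ hn
        refine le_trans (derivedSeries_antitone P ?_) h1
        exact Nat.add_le_add_right (Nat.log_mono_right hnd) 1

end Cfsg.Agent.Lib.Helper15.LinRepLogP
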