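import Mathlib
import Cfsg.Agent.Lib.Helper75.OddIndexParity
import Cfsg.Agent.Lib.Helper75.Clifford2
import Cfsg.Agent.Lib.Helper15.Gallagher
import Cfsg.Agent.Lib.Helper81.Gallagher
import Cfsg.Agent.Lib.Helper77.Linear
import Cfsg.Agent.S0886
import Cfsg.Agent.S0888

/-!
# Power-fixed characters over normal subgroups of odd index (helper15, S4519)

`k` is coprime to `|G|`, of 2-power order mod `|G|`, and inverts the elements of odd order.

* `exists_pow_fixed_over`: a power-fixed `θ ∈ Irr(N)`, `|G:N|` odd, lies under a power-fixed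
  `χ ∈ Irr(G)` (uniqueness is `Helper75.eq_of_pow_fixed_over`).
* `exists_monoidHom_of_two_extensions`: two irreducible extensions differ by a linear character.
* `exists_pow_fixed_extension_of_extension`: if `θ` extends, it has a power-fixed extension.
* `invariant_of_pow_fixed_extension`: the power-fixed extension is invariant in any overgroup.
* `exists_extension_of_pgroup_quotient`, `exists_pow_fixed_extension`: an invariant power-fixed
  `θ` extends to `G` when `|G:N|` is odd.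
-/

set_option autoImplicit false
set_option linter.unusedSectionVars false
set_option linter.style.haveILetI false

namespace Cfsg.Agent.Lib.Helper15

open Cfsg
open scoped ComplexConjugate
open Cfsg.Agent.Lib.Helper75

universe u

section Exist

variable {G : Type u} [Group G] [Fintype G] (N : Subgroup G) [hN : N.Normal] [Fintype N]

/-- **Existence of a fixed character over a fixed `θ`**, for a normal subgroup of odd index. -/
theorem exists_pow_fixed_over (hidx : Odd N.index) (k e : ℕ) (hk : k.Coprime (Nat.card G))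
    (hke : k ^ (2 ^ e) ≡ 1 [MOD Nat.card G]) (θ : IrrCharacter N)
    (hθ : ∀ n : N, (θ : N → ℂ) (n ^ k) = (θ : N → ℂ) n) :
    ∃ χ : IrrCharacter G, (∀ g : G, (χ : G → ℂ) (g ^ k) = (χ : G → ℂ) g) ∧
      classInner (fun n : N => (χ : G → ℂ) n) (θ : N → ℂ) ≠ 0 := by
  classical
  by_contra hcon
  push Not at hcon
  set T := (conjOrbit N (θ : N → ℂ)).card with hT
  set F : IrrCharacter G → ℕ := fun χ => resMult N χ θ * resMult N χ θ * T with hF
  have hd : 0 < charDegree (θ : N → ℂ) := Cfsg.Agent.Lib.Helper79.irr_charDegree_pos θ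
  have hsum : ∑ χ : IrrCharacter G, F χ = N.index := by
    have h1 := sum_resMult_mul_charDegree N θ
    have h2 : ∀ χ : IrrCharacter G, resMult N χ θ * charDegree (χ : G → ℂ) =
        F χ * charDegree (θ : N → ℂ) := by
      intro χ
      by_cases h0 : resMult N χ θ = 0
      · simp only [hF, h0, zero_mul]
      · rw [charDegree_eq_resMult_mul N χ θ ((resMult_ne_zero_iff N χ θ).mp h0)]
        simp only [hF]
        ring
    rw [Finset.sum_congr rfl (fun χ _ => h2 χ), ← Finset.sum_mul] at h1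
    exact Nat.eq_of_mul_eq_mul_right hd h1
  have hinv : ∀ χ, F (powIrr k hk χ) = F χ := by
    intro χ
    simp only [hF]
    rw [resMult_powIrr N k hk χ θ hθ]
  have hmod := sum_nat_modEq_sum_fixed e (powIrr (G := G) k hk)
    (powIrr_iterate_eq_id k hk e hke) F hinv
  have hz : ∑ χ ∈ Finset.univ.filter (fun χ => powIrr k hk χ = χ), F χ = 0 := by
    apply Finset.sum_eq_zero
    intro χ hχ
    rw [Finset.mem_filter] at hχ
    have hfix : ∀ g : G, (χ : G → ℂ) (g ^ k) = (χ : G → ℂ) g := fun g => by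
      have := congrArg (fun ψ : IrrCharacter G => (ψ : G → ℂ) g) hχ.2
      exact this
    have h0 := hcon χ hfix
    have : resMult N χ θ = 0 := by
      by_contra hne
      exact (resMult_ne_zero_iff N χ θ).mp hne h0
    simp only [hF, this, zero_mul]
  rw [hz, hsum] at hmod
  have := Nat.odd_iff.mp hidx
  have h3 : N.index % 2 = 0 := hmod
  omega

end Exist


section Adjust

variable {G : Type u} [Group G] [Finite G] (N : Subgroup G) [hN : N.Normal]

/-- Two irreducible extensions of `θ ∈ Irr(N)` differ by a linear character trivial on `N`. -/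
theorem exists_monoidHom_of_two_extensions (θ : N → ℂ) (hθ : IsIrrCharacter N θ)
    (χ₀ χ₁ : G → ℂ) (h₀ : IsIrrCharacter G χ₀) (h₁ : IsIrrCharacter G χ₁)
    (he₀ : ∀ n : N, χ₀ n = θ n) (he₁ : ∀ n : N, χ₁ n = θ n) :
    ∃ lam : G →* ℂˣ, (∀ n : N, lam (n : G) = 1) ∧ ∀ g, χ₁ g = ((lam g : ℂˣ) : ℂ) * χ₀ g := by
  classical
  have : Fintype G := Fintype.ofFinite G
  have : Fintype N := Fintype.ofFinite N
  have hcl₀ := Cfsg.Agent.Lib.Helper78.IsCharacter.isClassFunction
    (Cfsg.Agent.Lib.Helper78.IsIrrCharacter.isCharacter h₀)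
  have hinv : ∀ (g : G) (n : N), θ ⟨g * n * g⁻¹, hN.conj_mem (n : G) n.2 g⟩ = θ n := by
    intro g n
    rw [← he₀, ← he₀]
    exact hcl₀ n g
  have hone : IsIrrCharacter N (fun _ : N => (1 : ℂ)) := Cfsg.Agent.Lib.Helper78.isIrrCharacter_one
  have hprodeq : (fun _ : N => (1 : ℂ)) * θ = θ := by
    funext n
    simp
  have hcore := gallagher_core N (fun _ : N => (1 : ℂ)) θ hone (fun _ _ => rfl) hinv
    (by rw [hprodeq]; exact hθ) χ₀ h₀ he₀
  have h3 := hcore.2.2 ⟨χ₁, h₁⟩ (by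
    rw [hprodeq, frobenius_reciprocity N θ
      (Cfsg.Agent.Lib.Helper78.IsCharacter.isClassFunction
        (Cfsg.Agent.Lib.Helper78.IsIrrCharacter.isCharacter h₁))]
    have : (fun h : N => (⟨χ₁, h₁⟩ : IrrCharacter G).1 h) = θ := funext he₁
    show classInner θ (fun h : N => χ₁ h) ≠ 0
    rw [show (fun h : N => χ₁ h) = θ from funext he₁,
      Cfsg.Agent.Lib.Helper78.classInner_irr_self hθ]
    exact one_ne_zero)
  obtain ⟨β, hβ1, hβ2⟩ := h3
  have hβ2' : ∀ g, (β : G → ℂ) g * χ₀ g = χ₁ g := fun g => congrFun hβ2 g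
  have hχ₀1 : χ₀ 1 ≠ 0 := Cfsg.Agent.Lib.Helper80.char_one_ne_zero_of_isIrr h₀
  have hβone : (β : G → ℂ) 1 = 1 := by
    have h := hβ2' 1
    have h11 : χ₁ 1 = χ₀ 1 := by
      have a := he₁ 1
      have b := he₀ 1
      rw [Subgroup.coe_one] at a b
      rw [a, b]
    rw [h11] at h
    exact mul_right_cancel₀ hχ₀1 (by rw [h, one_mul])
  obtain ⟨lam, hlam⟩ := Cfsg.Agent.Lib.Helper77.exists_monoidHom_of_degree_one
    (Cfsg.Agent.Lib.Helper78.IsIrrCharacter.isCharacter β.2) hβone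
  have hker : ∀ n : N, (β : G → ℂ) n = (β : G → ℂ) 1 := by
    intro n
    apply Cfsg.Agent.Lib.Helper16.eq_apply_one_of_classInner_res_oneIrr_ne_zero N β
    rw [frobenius_reciprocity N _ (Cfsg.Agent.Lib.Helper78.isClassFunction_irr β)] at hβ1
    rw [← Cfsg.Agent.Lib.Helper78.classInner_conj_symm]
    intro h0
    apply hβ1
    have : classInner (fun _ : N => (1 : ℂ)) (fun h : N => (β : G → ℂ) h) = 0 := by
      have h5 : (Cfsg.Agent.Lib.Helper16.oneIrr N : N → ℂ) = fun _ : N => (1 : ℂ) := rfl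
      rw [h5] at h0
      exact (map_eq_zero _).mp h0
    exact this
  refine ⟨lam, fun n => ?_, fun g => ?_⟩
  · have h := hker n
    rw [hlam, hβone] at h
    exact Units.ext h
  · rw [← hlam, hβ2']



/-- If a power-fixed `θ ∈ Irr(N)` extends to `G` and `N` has odd index, it has a power-fixed
extension. -/
theorem exists_pow_fixed_extension_of_extension (hidx : Odd N.index) (k : ℕ)
    (hk : k.Coprime (Nat.card G)) (hk₂ : ∀ g : G, Odd (orderOf g) → g ^ k = g⁻¹)
    (θ : N → ℂ) (hθ : IsIrrCharacter N θ) (hθk : ∀ n : N, θ (n ^ k) = θ n)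
    (χ₀ : G → ℂ) (h₀ : IsIrrCharacter G χ₀) (he₀ : ∀ n : N, χ₀ n = θ n) :
    ∃ χ : G → ℂ, IsIrrCharacter G χ ∧ (∀ n : N, χ n = θ n) ∧ ∀ g : G, χ (g ^ k) = χ g := by
  have h₁ : IsIrrCharacter G (fun g => χ₀ (g ^ k)) := isIrrCharacter_pow h₀ k hk
  have he₁ : ∀ n : N, (fun g => χ₀ (g ^ k)) (n : G) = θ n := by
    intro n
    show χ₀ ((n : G) ^ k) = θ n
    have := he₀ (n ^ k)
    rw [Subgroup.coe_pow] at this
    rw [this, hθk]
  obtain ⟨lam, hlamN, hlam⟩ := exists_monoidHom_of_two_extensions N θ hθ χ₀ _ h₀ h₁ he₀ he₁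
  obtain ⟨j, hj⟩ := hidx
  set mu : G →* ℂˣ := lam ^ (j + 1) with hmu
  have hmuN : ∀ n : N, mu (n : G) = 1 := by
    intro n
    rw [hmu, MonoidHom.pow_apply, hlamN, one_pow]
  have hmu2 : ∀ g : G, mu g ^ 2 = lam g := by
    intro g
    rw [hmu, MonoidHom.pow_apply, ← pow_mul]
    have h1 : (j + 1) * 2 = N.index + 1 := by rw [hj]; ring
    rw [h1, pow_succ, ← map_pow]
    have h2 : g ^ N.index ∈ N := Subgroup.pow_index_mem N g
    have := hlamN ⟨_, h2⟩
    rw [this, one_mul]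
  have hmuk : ∀ g : G, mu g ^ (k + 1) = 1 := by
    intro g
    rw [← map_pow]
    have h2 : g ^ (k + 1) ∈ N := pow_succ_mem_of_odd_index N ⟨j, hj⟩ k hk₂ g
    exact hmuN ⟨_, h2⟩
  refine ⟨fun g => ((mu g : ℂˣ) : ℂ) * χ₀ g,
    Cfsg.Agent.Lib.Helper81.isIrrCharacter_monoidHom_mul mu h₀, fun n => ?_, fun g => ?_⟩
  · show ((mu (n : G) : ℂˣ) : ℂ) * χ₀ n = θ n
    rw [hmuN, Units.val_one, one_mul, he₀]
  · show ((mu (g ^ k) : ℂˣ) : ℂ) * χ₀ (g ^ k) = ((mu g : ℂˣ) : ℂ) * χ₀ g
    have h3 : χ₀ (g ^ k) = ((lam g : ℂˣ) : ℂ) * χ₀ g := hlam g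
    rw [h3, ← mul_assoc]
    congr 1
    rw [← Units.val_mul]
    congr 1
    rw [map_pow, ← hmu2 g, ← pow_add]
    have : k + 2 = (k + 1) + 1 := by ring
    rw [this, pow_succ, hmuk, one_mul]

end Adjust


section Inv

variable {G : Type u} [Group G] [Finite G] (N M : Subgroup G) [hN : N.Normal] [hM : M.Normal]

/-- A power-fixed irreducible character of `M` extending the `G`-invariant `θ ∈ Irr(N)`, with
`|M : N|` odd, is `G`-invariant (by uniqueness). -/
theorem invariant_of_pow_fixed_extension (hNM : N ≤ M) (hidx : Odd (N.relIndex M)) (k : ℕ)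
    (hk : k.Coprime (Nat.card G)) (hk₂ : ∀ g : G, Odd (orderOf g) → g ^ k = g⁻¹)
    (θ : N → ℂ) (hθ : IsIrrCharacter N θ)
    (hinv : ∀ (g : G) (n : N), θ ⟨g * n * g⁻¹, hN.conj_mem (n : G) n.2 g⟩ = θ n)
    (φ : M → ℂ) (hφ : IsIrrCharacter M φ) (hφk : ∀ m : M, φ (m ^ k) = φ m)
    (hext : ∀ n : N, φ ⟨(n : G), hNM n.2⟩ = θ n) (g : G) (m : M) :
    φ ⟨g * m * g⁻¹, hM.conj_mem (m : G) m.2 g⟩ = φ m := by
  classical
  have : Fintype M := Fintype.ofFinite M
  have : Fintype (N.subgroupOf M) := Fintype.ofFinite _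
  have hkM : k.Coprime (Nat.card M) := hk.coprime_dvd_right (Subgroup.card_subgroup_dvd_card M)
  have hk₂M : ∀ x : M, Odd (orderOf x) → x ^ k = x⁻¹ := by
    intro x hx
    apply Subtype.ext
    rw [Subgroup.coe_pow, Subgroup.coe_inv]
    apply hk₂
    rwa [Subgroup.orderOf_coe]
  set θ' : IrrCharacter (N.subgroupOf M) := ⟨liftNT N M θ, isIrrCharacter_liftNT N M hNM hθ⟩
    with hθ'
  set φ₁ : IrrCharacter M := ⟨φ, hφ⟩ with hφ₁
  set φ₂ : IrrCharacter M := ⟨Cfsg.Agent.Lib.Helper75.conjFun M g φ, Cfsg.Agent.Lib.Helper75.isIrrCharacter_conjFun M hφ g⟩ with hφ₂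
  have hres₁ : (fun x : N.subgroupOf M => (φ₁ : M → ℂ) x) = (θ' : N.subgroupOf M → ℂ) := by
    funext x
    show φ (x : M) = θ ⟨((x : M) : G), _⟩
    rw [← hext]
  have hres₂ : (fun x : N.subgroupOf M => (φ₂ : M → ℂ) x) = (θ' : N.subgroupOf M → ℂ) := by
    funext x
    show φ ⟨g * ((x : M) : G) * g⁻¹, _⟩ = θ ⟨((x : M) : G), _⟩
    have hx : ((x : M) : G) ∈ N := Subgroup.mem_subgroupOf.mp x.2
    have h1 := hext ⟨g * ((x : M) : G) * g⁻¹, hN.conj_mem _ hx g⟩
    have h2 := hinv g ⟨((x : M) : G), hx⟩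
    rw [← h2, ← h1]
  have hne : classInner (θ' : N.subgroupOf M → ℂ) (θ' : N.subgroupOf M → ℂ) ≠ 0 := by
    rw [Cfsg.Agent.Lib.Helper78.classInner_irr_self θ'.2]
    exact one_ne_zero
  have heq : φ₂ = φ₁ := by
    apply eq_of_pow_fixed_over (N.subgroupOf M) hidx k hkM hk₂M θ' φ₂ φ₁
    · intro x
      show φ ⟨g * ((x ^ k : M) : G) * g⁻¹, _⟩ = φ ⟨g * (x : G) * g⁻¹, _⟩
      have h1 := hφk ⟨g * (x : G) * g⁻¹, hM.conj_mem _ x.2 g⟩
      rw [← h1]
      congr 1
      apply Subtype.ext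
      show g * ((x ^ k : M) : G) * g⁻¹ = ((⟨g * (x : G) * g⁻¹, hM.conj_mem _ x.2 g⟩ : M) ^ k : M)
      rw [Subgroup.coe_pow, Subgroup.coe_pow]
      simp only [conj_pow]
    · exact hφk
    · rw [hres₂]; exact hne
    · rw [hres₁]; exact hne
  have := congrArg (fun ψ : IrrCharacter M => (ψ : M → ℂ) m) heq
  exact this

end Inv


section Transport

variable {G : Type u} [Group G] [Finite G] (N H : Subgroup G) [hN : N.Normal]

/-- the power-map hypotheses pass to subgroups -/
theorem pow_inv_subgroup (k : ℕ) (hk₂ : ∀ g : G, Odd (orderOf g) → g ^ k = g⁻¹) :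
    ∀ x : H, Odd (orderOf x) → x ^ k = x⁻¹ := by
  intro x hx
  apply Subtype.ext
  rw [Subgroup.coe_pow, Subgroup.coe_inv]
  apply hk₂
  rwa [Subgroup.orderOf_coe]

theorem liftNT_invariant (θ : N → ℂ)
    (hinv : ∀ (g : G) (n : N), θ ⟨g * n * g⁻¹, hN.conj_mem (n : G) n.2 g⟩ = θ n)
    (x : H) (y : N.subgroupOf H) :
    liftNT N H θ ⟨x * y * x⁻¹, (inferInstance : (N.subgroupOf H).Normal).conj_mem (y : H) y.2 x⟩ =
      liftNT N H θ y :=
  hinv (x : G) ⟨((y : H) : G), Subgroup.mem_subgroupOf.mp y.2⟩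

theorem liftNT_pow (θ : N → ℂ) (k : ℕ) (hθk : ∀ n : N, θ (n ^ k) = θ n) (y : N.subgroupOf H) :
    liftNT N H θ (y ^ k) = liftNT N H θ y :=
  hθk ⟨((y : H) : G), Subgroup.mem_subgroupOf.mp y.2⟩

end Transport

/-- **Extension over a `p`-group quotient** (`p` odd) of an invariant power-fixed character. -/
theorem exists_extension_of_pgroup_quotient (p : ℕ) [hp : Fact p.Prime] (hp2 : p ≠ 2) (k : ℕ) :
    ∀ (n : ℕ) (G : Type u) [Group G] [Finite G] (N : Subgroup G) [hN : N.Normal],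
      N.index = p ^ n → k.Coprime (Nat.card G) → (∀ g : G, Odd (orderOf g) → g ^ k = g⁻¹) →
      ∀ θ : N → ℂ, IsIrrCharacter N θ →
        (∀ (g : G) (n : N), θ ⟨g * n * g⁻¹, hN.conj_mem (n : G) n.2 g⟩ = θ n) →
        (∀ n : N, θ (n ^ k) = θ n) →
        ∃ χ : G → ℂ, IsIrrCharacter G χ ∧ ∀ n : N, χ n = θ n := by
  have hpodd : Odd p := hp.out.odd_of_ne_two hp2
  intro n
  induction n with
  | zero =>
    intro G _ _ N hN hidx hk hk₂ θ hθ hinv hθk
    rw [pow_zero, Subgroup.index_eq_one] at hidx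
    have hcyc : IsCyclic (G ⧸ N) := by
      have : Subsingleton (G ⧸ N) := by
        subst hidx
        exact QuotientGroup.subsingleton_quotient_top
      exact isCyclic_of_subsingleton
    exact Cfsg.Agent.S0886.result N hcyc θ hθ hinv
  | succ n ih =>
    intro G _ _ N hN hidx hk hk₂ θ hθ hinv hθk
    have hcardQ : Nat.card (G ⧸ N) = p ^ (n + 1) := by
      rw [← Subgroup.index_eq_card]; exact hidx
    obtain ⟨K, hK⟩ := Sylow.exists_subgroup_card_pow_prime (G := G ⧸ N) p (n := n)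
      (by rw [hcardQ]; exact pow_dvd_pow p (Nat.le_succ n))
    have hKidx : K.index = p := by
      have h1 := K.card_mul_index
      rw [hK, hcardQ, pow_succ] at h1
      exact Nat.eq_of_mul_eq_mul_left (pow_pos hp.out.pos n) h1
    have hKn : K.Normal := by
      apply Subgroup.normal_of_index_eq_minFac_card
      rw [hKidx, hcardQ, Nat.Prime.pow_minFac hp.out (Nat.succ_ne_zero n)]
    set M : Subgroup G := K.comap (QuotientGroup.mk' N) with hMdef
    have hMn : M.Normal := Subgroup.Normal.comap hKn _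
    have hNM : N ≤ M := by
      intro x hx
      rw [hMdef, Subgroup.mem_comap, QuotientGroup.mk'_apply, (QuotientGroup.eq_one_iff x).2 hx]
      exact K.one_mem
    have hMidx : M.index = p := by
      rw [hMdef, Subgroup.index_comap_of_surjective K (QuotientGroup.mk'_surjective N), hKidx]
    have hrel : N.relIndex M = p ^ n := by
      have h1 := Subgroup.relIndex_mul_index hNM
      rw [hMidx, hidx, pow_succ] at h1
      exact Nat.eq_of_mul_eq_mul_right hp.out.pos h1
    have hkM : k.Coprime (Nat.card M) := hk.coprime_dvd_right (Subgroup.card_subgroup_dvd_card M)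
    have hk₂M := pow_inv_subgroup M k hk₂
    have hθ' : IsIrrCharacter (N.subgroupOf M) (liftNT N M θ) := isIrrCharacter_liftNT N M hNM hθ
    obtain ⟨φ₀, hφ₀, hφ₀e⟩ := ih M (N.subgroupOf M) hrel hkM hk₂M (liftNT N M θ) hθ'
      (liftNT_invariant N M θ hinv) (liftNT_pow N M θ k hθk)
    have hoddrel : Odd (N.relIndex M) := by rw [hrel]; exact hpodd.pow
    obtain ⟨φ, hφ, hφe, hφk⟩ := exists_pow_fixed_extension_of_extension (N.subgroupOf M)
      hoddrel k hkM hk₂M (liftNT N M θ) hθ' (liftNT_pow N M θ k hθk) φ₀ hφ₀ hφ₀e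
    have hext : ∀ n : N, φ ⟨(n : G), hNM n.2⟩ = θ n := by
      intro n
      exact hφe ⟨⟨(n : G), hNM n.2⟩, Subgroup.mem_subgroupOf.mpr n.2⟩
    have hφinv := invariant_of_pow_fixed_extension N M hNM hoddrel k hk hk₂ θ hθ hinv φ hφ hφk hext
    have hcyc : IsCyclic (G ⧸ M) := by
      apply isCyclic_of_prime_card (p := p)
      rw [← Subgroup.index_eq_card]; exact hMidx
    obtain ⟨χ, hχ, hχe⟩ := Cfsg.Agent.S0886.result M hcyc φ hφ hφinv
    refine ⟨χ, hχ, fun n => ?_⟩
    rw [← hext n]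
    exact hχe ⟨(n : G), hNM n.2⟩


/-- **Power-fixed extension over odd index.**  If `N ⊴ G` has odd index and `θ ∈ Irr(N)` is
`G`-invariant and fixed by `n ↦ n ^ k` (where `k` inverts the elements of odd order), then `θ`
has an irreducible extension to `G` fixed by `g ↦ g ^ k`. -/
theorem exists_pow_fixed_extension {G : Type u} [Group G] [Finite G] (N : Subgroup G)
    [hN : N.Normal] (hidx : Odd N.index) (k : ℕ) (hk : k.Coprime (Nat.card G))
    (hk₂ : ∀ g : G, Odd (orderOf g) → g ^ k = g⁻¹) (θ : N → ℂ) (hθ : IsIrrCharacter N θ)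
    (hinv : ∀ (g : G) (n : N), θ ⟨g * n * g⁻¹, hN.conj_mem (n : G) n.2 g⟩ = θ n)
    (hθk : ∀ n : N, θ (n ^ k) = θ n) :
    ∃ χ : G → ℂ, IsIrrCharacter G χ ∧ (∀ n : N, χ n = θ n) ∧ ∀ g : G, χ (g ^ k) = χ g := by
  have hext : ∃ χ₀ : G → ℂ, IsIrrCharacter G χ₀ ∧ ∀ n : N, χ₀ n = θ n := by
    apply Cfsg.Agent.S0888.result N θ hθ hinv
    intro p hp
    by_cases hp2 : p = 2
    · subst hp2
      refine ⟨N, le_refl N, θ, ?_, ⟨0, ?_⟩, hθ, fun n => rfl⟩
      · exact Nat.coprime_two_right.mpr hidx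
      · rw [Subgroup.relIndex_self, pow_zero]
    · haveI : Fact p.Prime := ⟨hp⟩
      let S : Sylow p (G ⧸ N) := default
      set P : Subgroup G := (S : Subgroup (G ⧸ N)).comap (QuotientGroup.mk' N) with hPdef
      have hNP : N ≤ P := by
        intro x hx
        rw [hPdef, Subgroup.mem_comap, QuotientGroup.mk'_apply, (QuotientGroup.eq_one_iff x).2 hx]
        exact (S : Subgroup (G ⧸ N)).one_mem
      have hPidx : P.index = (S : Subgroup (G ⧸ N)).index := by
        rw [hPdef, Subgroup.index_comap_of_surjective _ (QuotientGroup.mk'_surjective N)]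
      obtain ⟨m, hm⟩ := IsPGroup.iff_card.mp S.isPGroup'
      have hrel : N.relIndex P = p ^ m := by
        have h1 := Subgroup.relIndex_mul_index hNP
        have h2 := (S : Subgroup (G ⧸ N)).card_mul_index
        rw [← Subgroup.index_eq_card, hm, ← hPidx] at h2
        rw [← h2] at h1
        have hpos : 0 < P.index := Nat.pos_of_ne_zero Subgroup.index_ne_zero_of_finite
        exact Nat.eq_of_mul_eq_mul_right hpos h1
      have hcop : Nat.Coprime P.index p := by
        rw [hPidx]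
        exact ((Nat.Prime.coprime_iff_not_dvd hp).mpr S.not_dvd_index).symm
      have hkP : k.Coprime (Nat.card P) :=
        hk.coprime_dvd_right (Subgroup.card_subgroup_dvd_card P)
      obtain ⟨η, hη, hηe⟩ := exists_extension_of_pgroup_quotient p hp2 k m P (N.subgroupOf P)
        hrel hkP (pow_inv_subgroup P k hk₂) (liftNT N P θ) (isIrrCharacter_liftNT N P hNP hθ)
        (liftNT_invariant N P θ hinv) (liftNT_pow N P θ k hθk)
      exact ⟨P, hNP, η, hcop, ⟨m, hrel⟩, hη, fun n =>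
        hηe ⟨⟨(n : G), hNP n.2⟩, Subgroup.mem_subgroupOf.mpr n.2⟩⟩
  obtain ⟨χ₀, h₀, he₀⟩ := hext
  exact exists_pow_fixed_extension_of_extension N hidx k hk hk₂ θ hθ hθk χ₀ h₀ he₀

end Cfsg.Agent.Lib.Helper15
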