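import Mathlib
import Cfsg.Prelude.Def_Local
import Cfsg.Agent.Lib.Helper22.Components
import Cfsg.Agent.Lib.Helper22.FStar

/-!
helper15: groups in which cyclic `p`-subgroups of the same order are conjugate have at most one
component, provided that every component has a central quotient of even order (which follows from
the Odd Order Theorem).  Used for S3915.
-/

set_option autoImplicit false

namespace Cfsg.Agent.Lib.Helper15.OneComponent

open Cfsg
open Cfsg.Agent.Lib.Helper22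
open scoped commutatorElement

variable {G : Type*} [Group G]

/-- elements of commuting subgroups commute -/
theorem mul_comm_of_commutator_eq_bot {H K : Subgroup G} (h : ⁅H, K⁆ = ⊥) {a b : G}
    (ha : a ∈ H) (hb : b ∈ K) : a * b = b * a := by
  have h1 : ⁅a, b⁆ ∈ ⁅H, K⁆ := Subgroup.commutator_mem_commutator ha hb
  rw [h, Subgroup.mem_bot, commutatorElement_eq_one_iff_mul_comm] at h1
  exact h1

/-- A product of noncentral elements of two distinct components lies in no component. -/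
theorem mul_notMem_component [Finite G] {L₁ L₂ L' : Subgroup G} (h₁ : IsComponent L₁)
    (h₂ : IsComponent L₂) (h' : IsComponent L') (hne : L₁ ≠ L₂) {x₁ x₂ : G} (hx₁ : x₁ ∈ L₁)
    (hx₂ : x₂ ∈ L₂) (hc₁ : ∃ c ∈ L₁, c * x₁ ≠ x₁ * c) (hc₂ : ∃ c ∈ L₂, c * x₂ ≠ x₂ * c) :
    x₁ * x₂ ∉ L' := by
  intro hy
  have h12 : ⁅L₁, L₂⁆ = ⊥ := component_commutator_eq_bot_of_ne h₁ h₂ hne
  by_cases hL : L' = L₁
  · have hL2 : L' ≠ L₂ := fun h => hne (hL.symm.trans h)
    have h'2 : ⁅L', L₂⁆ = ⊥ := component_commutator_eq_bot_of_ne h' h₂ hL2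
    obtain ⟨c, hc, hcne⟩ := hc₂
    apply hcne
    have e1 : x₁ * x₂ * c = c * (x₁ * x₂) := mul_comm_of_commutator_eq_bot h'2 hy hc
    have e2 : x₁ * c = c * x₁ := mul_comm_of_commutator_eq_bot h12 hx₁ hc
    have e3 : x₁ * (c * x₂) = x₁ * (x₂ * c) := by
      rw [← mul_assoc, e2, mul_assoc, ← e1, mul_assoc]
    exact mul_left_cancel e3
  · have h'1 : ⁅L', L₁⁆ = ⊥ := component_commutator_eq_bot_of_ne h' h₁ hL
    obtain ⟨c, hc, hcne⟩ := hc₁
    apply hcne
    have e1 : x₁ * x₂ * c = c * (x₁ * x₂) := mul_comm_of_commutator_eq_bot h'1 hy hc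
    have e2 : c * x₂ = x₂ * c := mul_comm_of_commutator_eq_bot h12 hc hx₂
    have e3 : (c * x₁) * x₂ = (x₁ * c) * x₂ := by
      rw [mul_assoc, ← e1, mul_assoc, mul_assoc, e2]
    exact mul_right_cancel e3

/-- If `L / Z(L)` has even order then `L` has a noncentral `2`-element. -/
theorem exists_two_element [Finite G] (L : Subgroup G)
    (hEven : Even (Nat.card (↥L ⧸ Subgroup.center ↥L))) :
    ∃ x : G, x ∈ L ∧ (∃ n : ℕ, orderOf x = 2 ^ n) ∧ ∃ c ∈ L, c * x ≠ x * c := by
  have : Fact (Nat.Prime 2) := ⟨Nat.prime_two⟩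
  obtain ⟨P⟩ : Nonempty (Sylow 2 ↥L) := inferInstance
  by_cases hPZ : (P : Subgroup ↥L) ≤ Subgroup.center ↥L
  · exfalso
    have h1 : (Subgroup.center ↥L).index ∣ (P : Subgroup ↥L).index := Subgroup.index_dvd_of_le hPZ
    rw [← Subgroup.index_eq_card] at hEven
    exact P.not_dvd_index ((even_iff_two_dvd.mp hEven).trans h1)
  · obtain ⟨x, hxP, hxZ⟩ := SetLike.not_le_iff_exists.mp hPZ
    refine ⟨(x : G), x.2, ?_, ?_⟩
    · obtain ⟨k, hk⟩ := (IsPGroup.iff_orderOf.mp P.isPGroup') ⟨x, hxP⟩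
      refine ⟨k, ?_⟩
      rw [← hk, Subgroup.orderOf_mk, Subgroup.orderOf_coe]
    · rw [Subgroup.mem_center_iff] at hxZ
      push Not at hxZ
      obtain ⟨c, hc⟩ := hxZ
      refine ⟨(c : G), c.2, ?_⟩
      intro h
      apply hc
      exact Subtype.ext h

/-- an element of any order dividing the order of `x` among the powers of `x` -/
theorem exists_pow_orderOf_eq {x : G} {d : ℕ} (hd : d ∣ orderOf x) (hpos : 0 < orderOf x) :
    ∃ k : ℕ, orderOf (x ^ k) = d := by
  refine ⟨orderOf x / d, ?_⟩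
  have hd0 : d ≠ 0 := by
    rintro rfl
    rw [zero_dvd_iff] at hd
    omega
  have h1 : orderOf x / d ≠ 0 := by
    intro h
    rw [Nat.div_eq_zero_iff] at h
    rcases h with h | h
    · exact hd0 h
    · exact absurd (Nat.le_of_dvd hpos hd) (by omega)
  rw [orderOf_pow_of_dvd h1 (Nat.div_dvd_of_dvd hd), Nat.div_div_self hd hpos.ne']

/-- Two distinct components are impossible. -/
theorem false_of_two_components [Finite G]
    (hP : ∀ (p : ℕ), p.Prime → ∀ A B : Subgroup G, IsCyclic ↥A → IsCyclic ↥B → IsPGroup p ↥A →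
      Nat.card ↥A = Nat.card ↥B → ∃ g : G, B = A.map (MulAut.conj g).toMonoidHom)
    (hEven : ∀ L : Subgroup G, IsComponent L → Even (Nat.card (↥L ⧸ Subgroup.center ↥L)))
    {L₁ L₂ : Subgroup G} (h₁ : IsComponent L₁) (h₂ : IsComponent L₂) (hne : L₁ ≠ L₂) : False := by
  obtain ⟨x₁, hx₁, ⟨n₁, ho₁⟩, hc₁⟩ := exists_two_element L₁ (hEven L₁ h₁)
  obtain ⟨x₂, hx₂, ⟨n₂, ho₂⟩, hc₂⟩ := exists_two_element L₂ (hEven L₂ h₂)
  have h12 : ⁅L₁, L₂⁆ = ⊥ := component_commutator_eq_bot_of_ne h₁ h₂ hne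
  have hcomm : Commute x₁ x₂ := mul_comm_of_commutator_eq_bot h12 hx₁ hx₂
  -- the order of the product
  have hdvd : orderOf (x₁ * x₂) ∣ 2 ^ max n₁ n₂ := by
    refine hcomm.orderOf_mul_dvd_lcm.trans ?_
    rw [ho₁, ho₂]
    exact Nat.lcm_dvd (pow_dvd_pow 2 (le_max_left _ _)) (pow_dvd_pow 2 (le_max_right _ _))
  obtain ⟨b, hb, hob⟩ := (Nat.dvd_prime_pow Nat.prime_two).mp hdvd
  -- a cyclic subgroup of the same order inside one of the two components
  have key : ∃ (L : Subgroup G) (a : G), IsComponent L ∧ a ∈ L ∧ orderOf a = 2 ^ b := by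
    rcases le_max_iff.mp hb with hb1 | hb2
    · have hd : 2 ^ b ∣ orderOf x₁ := by rw [ho₁]; exact pow_dvd_pow 2 hb1
      obtain ⟨k, hk⟩ := exists_pow_orderOf_eq hd (by rw [ho₁]; positivity)
      exact ⟨L₁, x₁ ^ k, h₁, L₁.pow_mem hx₁ k, hk⟩
    · have hd : 2 ^ b ∣ orderOf x₂ := by rw [ho₂]; exact pow_dvd_pow 2 hb2
      obtain ⟨k, hk⟩ := exists_pow_orderOf_eq hd (by rw [ho₂]; positivity)
      exact ⟨L₂, x₂ ^ k, h₂, L₂.pow_mem hx₂ k, hk⟩
  obtain ⟨L, a, hL, haL, hoa⟩ := key
  have hcardA : Nat.card ↥(Subgroup.zpowers a) = 2 ^ b := by rw [Nat.card_zpowers, hoa]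
  have hcardB : Nat.card ↥(Subgroup.zpowers (x₁ * x₂)) = 2 ^ b := by rw [Nat.card_zpowers, hob]
  obtain ⟨g, hg⟩ := hP 2 Nat.prime_two (Subgroup.zpowers a) (Subgroup.zpowers (x₁ * x₂))
    inferInstance inferInstance (IsPGroup.of_card hcardA) (hcardA.trans hcardB.symm)
  have hy : x₁ * x₂ ∈ (Subgroup.zpowers a).map (MulAut.conj g).toMonoidHom := by
    rw [← hg]
    exact Subgroup.mem_zpowers _
  have hy' : x₁ * x₂ ∈ L.map (MulAut.conj g).toMonoidHom :=
    Subgroup.map_mono ((Subgroup.zpowers_le).mpr haL) hy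
  exact mul_notMem_component h₁ h₂ (component_conj hL g) hne hx₁ hx₂ hc₁ hc₂ hy'

/-- a group with solvable central quotient is solvable -/
theorem isSolvable_of_quotient_center {H : Type*} [Group H]
    (hq : Group.IsSolvable (H ⧸ Subgroup.center H)) : Group.IsSolvable H := by
  have hz : Group.IsSolvable ↥(Subgroup.center H) :=
    Group.isSolvable_of_comm (fun a b => by
      apply Subtype.ext
      have := (Subgroup.mem_center_iff.mp b.2) a.1
      simpa using this)
  exact Group.isSolvable_of_ker_le_range (Subgroup.center H).subtype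
    (QuotientGroup.mk' (Subgroup.center H))
    (by
      intro x hx
      rw [QuotientGroup.ker_mk'] at hx
      exact ⟨⟨x, hx⟩, rfl⟩)

/-- By the Odd Order Theorem (given as a hypothesis on the central quotients of subgroups),
the central quotient of a component has even order. -/
theorem even_card_of_component
    (FT : ∀ L : Subgroup G, Odd (Nat.card (↥L ⧸ Subgroup.center ↥L)) →
      Group.IsSolvable (↥L ⧸ Subgroup.center ↥L))
    {L : Subgroup G} (hL : IsComponent L) : Even (Nat.card (↥L ⧸ Subgroup.center ↥L)) := by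
  by_contra hodd
  rw [Nat.not_even_iff_odd] at hodd
  exact component_not_isSolvable hL (isSolvable_of_quotient_center (FT L hodd))

/-- **One component.** -/
theorem main [Finite G]
    (hP : ∀ (p : ℕ), p.Prime → ∀ A B : Subgroup G, IsCyclic ↥A → IsCyclic ↥B → IsPGroup p ↥A →
      Nat.card ↥A = Nat.card ↥B → ∃ g : G, B = A.map (MulAut.conj g).toMonoidHom)
    (hEven : ∀ L : Subgroup G, IsComponent L → Even (Nat.card (↥L ⧸ Subgroup.center ↥L)))
    (hE : Cfsg.layer G ≠ ⊥) :
    IsSimpleGroup (↥(Cfsg.layer G) ⧸ Subgroup.center ↥(Cfsg.layer G)) ∧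
      ¬ IsMulCommutative (↥(Cfsg.layer G) ⧸ Subgroup.center ↥(Cfsg.layer G)) := by
  -- there is a component
  have hex : ∃ L₀ : Subgroup G, IsComponent L₀ := by
    by_contra hno
    push Not at hno
    apply hE
    unfold Cfsg.layer
    rw [eq_bot_iff]
    apply sSup_le
    intro K hK
    exact absurd hK (hno K)
  obtain ⟨L₀, h₀⟩ := hex
  have hall : ∀ K : Subgroup G, IsComponent K → K = L₀ := by
    intro K hK
    by_contra hne
    exact false_of_two_components hP hEven hK h₀ hne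
  have hlayer : Cfsg.layer G = L₀ := by
    unfold Cfsg.layer
    apply le_antisymm
    · apply sSup_le
      intro K hK
      exact (hall K hK).le
    · exact le_sSup h₀
  rw [hlayer]
  refine ⟨h₀.2.2, ?_⟩
  intro hcomm
  apply component_not_isSolvable h₀
  have hq : Group.IsSolvable (↥L₀ ⧸ Subgroup.center ↥L₀) := by
    have := hcomm.is_comm
    exact Group.isSolvable_of_comm (fun a b => this.comm a b)
  exact isSolvable_of_quotient_center hq

/-- **S3915 modulo the Odd Order Theorem.** -/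
theorem main_of_FT [Finite G]
    (FT : ∀ L : Subgroup G, Odd (Nat.card (↥L ⧸ Subgroup.center ↥L)) →
      Group.IsSolvable (↥L ⧸ Subgroup.center ↥L))
    (hP : ∀ (p : ℕ), p.Prime → ∀ A B : Subgroup G, IsCyclic ↥A → IsCyclic ↥B → IsPGroup p ↥A →
      Nat.card ↥A = Nat.card ↥B → ∃ g : G, B = A.map (MulAut.conj g).toMonoidHom)
    (hE : Cfsg.layer G ≠ ⊥) :
    IsSimpleGroup (↥(Cfsg.layer G) ⧸ Subgroup.center ↥(Cfsg.layer G)) ∧
      ¬ IsMulCommutative (↥(Cfsg.layer G) ⧸ Subgroup.center ↥(Cfsg.layer G)) :=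
  main hP (fun _ hL => even_card_of_component FT hL) hE

end Cfsg.Agent.Lib.Helper15.OneComponent
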