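import Mathlib
import Cfsg.Agent.Lib.Helper22.S1936Defs

/-!
# S1936, modules RED-[QUOT] and RED-[INV] (helper15)

* `hp_quotient` : `HP p G` passes to arbitrary quotients (Frattini + Schur–Zassenhaus).
* `eq_one_of_inverted` : an involution inverting an element of odd order prime to `p` forces it to be trivial.
-/

set_option autoImplicit false
universe u
open Cfsg.Agent.Lib.Helper22.S1936

namespace Cfsg.Agent.Lib.Helper15.S1936

/-- a normal subgroup containing every Sylow `p`-subgroup has a `p'`-supplement -/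
theorem exists_pprime_supplement {K : Type*} [Group K] [Finite K] (p : ℕ) [Fact p.Prime]
    (N : Subgroup K) [N.Normal] (hPN : ∀ P : Sylow p K, (P : Subgroup K) ≤ N) :
    ∃ H : Subgroup K, (Nat.card ↥H).Coprime p ∧ ∀ x : K, ∃ h ∈ H, ∃ n ∈ N, x = h * n := by
  classical
  obtain ⟨P⟩ : Nonempty (Sylow p K) := inferInstance
  have hfr : Subgroup.normalizer ((P : Subgroup K) : Set K) ⊔ N = ⊤ :=
    Sylow.normalizer_sup_eq_top' P (hPN P)
  obtain ⟨M, hM⟩ : ∃ M : Subgroup K, M = Subgroup.normalizer ((P : Subgroup K) : Set K) := ⟨_, rfl⟩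
  have hPM : (P : Subgroup K) ≤ M := hM ▸ Subgroup.le_normalizer
  have hnorm : ((P : Subgroup K).subgroupOf M).Normal := by
    subst hM
    exact Subgroup.normal_in_normalizer
  -- coprimality
  have hcardP' : Nat.card ↥((P : Subgroup K).subgroupOf M) = Nat.card ↥(P : Subgroup K) :=
    Nat.card_congr (Subgroup.subgroupOfEquivOfLe hPM).toEquiv
  have hidx : ((P : Subgroup K).subgroupOf M).index ∣ (P : Subgroup K).index := by
    show (P : Subgroup K).relIndex M ∣ (P : Subgroup K).index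
    exact Subgroup.relIndex_dvd_index_of_le hPM
  have hcop : Nat.Coprime (Nat.card ↥((P : Subgroup K).subgroupOf M))
      ((P : Subgroup K).subgroupOf M).index := by
    rw [hcardP']
    exact Nat.Coprime.coprime_dvd_right hidx P.card_coprime_index
  obtain ⟨H', hH'⟩ := Subgroup.exists_right_complement'_of_coprime hcop
  have hcardH' : Nat.card ↥H' = ((P : Subgroup K).subgroupOf M).index := by
    have h1 := hH'.card_mul_card
    have h2 := ((P : Subgroup K).subgroupOf M).card_mul_index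
    have hpos : 0 < Nat.card ↥((P : Subgroup K).subgroupOf M) := Nat.card_pos
    exact Nat.eq_of_mul_eq_mul_left hpos (h1.trans h2.symm)
  have hpndvd : ¬ p ∣ (P : Subgroup K).index := P.not_dvd_index
  have hH'cop : (Nat.card ↥H').Coprime p := by
    rw [hcardH', Nat.coprime_comm, Nat.Prime.coprime_iff_not_dvd (Fact.out : p.Prime)]
    exact fun hdvd => hpndvd (dvd_trans hdvd hidx)
  refine ⟨H'.map M.subtype, ?_, fun x => ?_⟩
  · rw [Nat.card_congr (Subgroup.equivMapOfInjective H' M.subtype M.subtype_injective).symm.toEquiv]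
    exact hH'cop
  · have hx : x ∈ ((Subgroup.normalizer ((P : Subgroup K) : Set K) ⊔ N : Subgroup K) : Set K) := by
      rw [hfr]; trivial
    rw [Subgroup.mul_normal, Set.mem_mul] at hx
    obtain ⟨m, hm, n, hn, rfl⟩ := hx
    have hmM : m ∈ M := hM ▸ hm
    obtain ⟨⟨u, h⟩, huh⟩ := hH'.surjective ⟨m, hmM⟩
    have huh' : (u : M).1 * (h : M).1 = m := by
      have := congrArg Subtype.val huh
      simpa using this
    have huN : ((u : M) : K) ∈ N := hPN P (Subgroup.mem_subgroupOf.mp u.2)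
    refine ⟨(h : M).1, ⟨h.1, h.2, rfl⟩, ((h : M).1)⁻¹ * (u : M).1 * (h : M).1 * n, ?_, ?_⟩
    · refine N.mul_mem ?_ hn
      have := (inferInstance : N.Normal).conj_mem _ huN ((h : M).1)⁻¹
      simpa using this
    · rw [← huh']
      group

variable {G : Type u} [Group G] [Finite G] {p : ℕ} [Fact p.Prime]

/-- RED-[QUOT] (0.1): `HP` passes to arbitrary quotients (Frattini + Schur–Zassenhaus). -/
theorem hp_quotient (h : HP p G) (N : Subgroup G) [N.Normal] : HP p (G ⧸ N) := by
  classical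
  intro Kbar hK
  obtain ⟨K, hKdef⟩ : ∃ K : Subgroup G, K = Kbar.comap (QuotientGroup.mk' N) := ⟨_, rfl⟩
  have hmemK : ∀ x : G, x ∈ K ↔ (QuotientGroup.mk' N x) ∈ Kbar := fun x => by
    rw [hKdef]; rfl
  -- every Sylow p-subgroup of `K` lies in `N`
  have hPN : ∀ P : Sylow p ↥K, (P : Subgroup ↥K) ≤ N.subgroupOf K := by
    intro P x hx
    rw [Subgroup.mem_subgroupOf]
    have hxK : (QuotientGroup.mk' N (x : G)) ∈ Kbar := (hmemK _).mp x.2
    obtain ⟨k, hk⟩ := P.isPGroup' ⟨x, hx⟩
    have hk' : (x : G) ^ p ^ k = 1 := by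
      have := congrArg (fun y : (P : Subgroup ↥K) => ((y : ↥K) : G)) hk
      simpa using this
    have h1 : orderOf (QuotientGroup.mk' N (x : G)) ∣ p ^ k := by
      apply orderOf_dvd_of_pow_eq_one
      rw [← map_pow, hk', map_one]
    have h2 : orderOf (QuotientGroup.mk' N (x : G)) ∣ Nat.card ↥Kbar := by
      have := orderOf_dvd_natCard (⟨_, hxK⟩ : ↥Kbar)
      rwa [Subgroup.orderOf_mk] at this
    have h3 : orderOf (QuotientGroup.mk' N (x : G)) = 1 := by
      have hc : Nat.Coprime (p ^ k) (Nat.card ↥Kbar) := Nat.Coprime.pow_left k hK.symm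
      exact Nat.eq_one_of_dvd_coprimes hc h1 h2
    rw [orderOf_eq_one_iff] at h3
    exact (QuotientGroup.eq_one_iff _).mp h3
  obtain ⟨H, hHcop, hHsup⟩ := exists_pprime_supplement p (N.subgroupOf K) hPN
  -- the `p'`-subgroup of `G`
  obtain ⟨hc, he⟩ := h (H.map K.subtype) (by
    rw [Nat.card_congr (Subgroup.equivMapOfInjective H K.subtype K.subtype_injective).symm.toEquiv]
    exact hHcop)
  have hrep : ∀ y ∈ Kbar, ∃ g ∈ H.map K.subtype, QuotientGroup.mk' N g = y := by
    intro y hy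
    obtain ⟨x, rfl⟩ := QuotientGroup.mk'_surjective N y
    have hxK : x ∈ K := (hmemK x).mpr hy
    obtain ⟨g, hg, n, hn, hxgn⟩ := hHsup ⟨x, hxK⟩
    refine ⟨(g : G), ⟨g, hg, rfl⟩, ?_⟩
    have hx' : x = (g : G) * (n : G) := by
      have := congrArg Subtype.val hxgn
      simpa using this
    have hnN : (n : G) ∈ N := Subgroup.mem_subgroupOf.mp hn
    have hn1 : QuotientGroup.mk' N (n : G) = 1 := (QuotientGroup.eq_one_iff _).mpr hnN
    rw [hx', map_mul, hn1, mul_one]
  refine ⟨⟨⟨fun a b => ?_⟩⟩, fun x hx => ?_⟩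
  · obtain ⟨g₁, hg₁, h₁⟩ := hrep a.1 a.2
    obtain ⟨g₂, hg₂, h₂⟩ := hrep b.1 b.2
    have hcomm : g₁ * g₂ = g₂ * g₁ := by
      have := hc.is_comm.comm ⟨g₁, hg₁⟩ ⟨g₂, hg₂⟩
      exact congrArg Subtype.val this
    apply Subtype.ext
    show a.1 * b.1 = b.1 * a.1
    rw [← h₁, ← h₂, ← map_mul, ← map_mul, hcomm]
  · obtain ⟨g, hg, h₁⟩ := hrep x hx
    rw [← h₁, ← map_pow, he g hg, map_one]

/-- a subgroup `W` normalised by an element `t`: `|W ⊔ ⟨t⟩|` divides `|W| * o(t)`-like bound,
in the form needed: `|W ⊔ ⟨t⟩| = |W| * r` with `r ∣ orderOf t`. -/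
theorem card_sup_zpowers_of_normalizes {G : Type*} [Group G] [Finite G] (W : Subgroup G) (t : G)
    (ht : t ∈ Subgroup.normalizer (W : Set G)) :
    ∃ r : ℕ, r ∣ orderOf t ∧ Nat.card ↥(W ⊔ Subgroup.zpowers t) = Nat.card ↥W * r := by
  classical
  obtain ⟨M, hM⟩ : ∃ M : Subgroup G, M = Subgroup.normalizer (W : Set G) := ⟨_, rfl⟩
  have hWM : W ≤ M := hM ▸ Subgroup.le_normalizer
  have htM : Subgroup.zpowers t ≤ M := by
    rw [Subgroup.zpowers_le]; exact hM ▸ ht
  have hnorm : (W.subgroupOf M).Normal := by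
    subst hM
    exact Subgroup.normal_in_normalizer
  have h1 : (W.subgroupOf M).relIndex ((Subgroup.zpowers t).subgroupOf M ⊔ W.subgroupOf M) =
      (W.subgroupOf M).relIndex ((Subgroup.zpowers t).subgroupOf M) :=
    Subgroup.relIndex_sup_right _ _
  have h2 : (W.subgroupOf M).relIndex ((Subgroup.zpowers t).subgroupOf M) ∣
      Nat.card ↥((Subgroup.zpowers t).subgroupOf M) := Subgroup.relIndex_dvd_card _ _
  have h3 : Nat.card ↥((Subgroup.zpowers t).subgroupOf M) = orderOf t := by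
    rw [Nat.card_congr (Subgroup.subgroupOfEquivOfLe htM).toEquiv, Nat.card_zpowers]
  have h4 : Nat.card ↥(W.subgroupOf M) = Nat.card ↥W :=
    Nat.card_congr (Subgroup.subgroupOfEquivOfLe hWM).toEquiv
  have hle : W.subgroupOf M ≤ (Subgroup.zpowers t).subgroupOf M ⊔ W.subgroupOf M := le_sup_right
  have h5 : Nat.card ↥(W.subgroupOf M) *
      (W.subgroupOf M).relIndex ((Subgroup.zpowers t).subgroupOf M ⊔ W.subgroupOf M) =
      Nat.card ↥((Subgroup.zpowers t).subgroupOf M ⊔ W.subgroupOf M) := by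
    have := Subgroup.relIndex_mul_relIndex (⊥ : Subgroup ↥M) _ _ bot_le hle
    rwa [Subgroup.relIndex_bot_left, Subgroup.relIndex_bot_left] at this
  have h6 : ((Subgroup.zpowers t).subgroupOf M ⊔ W.subgroupOf M) =
      (W ⊔ Subgroup.zpowers t).subgroupOf M := by
    rw [sup_comm, Subgroup.subgroupOf_sup hWM htM]
  have h7 : Nat.card ↥((W ⊔ Subgroup.zpowers t).subgroupOf M) = Nat.card ↥(W ⊔ Subgroup.zpowers t) :=
    Nat.card_congr (Subgroup.subgroupOfEquivOfLe (sup_le hWM htM)).toEquiv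
  refine ⟨(W.subgroupOf M).relIndex ((Subgroup.zpowers t).subgroupOf M), ?_, ?_⟩
  · rw [← h3]; exact h2
  · rw [← h7, ← h6, ← h5, h4, h1]

variable {G : Type u} [Group G] [Finite G] {p : ℕ} [Fact p.Prime]

/-- RED-[INV] (0.5): an involution inverting an element of odd order prime to `p` forces it to be trivial. -/
theorem eq_one_of_inverted (h : HP p G) (hp2 : p ≠ 2) {t w : G} (ht : orderOf t = 2)
    (hinv : t * w * t⁻¹ = w⁻¹) (hodd : Odd (orderOf w)) (hcop : (orderOf w).Coprime p) : w = 1 := by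
  classical
  have hpp : p.Prime := Fact.out
  -- `t` normalises `⟨w⟩`
  have htN : t ∈ Subgroup.normalizer ((Subgroup.zpowers w : Subgroup G) : Set G) := by
    rw [Subgroup.mem_normalizer_iff]
    intro x
    constructor
    · rintro ⟨k, rfl⟩
      refine ⟨-k, ?_⟩
      show w ^ (-k) = t * w ^ k * t⁻¹
      rw [← conj_zpow, hinv, inv_zpow, zpow_neg]
    · intro hx
      obtain ⟨k, hk⟩ := hx
      refine ⟨-k, ?_⟩
      show w ^ (-k) = x
      have h1 : t * x * t⁻¹ = t * w ^ (-k) * t⁻¹ := by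
        rw [← conj_zpow, hinv, inv_zpow, zpow_neg, inv_inv]
        exact hk.symm
      have h2 : x = w ^ (-k) := by
        have := congrArg (fun y => t⁻¹ * y * t) h1
        simpa [mul_assoc] using this
      exact h2.symm
  obtain ⟨r, hr, hcard⟩ := card_sup_zpowers_of_normalizes (Subgroup.zpowers w) t htN
  rw [ht] at hr
  have hcopD : (Nat.card ↥(Subgroup.zpowers w ⊔ Subgroup.zpowers t)).Coprime p := by
    rw [hcard, Nat.card_zpowers]
    apply Nat.Coprime.mul_left hcop
    have h2p : Nat.Coprime 2 p := by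
      rw [Nat.coprime_comm, Nat.Prime.coprime_iff_not_dvd hpp]
      intro hd
      exact hp2 ((Nat.prime_dvd_prime_iff_eq hpp Nat.prime_two).mp hd)
    exact Nat.Coprime.coprime_dvd_left hr h2p
  obtain ⟨hc, -⟩ := h _ hcopD
  have hwD : w ∈ Subgroup.zpowers w ⊔ Subgroup.zpowers t :=
    (le_sup_left : Subgroup.zpowers w ≤ _) (Subgroup.mem_zpowers w)
  have htD : t ∈ Subgroup.zpowers w ⊔ Subgroup.zpowers t :=
    (le_sup_right : Subgroup.zpowers t ≤ _) (Subgroup.mem_zpowers t)
  have hcomm : t * w = w * t := by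
    have := hc.is_comm.comm ⟨t, htD⟩ ⟨w, hwD⟩
    exact congrArg Subtype.val this
  have hww : w = w⁻¹ := by
    rw [← hinv, hcomm, mul_assoc, mul_inv_cancel, mul_one]
  have hw2 : w ^ 2 = 1 := by
    rw [pow_two]
    nth_rewrite 1 [hww]
    exact inv_mul_cancel w
  have hdvd : orderOf w ∣ 2 := orderOf_dvd_of_pow_eq_one hw2
  have h1 : orderOf w = 1 := by
    rcases (Nat.dvd_prime Nat.prime_two).mp hdvd with h1 | h2
    · exact h1
    · exfalso
      rw [h2] at hodd
      exact (by decide : ¬ Odd 2) hodd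
  exact orderOf_eq_one_iff.mp h1

end Cfsg.Agent.Lib.Helper15.S1936
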