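import Mathlib

set_option autoImplicit false

namespace Cfsg.Agent.Lib.Helper15.S2362Orbit

/-- `count` can only go up along `map`. -/
theorem count_le_count_map' {α β : Type*} [DecidableEq α] [DecidableEq β] (f : α → β)
    (s : Multiset α) (x : α) : s.count x ≤ (s.map f).count (f x) := by
  induction s using Quot.inductionOn with
  | _ l =>
    change (l : Multiset α).count x ≤ ((l : Multiset α).map f).count (f x)
    rw [Multiset.map_coe, Multiset.coe_count, Multiset.coe_count]
    exact List.count_le_count_map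

/-- A multiset which is a union of pairwise disjoint "orbits" of size `n`, all with constant
multiplicity, and which has fewer than `2 n` elements, is a single orbit. -/
theorem eq_of_orbits {α : Type*} [DecidableEq α] (R : Multiset α) (O : α → Multiset α) (n : ℕ)
    (hnodup : ∀ ν ∈ R, (O ν).Nodup) (hcard : ∀ ν ∈ R, Multiset.card (O ν) = n)
    (hcount : ∀ ν ∈ R, ∀ y ∈ O ν, R.count y = R.count ν)
    (hdisj : ∀ ν ∈ R, ∀ lam ∈ R, ν ∉ O lam → Disjoint (O ν) (O lam))
    (lam : α) (hlam : lam ∈ R) (hR : Multiset.card R < 2 * n) : R = O lam := by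
  have hsub : ∀ ν ∈ R, ∀ y ∈ O ν, y ∈ R := by
    intro ν hν y hy
    rw [← Multiset.count_pos, hcount ν hν y hy, Multiset.count_pos]
    exact hν
  have ha : ∀ ν ∈ R, ν ∈ O lam := by
    intro ν hν
    by_contra hn
    have hd := hdisj ν hν lam hlam hn
    have hnd : (O ν + O lam).Nodup :=
      Multiset.nodup_add.mpr ⟨hnodup ν hν, hnodup lam hlam, hd⟩
    have hle : O ν + O lam ≤ R := by
      rw [Multiset.le_iff_subset hnd]
      intro y hy
      rcases Multiset.mem_add.mp hy with hy | hy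
      · exact hsub ν hν y hy
      · exact hsub lam hlam y hy
    have := Multiset.card_le_card hle
    rw [Multiset.card_add, hcard ν hν, hcard lam hlam] at this
    omega
  have hpos : 0 < R.count lam := Multiset.count_pos.mpr hlam
  have hb : R.count lam ≤ 1 := by
    by_contra hn
    push Not at hn
    have hle : O lam + O lam ≤ R := by
      rw [Multiset.le_iff_count]
      intro y
      rw [Multiset.count_add]
      by_cases hy : y ∈ O lam
      · rw [Multiset.count_eq_one_of_mem (hnodup lam hlam) hy, hcount lam hlam y hy]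
        omega
      · rw [Multiset.count_eq_zero_of_notMem hy]
        omega
    have := Multiset.card_le_card hle
    rw [Multiset.card_add, hcard lam hlam] at this
    omega
  have hc : R.count lam = 1 := by omega
  ext y
  by_cases hy : y ∈ O lam
  · rw [Multiset.count_eq_one_of_mem (hnodup lam hlam) hy, hcount lam hlam y hy, hc]
  · rw [Multiset.count_eq_zero_of_notMem hy, Multiset.count_eq_zero]
    exact fun h => hy (ha y h)

variable {K : Type*} [Field K]

/-- equality of powers of a nonzero field element. -/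
theorem pow_eq_pow_iff_of_ne_zero {ν : K} (h0 : ν ≠ 0) {a b : ℕ} :
    ν ^ a = ν ^ b ↔ a ≡ b [MOD orderOf ν] := by
  have h := pow_eq_pow_iff_modEq (x := Units.mk0 ν h0) (n := a) (m := b)
  rw [← orderOf_units, Units.val_mk0] at h
  rw [← h, Units.ext_iff]
  simp

/-- the Frobenius orbit listing. -/
def T (q n : ℕ) (ν : K) : Multiset K := (Multiset.range n).map (fun i => ν ^ (q ^ i))

section
set_option linter.unusedSectionVars false
variable (q r n : ℕ) (hn : orderOf (q : ZMod r) = n) (hn1 : 1 ≤ n)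
include hn hn1

theorem qpow_modEq (k : ℕ) : q ^ (n * k) ≡ 1 [MOD r] := by
  rw [← ZMod.natCast_eq_natCast_iff]
  push_cast
  rw [pow_mul, ← hn, pow_orderOf_eq_one, one_pow]

theorem pow_qpow_mul (y : K) (hy : y ^ r = 1) (k : ℕ) : y ^ (q ^ (n * k)) = y := by
  have := pow_eq_pow_of_modEq (qpow_modEq q r n hn hn1 k) hy
  rwa [pow_one] at this

theorem pow_qpow_back (y : K) (hy : y ^ r = 1) (j : ℕ) :
    (y ^ (q ^ j)) ^ (q ^ (n * j - j)) = y := by
  rw [← pow_mul, ← pow_add]
  have : j + (n * j - j) = n * j := by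
    have : j ≤ n * j := Nat.le_mul_of_pos_left j hn1
    omega
  rw [this]
  exact pow_qpow_mul q r n hn hn1 y hy j

theorem pow_qpow_mod (y : K) (hy : y ^ r = 1) (k : ℕ) : y ^ (q ^ k) = y ^ (q ^ (k % n)) := by
  apply pow_eq_pow_of_modEq _ hy
  rw [← ZMod.natCast_eq_natCast_iff]
  push_cast
  rw [← hn, pow_mod_orderOf]

theorem mem_T (ν : K) (hν : ν ^ r = 1) (y : K) : y ∈ T q n ν ↔ ∃ k, y = ν ^ (q ^ k) := by
  constructor
  · intro hy
    obtain ⟨i, -, rfl⟩ := Multiset.mem_map.mp hy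
    exact ⟨i, rfl⟩
  · rintro ⟨k, rfl⟩
    rw [pow_qpow_mod q r n hn hn1 ν hν k]
    exact Multiset.mem_map.mpr ⟨k % n, Multiset.mem_range.mpr (Nat.mod_lt _ hn1), rfl⟩

theorem nodup_T (ν : K) (h0 : ν ≠ 0) (hν : orderOf ν = r) : (T q n ν).Nodup := by
  apply Multiset.Nodup.map_on _ (Multiset.nodup_range n)
  intro i hi j hj hij
  rw [Multiset.mem_range] at hi hj
  rw [pow_eq_pow_iff_of_ne_zero h0, hν, ← ZMod.natCast_eq_natCast_iff] at hij
  push_cast at hij
  rw [← hn] at hi hj
  exact pow_injOn_Iio_orderOf hi hj hij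

theorem card_T (ν : K) : Multiset.card (T q n ν) = n := by
  rw [T, Multiset.card_map, Multiset.card_range]

theorem disjoint_T (ν lam : K) (hν : ν ^ r = 1) (hlam : lam ^ r = 1)
    (h : ν ∉ T q n lam) : Disjoint (T q n ν) (T q n lam) := by
  rw [Multiset.disjoint_left]
  intro y hy hy'
  apply h
  obtain ⟨j, hj⟩ := (mem_T q r n hn hn1 ν hν y).mp hy
  obtain ⟨i, hi⟩ := (mem_T q r n hn hn1 lam hlam y).mp hy'
  rw [mem_T q r n hn hn1 lam hlam]
  refine ⟨i + (n * j - j), ?_⟩
  rw [pow_add, pow_mul, ← hi, hj, pow_qpow_back q r n hn hn1 ν hν j]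

theorem count_pow_eq [DecidableEq K] (R : Multiset K) (hR2 : R.map (fun y => y ^ q) = R)
    (y : K) (hy : y ^ r = 1) (i : ℕ) : R.count (y ^ (q ^ i)) = R.count y := by
  have h1 : ∀ z : K, R.count z ≤ R.count (z ^ q) := by
    intro z
    have := count_le_count_map' (fun y => y ^ q) R z
    rwa [hR2] at this
  have h2 : ∀ (z : K) (i : ℕ), R.count z ≤ R.count (z ^ (q ^ i)) := by
    intro z i
    induction i with
    | zero => simp
    | succ i ih =>
      rw [pow_succ, pow_mul]
      exact ih.trans (h1 _)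
  apply le_antisymm _ (h2 y i)
  have := h2 (y ^ (q ^ i)) (n * i - i)
  rwa [pow_qpow_back q r n hn hn1 y hy i] at this

theorem mem_T_inv (lam : K) (hlam : lam ^ r = 1) (y : K) :
    y⁻¹ ∈ T q n lam ↔ y ∈ T q n lam⁻¹ := by
  have hlam' : lam⁻¹ ^ r = 1 := by rw [inv_pow, hlam, inv_one]
  rw [mem_T q r n hn hn1 lam hlam, mem_T q r n hn hn1 lam⁻¹ hlam']
  constructor
  · rintro ⟨k, hk⟩
    exact ⟨k, by rw [inv_pow, ← hk, inv_inv]⟩
  · rintro ⟨k, hk⟩
    exact ⟨k, by rw [hk, inv_pow, inv_inv]⟩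

end

theorem count_inv_eq [DecidableEq K] (R : Multiset K) (hR3 : R.map (fun y => y⁻¹) = R)
    (y : K) : R.count y⁻¹ = R.count y := by
  have h1 : ∀ z : K, R.count z ≤ R.count z⁻¹ := by
    intro z
    have := count_le_count_map' (fun y => y⁻¹) R z
    rwa [hR3] at this
  apply le_antisymm _ (h1 y)
  have := h1 y⁻¹
  rwa [inv_inv] at this

/-- no power of `q` is `-1` mod `r` if the order of `q` is odd and `r` is an odd prime. -/
theorem qpow_ne_neg_one (q r n : ℕ) (hr : r.Prime) (hr2 : r ≠ 2)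
    (hn : orderOf (q : ZMod r) = n) (hodd : Odd n) (k : ℕ) : (q : ZMod r) ^ k ≠ -1 := by
  intro h
  have h2 : (q : ZMod r) ^ (2 * k) = 1 := by
    rw [mul_comm, pow_mul, h]
    simp
  have h3 : n ∣ 2 * k := by
    rw [← hn]
    exact orderOf_dvd_of_pow_eq_one h2
  have h4 : n ∣ k := (Nat.Coprime.dvd_of_dvd_mul_left (Nat.coprime_two_right.mpr hodd)) h3
  have h5 : (q : ZMod r) ^ k = 1 := by
    rw [← hn] at h4
    exact orderOf_dvd_iff_pow_eq_one.mp h4
  rw [h5] at h
  have h6 : ((2 : ℕ) : ZMod r) = 0 := by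
    push_cast
    have : (1 : ZMod r) + 1 = 0 := by
      nth_rewrite 1 [h]
      simp
    rw [← this]
    norm_num
  rw [ZMod.natCast_eq_zero_iff] at h6
  exact hr2 ((Nat.prime_dvd_prime_iff_eq hr Nat.prime_two).mp h6)

/-- **Module [ORBIT] of S2362.** A multiset of nontrivial `r`-th roots of unity closed under
`y ↦ y ^ q` and `y ↦ y⁻¹`, smaller than two orbits, is a single orbit with multiplicity one. -/
theorem orbit_structure {K : Type*} [Field K] (q r m : ℕ) (hr : r.Prime) (hr2 : r ≠ 2)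
    (hm : 1 ≤ m)
    (hord : orderOf (q : ZMod r) = 2 * m ∨ (orderOf (q : ZMod r) = m ∧ Odd m))
    (R : Multiset K) (hR1 : ∀ μ ∈ R, μ ^ r = 1 ∧ μ ≠ 1) (hR2 : R.map (fun y => y ^ q) = R)
    (hR3 : R.map (fun y => y⁻¹) = R) (hne : R ≠ 0) (hcard : Multiset.card R < 4 * m) :
    R.Nodup ∧ ∃ lam : K, lam ^ r = 1 ∧ lam ≠ 1 ∧
      ((orderOf (q : ZMod r) = 2 * m ∧
          R = (Multiset.range (2 * m)).map (fun i => lam ^ (q ^ i))) ∨
       (orderOf (q : ZMod r) = m ∧ Odd m ∧
          R = (Multiset.range m).map (fun i => lam ^ (q ^ i)) +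
            (Multiset.range m).map (fun i => (lam ^ (q ^ i))⁻¹))) := by
  classical
  have : Fact r.Prime := ⟨hr⟩
  obtain ⟨lam, hlam⟩ := Multiset.exists_mem_of_ne_zero hne
  have h0 : ∀ μ ∈ R, μ ≠ 0 := by
    intro μ hμ h
    have := (hR1 μ hμ).1
    rw [h, zero_pow hr.ne_zero] at this
    exact zero_ne_one this
  have hor : ∀ μ ∈ R, orderOf μ = r := fun μ hμ => orderOf_eq_prime (hR1 μ hμ).1 (hR1 μ hμ).2
  rcases hord with hord | ⟨hord, hodd⟩
  · -- case A
    have hn1 : 1 ≤ 2 * m := by omega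
    have key : R = T q (2 * m) lam := by
      apply eq_of_orbits R (T q (2 * m)) (2 * m)
      · intro ν hν
        exact nodup_T q r (2 * m) hord hn1 ν (h0 ν hν) (hor ν hν)
      · intro ν _
        exact card_T q r (2 * m) hord hn1 ν
      · intro ν hν y hy
        obtain ⟨k, rfl⟩ := (mem_T q r (2 * m) hord hn1 ν (hR1 ν hν).1 y).mp hy
        exact count_pow_eq q r (2 * m) hord hn1 R hR2 ν (hR1 ν hν).1 k
      · intro ν hν lam' hlam' h
        exact disjoint_T q r (2 * m) hord hn1 ν lam' (hR1 ν hν).1 (hR1 lam' hlam').1 h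
      · exact hlam
      · omega
    refine ⟨?_, lam, (hR1 lam hlam).1, (hR1 lam hlam).2, Or.inl ⟨hord, key⟩⟩
    rw [key]
    exact nodup_T q r (2 * m) hord hn1 lam (h0 lam hlam) (hor lam hlam)
  · -- case B
    have hinvR : ∀ μ ∈ R, μ⁻¹ ∈ R := by
      intro μ hμ
      rw [← hR3]
      exact Multiset.mem_map.mpr ⟨μ, hμ, rfl⟩
    have hO : ∀ ν : K, (Multiset.range m).map (fun i => ν ^ (q ^ i)) +
        (Multiset.range m).map (fun i => (ν ^ (q ^ i))⁻¹) = T q m ν + T q m ν⁻¹ := by
      intro ν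
      congr 1
      exact Multiset.map_congr rfl (fun i _ => (inv_pow _ _).symm)
    have hinv1 : ∀ ν : K, ν ^ r = 1 → ν⁻¹ ^ r = 1 := by
      intro ν hν
      rw [inv_pow, hν, inv_one]
    have hself : ∀ ν ∈ R, ν ∉ T q m ν⁻¹ := by
      intro ν hν hmem
      obtain ⟨k, hk⟩ := (mem_T q r m hord hm ν⁻¹ (hinv1 ν (hR1 ν hν).1) ν).mp hmem
      have h1 : ν ^ (q ^ k + 1) = 1 := by
        rw [pow_add, pow_one]
        nth_rewrite 2 [hk]
        rw [inv_pow, mul_inv_cancel₀]
        exact pow_ne_zero _ (h0 ν hν)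
      have h2 : r ∣ q ^ k + 1 := by
        rw [← hor ν hν]
        exact orderOf_dvd_of_pow_eq_one h1
      rw [← ZMod.natCast_eq_zero_iff] at h2
      push_cast at h2
      exact qpow_ne_neg_one q r m hr hr2 hord hodd k (eq_neg_of_add_eq_zero_left h2)
    have key : R = T q m lam + T q m lam⁻¹ := by
      apply eq_of_orbits R (fun ν => T q m ν + T q m ν⁻¹) (2 * m)
      · intro ν hν
        rw [Multiset.nodup_add]
        refine ⟨nodup_T q r m hord hm ν (h0 ν hν) (hor ν hν),
          nodup_T q r m hord hm ν⁻¹ (h0 _ (hinvR ν hν)) (hor _ (hinvR ν hν)), ?_⟩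
        exact disjoint_T q r m hord hm ν ν⁻¹ (hR1 ν hν).1 (hinv1 ν (hR1 ν hν).1) (hself ν hν)
      · intro ν _
        rw [Multiset.card_add, card_T q r m hord hm, card_T q r m hord hm]
        omega
      · intro ν hν y hy
        rcases Multiset.mem_add.mp hy with hy | hy
        · obtain ⟨k, rfl⟩ := (mem_T q r m hord hm ν (hR1 ν hν).1 y).mp hy
          exact count_pow_eq q r m hord hm R hR2 ν (hR1 ν hν).1 k
        · obtain ⟨k, rfl⟩ := (mem_T q r m hord hm ν⁻¹ (hinv1 ν (hR1 ν hν).1) y).mp hy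
          rw [count_pow_eq q r m hord hm R hR2 ν⁻¹ (hinv1 ν (hR1 ν hν).1) k]
          exact count_inv_eq R hR3 ν
      · intro ν hν lam' hlam' h
        have hν1 := (hR1 ν hν).1
        have hl1 := (hR1 lam' hlam').1
        have hA : ν ∉ T q m lam' := fun hh => h (Multiset.mem_add.mpr (Or.inl hh))
        have hB : ν ∉ T q m lam'⁻¹ := fun hh => h (Multiset.mem_add.mpr (Or.inr hh))
        have hC : ν⁻¹ ∉ T q m lam' := by
          rw [mem_T_inv q r m hord hm lam' hl1]
          exact hB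
        have hD : ν⁻¹ ∉ T q m lam'⁻¹ := by
          rw [mem_T_inv q r m hord hm lam'⁻¹ (hinv1 _ hl1), inv_inv]
          exact hA
        rw [Multiset.disjoint_add_left, Multiset.disjoint_add_right, Multiset.disjoint_add_right]
        exact ⟨⟨disjoint_T q r m hord hm ν lam' hν1 hl1 hA,
          disjoint_T q r m hord hm ν lam'⁻¹ hν1 (hinv1 _ hl1) hB⟩,
          disjoint_T q r m hord hm ν⁻¹ lam' (hinv1 _ hν1) hl1 hC,
          disjoint_T q r m hord hm ν⁻¹ lam'⁻¹ (hinv1 _ hν1) (hinv1 _ hl1) hD⟩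
      · exact hlam
      · omega
    refine ⟨?_, lam, (hR1 lam hlam).1, (hR1 lam hlam).2, Or.inr ⟨hord, hodd, ?_⟩⟩
    · rw [key, Multiset.nodup_add]
      refine ⟨nodup_T q r m hord hm lam (h0 lam hlam) (hor lam hlam),
        nodup_T q r m hord hm lam⁻¹ (h0 _ (hinvR lam hlam)) (hor _ (hinvR lam hlam)), ?_⟩
      exact disjoint_T q r m hord hm lam lam⁻¹ (hR1 lam hlam).1 (hinv1 lam (hR1 lam hlam).1)
        (hself lam hlam)
    · rw [hO lam]
      exact key

end Cfsg.Agent.Lib.Helper15.S2362Orbit
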