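import Mathlib
import Cfsg.Agent.Lib.Helper53.SL2Pres.Defs

/-!
# S2286 (helper53's sheet): modules [CLOS4] and [CLOS3] (closure lemmas: all `u_i` commute)
-/

set_option autoImplicit false

namespace Cfsg.Agent.Lib.Helper15.SL2Pres

open Cfsg.Agent.Lib.Helper53 Cfsg.Agent.Lib.Helper53.Steinberg Cfsg.Agent.Lib.Helper53.SL2Pres

variable {G : Type*} [Group G]

/-- `h^z u h^-z` with an integer exponent -/
def vz (h u : G) (z : ℤ) : G := h ^ z * u * h ^ (-z)

theorem uc_eq_vz (h u : G) (i : ℕ) : uc h u i = vz h u (i : ℤ) := by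
  simp [uc, vz, zpow_natCast, zpow_neg]

theorem vz_add (h u : G) (a d : ℤ) : vz h u (a + d) = h ^ d * vz h u a * (h ^ d)⁻¹ := by
  simp only [vz, neg_add, zpow_add, zpow_neg]
  group

theorem commute_vz_add_iff (h u : G) (a b d : ℤ) :
    Commute (vz h u (a + d)) (vz h u (b + d)) ↔ Commute (vz h u a) (vz h u b) := by
  rw [vz_add, vz_add]
  exact Commute.conj_iff _

/-- `Commute (v a) (v b) ↔ Commute (v 0) (v (b - a))` -/
theorem commute_vz_iff (h u : G) (a b : ℤ) :
    Commute (vz h u a) (vz h u b) ↔ Commute (vz h u 0) (vz h u (b - a)) := by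
  have := commute_vz_add_iff h u 0 (b - a) a
  simpa using this

theorem D_neg (h u : G) (m : ℤ) :
    Commute (vz h u 0) (vz h u (-m)) ↔ Commute (vz h u 0) (vz h u m) := by
  have h1 := commute_vz_iff h u m 0
  simp only [zero_sub] at h1
  rw [← h1]
  exact ⟨fun hh => hh.symm, fun hh => hh.symm⟩

/-- `D (j - m)` gives `Commute (v j) (v m)` -/
theorem commute_of_D (h u : G) (j m : ℤ) (hD : Commute (vz h u 0) (vz h u (j - m))) :
    Commute (vz h u j) (vz h u m) := by
  rw [commute_vz_iff]
  have : m - j = -(j - m) := by ring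
  rw [this, D_neg]
  exact hD

/-- **[CLOS4]** closure lemma, odd case -/
theorem comm_of_four (h u : G) (k : ℕ)
    (c1 : Commute u (uc h u 1)) (c2 : Commute u (uc h u 2))
    (rel : uc h u k = u * uc h u 1 ^ 2 * uc h u 2) :
    ∀ i j : ℕ, Commute (uc h u i) (uc h u j) := by
  set v : ℤ → G := vz h u with hv
  have hv0 : v 0 = u := by simp [hv, vz]
  have hu1 : uc h u 1 = v 1 := by rw [uc_eq_vz]; rfl
  have hu2 : uc h u 2 = v 2 := by rw [uc_eq_vz]; rfl
  have huk : uc h u k = v (k : ℤ) := uc_eq_vz h u k
  have rel' : v (k : ℤ) = v 0 * v 1 ^ 2 * v 2 := by rw [← huk, rel, hv0, hu1, hu2]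
  have d0 : Commute (v 0) (v 0) := Commute.refl _
  have d1 : Commute (v 0) (v 1) := by rw [hv0, ← hu1]; exact c1
  have d2 : Commute (v 0) (v 2) := by rw [hv0, ← hu2]; exact c2
  -- the three rules
  have ruleA : ∀ j : ℤ, Commute (v 0) (v j) → Commute (v 0) (v (j - 1)) →
      Commute (v 0) (v (j - 2)) → Commute (v 0) (v ((k : ℤ) - j)) := by
    intro j h0 h1 h2
    have a0 : Commute (v j) (v 0) := h0.symm
    have a1 : Commute (v j) (v 1) := commute_of_D h u j 1 h1
    have a2 : Commute (v j) (v 2) := commute_of_D h u j 2 h2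
    have ak : Commute (v j) (v (k : ℤ)) := by
      rw [rel']
      exact (a0.mul_right (a1.pow_right 2)).mul_right a2
    exact (commute_vz_iff h u j k).1 ak
  have ruleB : ∀ j : ℤ, Commute (v 0) (v (j - k)) → Commute (v 0) (v (j - 1)) →
      Commute (v 0) (v (j - 2)) → Commute (v 0) (v j) := by
    intro j hk h1 h2
    have ak : Commute (v j) (v (k : ℤ)) := commute_of_D h u j k hk
    have a1 : Commute (v j) (v 1) := commute_of_D h u j 1 h1
    have a2 : Commute (v j) (v 2) := commute_of_D h u j 2 h2
    have e0 : v 0 = v (k : ℤ) * (v 1 ^ 2 * v 2)⁻¹ := by rw [rel']; group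
    have : Commute (v j) (v 0) := by
      rw [e0]
      exact ak.mul_right ((a1.pow_right 2).mul_right a2).inv_right
    exact this.symm
  have ruleD : ∀ j : ℤ, Commute (v 0) (v j) → Commute (v 0) (v (j - 1)) →
      Commute (v 0) (v (j - k)) → Commute (v 0) (v (j - 2)) := by
    intro j h0 h1 hk
    have a0 : Commute (v j) (v 0) := h0.symm
    have a1 : Commute (v j) (v 1) := commute_of_D h u j 1 h1
    have ak : Commute (v j) (v (k : ℤ)) := commute_of_D h u j k hk
    have e2 : v 2 = (v 0 * v 1 ^ 2)⁻¹ * v (k : ℤ) := by rw [rel']; group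
    have a2 : Commute (v j) (v 2) := by
      rw [e2]
      exact ((a0.mul_right (a1.pow_right 2)).inv_right).mul_right ak
    have := (commute_vz_iff h u j 2).1 a2
    have e : (2 : ℤ) - j = -(j - 2) := by ring
    rw [e] at this
    exact (D_neg h u (j - 2)).1 this
  -- the induction
  have key : ∀ m : ℕ, 2 ≤ m → (∀ i : ℕ, i ≤ m → Commute (v 0) (v (i : ℤ))) ∧
      (∀ i : ℕ, i ≤ m → Commute (v 0) (v ((k : ℤ) - i))) := by
    intro m hm
    induction m, hm using Nat.le_induction with
    | base =>
      have b0 : ∀ i : ℕ, i ≤ 2 → Commute (v 0) (v (i : ℤ)) := by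
        intro i hi
        interval_cases i
        · exact d0
        · exact d1
        · exact d2
      refine ⟨b0, ?_⟩
      intro i hi
      have dm1 : Commute (v 0) (v (-1)) := (D_neg h u 1).2 d1
      have dm2 : Commute (v 0) (v (-2)) := (D_neg h u 2).2 d2
      interval_cases i
      · exact ruleA 0 d0 (by simpa using dm1) (by simpa using dm2)
      · exact ruleA 1 d1 (by simpa using d0) (by simpa using dm1)
      · exact ruleA 2 d2 (by simpa using d1) (by simpa using d0)
    | succ m hm ih =>
      obtain ⟨ih1, ih2⟩ := ih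
      -- rule D at `j = k - m + 1`
      have hD : Commute (v 0) (v ((k : ℤ) - ((m + 1 : ℕ) : ℤ))) := by
        have hj0 : Commute (v 0) (v ((k : ℤ) - ((m - 1 : ℕ) : ℤ))) := ih2 (m - 1) (by omega)
        have hj1 : Commute (v 0) (v ((k : ℤ) - (m : ℤ))) := ih2 m le_rfl
        have hjk : Commute (v 0) (v (-((m - 1 : ℕ) : ℤ))) :=
          (D_neg h u _).2 (ih1 (m - 1) (by omega))
        have hcast : ((m - 1 : ℕ) : ℤ) = (m : ℤ) - 1 := by
          rw [Nat.cast_sub (by omega)]; simp
        have := ruleD ((k : ℤ) - (m : ℤ) + 1)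
          (by rw [hcast] at hj0; convert hj0 using 2; ring)
          (by convert hj1 using 2; ring)
          (by rw [hcast] at hjk; convert hjk using 2; ring)
        convert this using 2
        push_cast
        ring
      -- rule B at `j = m + 1`
      have hB : Commute (v 0) (v ((m + 1 : ℕ) : ℤ)) := by
        have h1 : Commute (v 0) (v (((m + 1 : ℕ) : ℤ) - k)) := by
          have := (D_neg h u ((k : ℤ) - ((m + 1 : ℕ) : ℤ))).2 hD
          convert this using 2
          ring
        have h2 : Commute (v 0) (v (((m + 1 : ℕ) : ℤ) - 1)) := by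
          have := ih1 m le_rfl
          convert this using 2
          push_cast; ring
        have h3 : Commute (v 0) (v (((m + 1 : ℕ) : ℤ) - 2)) := by
          have := ih1 (m - 1) (by omega)
          convert this using 2
          rw [Nat.cast_sub (by omega)]
          push_cast; ring
        exact ruleB _ h1 h2 h3
      constructor
      · intro i hi
        rcases Nat.lt_or_ge i (m + 1) with hlt | hge
        · exact ih1 i (by omega)
        · have : i = m + 1 := by omega
          subst this
          exact hB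
      · intro i hi
        rcases Nat.lt_or_ge i (m + 1) with hlt | hge
        · exact ih2 i (by omega)
        · have : i = m + 1 := by omega
          subst this
          exact hD
  have hall : ∀ n : ℕ, Commute (v 0) (v (n : ℤ)) := by
    intro n
    exact (key (max n 2) (le_max_right _ _)).1 n (le_max_left _ _)
  intro i j
  rw [uc_eq_vz, uc_eq_vz, commute_vz_iff]
  rcases le_total i j with hij | hij
  · have : ((j : ℤ) - i) = ((j - i : ℕ) : ℤ) := by rw [Nat.cast_sub hij]
    rw [this]
    exact hall _
  · have : ((j : ℤ) - i) = -((i - j : ℕ) : ℤ) := by rw [Nat.cast_sub hij]; ring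
    rw [this, D_neg]
    exact hall _

end Cfsg.Agent.Lib.Helper15.SL2Pres
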