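import Mathlib
import Cfsg.Agent.Lib.Helper53.SL2Pres.Defs
import Cfsg.Agent.Lib.Helper15.SL2PresClos

/-!
# S2286 (helper53's sheet): module [CLOS3] (closure lemma, even case)
-/

set_option autoImplicit false

namespace Cfsg.Agent.Lib.Helper15.SL2Pres

open Cfsg.Agent.Lib.Helper53 Cfsg.Agent.Lib.Helper53.Steinberg Cfsg.Agent.Lib.Helper53.SL2Pres

variable {G : Type*} [Group G]

theorem vz_sq (h u : G) (hu : u * u = 1) (z : ℤ) : vz h u z * vz h u z = 1 := by
  have : vz h u z * vz h u z = h ^ z * (u * u) * h ^ (-z) := by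
    simp only [vz, zpow_neg]; group
  rw [this, hu]
  simp

/-- **[CLOS3]** closure lemma, even case -/
theorem comm_of_three (h u : G) (k : ℕ) (hu : u * u = 1)
    (rel : uc h u k = u * uc h u 1) :
    ∀ i j : ℕ, Commute (uc h u i) (uc h u j) := by
  set v : ℤ → G := vz h u with hv
  have hv0 : v 0 = u := by simp [hv, vz]
  have hu1 : uc h u 1 = v 1 := by rw [uc_eq_vz]; rfl
  have huk : uc h u k = v (k : ℤ) := uc_eq_vz h u k
  have rel' : v (k : ℤ) = v 0 * v 1 := by rw [← huk, rel, hv0, hu1]
  have hsq : ∀ z : ℤ, v z * v z = 1 := vz_sq h u hu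
  have d0 : Commute (v 0) (v 0) := Commute.refl _
  have d1 : Commute (v 0) (v 1) := by
    have h1 : (v 0 * v 1) * (v 0 * v 1) = 1 := by rw [← rel']; exact hsq _
    have i0 : (v 0)⁻¹ = v 0 := inv_eq_of_mul_eq_one_right (hsq 0)
    have i1 : (v 1)⁻¹ = v 1 := inv_eq_of_mul_eq_one_right (hsq 1)
    have h2 : v 0 * v 1 = (v 0 * v 1)⁻¹ := (inv_eq_of_mul_eq_one_right h1).symm
    rw [mul_inv_rev, i0, i1] at h2
    exact h2
  have ruleA : ∀ j : ℤ, Commute (v 0) (v j) → Commute (v 0) (v (j - 1)) →
      Commute (v 0) (v ((k : ℤ) - j)) := by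
    intro j h0 h1
    have a0 : Commute (v j) (v 0) := h0.symm
    have a1 : Commute (v j) (v 1) := commute_of_D h u j 1 h1
    have ak : Commute (v j) (v (k : ℤ)) := by
      rw [rel']
      exact a0.mul_right a1
    exact (commute_vz_iff h u j k).1 ak
  have ruleB : ∀ j : ℤ, Commute (v 0) (v (j - k)) → Commute (v 0) (v (j - 1)) →
      Commute (v 0) (v j) := by
    intro j hk h1
    have ak : Commute (v j) (v (k : ℤ)) := commute_of_D h u j k hk
    have a1 : Commute (v j) (v 1) := commute_of_D h u j 1 h1
    have e0 : v 0 = v (k : ℤ) * (v 1)⁻¹ := by rw [rel']; group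
    have : Commute (v j) (v 0) := by
      rw [e0]
      exact ak.mul_right a1.inv_right
    exact this.symm
  have ruleD : ∀ j : ℤ, Commute (v 0) (v j) → Commute (v 0) (v (j - k)) →
      Commute (v 0) (v (j - 1)) := by
    intro j h0 hk
    have a0 : Commute (v j) (v 0) := h0.symm
    have ak : Commute (v j) (v (k : ℤ)) := commute_of_D h u j k hk
    have e1 : v 1 = (v 0)⁻¹ * v (k : ℤ) := by rw [rel']; group
    have a1 : Commute (v j) (v 1) := by
      rw [e1]
      exact a0.inv_right.mul_right ak
    have := (commute_vz_iff h u j 1).1 a1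
    have e : (1 : ℤ) - j = -(j - 1) := by ring
    rw [e] at this
    exact (D_neg h u (j - 1)).1 this
  have key : ∀ m : ℕ, 1 ≤ m → (∀ i : ℕ, i ≤ m → Commute (v 0) (v (i : ℤ))) ∧
      (∀ i : ℕ, i ≤ m → Commute (v 0) (v ((k : ℤ) - i))) := by
    intro m hm
    induction m, hm using Nat.le_induction with
    | base =>
      have b0 : ∀ i : ℕ, i ≤ 1 → Commute (v 0) (v (i : ℤ)) := by
        intro i hi
        interval_cases i
        · exact d0
        · exact d1
      refine ⟨b0, ?_⟩
      intro i hi
      have dm1 : Commute (v 0) (v (-1)) := (D_neg h u 1).2 d1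
      interval_cases i
      · exact ruleA 0 d0 (by simpa using dm1)
      · exact ruleA 1 d1 (by simpa using d0)
    | succ m hm ih =>
      obtain ⟨ih1, ih2⟩ := ih
      have hD : Commute (v 0) (v ((k : ℤ) - ((m + 1 : ℕ) : ℤ))) := by
        have hj0 : Commute (v 0) (v ((k : ℤ) - (m : ℤ))) := ih2 m le_rfl
        have hjk : Commute (v 0) (v (-(m : ℤ))) := (D_neg h u _).2 (ih1 m le_rfl)
        have := ruleD ((k : ℤ) - (m : ℤ)) hj0 (by convert hjk using 2; ring)
        convert this using 2
        push_cast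
        ring
      have hB : Commute (v 0) (v ((m + 1 : ℕ) : ℤ)) := by
        have h1 : Commute (v 0) (v (((m + 1 : ℕ) : ℤ) - k)) := by
          have := (D_neg h u ((k : ℤ) - ((m + 1 : ℕ) : ℤ))).2 hD
          convert this using 2
          ring
        have h2 : Commute (v 0) (v (((m + 1 : ℕ) : ℤ) - 1)) := by
          have := ih1 m le_rfl
          convert this using 2
          push_cast; ring
        exact ruleB _ h1 h2
      constructor
      · intro i hi
        rcases Nat.lt_or_ge i (m + 1) with hlt | hge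
        · exact ih1 i (by omega)
        · have : i = m + 1 := by omega
          subst this
          exact hB
      · intro i hi
        rcases Nat.lt_or_ge i (m + 1) with hlt | hge
        · exact ih2 i (by omega)
        · have : i = m + 1 := by omega
          subst this
          exact hD
  have hall : ∀ n : ℕ, Commute (v 0) (v (n : ℤ)) := by
    intro n
    exact (key (max n 1) (le_max_right _ _)).1 n (le_max_left _ _)
  intro i j
  rw [uc_eq_vz, uc_eq_vz, commute_vz_iff]
  rcases le_total i j with hij | hij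
  · have : ((j : ℤ) - i) = ((j - i : ℕ) : ℤ) := by rw [Nat.cast_sub hij]
    rw [this]
    exact hall _
  · have : ((j : ℤ) - i) = -((i - j : ℕ) : ℤ) := by rw [Nat.cast_sub hij]; ring
    rw [this, D_neg]
    exact hall _

end Cfsg.Agent.Lib.Helper15.SL2Pres
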