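import Cfsg.Agent.Lib.Helper53.SUReg.M2

set_option autoImplicit false

/-!
helper15, S2282-[CONJ2]: the four conjugation formulas for `m = 2`.
-/

namespace Cfsg.Agent.Lib.Helper53.SUReg

variable {F : Type*} [Field F] {σ : F →+* F} {G : Type*} [Group G] {φ : F}
variable {R : URootSys F σ G 2 φ}

theorem conjA_T (hσ2 : ∀ x, σ (σ x) = x) (k : ℤ) (s x : F) :
    R.S (k - 1) k s * R.T (k + 1) x * (R.S (k - 1) k s)⁻¹ =
      R.T (k + 1) x * R.T k (s * φ * σ (s * φ) * x) * R.S k (k + 1) (-((x - σ x) * σ (s * φ))) := by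
  have hrel := R.rel_TSm (k + 1) k x s (by push_cast; linarith) (by linarith)
  have hk : (k + 1) - ((2 : ℕ) : ℤ) = k - 1 := by push_cast; ring
  rw [hk] at hrel
  -- S (k+1) k y = S k (k+1) (-σ y)
  rw [R.S_symm k (k + 1)] at hrel
  have hpar : -σ (s * (x - σ x) * φ) = -(-((x - σ x) * σ (s * φ))) := by
    simp only [map_mul, map_sub, hσ2]; ring
  rw [hpar, R.S_neg, R.T_neg] at hrel
  have c1 := (R.c2_T01 k (s * φ * σ (s * φ) * x) x).eq
  have c2 := (R.c2_T1S k x (-((x - σ x) * σ (s * φ)))).eq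
  have c3 := (R.c2_T0S k (s * φ * σ (s * φ) * x) (-((x - σ x) * σ (s * φ)))).eq
  set A := R.S (k - 1) k s
  set t := R.T (k + 1) x
  set τ := R.T k (s * φ * σ (s * φ) * x)
  set Sp := R.S k (k + 1) (-((x - σ x) * σ (s * φ)))
  -- hrel : t * A = Sp⁻¹ * τ⁻¹ * A * t
  have h1 : A * t * A⁻¹ = τ * Sp * t := by
    have : A * t = τ * Sp * (t * A) := by rw [hrel]; group
    rw [this]; group
  rw [h1]
  calc τ * Sp * t = τ * (Sp * t) := by group
    _ = τ * (t * Sp) := by rw [c2]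
    _ = (τ * t) * Sp := by group
    _ = (t * τ) * Sp := by rw [c1]

theorem conjA_S (hσ2 : ∀ x, σ (σ x) = x) (k : ℤ) (s p : F) :
    R.S (k - 1) k s * R.S k (k + 1) p * (R.S (k - 1) k s)⁻¹ =
      R.S k (k + 1) p * R.T k (-(p * s * φ)) := by
  have hrel := R.rel_SS3 (k - 1) k s (-σ p) (by linarith) (by push_cast; linarith)
  have hk : (k - 1) + ((2 : ℕ) : ℤ) = k + 1 := by push_cast; ring
  rw [hk] at hrel
  -- S (k+1) k (-σ p) = S k (k+1) p
  have hsym : R.S (k + 1) k (-σ p) = R.S k (k + 1) p := (R.S_symm (k + 1) k p).symm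
  rw [hsym] at hrel
  have hpar : s * σ (-σ p) * φ = -(p * s * φ) := by
    simp only [map_neg, hσ2]; ring
  rw [hpar] at hrel
  have c3 := (R.c2_T0S k (-(p * s * φ)) p).eq
  set A := R.S (k - 1) k s
  set B := R.S k (k + 1) p
  set τ := R.T k (-(p * s * φ))
  have h1 : A * B * A⁻¹ = τ * B := by
    rw [hrel]; group
  rw [h1, c3]

theorem conjB_T (hσ2 : ∀ x, σ (σ x) = x) (k : ℤ) (s x : F) :
    R.S (k + 1) (k + 2) s * R.T k x * (R.S (k + 1) (k + 2) s)⁻¹ =
      R.T k x * R.T (k + 1) (s * φ * σ (s * φ) * x) * R.S k (k + 1) ((x - σ x) * σ (s * φ)) := by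
  have hrel := R.rel_TSp k (k + 1) x (-σ s) (by linarith) (by push_cast; linarith)
  have hk : k + ((2 : ℕ) : ℤ) = k + 2 := by push_cast; ring
  rw [hk] at hrel
  -- S (k+2) (k+1) (-σ s) = S (k+1) (k+2) s
  have hsym : R.S (k + 2) (k + 1) (-σ s) = R.S (k + 1) (k + 2) s := (R.S_symm (k + 2) (k + 1) s).symm
  rw [hsym] at hrel
  have hpar1 : -σ s * (x - σ x) * σ φ = -((x - σ x) * σ (s * φ)) := by
    simp only [map_mul]; ring
  have hpar2 : -(-σ s * φ * σ (-σ s * φ) * x) = -(s * φ * σ (s * φ) * x) := by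
    simp only [map_mul, map_neg, hσ2]; ring
  rw [hpar1, hpar2, R.S_neg, R.T_neg] at hrel
  have c1 := (R.c2_T01 k x (s * φ * σ (s * φ) * x)).eq
  have c2 := (R.c2_T0S k x ((x - σ x) * σ (s * φ))).eq
  have c3 := (R.c2_T1S k (s * φ * σ (s * φ) * x) ((x - σ x) * σ (s * φ))).eq
  set B := R.S (k + 1) (k + 2) s
  set t := R.T k x
  set τ := R.T (k + 1) (s * φ * σ (s * φ) * x)
  set Sp := R.S k (k + 1) ((x - σ x) * σ (s * φ))
  -- hrel : t * B = Sp⁻¹ * τ⁻¹ * B * t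
  have h1 : B * t * B⁻¹ = τ * Sp * t := by
    have : B * t = τ * Sp * (t * B) := by rw [hrel]; group
    rw [this]; group
  rw [h1]
  calc τ * Sp * t = τ * (Sp * t) := by group
    _ = τ * (t * Sp) := by rw [c2]
    _ = (τ * t) * Sp := by group
    _ = (t * τ) * Sp := by rw [c1]

theorem conjB_S (hσ2 : ∀ x, σ (σ x) = x) (k : ℤ) (s p : F) :
    R.S (k + 1) (k + 2) s * R.S k (k + 1) p * (R.S (k + 1) (k + 2) s)⁻¹ =
      R.S k (k + 1) p * R.T (k + 1) (p * s * φ) := by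
  have hrel := R.rel_SS3 k (k + 1) p (-σ s) (by linarith) (by push_cast; linarith)
  have hk : k + ((2 : ℕ) : ℤ) = k + 2 := by push_cast; ring
  rw [hk] at hrel
  have hsym : R.S (k + 2) (k + 1) (-σ s) = R.S (k + 1) (k + 2) s := (R.S_symm (k + 2) (k + 1) s).symm
  rw [hsym] at hrel
  have hpar : p * σ (-σ s) * φ = -(p * s * φ) := by
    simp only [map_neg, hσ2]; ring
  rw [hpar, R.T_neg] at hrel
  have c3 := (R.c2_T1S k (p * s * φ) p).eq
  set B := R.S (k + 1) (k + 2) s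
  set Sp := R.S k (k + 1) p
  set τ := R.T (k + 1) (p * s * φ)
  -- hrel : Sp * B = τ⁻¹ * B * Sp
  have h1 : B * Sp * B⁻¹ = τ * Sp := by
    have : B * Sp = τ * (Sp * B) := by rw [hrel]; group
    rw [this]; group
  rw [h1, c3]

end Cfsg.Agent.Lib.Helper53.SUReg
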