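import Cfsg.Agent.Lib.Helper53.SUReg.M2
import Cfsg.Agent.Lib.Helper15.SURegConj2

set_option autoImplicit false

/-!
helper15, S2282-[M2INV]: invariance of `M2 R H k` under three maps.
-/

namespace Cfsg.Agent.Lib.Helper15.SUReg2

open Cfsg.Agent.Lib.Helper53.SUReg

variable {F : Type*} [Field F] {σ : F →+* F} {G : Type*} [Group G] {φ : F}
variable (R : URootSys F σ G 2 φ)

/-- the normal form -/
def nf (k : ℤ) (x₁ x₂ p : F) : G := R.T k x₁ * R.T (k + 1) x₂ * R.S k (k + 1) p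

theorem nf_mul' (k : ℤ) (x₁ x₂ p y₁ y₂ r : F) :
    nf R k x₁ x₂ p * nf R k y₁ y₂ r = nf R k (x₁ + y₁) (x₂ + y₂) (p + r) :=
  R.nf_mul k x₁ x₂ p y₁ y₂ r

theorem nf_T0 (k : ℤ) (a : F) : R.T k a = nf R k a 0 0 := by
  unfold nf; rw [R.T_zero, R.S_zero, mul_one, mul_one]

theorem nf_T1 (k : ℤ) (a : F) : R.T (k + 1) a = nf R k 0 a 0 := by
  unfold nf; rw [R.T_zero, R.S_zero, mul_one, one_mul]

theorem nf_S (k : ℤ) (a : F) : R.S k (k + 1) a = nf R k 0 0 a := by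
  unfold nf; rw [R.T_zero, R.T_zero, one_mul, one_mul]

theorem nf_congr (k : ℤ) {x₁ x₂ p y₁ y₂ r : F} (h1 : x₁ = y₁) (h2 : x₂ = y₂) (h3 : p = r) :
    nf R k x₁ x₂ p = nf R k y₁ y₂ r := by rw [h1, h2, h3]

/-- conjugating a normal form factor by factor -/
theorem conj_nf (X : G) (k : ℤ) (x₁ x₂ p a₁ a₂ a₃ b₁ b₂ b₃ c₁ c₂ c₃ : F)
    (h1 : X * R.T k x₁ * X⁻¹ = nf R k a₁ a₂ a₃)
    (h2 : X * R.T (k + 1) x₂ * X⁻¹ = nf R k b₁ b₂ b₃)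
    (h3 : X * R.S k (k + 1) p * X⁻¹ = nf R k c₁ c₂ c₃) :
    X * nf R k x₁ x₂ p * X⁻¹ = nf R k (a₁ + b₁ + c₁) (a₂ + b₂ + c₂) (a₃ + b₃ + c₃) := by
  have : X * nf R k x₁ x₂ p * X⁻¹ =
      (X * R.T k x₁ * X⁻¹) * (X * R.T (k + 1) x₂ * X⁻¹) * (X * R.S k (k + 1) p * X⁻¹) := by
    unfold nf; group
  rw [this, h1, h2, h3, nf_mul', nf_mul']

/-- `S k (k+1) s` commutes with normal forms -/
theorem S_conj_nf (k : ℤ) (s x₁ x₂ p : F) :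
    R.S k (k + 1) s * nf R k x₁ x₂ p * (R.S k (k + 1) s)⁻¹ = nf R k x₁ x₂ p := by
  have h1 : R.S k (k + 1) s * nf R k x₁ x₂ p = nf R k x₁ x₂ p * R.S k (k + 1) s := by
    rw [nf_S R k s, nf_mul', nf_mul']
    apply nf_congr <;> ring
  rw [h1]; group

/-- `T k y` commutes with normal forms -/
theorem T0_conj_nf (k : ℤ) (y x₁ x₂ p : F) :
    R.T k y * nf R k x₁ x₂ p * (R.T k y)⁻¹ = nf R k x₁ x₂ p := by
  have h1 : R.T k y * nf R k x₁ x₂ p = nf R k x₁ x₂ p * R.T k y := by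
    rw [nf_T0 R k y, nf_mul', nf_mul']
    apply nf_congr <;> ring
  rw [h1]; group

/-- `T (k+1) y` commutes with normal forms -/
theorem T1_conj_nf (k : ℤ) (y x₁ x₂ p : F) :
    R.T (k + 1) y * nf R k x₁ x₂ p * (R.T (k + 1) y)⁻¹ = nf R k x₁ x₂ p := by
  have h1 : R.T (k + 1) y * nf R k x₁ x₂ p = nf R k x₁ x₂ p * R.T (k + 1) y := by
    rw [nf_T1 R k y, nf_mul', nf_mul']
    apply nf_congr <;> ring
  rw [h1]; group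

/-- conjugation of a normal form by `S (k-1) k s` -/
theorem conjA_nf (hσ2 : ∀ x, σ (σ x) = x) (k : ℤ) (s x₁ x₂ p : F) :
    R.S (k - 1) k s * nf R k x₁ x₂ p * (R.S (k - 1) k s)⁻¹ =
      nf R k (x₁ + s * φ * σ (s * φ) * x₂ - p * s * φ) x₂ (p - (x₂ - σ x₂) * σ (s * φ)) := by
  have hc : Commute (R.T k x₁) (R.S (k - 1) k s) := by
    apply R.TS_comm
    · rw [abs_lt]; constructor <;> push_cast <;> linarith
    · rw [abs_lt]; constructor <;> push_cast <;> linarith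
  have h1 : R.S (k - 1) k s * R.T k x₁ * (R.S (k - 1) k s)⁻¹ = nf R k x₁ 0 0 := by
    rw [← hc.eq, mul_inv_cancel_right, nf_T0]
  have h2 : R.S (k - 1) k s * R.T (k + 1) x₂ * (R.S (k - 1) k s)⁻¹ =
      nf R k (s * φ * σ (s * φ) * x₂) x₂ (-((x₂ - σ x₂) * σ (s * φ))) := by
    rw [conjA_T hσ2, (R.c2_T01 k (s * φ * σ (s * φ) * x₂) x₂).eq.symm]
    rfl
  have h3 : R.S (k - 1) k s * R.S k (k + 1) p * (R.S (k - 1) k s)⁻¹ =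
      nf R k (-(p * s * φ)) 0 p := by
    rw [conjA_S hσ2, ← (R.c2_T0S k (-(p * s * φ)) p).eq]
    unfold nf
    rw [R.T_zero, mul_one]
  rw [conj_nf R _ k x₁ x₂ p _ _ _ _ _ _ _ _ _ h1 h2 h3]
  apply nf_congr <;> ring

/-- conjugation of a normal form by `S (k+1) (k+2) s` -/
theorem conjB_nf (hσ2 : ∀ x, σ (σ x) = x) (k : ℤ) (s x₁ x₂ p : F) :
    R.S (k + 1) (k + 2) s * nf R k x₁ x₂ p * (R.S (k + 1) (k + 2) s)⁻¹ =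
      nf R k x₁ (x₂ + s * φ * σ (s * φ) * x₁ + p * s * φ) (p + (x₁ - σ x₁) * σ (s * φ)) := by
  have hc : Commute (R.T (k + 1) x₂) (R.S (k + 1) (k + 2) s) := by
    apply R.TS_comm
    · rw [abs_lt]; constructor <;> push_cast <;> linarith
    · rw [abs_lt]; constructor <;> push_cast <;> linarith
  have h1 : R.S (k + 1) (k + 2) s * R.T k x₁ * (R.S (k + 1) (k + 2) s)⁻¹ =
      nf R k x₁ (s * φ * σ (s * φ) * x₁) ((x₁ - σ x₁) * σ (s * φ)) := by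
    rw [conjB_T hσ2]
    rfl
  have h2 : R.S (k + 1) (k + 2) s * R.T (k + 1) x₂ * (R.S (k + 1) (k + 2) s)⁻¹ = nf R k 0 x₂ 0 := by
    rw [← hc.eq, mul_inv_cancel_right, nf_T1]
  have h3 : R.S (k + 1) (k + 2) s * R.S k (k + 1) p * (R.S (k + 1) (k + 2) s)⁻¹ =
      nf R k 0 (p * s * φ) p := by
    rw [conjB_S hσ2, ← (R.c2_T1S k (p * s * φ) p).eq]
    unfold nf
    rw [R.T_zero, one_mul]
  rw [conj_nf R _ k x₁ x₂ p _ _ _ _ _ _ _ _ _ h1 h2 h3]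
  apply nf_congr <;> ring

end Cfsg.Agent.Lib.Helper15.SUReg2

namespace Cfsg.Agent.Lib.Helper53.SUReg

open Cfsg.Agent.Lib.Helper15.SUReg2

variable {F : Type*} [Field F] {σ : F →+* F} {G : Type*} [Group G] {φ : F}
variable {R : URootSys F σ G 2 φ} {H : Subgroup G} {x₀ s₀ s₁ : F}

theorem M2_xi (hσ2 : ∀ x, σ (σ x) = x) (h : UGen R H x₀ s₀ s₁) (k : ℤ) (x₁ x₂ p : F)
    (hz : (x₁, x₂, p) ∈ M2 R H k) :
    (x₁ + s₀ * φ * σ (s₀ * φ) * x₂ + p * s₀ * φ, x₂, p + (x₂ - σ x₂) * σ (s₀ * φ)) ∈ M2 R H k := by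
  have hz' : nf R k x₁ x₂ p ∈ H := hz
  show nf R k _ _ _ ∈ H
  have he := h.hE k (k - 1)
  have hk : k - 1 + 1 = k := by ring
  rw [hk] at he
  set A := R.S (k - 1) k s₀ with hA
  set c := R.S k (k + 1) s₀ with hc
  have h1 : (A * c⁻¹)⁻¹ * nf R k x₁ x₂ p * (A * c⁻¹) ∈ H :=
    H.mul_mem (H.mul_mem (H.inv_mem he) hz') he
  have hA' : A⁻¹ = R.S (k - 1) k (-s₀) := (R.S_neg (k - 1) k s₀).symm
  have h2 : (A * c⁻¹)⁻¹ * nf R k x₁ x₂ p * (A * c⁻¹) =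
      c * (A⁻¹ * nf R k x₁ x₂ p * A⁻¹⁻¹) * c⁻¹ := by group
  rw [h2, hA', conjA_nf R hσ2, S_conj_nf] at h1
  convert h1 using 2
  · simp only [map_mul, map_neg]; ring
  · simp only [map_mul, map_neg]; ring

theorem M2_up0 (hσ2 : ∀ x, σ (σ x) = x) (h : UGen R H x₀ s₀ s₁) (k : ℤ) (x₁ x₂ p : F)
    (hz : (x₁, x₂, p) ∈ M2 R H k) :
    (x₁, x₂ + s₀ * φ * σ (s₀ * φ) * x₁ + p * s₀ * φ, p + (x₁ - σ x₁) * σ (s₀ * φ)) ∈ M2 R H k := by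
  have hz' : nf R k x₁ x₂ p ∈ H := hz
  show nf R k _ _ _ ∈ H
  have he := h.hE k (k + 1)
  have hk : k + 1 + 1 = k + 2 := by ring
  rw [hk] at he
  set B := R.S (k + 1) (k + 2) s₀ with hB
  set c := R.S k (k + 1) s₀ with hc
  have h1 : (B * c⁻¹) * nf R k x₁ x₂ p * (B * c⁻¹)⁻¹ ∈ H :=
    H.mul_mem (H.mul_mem he hz') (H.inv_mem he)
  have hcn : c⁻¹ * nf R k x₁ x₂ p * c = nf R k x₁ x₂ p := by
    have := S_conj_nf R k s₀ x₁ x₂ p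
    rw [← hc] at this
    calc c⁻¹ * nf R k x₁ x₂ p * c = c⁻¹ * (c * nf R k x₁ x₂ p * c⁻¹) * c := by rw [this]
      _ = nf R k x₁ x₂ p := by group
  have h2 : (B * c⁻¹) * nf R k x₁ x₂ p * (B * c⁻¹)⁻¹ =
      B * (c⁻¹ * nf R k x₁ x₂ p * c) * B⁻¹ := by group
  rw [h2, hcn, conjB_nf R hσ2] at h1
  exact h1

theorem M2_up1 (hσ2 : ∀ x, σ (σ x) = x) (h : UGen R H x₀ s₀ s₁) (k : ℤ) (x₁ x₂ p : F)
    (hz : (x₁, x₂, p) ∈ M2 R H k) :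
    (x₁, x₂ + s₁ * φ * σ (s₁ * φ) * x₁ + p * s₁ * φ, p + (x₁ - σ x₁) * σ (s₁ * φ)) ∈ M2 R H k := by
  have hz' : nf R k x₁ x₂ p ∈ H := hz
  show nf R k _ _ _ ∈ H
  have hX := h.hX k (k + 1)
  have hk : k + 1 + 1 = k + 2 := by ring
  rw [hk] at hX
  set t₁ := R.T (k + 1) x₀ with ht₁
  set B₁ := R.S (k + 1) (k + 2) s₁ with hB₁
  set t₀ := R.T k x₀ with ht₀
  set c₁ := R.S k (k + 1) s₁ with hc₁
  have h1 : (t₁ * B₁ * (t₀ * c₁)⁻¹) * nf R k x₁ x₂ p * (t₁ * B₁ * (t₀ * c₁)⁻¹)⁻¹ ∈ H :=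
    H.mul_mem (H.mul_mem hX hz') (H.inv_mem hX)
  have hcn : (t₀ * c₁)⁻¹ * nf R k x₁ x₂ p * (t₀ * c₁) = nf R k x₁ x₂ p := by
    have e1 := S_conj_nf R k s₁ x₁ x₂ p
    have e2 := T0_conj_nf R k x₀ x₁ x₂ p
    rw [← hc₁] at e1
    rw [← ht₀] at e2
    calc (t₀ * c₁)⁻¹ * nf R k x₁ x₂ p * (t₀ * c₁)
        = c₁⁻¹ * (t₀⁻¹ * (t₀ * nf R k x₁ x₂ p * t₀⁻¹) * t₀) * c₁ := by rw [e2]; group
      _ = c₁⁻¹ * (c₁ * nf R k x₁ x₂ p * c₁⁻¹) * c₁ := by rw [e1]; group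
      _ = nf R k x₁ x₂ p := by group
  have h2 : (t₁ * B₁ * (t₀ * c₁)⁻¹) * nf R k x₁ x₂ p * (t₁ * B₁ * (t₀ * c₁)⁻¹)⁻¹ =
      t₁ * (B₁ * ((t₀ * c₁)⁻¹ * nf R k x₁ x₂ p * (t₀ * c₁)) * B₁⁻¹) * t₁⁻¹ := by group
  rw [h2, hcn, conjB_nf R hσ2, T1_conj_nf] at h1
  exact h1

end Cfsg.Agent.Lib.Helper53.SUReg
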