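import Cfsg.Agent.Lib.Helper53.SUReg.M2
import Cfsg.Agent.Lib.Helper15.SURegConj2
import Cfsg.Agent.Lib.Helper15.SURegM2Inv

set_option autoImplicit false

/-!
helper15, S2282-[V2]: a first element of `M2 R H k` with non-zero third component.
-/

namespace Cfsg.Agent.Lib.Helper53.SUReg

open Cfsg.Agent.Lib.Helper15.SUReg2

variable {F : Type*} [Field F] {σ : F →+* F} {G : Type*} [Group G] {φ : F}
variable {R : URootSys F σ G 2 φ} {H : Subgroup G} {x₀ s₀ s₁ : F}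

theorem V2_mem (hσ2 : ∀ x, σ (σ x) = x) (h : UGen R H x₀ s₀ s₁) (k : ℤ) :
    ∃ y : F, ((0 : F), y, -(σ s₀ * (x₀ - σ x₀) * σ φ)) ∈ M2 R H k := by
  have hE := h.hE k (k + 1)
  have hX := h.hX k (k + 1)
  have hk : k + 1 + 1 = k + 2 := by ring
  rw [hk] at hE hX
  set B := R.S (k + 1) (k + 2) s₀ with hB
  set B₁ := R.S (k + 1) (k + 2) s₁ with hB₁
  have hBB₁ : B₁ * B * B₁⁻¹ = B := by
    have := (R.S_self_comm (k + 1) (k + 2) s₁ s₀).eq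
    rw [← hB, ← hB₁] at this
    rw [this]; group
  -- E = B * n₃
  have hE' : R.S k (k + 1) s₀ = nf R k 0 0 s₀ := nf_S R k s₀
  have hn₃ : (R.S k (k + 1) s₀)⁻¹ = nf R k 0 0 (-s₀) := by
    rw [← R.S_neg, nf_S]
  rw [hn₃] at hE
  -- X = B₁ * n₂
  have hcomm : Commute (R.T (k + 1) x₀) B₁ := by
    apply R.TS_comm
    · rw [abs_lt]; constructor <;> push_cast <;> linarith
    · rw [abs_lt]; constructor <;> push_cast <;> linarith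
  have hn₁ : (R.T k x₀ * R.S k (k + 1) s₁)⁻¹ = nf R k (-x₀) 0 (-s₁) := by
    have : R.T k x₀ * R.S k (k + 1) s₁ = R.T k x₀ * R.T (k + 1) 0 * R.S k (k + 1) s₁ := by
      rw [R.T_zero, mul_one]
    rw [this, R.nf_inv, neg_zero]
    rfl
  have hXeq : R.T (k + 1) x₀ * B₁ * (R.T k x₀ * R.S k (k + 1) s₁)⁻¹ = B₁ * nf R k (-x₀) x₀ (-s₁) := by
    rw [hn₁, hcomm.eq, mul_assoc, nf_T1 R k x₀, nf_mul']
    congr 1
    apply nf_congr <;> ring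
  rw [hXeq] at hX
  set n₂ := nf R k (-x₀) x₀ (-s₁) with hn₂
  set n₃ := nf R k 0 0 (-s₀) with hn₃d
  -- the commutator
  have hV : (B * n₃) * (B₁ * n₂) * (B * n₃)⁻¹ * (B₁ * n₂)⁻¹ ∈ H :=
    H.mul_mem (H.mul_mem (H.mul_mem hE hX) (H.inv_mem hE)) (H.inv_mem hX)
  have hVeq : (B * n₃) * (B₁ * n₂) * (B * n₃)⁻¹ * (B₁ * n₂)⁻¹ =
      B₁ * (B * ((B₁⁻¹ * n₃ * B₁⁻¹⁻¹) * n₂ * n₃⁻¹) * B⁻¹ * n₂⁻¹) * B₁⁻¹ := by
    have e1 : B₁ * (B * ((B₁⁻¹ * n₃ * B₁⁻¹⁻¹) * n₂ * n₃⁻¹) * B⁻¹ * n₂⁻¹) * B₁⁻¹ =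
        (B₁ * B * B₁⁻¹) * n₃ * B₁ * n₂ * n₃⁻¹ * B⁻¹ * n₂⁻¹ * B₁⁻¹ := by group
    rw [e1, hBB₁]; group
  rw [hVeq] at hV
  have hB₁inv : B₁⁻¹ = R.S (k + 1) (k + 2) (-s₁) := (R.S_neg (k + 1) (k + 2) s₁).symm
  have hn₃inv : n₃⁻¹ = nf R k 0 0 s₀ := by
    rw [hn₃d]
    have := R.nf_inv k 0 0 (-s₀)
    rw [neg_zero, neg_neg] at this
    exact this
  have hn₂inv : n₂⁻¹ = nf R k x₀ (-x₀) s₁ := by
    rw [hn₂]
    have := R.nf_inv k (-x₀) x₀ (-s₁)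
    rw [neg_neg, neg_neg] at this
    exact this
  have step1 : B₁⁻¹ * n₃ * B₁⁻¹⁻¹ = nf R k 0 (0 + (-s₁) * φ * σ ((-s₁) * φ) * 0 + (-s₀) * (-s₁) * φ)
      ((-s₀) + (0 - σ 0) * σ ((-s₁) * φ)) := by
    rw [hB₁inv, hn₃d, conjB_nf R hσ2]
  rw [step1, hn₂, hn₃inv, nf_mul', nf_mul', hB, conjB_nf R hσ2, hn₂inv, nf_mul', hB₁, conjB_nf R hσ2] at hV
  have hfin : ∀ (a b c : F), nf R k a b c ∈ H → a = 0 → c = -(σ s₀ * (x₀ - σ x₀) * σ φ) →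
      ∃ y : F, ((0 : F), y, -(σ s₀ * (x₀ - σ x₀) * σ φ)) ∈ M2 R H k := by
    intro a b c hmem ha hc
    refine ⟨b, ?_⟩
    show nf R k 0 b _ ∈ H
    rw [← ha, ← hc]; exact hmem
  apply hfin _ _ _ hV
  · ring
  · simp only [map_zero, map_mul, map_neg, map_add]; ring

end Cfsg.Agent.Lib.Helper53.SUReg
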