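import Cfsg.Agent.Lib.Helper53.SUReg.M2
import Cfsg.Agent.Lib.Helper15.SURegConj2
import Cfsg.Agent.Lib.Helper15.SURegM2Inv
import Cfsg.Agent.Lib.Helper15.SURegV2
import Cfsg.Agent.Lib.Helper36.SURegAlg2

set_option autoImplicit false

/-!
helper15, S2282-[ABS2]: the assembly for `m = 2`.
-/

namespace Cfsg.Agent.Lib.Helper53.SUReg

variable {F : Type*} [Field F] {σ : F →+* F} {G : Type*} [Group G] {φ : F}
variable {R : URootSys F σ G 2 φ} {H : Subgroup G} {x₀ s₀ s₁ : F}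

theorem M2_eq_top (hσ2 : ∀ x, σ (σ x) = x)
    (h : UGen R H x₀ s₀ s₁) (ζ : F) (h0 : s₀ * φ = 1) (h1 : s₁ * φ = ζ) (hζ : σ ζ ≠ ζ)
    (hθ : ∀ y : F, σ y = y → y ≠ 0 → ∃ j : ℕ, y = (ζ + σ ζ) ^ j)
    (hx₀ : σ x₀ ≠ x₀) (k : ℤ) : M2 R H k = ⊤ := by
  obtain ⟨y, hy⟩ := V2_mem hσ2 h k
  refine Cfsg.Agent.Lib.Helper36.SUReg.alg2 hσ2 ζ hζ hθ (M2 R H k) ?_ ?_ ?_ ?_ y
    (-(σ s₀ * (x₀ - σ x₀) * σ φ)) ?_ hy
  · intro ρ ρ' hρ hρ'
    rw [mem_M2, R.T_fix k ρ hρ, R.T_fix (k + 1) ρ' hρ', R.S_zero, one_mul, one_mul]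
    exact H.one_mem
  · intro x₁ x₂ p hz
    have := M2_xi hσ2 h k x₁ x₂ p hz
    have e1 : s₀ * φ * σ (s₀ * φ) * x₂ = x₂ := by rw [h0, map_one]; ring
    have e2 : p * s₀ * φ = p := by rw [mul_assoc, h0, mul_one]
    have e3 : (x₂ - σ x₂) * σ (s₀ * φ) = x₂ - σ x₂ := by rw [h0, map_one, mul_one]
    rw [e1, e2, e3] at this
    exact this
  · intro x₁ x₂ p hz
    have := M2_up0 hσ2 h k x₁ x₂ p hz
    have e1 : s₀ * φ * σ (s₀ * φ) * x₁ = x₁ := by rw [h0, map_one]; ring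
    have e2 : p * s₀ * φ = p := by rw [mul_assoc, h0, mul_one]
    have e3 : (x₁ - σ x₁) * σ (s₀ * φ) = x₁ - σ x₁ := by rw [h0, map_one, mul_one]
    rw [e1, e2, e3] at this
    exact this
  · intro x₁ x₂ p hz
    have := M2_up1 hσ2 h k x₁ x₂ p hz
    have e2 : p * s₁ * φ = p * ζ := by rw [mul_assoc, h1]
    rw [h1, e2] at this
    exact this
  · have e : σ s₀ * (x₀ - σ x₀) * σ φ = x₀ - σ x₀ := by
      have : σ s₀ * σ φ = 1 := by rw [← map_mul, h0, map_one]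
      linear_combination (x₀ - σ x₀) * this
    rw [e, neg_ne_zero]
    exact fun hc => hx₀ (sub_eq_zero.mp hc).symm

theorem all_mem_of_ugen2 (hσ2 : ∀ x, σ (σ x) = x) (hφ : φ ≠ 0)
    (h : UGen R H x₀ s₀ s₁) (ζ : F) (h0 : s₀ * φ = 1) (h1 : s₁ * φ = ζ) (hζ : σ ζ ≠ ζ)
    (hθ : ∀ y : F, σ y = y → y ≠ 0 → ∃ j : ℕ, y = (ζ + σ ζ) ^ j)
    (hx₀ : σ x₀ ≠ x₀) :
    (∀ (k : ℤ) (x : F), R.T k x ∈ H) ∧
      (∀ (j k : ℤ), j ≠ k → |j - k| < ((2 : ℕ) : ℤ) → ∀ s : F, R.S j k s ∈ H) := by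
  have htop := M2_eq_top hσ2 h ζ h0 h1 hζ hθ hx₀
  have hS : ∀ (k : ℤ) (s : F), R.S k (k + 1) s ∈ H := by
    intro k s
    have : ((0 : F), (0 : F), s) ∈ M2 R H k := by rw [htop k]; trivial
    rw [mem_M2, R.T_zero, R.T_zero, one_mul, one_mul] at this
    exact this
  refine ⟨fun k x => ?_, fun j k hjk habs s => ?_⟩
  · have : (x, (0 : F), (0 : F)) ∈ M2 R H k := by rw [htop k]; trivial
    rw [mem_M2, R.T_zero, R.S_zero, mul_one, mul_one] at this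
    exact this
  · rw [abs_lt] at habs
    push_cast at habs
    obtain ⟨ha, hb⟩ := habs
    have hcases : k = j + 1 ∨ j = k + 1 := by
      rcases lt_or_gt_of_ne hjk with hlt | hgt
      · left; omega
      · right; omega
    rcases hcases with rfl | rfl
    · exact hS j s
    · rw [R.S_symm k (k + 1)]
      exact hS k _

end Cfsg.Agent.Lib.Helper53.SUReg
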