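import Mathlib
import Cfsg.Agent.Lib.Helper72.Simple5040D

/-!
# No simple group of order 5040: module [B2-V4] (helper15, for helper72, board #4289)

`|N(P₅)| = 40`, `|C(P₅)| = 20` and the Sylow `2`-subgroup of `C(P₅)` of exponent two is impossible.
-/

set_option autoImplicit false
set_option linter.unusedSectionVars false
set_option linter.unusedVariables false

namespace Cfsg.Agent.Lib.Helper15.Simple5040

open MulAction Subgroup Cfsg.Agent.Lib.Helper17 Cfsg.Agent.Lib.Helper72.Simple5040

section generic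

variable {G : Type*} [Group G]

/-- Elements of `zpowers k` when `k ^ 2 = 1`. -/
theorem eq_one_or_eq_of_mem_zpowers_of_sq {k x : G} (hk : k ^ 2 = 1) (hx : x ∈ zpowers k) :
    x = 1 ∨ x = k := by
  obtain ⟨n, rfl⟩ := Subgroup.mem_zpowers_iff.1 hx
  have hk2 : k ^ (2 : ℤ) = 1 := by
    rw [← hk]; exact zpow_natCast k 2
  rcases Int.even_or_odd' n with ⟨m, hm | hm⟩
  · left
    rw [hm, zpow_mul, hk2, one_zpow]
  · right
    rw [hm, zpow_add, zpow_mul, hk2, one_zpow, one_mul, zpow_one]

/-- In a group of exponent two, elements commute. -/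
theorem comm_of_sq_eq_one {a b : G} (ha : a ^ 2 = 1) (hb : b ^ 2 = 1) (hab : (a * b) ^ 2 = 1) :
    a * b = b * a := by
  have ha' : a⁻¹ = a := by
    rw [inv_eq_iff_mul_eq_one, ← pow_two]; exact ha
  have hb' : b⁻¹ = b := by
    rw [inv_eq_iff_mul_eq_one, ← pow_two]; exact hb
  have hab' : (a * b)⁻¹ = a * b := by
    rw [inv_eq_iff_mul_eq_one, ← pow_two]; exact hab
  rw [← hab', mul_inv_rev, ha', hb']

end generic

variable {G : Type*} [Group G] [Finite G] [IsSimpleGroup G]

attribute [local instance] fact7 fact5 fact3 fact2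

theorem false_of_card_centralizer_eq_20_of_exponent_two (h : Nat.card G = 5040) (P : Sylow 5 G)
    (hN : Nat.card (normalizer ((P : Subgroup G) : Set G)) = 40)
    (hC : Nat.card (centralizer ((P : Subgroup G) : Set G)) = 20)
    (hexp : ∀ c ∈ centralizer ((P : Subgroup G) : Set G), c ^ 4 = 1 → c ^ 2 = 1) : False := by
  classical
  set N := normalizer ((P : Subgroup G) : Set G) with hNdef
  set C5 := centralizer ((P : Subgroup G) : Set G) with hC5def
  have hP5 := card_sylow5 h P
  have hC5N : C5 ≤ N := Subgroup.centralizer_le_normalizer _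
  have hPN : (P : Subgroup G) ≤ N := le_normalizer
  -- the Sylow 2-subgroup `T` of `N`
  obtain ⟨T0⟩ := (Sylow.nonempty : Nonempty (Sylow 2 N))
  set T : Subgroup G := (T0 : Subgroup N).map N.subtype with hTdef
  have hTN : T ≤ N := map_subtype_le' N _
  have hT : Nat.card T = 8 := by
    rw [hTdef, card_map_subtype]
    have hcard : Nat.card N = 2 ^ 3 * 5 := by rw [hN]; norm_num
    rw [sylow_card_of_card_eq T0 hcard (by norm_num)]; norm_num
  -- `K = T ⊓ C5`
  set K : Subgroup G := T ⊓ C5 with hKdef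
  have hKT : K ≤ T := inf_le_left
  have hKC : K ≤ C5 := inf_le_right
  have hK4 : Nat.card K = 4 := by
    have h1 : Nat.card K ∣ 8 := hT ▸ Subgroup.card_dvd_of_le hKT
    have h2 : Nat.card K ∣ 20 := hC ▸ Subgroup.card_dvd_of_le hKC
    have h3 : C5.relIndex N = 2 := by
      have := card_mul_relIndex_of_le hC5N
      rw [hC, hN] at this
      omega
    have h4 : C5.relIndex T ≤ C5.relIndex N :=
      Subgroup.relIndex_le_of_le_right hTN (by rw [h3]; norm_num)
    have h5 : K.relIndex T = C5.relIndex T := by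
      rw [hKdef]; exact Subgroup.inf_relIndex_left T C5
    have h6 := card_mul_relIndex_of_le hKT
    rw [hT, h5] at h6
    rw [h3] at h4
    have h7 : Nat.card K ≤ 8 := Nat.le_of_dvd (by norm_num) h1
    generalize C5.relIndex T = j at *
    generalize Nat.card K = c at *
    interval_cases c <;> interval_cases j <;> omega
  have hTK : Nat.card T = 2 * Nat.card K := by rw [hT, hK4]
  -- exponent two, commutative
  have hK2 : ∀ c ∈ K, c ^ 2 = 1 := by
    intro c hc
    apply hexp c (hKC hc)
    have h1 : (⟨c, hc⟩ : K) ^ Nat.card K = 1 := pow_card_eq_one'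
    rw [hK4] at h1
    have h2 := congrArg Subtype.val h1
    simpa using h2
  have hKcomm : ∀ a ∈ K, ∀ b ∈ K, a * b = b * a := by
    intro a ha b hb
    exact comm_of_sq_eq_one (hK2 a ha) (hK2 b hb) (hK2 _ (K.mul_mem ha hb))
  -- `T` normalizes `K`
  have hTnormK : ∀ τ ∈ T, ∀ k ∈ K, τ * k * τ⁻¹ ∈ K := by
    intro τ hτ k hk
    refine ⟨T.mul_mem (T.mul_mem hτ (hKT hk)) (T.inv_mem hτ), ?_⟩
    exact Cfsg.Agent.Lib.Helper9.Simple1080.conj_mem_centralizer_of_mem_normalizer _ (hTN hτ)
      (hKC hk)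
  -- an element `r ∈ T ∖ K`
  have hex : ∃ r ∈ T, r ∉ K := by
    by_contra hno
    push Not at hno
    have : T ≤ K := hno
    have := Subgroup.card_le_of_le this
    omega
  obtain ⟨r, hrT, hrK⟩ := hex
  have hr2 : r ^ 2 ∈ K := sq_mem_of_card_eq_two_mul hKT hTK r hrT
  have hrinvK : r⁻¹ ∉ K := fun hh => hrK (by simpa using K.inv_mem hh)
  -- a subgroup containing `K` and `r` contains `T`
  have hgenT : ∀ L : Subgroup G, K ≤ L → r ∈ L → T ≤ L := by
    intro L hKL hrL τ hτ
    by_cases hτK : τ ∈ K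
    · exact hKL hτK
    · have h1 : r⁻¹ * τ ∈ K :=
        mul_mem_of_card_eq_two_mul hKT hTK r⁻¹ τ (T.inv_mem hrT) hτ hrinvK hτK
      have : τ = r * (r⁻¹ * τ) := by group
      rw [this]
      exact L.mul_mem hrL (hKL h1)
  -- (L1) an involution of `K` centralized by `T` has centralizer `N`
  have hL1 : ∀ k ∈ K, k ≠ 1 → T ≤ centralizer ({k} : Set G) → centralizer ({k} : Set G) = N := by
    intro k hk hk1 hTk
    have hord : orderOf k = 2 := orderOf_eq_prime (hK2 k hk) hk1
    apply centralizer_eq_normalizer_of_le h P hN k hord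
    apply le_of_coprime_card_dvd (centralizer ({k} : Set G)) N (P : Subgroup G) T ?_ hPN hTk hTN
    · rw [hP5, hT]; norm_num
    · rw [hN, hP5, hT]
    · intro y hy
      rw [mem_centralizer_singleton_iff]
      have := hKC hk
      rw [hC5def, Subgroup.mem_centralizer_iff] at this
      exact this y hy
  -- the Sylow 2-subgroup `S` of `G` and the element `s`
  obtain ⟨S, s, hST, hsS, hsN, hsT⟩ := exists_sylow_two_growth h N hN T hTN hT
  have hTS : T ≤ (S : Subgroup G) := by rw [← hST]; exact inf_le_left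
  have hS16 := card_sylow2 h S
  have hs2 : s ^ 2 ∈ T := sq_mem_of_card_eq_two_mul hTS (by rw [hS16, hT]) s hsS
  have hsconj : ∀ τ ∈ T, s * τ * s⁻¹ ∈ T := fun τ hτ => (mem_normalizer_iff.1 hsT τ).1 hτ
  have hsconj' : ∀ τ ∈ T, s⁻¹ * τ * s ∈ T := by
    intro τ hτ
    have := (mem_normalizer_iff.1 (inv_mem hsT) τ).1 hτ
    rwa [inv_inv] at this
  have hsk : ∀ k ∈ K, k ≠ 1 → T ≤ centralizer ({k} : Set G) → s * k * s⁻¹ ≠ k := by
    intro k hk hk1 hTk heq
    apply hsN
    rw [← hL1 k hk hk1 hTk, mem_centralizer_singleton_iff]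
    calc s * k = (s * k * s⁻¹) * s := by group
      _ = k * s := by rw [heq]
  have hinvK : ∀ k ∈ K, k⁻¹ = k := by
    intro k hk
    rw [inv_eq_iff_mul_eq_one, ← pow_two]; exact hK2 k hk
  by_cases hcase : ∀ k ∈ K, r * k = k * r
  · -- case (i): `T` is commutative
    have hT_K : ∀ k ∈ K, T ≤ centralizer ({k} : Set G) := by
      intro k hk
      apply hgenT
      · intro a ha
        rw [mem_centralizer_singleton_iff]
        exact hKcomm a ha k hk
      · rw [mem_centralizer_singleton_iff]
        exact hcase k hk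
    have hT_r : T ≤ centralizer ({r} : Set G) := by
      apply hgenT
      · intro a ha
        rw [mem_centralizer_singleton_iff]
        exact (hcase a ha).symm
      · rw [mem_centralizer_singleton_iff]
    have hTcomm : ∀ a ∈ T, ∀ b ∈ T, a * b = b * a := by
      intro a ha b hb
      have hTb : T ≤ centralizer ({b} : Set G) := by
        apply hgenT
        · intro k hk
          rw [mem_centralizer_singleton_iff]
          have := hT_K k hk hb
          rw [mem_centralizer_singleton_iff] at this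
          exact this.symm
        · rw [mem_centralizer_singleton_iff]
          have := hT_r hb
          rw [mem_centralizer_singleton_iff] at this
          exact this.symm
      have := hTb ha
      rw [mem_centralizer_singleton_iff] at this
      exact this
    -- `φ k = s k s⁻¹ k` is never in `K`
    have hφ : ∀ k ∈ K, k ≠ 1 → s * k * s⁻¹ * k ∉ K := by
      intro k hk hk1 hφK
      have hφ1 : s * k * s⁻¹ * k ≠ 1 := by
        intro h1
        apply hsk k hk hk1 (hT_K k hk)
        have : s * k * s⁻¹ = k⁻¹ := eq_inv_of_mul_eq_one_left h1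
        rw [this, hinvK k hk]
      have hsφ : s * (s * k * s⁻¹ * k) * s⁻¹ = s * k * s⁻¹ * k := by
        have h1 : s * (s * k * s⁻¹ * k) * s⁻¹ = (s ^ 2 * k * (s ^ 2)⁻¹) * (s * k * s⁻¹) := by
          rw [pow_two]; group
        have h2 : s ^ 2 * k * (s ^ 2)⁻¹ = k := by
          rw [hTcomm (s ^ 2) hs2 k (hKT hk), mul_inv_cancel_right]
        rw [h1, h2]
        exact hTcomm k (hKT hk) _ (hsconj k (hKT hk))
      have hsC : s ∈ centralizer ({s * k * s⁻¹ * k} : Set G) := by
        rw [mem_centralizer_singleton_iff]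
        calc s * (s * k * s⁻¹ * k) = (s * (s * k * s⁻¹ * k) * s⁻¹) * s := by group
          _ = s * k * s⁻¹ * k * s := by rw [hsφ]
      rw [hL1 _ hφK hφ1 (hT_K _ hφK)] at hsC
      exact hsN hsC
    -- two distinct involutions of `K`
    have hKne : ∃ k1 ∈ K, k1 ≠ 1 := by
      by_contra hno
      push Not at hno
      have : K = ⊥ := by
        rw [eq_bot_iff]
        intro a ha
        rw [Subgroup.mem_bot]; exact hno a ha
      rw [this, Subgroup.card_bot] at hK4
      omega
    obtain ⟨k1, hk1K, hk1ne⟩ := hKne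
    have hex2 : ∃ k2 ∈ K, k2 ∉ zpowers k1 := by
      by_contra hno
      push Not at hno
      have hle : K ≤ zpowers k1 := hno
      have h1 := Subgroup.card_le_of_le hle
      have h2 : Nat.card (zpowers k1) = 2 := by
        rw [Nat.card_zpowers]; exact orderOf_eq_prime (hK2 k1 hk1K) hk1ne
      omega
    obtain ⟨k2, hk2K, hk2z⟩ := hex2
    have hk2ne : k2 ≠ 1 := by
      intro h1; apply hk2z; rw [h1]; exact one_mem _
    have hk3ne : k1 * k2 ≠ 1 := by
      intro h1
      apply hk2z
      have : k2 = k1⁻¹ := eq_inv_of_mul_eq_one_right h1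
      rw [this]
      exact inv_mem (mem_zpowers k1)
    have hmul : (s * k1 * s⁻¹ * k1) * (s * k2 * s⁻¹ * k2) = s * (k1 * k2) * s⁻¹ * (k1 * k2) := by
      have h1 := hTcomm k1 (hKT hk1K) _ (hsconj k2 (hKT hk2K))
      calc (s * k1 * s⁻¹ * k1) * (s * k2 * s⁻¹ * k2)
          = s * k1 * s⁻¹ * (k1 * (s * k2 * s⁻¹)) * k2 := by group
        _ = s * k1 * s⁻¹ * ((s * k2 * s⁻¹) * k1) * k2 := by rw [h1]
        _ = s * (k1 * k2) * s⁻¹ * (k1 * k2) := by group
    have hmem1 : s * k1 * s⁻¹ * k1 ∈ T := T.mul_mem (hsconj k1 (hKT hk1K)) (hKT hk1K)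
    have hmem2 : s * k2 * s⁻¹ * k2 ∈ T := T.mul_mem (hsconj k2 (hKT hk2K)) (hKT hk2K)
    have hprod := mul_mem_of_card_eq_two_mul hKT hTK _ _ hmem1 hmem2 (hφ k1 hk1K hk1ne)
      (hφ k2 hk2K hk2ne)
    rw [hmul] at hprod
    exact hφ (k1 * k2) (K.mul_mem hk1K hk2K) hk3ne hprod
  · -- case (ii): `r` moves some `k ∈ K`
    push Not at hcase
    obtain ⟨k, hk, hrk⟩ := hcase
    have hk'K : r * k * r⁻¹ ∈ K := hTnormK r hrT k hk
    have hk'ne : r * k * r⁻¹ ≠ k := by
      intro heq
      apply hrk
      calc r * k = (r * k * r⁻¹) * r := by group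
        _ = k * r := by rw [heq]
    have hrk' : r * (r * k * r⁻¹) * r⁻¹ = k := by
      have h1 : r * (r * k * r⁻¹) * r⁻¹ = r ^ 2 * k * (r ^ 2)⁻¹ := by
        rw [pow_two]; group
      rw [h1, hKcomm (r ^ 2) hr2 k hk, mul_inv_cancel_right]
    have hk1K : k * (r * k * r⁻¹) ∈ K := K.mul_mem hk hk'K
    have hk1ne : k * (r * k * r⁻¹) ≠ 1 := by
      intro h1
      apply hk'ne
      have : r * k * r⁻¹ = k⁻¹ := eq_inv_of_mul_eq_one_right h1
      rw [this, hinvK k hk]
    have hrk1 : r * (k * (r * k * r⁻¹)) = k * (r * k * r⁻¹) * r := by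
      calc r * (k * (r * k * r⁻¹)) = (r * k * r⁻¹) * (r * (r * k * r⁻¹) * r⁻¹) * r := by group
        _ = (r * k * r⁻¹) * k * r := by rw [hrk']
        _ = k * (r * k * r⁻¹) * r := by rw [hKcomm _ hk'K k hk]
    have hTk1 : T ≤ centralizer ({k * (r * k * r⁻¹)} : Set G) := by
      apply hgenT
      · intro a ha
        rw [mem_centralizer_singleton_iff]
        exact hKcomm a ha _ hk1K
      · rw [mem_centralizer_singleton_iff]
        exact hrk1
    have hwT : s * (k * (r * k * r⁻¹)) * s⁻¹ ∈ T := hsconj _ (hKT hk1K)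
    have hwne : s * (k * (r * k * r⁻¹)) * s⁻¹ ≠ k * (r * k * r⁻¹) := hsk _ hk1K hk1ne hTk1
    have hw1 : s * (k * (r * k * r⁻¹)) * s⁻¹ ≠ 1 := by
      intro h1
      apply hk1ne
      have : k * (r * k * r⁻¹) = s⁻¹ * (s * (k * (r * k * r⁻¹)) * s⁻¹) * s := by group
      rw [this, h1]; group
    have hwcomm : ∀ τ ∈ T, τ * (s * (k * (r * k * r⁻¹)) * s⁻¹) =
        (s * (k * (r * k * r⁻¹)) * s⁻¹) * τ := by
      intro τ hτ
      have h1 := hTk1 (hsconj' τ hτ)
      rw [mem_centralizer_singleton_iff] at h1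
      calc τ * (s * (k * (r * k * r⁻¹)) * s⁻¹)
          = s * ((s⁻¹ * τ * s) * (k * (r * k * r⁻¹))) * s⁻¹ := by group
        _ = s * ((k * (r * k * r⁻¹)) * (s⁻¹ * τ * s)) * s⁻¹ := by rw [h1]
        _ = s * (k * (r * k * r⁻¹)) * s⁻¹ * τ := by group
    generalize hk1def : k * (r * k * r⁻¹) = k1 at *
    generalize hwdef : s * k1 * s⁻¹ = w at *
    by_cases hwK : w ∈ K
    · have hk1M : k1 ∈ K ⊓ centralizer ({r} : Set G) :=
        Subgroup.mem_inf.2 ⟨hk1K, mem_centralizer_singleton_iff.2 hrk1.symm⟩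
      have hwM : w ∈ K ⊓ centralizer ({r} : Set G) :=
        Subgroup.mem_inf.2 ⟨hwK, mem_centralizer_singleton_iff.2 (hwcomm r hrT).symm⟩
      have hkM : k ∉ K ⊓ centralizer ({r} : Set G) := by
        intro hh
        have := (Subgroup.mem_inf.1 hh).2
        rw [mem_centralizer_singleton_iff] at this
        exact hrk this.symm
      have hM'le : K ⊓ centralizer ({r} : Set G) ≤ K := inf_le_left
      have hM'card : Nat.card (K ⊓ centralizer ({r} : Set G) : Subgroup G) = 2 := by
        have h1 : Nat.card (K ⊓ centralizer ({r} : Set G) : Subgroup G) ∣ 4 :=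
          hK4 ▸ Subgroup.card_dvd_of_le hM'le
        have h2 : Nat.card (K ⊓ centralizer ({r} : Set G) : Subgroup G) ≠ 4 := by
          intro h4
          have := Subgroup.eq_of_le_of_card_ge hM'le (by rw [h4, hK4])
          apply hkM; rw [this]; exact hk
        have h3 : Nat.card (K ⊓ centralizer ({r} : Set G) : Subgroup G) ≠ 1 := by
          intro h1'
          have := Subgroup.eq_bot_of_card_eq _ h1'
          rw [this, Subgroup.mem_bot] at hk1M
          exact hk1ne hk1M
        have h4 : Nat.card (K ⊓ centralizer ({r} : Set G) : Subgroup G) ≤ 4 :=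
          Nat.le_of_dvd (by norm_num) h1
        generalize Nat.card (K ⊓ centralizer ({r} : Set G) : Subgroup G) = c at *
        interval_cases c <;> omega
      have hM'z := eq_zpowers_of_card_prime _ Nat.prime_two hM'card hk1M hk1ne
      rw [hM'z] at hwM
      rcases eq_one_or_eq_of_mem_zpowers_of_sq (hK2 k1 hk1K) hwM with h1 | h1
      · exact hw1 h1
      · exact hwne h1
    · have h1 : r⁻¹ * w ∈ K :=
        mul_mem_of_card_eq_two_mul hKT hTK r⁻¹ w (T.inv_mem hrT) hwT hrinvK hwK
      have h2 := hKcomm _ h1 k hk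
      have h3 := hwcomm k (hKT hk)
      apply hrk
      have h4 : r⁻¹ * k = k * r⁻¹ := by
        have : r⁻¹ * k * w = k * r⁻¹ * w := by
          calc r⁻¹ * k * w = r⁻¹ * (k * w) := by group
            _ = r⁻¹ * (w * k) := by rw [h3]
            _ = r⁻¹ * w * k := by group
            _ = k * (r⁻¹ * w) := h2
            _ = k * r⁻¹ * w := by group
        exact mul_right_cancel this
      calc r * k = r * (k * r⁻¹) * r := by group
        _ = r * (r⁻¹ * k) * r := by rw [h4]
        _ = k * r := by group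

end Cfsg.Agent.Lib.Helper15.Simple5040
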