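import Mathlib
import Cfsg.Prelude.Def_Solvable
import Cfsg.Agent.Lib.Helper55.Cores
import Cfsg.Agent.Lib.Helper1.Fitting
import Cfsg.Agent.S0044
import Cfsg.Agent.S0688
import Cfsg.Agent.Lib.Helper51.UniqueOrderP

/-!
# Solvable case of Gagola's theorem: the group-theoretic core (helper15)

`X` finite solvable, `O_p(X) = 1`, abelian `p'`-subgroups cyclic.  Then (outside an exceptional
configuration with `p = 3` and a normal nonabelian subgroup of order `8`) `X` has a normal
`p'`-subgroup with abelian quotient.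
-/

set_option autoImplicit false
set_option linter.unusedSectionVars false

namespace Cfsg.Agent.Lib.Helper15.SolvGag

open Cfsg

variable {X : Type*} [Group X] [Finite X]

/-- an element centralizing all members of a family centralizes the join -/
theorem mem_centralizer_iSup {ι : Sort*} (S : ι → Subgroup X) (g : X)
    (h : ∀ i, g ∈ Subgroup.centralizer (S i : Set X)) :
    g ∈ Subgroup.centralizer ((⨆ i, S i : Subgroup X) : Set X) := by
  have h1 : (⨆ i, S i) ≤ Subgroup.centralizer ((Subgroup.zpowers g : Subgroup X) : Set X) := by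
    apply iSup_le
    intro i
    rw [Subgroup.le_centralizer_iff]
    rw [Subgroup.zpowers_le]
    exact h i
  rw [Subgroup.le_centralizer_iff] at h1
  exact h1 (Subgroup.mem_zpowers g)

/-- odd cores are cyclic -/
theorem isCyclic_pCore_of_odd (p : ℕ) [Fact p.Prime]
    (hcyc : ∀ A : Subgroup X, IsMulCommutative A → (Nat.card A).Coprime p → IsCyclic A)
    (r : ℕ) [hr : Fact r.Prime] (hrp : r ≠ p) (hr2 : r ≠ 2) : IsCyclic (pCore r X) := by
  have hRr : IsPGroup r (pCore r X) := Cfsg.Agent.Lib.Helper55.isPGroup_pCore r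
  have hcyc' : ∀ B : Subgroup (pCore r X), IsMulCommutative B → IsCyclic B := by
    intro B hB
    have hB' : IsMulCommutative (B.map (pCore r X).subtype) := inferInstance
    have hcard : Nat.card (B.map (pCore r X).subtype) = Nat.card B :=
      Nat.card_congr
        (B.equivMapOfInjective (pCore r X).subtype (pCore r X).subtype_injective).symm.toEquiv
    have hBr : IsPGroup r B := hRr.to_subgroup B
    obtain ⟨k, hk⟩ := IsPGroup.iff_card.1 hBr
    have hcop : (Nat.card (B.map (pCore r X).subtype)).Coprime p := by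
      rw [hcard, hk]
      apply Nat.Coprime.pow_left
      exact (Nat.coprime_primes hr.out (Fact.out : p.Prime)).2 hrp
    have h3 := hcyc _ hB' hcop
    exact (MulEquiv.isCyclic
      (B.equivMapOfInjective (pCore r X).subtype (pCore r X).subtype_injective)).mpr h3
  have huniq := Cfsg.Agent.S0688.unique_order hcyc' r hRr
  rcases Cfsg.Agent.Lib.Helper51.cyclic_or_quaternion_of_uniqueOrderP r hRr huniq with h | ⟨h, -⟩
  · exact h
  · exact absurd h hr2

theorem pnilab_of_solvable [Group.IsSolvable X] (p : ℕ) [hp : Fact p.Prime]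
    (B1 : ∀ R : Subgroup X, R.Normal → IsCyclic R →
      commutator X ≤ Subgroup.centralizer (R : Set X))
    (B2 : ∀ R : Subgroup X, R.Normal → IsPGroup 2 R →
      (∀ A : Subgroup X, A ≤ R → IsMulCommutative A → IsCyclic A) → p ≠ 2 →
      ∀ g : X, ∀ k : ℕ, g ^ p ^ k = 1 → (¬ ∀ x ∈ R, g * x = x * g) →
      p = 3 ∧ Nat.card R = 8 ∧ ¬ IsMulCommutative R)
    (hOp : ∀ S : Subgroup X, S.Normal → IsPGroup p S → S = ⊥)
    (hcyc : ∀ A : Subgroup X, IsMulCommutative A → (Nat.card A).Coprime p → IsCyclic A)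
    (hexc : p = 3 → ∀ R : Subgroup X, R.Normal → Nat.card R = 8 → ¬ IsMulCommutative R →
      ∃ D : Subgroup X, D.Normal ∧ (Nat.card D).Coprime p ∧ commutator X ≤ D) :
    ∃ D : Subgroup X, D.Normal ∧ (Nat.card D).Coprime p ∧ commutator X ≤ D := by
  classical
  have hOpbot : pCore p X = ⊥ :=
    hOp _ (Cfsg.Agent.Lib.Helper55.pCore_normal' p) (Cfsg.Agent.Lib.Helper55.isPGroup_pCore p)
  have hnorm : ∀ r : ℕ, (pCore r X).Normal := fun r => Cfsg.Agent.Lib.Helper55.pCore_normal' r
  -- the subgroup D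
  set D : Subgroup X := ⨅ r : {r : Nat.Primes // (r : ℕ) ≠ 2},
    Subgroup.centralizer ((pCore ((r : Nat.Primes) : ℕ) X : Subgroup X) : Set X) with hD
  have hDn : D.Normal := by
    rw [hD]
    apply Subgroup.normal_iInf_normal
    intro r
    have := hnorm ((r : Nat.Primes) : ℕ)
    exact Subgroup.normal_centralizer
  have hcomm : commutator X ≤ D := by
    rw [hD]
    apply le_iInf
    intro r
    have hrP : Fact ((r : Nat.Primes) : ℕ).Prime := ⟨(r : Nat.Primes).2⟩
    by_cases hrp : ((r : Nat.Primes) : ℕ) = p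
    · rw [hrp, hOpbot]
      intro x _
      rw [Subgroup.mem_centralizer_iff]
      intro y hy
      have hy1 : y = 1 := by simpa using hy
      rw [hy1, mul_one, one_mul]
    · exact B1 _ (hnorm _) (isCyclic_pCore_of_odd p hcyc _ hrp r.2)
  -- the Fitting subgroup has order prime to p
  have hFcop : (Nat.card (fittingSubgroup X)).Coprime p := by
    rw [Cfsg.Agent.Lib.Helper1.fittingSubgroup_eq_iSup_pCore, iSup]
    apply (Cfsg.Agent.Lib.Helper1.normal_and_coprime_card_sSup p _ _).2
    rintro N ⟨r, rfl⟩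
    refine ⟨hnorm _, ?_⟩
    have hrP : Fact (r : ℕ).Prime := ⟨r.2⟩
    by_cases hrp : (r : ℕ) = p
    · show (Nat.card (pCore (r : ℕ) X)).Coprime p
      rw [hrp, hOpbot]
      simp
    · obtain ⟨k, hk⟩ := IsPGroup.iff_card.1 (Cfsg.Agent.Lib.Helper55.isPGroup_pCore (G := X) (r : ℕ))
      show (Nat.card (pCore (r : ℕ) X)).Coprime p
      rw [hk]
      apply Nat.Coprime.pow_left
      exact (Nat.coprime_primes r.2 hp.out).2 hrp
  -- p-elements of D centralizing O_2 are trivial
  have hkey : ∀ g ∈ D, ∀ k : ℕ, g ^ p ^ k = 1 →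
      (∀ x ∈ pCore 2 X, g * x = x * g) → g = 1 := by
    intro g hgD k hgk hg2
    have hgF : g ∈ Subgroup.centralizer ((fittingSubgroup X : Subgroup X) : Set X) := by
      rw [Cfsg.Agent.Lib.Helper1.fittingSubgroup_eq_iSup_pCore]
      apply mem_centralizer_iSup
      intro r
      by_cases hr2 : (r : ℕ) = 2
      · rw [hr2, Subgroup.mem_centralizer_iff]
        intro x hx
        exact (hg2 x hx).symm
      · rw [hD, Subgroup.mem_iInf] at hgD
        exact hgD ⟨r, hr2⟩
    have hgF' : g ∈ fittingSubgroup X := Cfsg.Agent.S0044.result hgF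
    have h1 : orderOf g ∣ Nat.card (fittingSubgroup X) := by
      have := orderOf_dvd_natCard (⟨g, hgF'⟩ : fittingSubgroup X)
      rwa [Subgroup.orderOf_mk] at this
    have h2 : orderOf g ∣ p ^ k := orderOf_dvd_of_pow_eq_one hgk
    have h3 : (Nat.card (fittingSubgroup X)).Coprime (p ^ k) := Nat.Coprime.pow_right k hFcop
    have h4 : orderOf g = 1 := Nat.eq_one_of_dvd_coprimes h3 h1 h2
    exact orderOf_eq_one_iff.1 h4
  by_cases hex : ∃ g ∈ D, (∃ k : ℕ, g ^ p ^ k = 1) ∧ g ≠ 1
  · obtain ⟨g, hgD, ⟨k, hgk⟩, hg1⟩ := hex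
    have hnc : ¬ ∀ x ∈ pCore 2 X, g * x = x * g := fun h => hg1 (hkey g hgD k hgk h)
    have hp2 : p ≠ 2 := by
      intro hp2
      apply hnc
      intro x hx
      rw [← hp2, hOpbot, Subgroup.mem_bot] at hx
      rw [hx, mul_one, one_mul]
    have hcyc2 : ∀ A : Subgroup X, A ≤ pCore 2 X → IsMulCommutative A → IsCyclic A := by
      intro A hA hAc
      apply hcyc A hAc
      have h2 : IsPGroup 2 (pCore 2 X) := Cfsg.Agent.Lib.Helper55.isPGroup_pCore 2
      have hA2 : IsPGroup 2 A := h2.to_le hA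
      obtain ⟨j, hj⟩ := IsPGroup.iff_card.1 hA2
      rw [hj]
      apply Nat.Coprime.pow_left
      exact (Nat.coprime_primes Nat.prime_two hp.out).2 (Ne.symm hp2)
    obtain ⟨h3, h8, hna⟩ := B2 (pCore 2 X) (hnorm 2) (Cfsg.Agent.Lib.Helper55.isPGroup_pCore 2)
      hcyc2 hp2 g k hgk hnc
    exact hexc h3 _ (hnorm 2) h8 hna
  · refine ⟨D, hDn, ?_, hcomm⟩
    by_contra hncop
    have hdvd : p ∣ Nat.card D := by
      by_contra hnd
      exact hncop ((Nat.Prime.coprime_iff_not_dvd hp.out).2 hnd).symm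
    obtain ⟨g, hg⟩ := exists_prime_orderOf_dvd_card' p hdvd
    apply hex
    refine ⟨(g : X), g.2, ⟨1, ?_⟩, ?_⟩
    · rw [pow_one]
      have := pow_orderOf_eq_one g
      rw [hg] at this
      have h := congrArg Subtype.val this
      simpa using h
    · intro h1
      have : g = 1 := Subtype.ext h1
      rw [this, orderOf_one] at hg
      exact hp.out.one_lt.ne hg

end Cfsg.Agent.Lib.Helper15.SolvGag
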