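import Mathlib
import Cfsg.Agent.Lib.Helper15.SolvGagA
import Cfsg.Agent.S0685

/-!
# Solvable case of Gagola's theorem: transitive linear groups with `p`-group stabilizers (helper15)
-/

set_option autoImplicit false
set_option linter.unusedSectionVars false

namespace Cfsg.Agent.Lib.Helper15.SolvGag

open Cfsg

variable {p : ℕ} [hp : Fact p.Prime] {V : Type*} [AddCommGroup V] [Module (ZMod p) V] [Finite V]
  [Nontrivial V] (X : Subgroup (V ≃ₗ[ZMod p] V))

theorem finite_GL' : Finite (V ≃ₗ[ZMod p] V) :=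
  Finite.of_injective (fun e : V ≃ₗ[ZMod p] V => (e : V → V)) DFunLike.coe_injective

/-- `p` divides `|V|` -/
theorem dvd_card_V : p ∣ Nat.card V := by
  obtain ⟨v, hv⟩ := exists_ne (0 : V)
  have h1 : addOrderOf v ∣ p := by
    apply addOrderOf_dvd_of_nsmul_eq_zero
    have : (p : ZMod p) • v = 0 := by rw [ZMod.natCast_self, zero_smul]
    rwa [Nat.cast_smul_eq_nsmul] at this
  have h2 : addOrderOf v ≠ 1 := by
    intro h
    exact hv (AddMonoid.addOrderOf_eq_one_iff.1 h)
  have h3 : addOrderOf v = p := ((Nat.dvd_prime hp.out).1 h1).resolve_left h2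
  rw [← h3]
  exact addOrderOf_dvd_natCard v

variable (htrans : ∀ v w : V, v ≠ 0 → w ≠ 0 → ∃ g ∈ X, g v = w)
  (hstab : ∀ v : V, v ≠ 0 → ∀ g ∈ X, g v = v → ∃ k : ℕ, g ^ p ^ k = 1)

include htrans in
/-- `O_p(X) = 1` -/
theorem normal_pgroup_eq_bot (S : Subgroup X) (hS : S.Normal) (hSp : IsPGroup p S) : S = ⊥ := by
  classical
  let act : MulAction S V :=
    { smul := fun s v => (((s : X) : V ≃ₗ[ZMod p] V)) v
      one_smul := fun v => rfl
      mul_smul := fun s t v => rfl }
  have hsm : ∀ (s : S) (v : V), s • v = (((s : X) : V ≃ₗ[ZMod p] V)) v := fun _ _ => rfl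
  have h1 := hSp.card_modEq_card_fixedPoints V
  have h2 : p ∣ Nat.card (MulAction.fixedPoints S V) := by
    have h0 : Nat.card V ≡ 0 [MOD p] := (Nat.modEq_zero_iff_dvd).2 dvd_card_V
    exact (Nat.modEq_zero_iff_dvd).1 (h1.symm.trans h0)
  -- a nonzero fixed vector
  have h3 : ∃ v : V, v ≠ 0 ∧ ∀ s : S, s • v = v := by
    by_contra hno
    push Not at hno
    have hsub : Subsingleton (MulAction.fixedPoints S V) := by
      constructor
      intro a b
      have ha : (a : V) = 0 := by
        by_contra ha0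
        obtain ⟨s, hs⟩ := hno a ha0
        exact hs (a.2 s)
      have hb : (b : V) = 0 := by
        by_contra hb0
        obtain ⟨s, hs⟩ := hno b hb0
        exact hs (b.2 s)
      exact Subtype.ext (ha.trans hb.symm)
    have hne : Nonempty (MulAction.fixedPoints S V) := ⟨⟨0, fun s => by rw [hsm]; exact map_zero _⟩⟩
    have hc : Nat.card (MulAction.fixedPoints S V) = 1 := Nat.card_unique
    rw [hc] at h2
    exact hp.out.one_lt.ne' (Nat.dvd_one.1 h2)
  obtain ⟨v, hv0, hv⟩ := h3
  rw [Subgroup.eq_bot_iff_forall]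
  intro s hs
  apply Subtype.ext
  apply LinearEquiv.ext
  intro w
  show ((s : V ≃ₗ[ZMod p] V)) w = w
  by_cases hw : w = 0
  · rw [hw, map_zero]
  · obtain ⟨g, hg, hgv⟩ := htrans v w hv0 hw
    have hconj : (⟨g, hg⟩ : X)⁻¹ * s * (⟨g, hg⟩ : X) ∈ S := by
      have := hS.conj_mem s hs (⟨g, hg⟩ : X)⁻¹
      rwa [inv_inv] at this
    have h5 := hv ⟨_, hconj⟩
    rw [hsm] at h5
    have h6 : (g⁻¹ * (s : V ≃ₗ[ZMod p] V) * g) v = v := h5
    rw [← hgv]
    have h7 : ((s : V ≃ₗ[ZMod p] V) * g) v = g v := by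
      have := congrArg (fun u => g u) h6
      simp only [LinearEquiv.mul_apply] at this
      rw [LinearEquiv.mul_apply]
      have h8 : g (g⁻¹ ((s : V ≃ₗ[ZMod p] V) (g v))) = (s : V ≃ₗ[ZMod p] V) (g v) := by
        show (g * g⁻¹) ((s : V ≃ₗ[ZMod p] V) (g v)) = _
        rw [mul_inv_cancel]
        rfl
      rw [h8] at this
      exact this
    exact h7

include hstab in
/-- subgroups of order prime to `p` act freely -/
theorem free_of_coprime (Y : Subgroup X) (hY : (Nat.card Y).Coprime p) (g : X) (hg : g ∈ Y)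
    (v : V) (hv : v ≠ 0) (hgv : (g : V ≃ₗ[ZMod p] V) v = v) : g = 1 := by
  have := finite_GL' (p := p) (V := V)
  obtain ⟨k, hk⟩ := hstab v hv g g.2 hgv
  have hk' : g ^ p ^ k = 1 := by
    apply Subtype.ext
    rw [Subgroup.coe_pow, hk]
    rfl
  have h1 : orderOf g ∣ p ^ k := orderOf_dvd_of_pow_eq_one hk'
  have h2 : orderOf g ∣ Nat.card Y := by
    have := orderOf_dvd_natCard (⟨g, hg⟩ : Y)
    rwa [Subgroup.orderOf_mk] at this
  have h3 : (Nat.card Y).Coprime (p ^ k) := Nat.Coprime.pow_right k hY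
  have h4 : orderOf g = 1 := Nat.eq_one_of_dvd_coprimes h3 h2 h1
  exact orderOf_eq_one_iff.1 h4

include hstab in
/-- abelian subgroups of order prime to `p` are cyclic -/
theorem isCyclic_of_coprime (A : Subgroup X) (hA : IsMulCommutative A)
    (hAp : (Nat.card A).Coprime p) : IsCyclic A := by
  have := finite_GL' (p := p) (V := V)
  set H : Subgroup (V ≃ₗ[ZMod p] V) := A.map X.subtype with hH
  have e : A ≃* H := A.equivMapOfInjective X.subtype X.subtype_injective
  have hfree : ∀ h : H, ∀ v : V, v ≠ 0 → (h : V ≃ₗ[ZMod p] V) v = v → h = 1 := by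
    intro h v hv hhv
    obtain ⟨a, haA, hah⟩ := h.2
    have h1 := free_of_coprime X hstab A hAp a haA v hv (by
      have : (X.subtype a) v = v := by rw [hah]; exact hhv
      exact this)
    apply Subtype.ext
    rw [← hah, h1]
    rfl
  have hHc : IsMulCommutative H := inferInstance
  have hTc : IsMulCommutative (⊤ : Subgroup H) := by
    constructor
    constructor
    intro a b
    apply Subtype.ext
    have := hHc.is_comm.comm (a : H) (b : H)
    exact this
  have h3 := Cfsg.Agent.S0685.isCyclic_of_free H hfree ⊤ hTc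
  have h4 : IsCyclic H := (MulEquiv.isCyclic (Subgroup.topEquiv (G := H))).mp h3
  exact (MulEquiv.isCyclic e).mpr h4

include htrans hstab in
/-- **The linear theorem**, modulo the modules `B1`, `B2` and the exceptional case. -/
theorem lin_main [Group.IsSolvable X]
    (B1 : ∀ R : Subgroup X, R.Normal → IsCyclic R →
      commutator X ≤ Subgroup.centralizer (R : Set X))
    (B2 : ∀ R : Subgroup X, R.Normal → IsPGroup 2 R →
      (∀ A : Subgroup X, A ≤ R → IsMulCommutative A → IsCyclic A) → p ≠ 2 →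
      ∀ g : X, ∀ k : ℕ, g ^ p ^ k = 1 → (¬ ∀ x ∈ R, g * x = x * g) →
      p = 3 ∧ Nat.card R = 8 ∧ ¬ IsMulCommutative R)
    (hexc : p = 3 → ∀ R : Subgroup X, R.Normal → Nat.card R = 8 → ¬ IsMulCommutative R →
      ∃ D : Subgroup X, D.Normal ∧ (Nat.card D).Coprime p ∧ commutator X ≤ D) :
    ∃ D : Subgroup X, D.Normal ∧ (Nat.card D).Coprime p ∧ commutator X ≤ D := by
  have := finite_GL' (p := p) (V := V)
  exact pnilab_of_solvable p B1 B2 (normal_pgroup_eq_bot X htrans)
    (isCyclic_of_coprime X hstab) hexc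

end Cfsg.Agent.Lib.Helper15.SolvGag
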