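import Mathlib
import Cfsg.Agent.Lib.Helper15.SolvGagB
import Cfsg.Agent.Lib.Helper15.GagolaA

/-!
# Solvable case of Gagola's theorem: from the Camina pair to a transitive linear group (helper15)
-/

set_option autoImplicit false
set_option linter.unusedSectionVars false

namespace Cfsg.Agent.Lib.Helper15.SolvGag

open Cfsg Cfsg.Agent.Lib.Helper15.Gagola
open scoped commutatorElement

universe u v

/-- An action by additive automorphisms on an elementary abelian `p`-group is linear. -/
theorem linear_of_action {G : Type v} [Group G] {A : Type u} [AddCommGroup A]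
    (p : ℕ) [Fact p.Prime] (hpA : ∀ a : A, p • a = 0)
    (act : G → A → A) (act_add : ∀ g a b, act g (a + b) = act g a + act g b)
    (act_mul : ∀ g h a, act (g * h) a = act g (act h a)) (act_one : ∀ a, act 1 a = a) :
    ∃ (_ : Module (ZMod p) A) (lin : G →* (A ≃ₗ[ZMod p] A)), ∀ g a, lin g a = act g a := by
  obtain ⟨inst⟩ : Nonempty (Module (ZMod p) A) := ⟨AddCommGroup.zmodModule hpA⟩
  refine ⟨inst, ?_⟩
  have act_zero : ∀ g, act g 0 = 0 := by
    intro g
    have := act_add g 0 0
    rw [add_zero] at this
    exact add_eq_left.mp this.symm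
  let lin : G →* (A ≃ₗ[ZMod p] A) :=
    { toFun := fun g =>
        { toFun := act g
          invFun := act g⁻¹
          left_inv := fun a => by rw [← act_mul, inv_mul_cancel, act_one]
          right_inv := fun a => by rw [← act_mul, mul_inv_cancel, act_one]
          map_add' := act_add g
          map_smul' := fun c a =>
            ZMod.map_smul ({ toFun := act g, map_zero' := act_zero g,
                             map_add' := act_add g } : A →+ A) c a }
      map_one' := by
        apply LinearEquiv.ext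
        intro a
        show act 1 a = a
        exact act_one a
      map_mul' := fun g h => by
        apply LinearEquiv.ext
        intro a
        show act (g * h) a = act g (act h a)
        exact act_mul g h a }
  exact ⟨lin, fun _ _ => rfl⟩

variable {G : Type u} [Group G] [Finite G] {N : Subgroup G} {p : ℕ}

/-- elements commuting with a nonidentity element of `N` are `p`-elements -/
theorem cam_pelement_of_commute [hp : Fact p.Prime] (h : Cam N p) {g c : G} (hc : c ∈ N)
    (hc1 : c ≠ 1) (hgc : g * c = c * g) : ∃ k : ℕ, g ^ p ^ k = 1 := by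
  have hpos : orderOf g ≠ 0 := (orderOf_pos g).ne'
  obtain ⟨a, m, hm, hom⟩ := Nat.exists_eq_pow_mul_and_not_dvd hpos p hp.out.ne_one
  refine ⟨a, ?_⟩
  by_contra hne
  have hord : orderOf (g ^ p ^ a) = m := by
    have hd : p ^ a ∣ orderOf g := by rw [hom]; exact Dvd.intro _ rfl
    rw [orderOf_pow_of_dvd (pow_ne_zero a hp.out.ne_zero) hd, hom]
    exact Nat.mul_div_cancel_left m (pow_pos hp.out.pos a)
  have hcop : (orderOf (g ^ p ^ a)).Coprime p := by
    rw [hord]
    exact ((Nat.Prime.coprime_iff_not_dvd hp.out).2 hm).symm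
  have hcomm : g ^ p ^ a * c = c * g ^ p ^ a := by
    have : Commute g c := hgc
    exact (this.pow_left (p ^ a)).eq
  exact hc1 (h.fpf hcop hne hc hcomm)

/-- the transitive linear group attached to a Camina pair -/
theorem cam_exists_linear [hN : N.Normal] [hp : Fact p.Prime] (h : Cam N p)
    (hel : ∀ x ∈ N, x ^ p = 1) :
    ∃ (V : Type u) (_ : AddCommGroup V) (_ : Module (ZMod p) V) (_ : Finite V) (_ : Nontrivial V)
      (X : Subgroup (V ≃ₗ[ZMod p] V)) (ρ : G →* X),
      Function.Surjective ρ ∧ IsPGroup p ρ.ker ∧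
      (∀ v w : V, v ≠ 0 → w ≠ 0 → ∃ g ∈ X, g v = w) ∧
      (∀ v : V, v ≠ 0 → ∀ g ∈ X, g v = v → ∃ k : ℕ, g ^ p ^ k = 1) := by
  classical
  let instC : CommGroup N :=
    { (inferInstance : Group N) with
      mul_comm := fun a b => Subtype.ext (h.comm a a.2 b b.2) }
  let A := Additive N
  let act : G → A → A := fun g a =>
    Additive.ofMul (⟨g * ((Additive.toMul a : N) : G) * g⁻¹, hN.conj_mem _ (Additive.toMul a).2 g⟩ : N)
  have hact : ∀ g a, ((Additive.toMul (act g a) : N) : G) = g * ((Additive.toMul a : N) : G) * g⁻¹ :=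
    fun _ _ => rfl
  have hext : ∀ a b : A, ((Additive.toMul a : N) : G) = ((Additive.toMul b : N) : G) → a = b := by
    intro a b hab
    exact Additive.toMul.injective (Subtype.ext hab)
  have hpA : ∀ a : A, p • a = 0 := by
    intro a
    apply hext
    show (((Additive.toMul a : N) ^ p : N) : G) = 1
    rw [Subgroup.coe_pow]
    exact hel _ (Additive.toMul a).2
  have act_add : ∀ g a b, act g (a + b) = act g a + act g b := by
    intro g a b
    apply hext
    show g * (((Additive.toMul a : N) : G) * ((Additive.toMul b : N) : G)) * g⁻¹ =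
      (g * ((Additive.toMul a : N) : G) * g⁻¹) * (g * ((Additive.toMul b : N) : G) * g⁻¹)
    group
  have act_mul : ∀ g k a, act (g * k) a = act g (act k a) := by
    intro g k a
    apply hext
    rw [hact, hact, hact]
    group
  have act_one : ∀ a, act 1 a = a := by
    intro a
    apply hext
    rw [hact]
    group
  obtain ⟨instM, lin, hlin⟩ := linear_of_action p hpA act act_add act_mul act_one
  have hfinA : Finite A := inferInstanceAs (Finite (Additive N))
  have hntA : Nontrivial A := by
    obtain ⟨g₀, hg₀, hg₀1⟩ := h.ne_bot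
    refine ⟨⟨Additive.ofMul (⟨g₀, hg₀⟩ : N), 0, ?_⟩⟩
    intro h0
    apply hg₀1
    have := congrArg (fun a : A => ((Additive.toMul a : N) : G)) h0
    exact this
  have hne : ∀ a : A, a ≠ 0 → ((Additive.toMul a : N) : G) ≠ 1 := by
    intro a ha h1
    apply ha
    apply hext
    exact h1
  have hfix : ∀ (g : G) (a : A), lin g a = a →
      g * ((Additive.toMul a : N) : G) = ((Additive.toMul a : N) : G) * g := by
    intro g a hga
    rw [hlin] at hga
    have := congrArg (fun a : A => ((Additive.toMul a : N) : G)) hga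
    simp only [hact] at this
    calc g * ((Additive.toMul a : N) : G)
        = (g * ((Additive.toMul a : N) : G) * g⁻¹) * g := by group
      _ = ((Additive.toMul a : N) : G) * g := by rw [this]
  refine ⟨A, inferInstance, instM, hfinA, hntA, lin.range, lin.rangeRestrict,
    lin.rangeRestrict_surjective, ?_, ?_, ?_⟩
  · -- kernel is a p-group
    obtain ⟨g₀, hg₀, hg₀1⟩ := h.ne_bot
    intro g
    have hgk : lin (g : G) = 1 := by
      have := g.2
      rw [MonoidHom.mem_ker] at this
      have h2 := congrArg Subtype.val this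
      exact h2
    have hcomm : (g : G) * g₀ = g₀ * (g : G) := by
      have := hfix (g : G) (Additive.ofMul (⟨g₀, hg₀⟩ : N)) (by rw [hgk]; rfl)
      exact this
    obtain ⟨k, hk⟩ := cam_pelement_of_commute h hg₀ hg₀1 hcomm
    refine ⟨k, ?_⟩
    apply Subtype.ext
    rw [Subgroup.coe_pow, hk]
    rfl
  · -- transitivity
    intro v w hv hw
    have hx := (Additive.toMul v).2
    have hy := (Additive.toMul w).2
    have hc := (h.conj _ hx (hne v hv) ((Additive.toMul w : N) : G)).2 ⟨hy, hne w hw⟩
    obtain ⟨c, hc⟩ := isConj_iff.1 hc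
    refine ⟨lin c, ⟨c, rfl⟩, ?_⟩
    rw [hlin]
    apply hext
    rw [hact]
    exact hc
  · -- stabilizers
    rintro v hv g' ⟨g, rfl⟩ hgv
    have hcomm := hfix g v hgv
    obtain ⟨k, hk⟩ := cam_pelement_of_commute h (Additive.toMul v).2 (hne v hv) hcomm
    refine ⟨k, ?_⟩
    rw [← map_pow, hk, map_one]

/-- **Solvable Gagola theorem**, modulo the linear theorem `LIN`. -/
theorem cam_quotient_main [hN : N.Normal] [hp : Fact p.Prime] (h : Cam N p)
    (hel : ∀ x ∈ N, x ^ p = 1) [Group.IsSolvable G]
    (LIN : ∀ (V : Type u) [AddCommGroup V] [Module (ZMod p) V] [Finite V] [Nontrivial V]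
      (X : Subgroup (V ≃ₗ[ZMod p] V)) [Group.IsSolvable X],
      (∀ v w : V, v ≠ 0 → w ≠ 0 → ∃ g ∈ X, g v = w) →
      (∀ v : V, v ≠ 0 → ∀ g ∈ X, g v = v → ∃ k : ℕ, g ^ p ^ k = 1) →
      ∃ D : Subgroup X, D.Normal ∧ (Nat.card D).Coprime p ∧ commutator X ≤ D) :
    ∃ D : Subgroup (G ⧸ pCore p G), D.Normal ∧ (Nat.card D).Coprime p ∧
      commutator (G ⧸ pCore p G) ≤ D := by
  obtain ⟨V, i1, i2, i3, i4, X, ρ, hsurj, hker, htr, hst⟩ := cam_exists_linear h hel
  have : Group.IsSolvable X := Group.isSolvable_of_surjective hsurj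
  obtain ⟨D, hDn, hDc, hDab⟩ := LIN V X htr hst
  have hk1 : ρ.ker ≤ pCore p G := Cfsg.Agent.Lib.Helper55.le_pCore (MonoidHom.normal_ker ρ) hker
  have hk2 : pCore p G ≤ ρ.ker := by
    have hn : ((pCore p G).map ρ).Normal :=
      Subgroup.Normal.map (Cfsg.Agent.Lib.Helper55.pCore_normal' p) ρ hsurj
    have hpg : IsPGroup p ((pCore p G).map ρ) :=
      (Cfsg.Agent.Lib.Helper55.isPGroup_pCore (G := G) p).map ρ
    have := normal_pgroup_eq_bot X htr _ hn hpg
    exact (Subgroup.map_eq_bot_iff _).1 this
  have hker_eq : pCore p G = ρ.ker := le_antisymm hk2 hk1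
  let e : G ⧸ pCore p G ≃* X :=
    (QuotientGroup.quotientMulEquivOfEq hker_eq).trans
      (QuotientGroup.quotientKerEquivOfSurjective ρ hsurj)
  refine ⟨D.comap e.toMonoidHom, hDn.comap _, ?_, ?_⟩
  · have hc : Nat.card (D.comap e.toMonoidHom) = Nat.card D := by
      have h1 : D.comap e.toMonoidHom = D.map e.symm.toMonoidHom :=
        (Subgroup.map_equiv_eq_comap_symm' e.symm D).symm
      rw [h1]
      exact Subgroup.card_map_of_injective e.symm.injective
    rw [hc]
    exact hDc
  · rw [commutator_def, Subgroup.commutator_le]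
    intro a _ b _
    rw [Subgroup.mem_comap]
    have h1 : e.toMonoidHom ⁅a, b⁆ = ⁅e a, e b⁆ := map_commutatorElement e.toMonoidHom a b
    rw [h1]
    apply hDab
    rw [commutator_def]
    exact Subgroup.commutator_mem_commutator (Subgroup.mem_top _) (Subgroup.mem_top _)

end Cfsg.Agent.Lib.Helper15.SolvGag
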