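import Cfsg.Agent.Lib.Helper69.Aut.StrDefs
import Cfsg.Agent.Lib.Helper69.Aut.Diag
import Cfsg.Agent.S1080
import Cfsg.Agent.S2157

/-!
# Project STR (S2159), modules STR-[DNF], STR-[FNF], STR-[DEC] (helper15, for helper69, board #4695)

Diagonal and field automorphisms are in normal form (trivial node permutation); an automorphism in normal form with
trivial node permutation is the product of a diagonal and a field automorphism.
-/

set_option autoImplicit false

namespace Cfsg.Agent.Lib.Helper15.Aut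

open Cfsg Cfsg.Lie Cfsg.Agent.Lib.Helper18 Cfsg.Agent.Lib.Helper91.ChevGen Cfsg.Agent.Lib.Helper69.Aut

universe u

variable {F : Type u} [Field F] {D : ChevalleyDatum}

/-- The exponent of a graph automorphism at a fixed node is `1`. -/
theorem graphExp_diag (c i : ℕ) : D.graphExp c i i = 1 := by
  unfold ChevalleyDatum.graphExp
  cases D.isLong (D.simple i) <;> rfl

/-- [DNF] A diagonal automorphism is in normal form with trivial permutation and trivial field automorphism. -/
theorem diag_nf (hD : D ∈ [chevG2, chevB2, chevD4, chevF4, chevE6, chevE7, chevE8])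
    (d : ↥(D.group F) ≃* ↥(D.group F)) (hd : D.IsDiagonalAut d) :
    ∃ c : Fin D.rank → Fˣ, NF hD d 1 c (RingEquiv.refl F) := by
  obtain ⟨χ, hχ, hd⟩ := hd
  obtain ⟨C⟩ := nonempty_chevData.{u} D hD
  refine ⟨fun i => χ (D.simple i), fun i t => ⟨?_, ?_⟩⟩
  · apply eq_xS
    rw [hd, coe_xS, coe_xG, Cfsg.Agent.S2157.result D hD χ hχ _ (C.simple_lt i i.2) t]
    show D.x F (D.simple i) ((χ (D.simple i) : F) * t) =
      D.x F (D.simple i) ((χ (D.simple i) : F) * t ^ D.graphExp (ringChar F) i i)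
    rw [graphExp_diag, pow_one]
  · apply eq_xS
    have hlt : D.neg (D.simple i) < D.nroots := neg_lt_nroots D hD _ (C.simple_lt i i.2)
    rw [hd, coe_xS, coe_xG, Cfsg.Agent.S2157.result D hD χ hχ _ hlt t, hχ.1 _ (C.simple_lt i i.2)]
    show D.x F (D.neg (D.simple i)) (((χ (D.simple i))⁻¹ : Fˣ) * t) =
      D.x F (D.neg (D.simple i)) (((χ (D.simple i))⁻¹ : Fˣ) * t ^ D.graphExp (ringChar F) i i)
    rw [graphExp_diag, pow_one]

/-- [FNF] A field automorphism is in normal form with trivial permutation and trivial constants. -/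
theorem field_nf (hD : D ∈ [chevG2, chevB2, chevD4, chevF4, chevE6, chevE7, chevE8])
    (φ : ↥(D.group F) ≃* ↥(D.group F)) (hφ : D.IsFieldAut φ) :
    ∃ τ : F ≃+* F, NF hD φ 1 (fun _ => 1) τ := by
  obtain ⟨σ, hσ⟩ := hφ
  obtain ⟨C⟩ := nonempty_chevData.{u} D hD
  refine ⟨σ, fun i t => ⟨?_, ?_⟩⟩
  · apply eq_xS
    rw [hσ _ (D.simple i) t (C.simple_lt i i.2) rfl]
    show D.x F (D.simple i) (σ t) =
      D.x F (D.simple i) (((1 : Fˣ) : F) * (σ t) ^ D.graphExp (ringChar F) i i)
    rw [graphExp_diag, pow_one, Units.val_one, one_mul]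
  · apply eq_xS
    have hlt : D.neg (D.simple i) < D.nroots := neg_lt_nroots D hD _ (C.simple_lt i i.2)
    rw [hσ _ (D.neg (D.simple i)) t hlt rfl]
    show D.x F (D.neg (D.simple i)) (σ t) =
      D.x F (D.neg (D.simple i)) ((((1 : Fˣ)⁻¹ : Fˣ) : F) * (σ t) ^ D.graphExp (ringChar F) i i)
    rw [graphExp_diag, pow_one, inv_one, Units.val_one, one_mul]

/-- [DEC] An automorphism in normal form with trivial permutation is a diagonal times a field automorphism. -/
theorem nf_one_decomp (hD : D ∈ [chevG2, chevB2, chevD4, chevF4, chevE6, chevE7, chevE8])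
    (θ : MulAut ↥(D.group F)) (c : Fin D.rank → Fˣ) (τ : F ≃+* F) (h : NF hD θ 1 c τ) :
    ∃ d φ : MulAut ↥(D.group F), D.IsDiagonalAut d ∧ D.IsFieldAut φ ∧ θ = d * φ := by
  obtain ⟨d, hd, hdx⟩ := exists_diagonalAut (F := F) hD c
  obtain ⟨φ, hφ⟩ := Cfsg.Agent.S1080.result D hD τ
  obtain ⟨C⟩ := nonempty_chevData.{u} D hD
  refine ⟨d, φ, hd, ⟨τ, hφ⟩, ?_⟩
  have hhom : θ.toMonoidHom = (d * φ : MulAut ↥(D.group F)).toMonoidHom := by
    apply hom_ext_fund hD
    intro y i t hi hy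
    show θ y = d (φ y)
    rcases hy with hy | hy
    · have hy' : y = xS hD (D.simple i) t := eq_xS hD y _ t hy
      have hφy : φ y = xS hD (D.simple i) (τ t) :=
        eq_xS hD _ _ _ (hφ y (D.simple i) t (C.simple_lt i hi) hy)
      rw [hφy, hy']
      have h1 := (h ⟨i, hi⟩ t).1
      have h2 := (hdx ⟨i, hi⟩ (τ t)).1
      rw [h2]
      rw [show θ (xS hD (D.simple i) t) = θ (xS hD (D.simple ((⟨i, hi⟩ : Fin D.rank) : ℕ)) t) from rfl, h1]
      show xS hD (D.simple i) ((c ⟨i, hi⟩ : F) * (τ t) ^ D.graphExp (ringChar F) i i) = _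
      rw [graphExp_diag, pow_one]
    · have hlt : D.neg (D.simple i) < D.nroots := neg_lt_nroots D hD _ (C.simple_lt i hi)
      have hy' : y = xS hD (D.neg (D.simple i)) t := eq_xS hD y _ t hy
      have hφy : φ y = xS hD (D.neg (D.simple i)) (τ t) :=
        eq_xS hD _ _ _ (hφ y (D.neg (D.simple i)) t hlt hy)
      rw [hφy, hy']
      have h1 := (h ⟨i, hi⟩ t).2
      have h2 := (hdx ⟨i, hi⟩ (τ t)).2
      rw [h2]
      rw [show θ (xS hD (D.neg (D.simple i)) t) =
        θ (xS hD (D.neg (D.simple ((⟨i, hi⟩ : Fin D.rank) : ℕ))) t) from rfl, h1]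
      show xS hD (D.neg (D.simple i)) (((c ⟨i, hi⟩)⁻¹ : Fˣ) * (τ t) ^ D.graphExp (ringChar F) i i) = _
      rw [graphExp_diag, pow_one]
  apply MulEquiv.ext
  intro y
  exact DFunLike.congr_fun hhom y

end Cfsg.Agent.Lib.Helper15.Aut
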