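import Cfsg.Agent.Lib.Helper69.Aut.StrDefs
import Cfsg.Agent.Lib.Helper18.Order1

/-!
# Project STR (S2159), module STR-[RPU] (helper15, for helper69, board #4695)

The node permutation of an automorphism carrying the fundamental root elements (and their negatives) to such is
unique.
-/

set_option autoImplicit false

namespace Cfsg.Agent.Lib.Helper15.Aut

open Cfsg Cfsg.Lie Cfsg.Agent.Lib.Helper18 Cfsg.Agent.Lib.Helper91.ChevGen Cfsg.Agent.Lib.Helper69.Aut

universe u

variable {F : Type u} [Field F] {D : ChevalleyDatum}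

/-- The fundamental roots `D.simple j`, `j < D.rank`, are pairwise different. -/
theorem simple_inj_of_mem (hD : D ∈ [chevG2, chevB2, chevD4, chevF4, chevE6, chevE7, chevE8])
    (j k : ℕ) (hj : j < D.rank) (hk : k < D.rank) (h : D.simple j = D.simple k) : j = k := by
  have key : ∀ j < D.rank, ∀ k < D.rank, D.simple j = D.simple k → j = k := by
    simp only [List.mem_cons, List.not_mem_nil, or_false] at hD
    rcases hD with rfl | rfl | rfl | rfl | rfl | rfl | rfl <;> decide
  exact key j hj k hk h

/-- [RPU] The node permutation of an automorphism carrying the fundamental root elements to such is unique. -/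
theorem rootPerm_unique (hD : D ∈ [chevG2, chevB2, chevD4, chevF4, chevE6, chevE7, chevE8])
    (θ : ↥(D.group F) ≃* ↥(D.group F)) (π π' : Equiv.Perm (Fin D.rank)) (h : RootPerm hD θ π)
    (h' : RootPerm hD θ π') : π = π' := by
  obtain ⟨f, g, hf, hg⟩ := h
  obtain ⟨f', g', hf', hg'⟩ := h'
  obtain ⟨C⟩ := nonempty_chevData.{u} D hD
  have hlt : ∀ k : Fin D.rank, D.simple k < D.nroots := fun k => C.simple_lt k k.2
  apply Equiv.ext
  intro i
  have hne : f i 1 ≠ 0 := by
    intro h0
    have h1 := hf i 1
    rw [h0, xS_zero] at h1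
    have h2 : xS hD (D.simple i) (1 : F) = 1 := θ.injective (h1.trans (map_one θ).symm)
    rw [← xS_zero (F := F) hD (D.simple i)] at h2
    exact one_ne_zero (xS_injective hD _ (hlt i) h2)
  have heq : xS hD (D.simple (π i)) (f i 1) = xS hD (D.simple (π' i)) (f' i 1) := by
    rw [← hf, ← hf']
  have h3 := xG_inj_root hD (D.simple (π i)) (D.simple (π' i)) (hlt _) (hlt _) (f i 1) (f' i 1) hne
    (congrArg Subtype.val heq)
  exact Fin.ext (simple_inj_of_mem hD _ _ (π' i).2 (π i).2 h3).symm

end Cfsg.Agent.Lib.Helper15.Aut
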