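import Mathlib
import Cfsg.Agent.S0033

set_option autoImplicit false
set_option linter.style.haveILetI false

namespace Cfsg.Agent.Lib.Helper15.ZassA

universe u v

section Torsion

variable {K : Type u} [Group K]

/-- The elements of order dividing `p` in the centre. -/
def omegaCenter (p : ℕ) : Subgroup K where
  carrier := {k | k ∈ Subgroup.center K ∧ k ^ p = 1}
  one_mem' := ⟨Subgroup.one_mem _, one_pow _⟩
  mul_mem' := by
    rintro a b ⟨ha, hap⟩ ⟨hb, hbp⟩
    refine ⟨Subgroup.mul_mem _ ha hb, ?_⟩
    have hcomm : Commute a b := by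
      rw [Subgroup.mem_center_iff] at ha
      exact (ha b).symm
    rw [hcomm.mul_pow, hap, hbp, one_mul]
  inv_mem' := by
    rintro a ⟨ha, hap⟩
    exact ⟨Subgroup.inv_mem _ ha, by rw [inv_pow, hap, inv_one]⟩

theorem mem_omegaCenter (p : ℕ) (k : K) :
    k ∈ omegaCenter (K := K) p ↔ k ∈ Subgroup.center K ∧ k ^ p = 1 := Iff.rfl

theorem map_mem_omegaCenter (p : ℕ) (φ : K ≃* K) {k : K} (hk : k ∈ omegaCenter (K := K) p) :
    φ k ∈ omegaCenter (K := K) p := by
  obtain ⟨hc, hp⟩ := hk
  refine ⟨?_, by rw [← map_pow, hp, map_one]⟩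
  rw [Subgroup.mem_center_iff] at hc ⊢
  intro g
  have := hc (φ.symm g)
  have h2 := congrArg φ this
  rw [map_mul, map_mul, MulEquiv.apply_symm_apply] at h2
  exact h2

/-- `omegaCenter p` is commutative. -/
@[reducible] def omegaCommGroup (p : ℕ) : CommGroup (omegaCenter (K := K) p) :=
  { (inferInstance : Group (omegaCenter (K := K) p)) with
    mul_comm := fun a b => Subtype.ext (by
      have ha := a.2.1
      rw [Subgroup.mem_center_iff] at ha
      exact (ha b.1).symm) }

end Torsion

/-- A free action by additive automorphisms on a finite elementary abelian `p`-group gives a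
free linear group over `ZMod p`. -/
theorem linear_of_free_action {G : Type v} [Group G] {A : Type u} [AddCommGroup A]
    (p : ℕ) [Fact p.Prime] (hpA : ∀ a : A, p • a = 0) (hA : ∃ a : A, a ≠ 0)
    (act : G → A → A) (act_add : ∀ g a b, act g (a + b) = act g a + act g b)
    (act_mul : ∀ g h a, act (g * h) a = act g (act h a)) (act_one : ∀ a, act 1 a = a)
    (hfree : ∀ g : G, g ≠ 1 → ∀ a : A, act g a = a → a = 0) :
    ∃ (_ : Module (ZMod p) A) (X : Subgroup (A ≃ₗ[ZMod p] A)),
      Nonempty (G ≃* X) ∧ ∀ g ∈ X, g ≠ 1 → ∀ a : A, g a = a → a = 0 := by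
  obtain ⟨inst⟩ : Nonempty (Module (ZMod p) A) := ⟨AddCommGroup.zmodModule hpA⟩
  refine ⟨inst, ?_⟩
  have act_zero : ∀ g, act g 0 = 0 := by
    intro g
    have := act_add g 0 0
    rw [add_zero] at this
    exact add_eq_left.mp this.symm
  let lin : G →* (A ≃ₗ[ZMod p] A) :=
    { toFun := fun g =>
        { toFun := act g
          invFun := act g⁻¹
          left_inv := fun a => by rw [← act_mul, inv_mul_cancel, act_one]
          right_inv := fun a => by rw [← act_mul, mul_inv_cancel, act_one]
          map_add' := act_add g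
          map_smul' := fun c a =>
            ZMod.map_smul ({ toFun := act g, map_zero' := act_zero g,
                             map_add' := act_add g } : A →+ A) c a }
      map_one' := by
        apply LinearEquiv.ext
        intro a
        show act 1 a = a
        exact act_one a
      map_mul' := fun g h => by
        apply LinearEquiv.ext
        intro a
        show act (g * h) a = act g (act h a)
        exact act_mul g h a }
  have hlin : ∀ (g : G) (a : A), lin g a = act g a := fun _ _ => rfl
  obtain ⟨a₀, ha₀⟩ := hA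
  have hinj : Function.Injective lin := by
    rw [injective_iff_map_eq_one]
    intro g hg
    by_contra hg1
    apply ha₀
    apply hfree g hg1 a₀
    rw [← hlin, hg]
    rfl
  refine ⟨lin.range, ⟨MonoidHom.ofInjective hinj⟩, ?_⟩
  rintro x ⟨g, rfl⟩ hx a ha
  apply hfree g _ a ha
  intro h
  apply hx
  rw [h, map_one]

theorem exists_free_linear {K : Type u} [Group K] [Finite K] (G : Subgroup (MulAut K))
    (hfpf : ∀ φ ∈ G, φ ≠ 1 → ∀ k : K, φ k = k → k = 1) (hne : G ≠ ⊥) :
    ∃ (p : ℕ) (_ : Fact p.Prime) (V : Type u) (_ : AddCommGroup V) (_ : Module (ZMod p) V)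
      (_ : Finite V) (_ : Nontrivial V) (X : Subgroup (V ≃ₗ[ZMod p] V)),
      Nonempty (G ≃* X) ∧ ∀ g ∈ X, g ≠ 1 → ∀ v : V, g v = v → v = 0 := by
  classical
  -- a nontrivial element of prime order in `G`
  have hGnt : Nontrivial G := (Subgroup.nontrivial_iff_ne_bot G).mpr hne
  have hcard : Nat.card G ≠ 1 := by
    intro h
    have := (Nat.card_eq_one_iff_unique.mp h).1
    exact not_subsingleton G this
  obtain ⟨r, hr, hrdvd⟩ := Nat.exists_prime_and_dvd hcard
  haveI : Fact r.Prime := ⟨hr⟩
  obtain ⟨x, hx⟩ := exists_prime_orderOf_dvd_card' r hrdvd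
  have hx1 : (x : MulAut K) ≠ 1 := by
    intro h
    have : x = 1 := Subtype.ext h
    rw [this, orderOf_one] at hx
    exact hr.one_lt.ne hx
  have hxord : orderOf (x : MulAut K) = r := by rw [Subgroup.orderOf_coe, hx]
  have hnil : Group.IsNilpotent K := by
    refine Cfsg.Agent.S0033.result (x : MulAut K) ?_ r hr hxord
    intro k hk
    exact hfpf _ x.2 hx1 k hk
  have hKnt : Nontrivial K := by
    by_contra hK
    rw [not_nontrivial_iff_subsingleton] at hK
    apply hx1
    ext k
    exact Subsingleton.elim _ _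
  have hZ : Subgroup.center K ≠ ⊥ := Group.IsNilpotent.center_ne_bot K
  have hZnt : Nontrivial (Subgroup.center K) := (Subgroup.nontrivial_iff_ne_bot _).mpr hZ
  have hZcard : Nat.card (Subgroup.center K) ≠ 1 := by
    intro h
    have := (Nat.card_eq_one_iff_unique.mp h).1
    exact not_subsingleton _ this
  obtain ⟨p, hp, hpdvd⟩ := Nat.exists_prime_and_dvd hZcard
  haveI hpf : Fact p.Prime := ⟨hp⟩
  obtain ⟨z, hz⟩ := exists_prime_orderOf_dvd_card' p hpdvd
  have hzA : (z : K) ∈ omegaCenter (K := K) p := by
    refine ⟨z.2, ?_⟩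
    have : z ^ p = 1 := by rw [← hz]; exact pow_orderOf_eq_one z
    have h2 := congrArg (fun w : Subgroup.center K => (w : K)) this
    simpa using h2
  have hz1 : (z : K) ≠ 1 := by
    intro h
    have : z = 1 := Subtype.ext h
    rw [this, orderOf_one] at hz
    exact hp.one_lt.ne hz
  letI : CommGroup (omegaCenter (K := K) p) := omegaCommGroup p
  have hpV : ∀ v : Additive (omegaCenter (K := K) p), p • v = 0 := by
    intro v
    have h1 : (Additive.toMul v) ^ p = 1 := Subtype.ext (Additive.toMul v).2.2
    show Additive.ofMul ((Additive.toMul v) ^ p) = 0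
    rw [h1]
    rfl
  -- the action
  let act : G → Additive (omegaCenter (K := K) p) → Additive (omegaCenter (K := K) p) :=
    fun φ v => Additive.ofMul
      ⟨(φ : MulAut K) (Additive.toMul v).1,
        map_mem_omegaCenter p (φ : MulAut K) (Additive.toMul v).2⟩
  have hact : ∀ (φ : G) (v : Additive (omegaCenter (K := K) p)),
      (Additive.toMul (act φ v)).1 = (φ : MulAut K) (Additive.toMul v).1 := fun _ _ => rfl
  have act_add : ∀ g a b, act g (a + b) = act g a + act g b := by
    intro φ v w
    apply Additive.toMul.injective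
    apply Subtype.ext
    show (φ : MulAut K) ((Additive.toMul v).1 * (Additive.toMul w).1) = _
    rw [map_mul]
    rfl
  have act_mul : ∀ g h a, act (g * h) a = act g (act h a) := fun _ _ _ => rfl
  have act_one : ∀ a, act 1 a = a := fun _ => rfl
  have hfree : ∀ g : G, g ≠ 1 → ∀ a : Additive (omegaCenter (K := K) p), act g a = a → a = 0 := by
    intro φ hφ v hv
    have h1 : (φ : MulAut K) (Additive.toMul v).1 = (Additive.toMul v).1 := by
      rw [← hact, hv]
    have h2 := hfpf _ φ.2 (fun h => hφ (Subtype.ext h)) _ h1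
    have h3 : Additive.toMul v = 1 := Subtype.ext h2
    apply Additive.toMul.injective
    rw [h3]
    rfl
  have hA : ∃ a : Additive (omegaCenter (K := K) p), a ≠ 0 := by
    refine ⟨Additive.ofMul ⟨(z : K), hzA⟩, ?_⟩
    intro h
    apply hz1
    have := congrArg (fun w : Additive (omegaCenter (K := K) p) => (Additive.toMul w).1) h
    exact this
  obtain ⟨inst, X, hX, hXfree⟩ := linear_of_free_action p hpV hA act act_add act_mul act_one hfree
  obtain ⟨a₀, ha₀⟩ := hA
  exact ⟨p, hpf, Additive (omegaCenter (K := K) p), inferInstance, inst, inferInstance,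
    ⟨⟨a₀, 0, ha₀⟩⟩, X, hX, hXfree⟩

end Cfsg.Agent.Lib.Helper15.ZassA
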