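import Mathlib
import Cfsg.Agent.Lib.Helper12.ZassLin2
import Cfsg.Agent.Lib.Helper15.ZassA
import Cfsg.Agent.Lib.Helper47.ZassAT1
import Cfsg.Agent.Lib.Helper70.ZassAT3

set_option autoImplicit false

namespace Cfsg.Agent.Lib.Helper15.ZassFinal

open Cfsg.Agent.Lib.Helper12.Zass Cfsg.Agent.Lib.Helper12.ZassLin

universe u

/-- perfectness is transported along an isomorphism -/
theorem commutator_eq_top_of_equiv {G H : Type*} [Group G] [Group H] (e : G ≃* H)
    (h : commutator G = ⊤) : commutator H = ⊤ := by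
  have h1 : (commutator G).map e.toMonoidHom = commutator H := by
    rw [commutator_def, commutator_def, Subgroup.map_commutator,
      Subgroup.map_top_of_surjective _ e.surjective]
  rw [← h1, h, Subgroup.map_top_of_surjective _ e.surjective]

/-- **Final assembly of S0690** from: the linear side (`LIN`: a free linear group satisfies
`Free3`) and module AT2 (`AT2`). -/
theorem s0690_of
    (LIN : ∀ (p : ℕ) [Fact p.Prime] (V : Type u) [AddCommGroup V] [Module (ZMod p) V] [Finite V]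
      [Nontrivial V] (X : Subgroup (V ≃ₗ[ZMod p] V)), IsFree X → Free3 ↥X)
    (AT2 : ∀ (H : Type u) [Group H] [Finite H] (_ : Free3 H) (_ : commutator H = ⊤) (x : H)
      (_ : orderOf x = 3) (Q : Subgroup H) (_ : QSub x Q), ¬ 16 ∣ Nat.card H)
    {K : Type u} [Group K] [Finite K] (G : Subgroup (MulAut K))
    (hfpf : ∀ φ ∈ G, φ ≠ 1 → ∀ k : K, φ k = k → k = 1) (hperf : commutator G = ⊤) (hne : G ≠ ⊥) :
    Nonempty (G ≃* Matrix.SpecialLinearGroup (Fin 2) (ZMod 5)) := by
  obtain ⟨p, hp, V, iV, iM, iF, iN, X, ⟨e⟩, hfree⟩ :=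
    Cfsg.Agent.Lib.Helper15.ZassA.exists_free_linear G hfpf hne
  have h3 : Free3 ↥X := LIN p V X hfree
  have hperfX : commutator ↥X = ⊤ := commutator_eq_top_of_equiv e hperf
  have hGnt : Nontrivial G := (Subgroup.nontrivial_iff_ne_bot G).mpr hne
  have hXnt : Nontrivial ↥X := e.symm.toEquiv.nontrivial
  have : Finite (V ≃ₗ[ZMod p] V) := Finite.of_injective (fun f => (f : V → V))
    (fun f g h => LinearEquiv.ext (congrFun h))
  obtain ⟨⟨x, hx⟩, hQ⟩ := Cfsg.Agent.Lib.Helper47.at1 h3 hperfX hXnt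
  obtain ⟨Q, hQx⟩ := hQ x hx
  have h16 := AT2 ↥X h3 hperfX x hx Q hQx
  obtain ⟨f⟩ := Cfsg.Agent.Lib.Helper70.Zass.at3 h3 hperfX h16 x hx hQ
  exact ⟨e.trans f⟩

end Cfsg.Agent.Lib.Helper15.ZassFinal
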